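import Cfsg.Agent.Lib.ToddCox.RUC0.Data0
set_option autoImplicit false
set_option maxRecDepth 100000
namespace Cfsg.Agent.Lib.ToddCox.RUC0
def eT_0_2 (j : ℕ) : ℕ := bif Nat.blt j 1 then E_0 else E_1
def eT_2_4 (j : ℕ) : ℕ := bif Nat.blt j 3 then E_2 else E_3
def eT_0_4 (j : ℕ) : ℕ := bif Nat.blt j 2 then (eT_0_2 j) else (eT_2_4 j)
def eT_4_6 (j : ℕ) : ℕ := bif Nat.blt j 5 then E_4 else E_5
def eT_7_9 (j : ℕ) : ℕ := bif Nat.blt j 8 then E_7 else E_8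
def eT_6_9 (j : ℕ) : ℕ := bif Nat.blt j 7 then E_6 else (eT_7_9 j)
def eT_4_9 (j : ℕ) : ℕ := bif Nat.blt j 6 then (eT_4_6 j) else (eT_6_9 j)
def eT_0_9 (j : ℕ) : ℕ := bif Nat.blt j 4 then (eT_0_4 j) else (eT_4_9 j)
def eT_9_11 (j : ℕ) : ℕ := bif Nat.blt j 10 then E_9 else E_10
def eT_12_14 (j : ℕ) : ℕ := bif Nat.blt j 13 then E_12 else E_13
def eT_11_14 (j : ℕ) : ℕ := bif Nat.blt j 12 then E_11 else (eT_12_14 j)
def eT_9_14 (j : ℕ) : ℕ := bif Nat.blt j 11 then (eT_9_11 j) else (eT_11_14 j)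
def eT_14_16 (j : ℕ) : ℕ := bif Nat.blt j 15 then E_14 else E_15
def eT_17_19 (j : ℕ) : ℕ := bif Nat.blt j 18 then E_17 else E_18
def eT_16_19 (j : ℕ) : ℕ := bif Nat.blt j 17 then E_16 else (eT_17_19 j)
def eT_14_19 (j : ℕ) : ℕ := bif Nat.blt j 16 then (eT_14_16 j) else (eT_16_19 j)
def eT_9_19 (j : ℕ) : ℕ := bif Nat.blt j 14 then (eT_9_14 j) else (eT_14_19 j)
def eT_0_19 (j : ℕ) : ℕ := bif Nat.blt j 9 then (eT_0_9 j) else (eT_9_19 j)
def eT_19_21 (j : ℕ) : ℕ := bif Nat.blt j 20 then E_19 else E_20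
def eT_21_23 (j : ℕ) : ℕ := bif Nat.blt j 22 then E_21 else E_22
def eT_19_23 (j : ℕ) : ℕ := bif Nat.blt j 21 then (eT_19_21 j) else (eT_21_23 j)
def eT_23_25 (j : ℕ) : ℕ := bif Nat.blt j 24 then E_23 else E_24
def eT_26_28 (j : ℕ) : ℕ := bif Nat.blt j 27 then E_26 else E_27
def eT_25_28 (j : ℕ) : ℕ := bif Nat.blt j 26 then E_25 else (eT_26_28 j)
def eT_23_28 (j : ℕ) : ℕ := bif Nat.blt j 25 then (eT_23_25 j) else (eT_25_28 j)
def eT_19_28 (j : ℕ) : ℕ := bif Nat.blt j 23 then (eT_19_23 j) else (eT_23_28 j)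
def eT_28_30 (j : ℕ) : ℕ := bif Nat.blt j 29 then E_28 else E_29
def eT_31_33 (j : ℕ) : ℕ := bif Nat.blt j 32 then E_31 else E_32
def eT_30_33 (j : ℕ) : ℕ := bif Nat.blt j 31 then E_30 else (eT_31_33 j)
def eT_28_33 (j : ℕ) : ℕ := bif Nat.blt j 30 then (eT_28_30 j) else (eT_30_33 j)
def eT_33_35 (j : ℕ) : ℕ := bif Nat.blt j 34 then E_33 else E_34
def eT_36_38 (j : ℕ) : ℕ := bif Nat.blt j 37 then E_36 else E_37
def eT_35_38 (j : ℕ) : ℕ := bif Nat.blt j 36 then E_35 else (eT_36_38 j)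
def eT_33_38 (j : ℕ) : ℕ := bif Nat.blt j 35 then (eT_33_35 j) else (eT_35_38 j)
def eT_28_38 (j : ℕ) : ℕ := bif Nat.blt j 33 then (eT_28_33 j) else (eT_33_38 j)
def eT_19_38 (j : ℕ) : ℕ := bif Nat.blt j 28 then (eT_19_28 j) else (eT_28_38 j)
def eT_0_38 (j : ℕ) : ℕ := bif Nat.blt j 19 then (eT_0_19 j) else (eT_19_38 j)
def eT_38_40 (j : ℕ) : ℕ := bif Nat.blt j 39 then E_38 else E_39
def eT_40_42 (j : ℕ) : ℕ := bif Nat.blt j 41 then E_40 else E_41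
def eT_38_42 (j : ℕ) : ℕ := bif Nat.blt j 40 then (eT_38_40 j) else (eT_40_42 j)
def eT_42_44 (j : ℕ) : ℕ := bif Nat.blt j 43 then E_42 else E_43
def eT_45_47 (j : ℕ) : ℕ := bif Nat.blt j 46 then E_45 else E_46
def eT_44_47 (j : ℕ) : ℕ := bif Nat.blt j 45 then E_44 else (eT_45_47 j)
def eT_42_47 (j : ℕ) : ℕ := bif Nat.blt j 44 then (eT_42_44 j) else (eT_44_47 j)
def eT_38_47 (j : ℕ) : ℕ := bif Nat.blt j 42 then (eT_38_42 j) else (eT_42_47 j)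
def eT_47_49 (j : ℕ) : ℕ := bif Nat.blt j 48 then E_47 else E_48
def eT_50_52 (j : ℕ) : ℕ := bif Nat.blt j 51 then E_50 else E_51
def eT_49_52 (j : ℕ) : ℕ := bif Nat.blt j 50 then E_49 else (eT_50_52 j)
def eT_47_52 (j : ℕ) : ℕ := bif Nat.blt j 49 then (eT_47_49 j) else (eT_49_52 j)
def eT_52_54 (j : ℕ) : ℕ := bif Nat.blt j 53 then E_52 else E_53
def eT_55_57 (j : ℕ) : ℕ := bif Nat.blt j 56 then E_55 else E_56
def eT_54_57 (j : ℕ) : ℕ := bif Nat.blt j 55 then E_54 else (eT_55_57 j)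
def eT_52_57 (j : ℕ) : ℕ := bif Nat.blt j 54 then (eT_52_54 j) else (eT_54_57 j)
def eT_47_57 (j : ℕ) : ℕ := bif Nat.blt j 52 then (eT_47_52 j) else (eT_52_57 j)
def eT_38_57 (j : ℕ) : ℕ := bif Nat.blt j 47 then (eT_38_47 j) else (eT_47_57 j)
def eT_57_59 (j : ℕ) : ℕ := bif Nat.blt j 58 then E_57 else E_58
def eT_60_62 (j : ℕ) : ℕ := bif Nat.blt j 61 then E_60 else E_61
def eT_59_62 (j : ℕ) : ℕ := bif Nat.blt j 60 then E_59 else (eT_60_62 j)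
def eT_57_62 (j : ℕ) : ℕ := bif Nat.blt j 59 then (eT_57_59 j) else (eT_59_62 j)
def eT_62_64 (j : ℕ) : ℕ := bif Nat.blt j 63 then E_62 else E_63
def eT_65_67 (j : ℕ) : ℕ := bif Nat.blt j 66 then E_65 else E_66
def eT_64_67 (j : ℕ) : ℕ := bif Nat.blt j 65 then E_64 else (eT_65_67 j)
def eT_62_67 (j : ℕ) : ℕ := bif Nat.blt j 64 then (eT_62_64 j) else (eT_64_67 j)
def eT_57_67 (j : ℕ) : ℕ := bif Nat.blt j 62 then (eT_57_62 j) else (eT_62_67 j)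
def eT_67_69 (j : ℕ) : ℕ := bif Nat.blt j 68 then E_67 else E_68
def eT_70_72 (j : ℕ) : ℕ := bif Nat.blt j 71 then E_70 else E_71
def eT_69_72 (j : ℕ) : ℕ := bif Nat.blt j 70 then E_69 else (eT_70_72 j)
def eT_67_72 (j : ℕ) : ℕ := bif Nat.blt j 69 then (eT_67_69 j) else (eT_69_72 j)
def eT_72_74 (j : ℕ) : ℕ := bif Nat.blt j 73 then E_72 else E_73
def eT_75_77 (j : ℕ) : ℕ := bif Nat.blt j 76 then E_75 else E_76
def eT_74_77 (j : ℕ) : ℕ := bif Nat.blt j 75 then E_74 else (eT_75_77 j)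
def eT_72_77 (j : ℕ) : ℕ := bif Nat.blt j 74 then (eT_72_74 j) else (eT_74_77 j)
def eT_67_77 (j : ℕ) : ℕ := bif Nat.blt j 72 then (eT_67_72 j) else (eT_72_77 j)
def eT_57_77 (j : ℕ) : ℕ := bif Nat.blt j 67 then (eT_57_67 j) else (eT_67_77 j)
def eT_38_77 (j : ℕ) : ℕ := bif Nat.blt j 57 then (eT_38_57 j) else (eT_57_77 j)
def eT_0_77 (j : ℕ) : ℕ := bif Nat.blt j 38 then (eT_0_38 j) else (eT_38_77 j)
def eT_77_79 (j : ℕ) : ℕ := bif Nat.blt j 78 then E_77 else E_78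
def eT_79_81 (j : ℕ) : ℕ := bif Nat.blt j 80 then E_79 else E_80
def eT_77_81 (j : ℕ) : ℕ := bif Nat.blt j 79 then (eT_77_79 j) else (eT_79_81 j)
def eT_81_83 (j : ℕ) : ℕ := bif Nat.blt j 82 then E_81 else E_82
def eT_84_86 (j : ℕ) : ℕ := bif Nat.blt j 85 then E_84 else E_85
def eT_83_86 (j : ℕ) : ℕ := bif Nat.blt j 84 then E_83 else (eT_84_86 j)
def eT_81_86 (j : ℕ) : ℕ := bif Nat.blt j 83 then (eT_81_83 j) else (eT_83_86 j)
def eT_77_86 (j : ℕ) : ℕ := bif Nat.blt j 81 then (eT_77_81 j) else (eT_81_86 j)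
def eT_86_88 (j : ℕ) : ℕ := bif Nat.blt j 87 then E_86 else E_87
def eT_89_91 (j : ℕ) : ℕ := bif Nat.blt j 90 then E_89 else E_90
def eT_88_91 (j : ℕ) : ℕ := bif Nat.blt j 89 then E_88 else (eT_89_91 j)
def eT_86_91 (j : ℕ) : ℕ := bif Nat.blt j 88 then (eT_86_88 j) else (eT_88_91 j)
def eT_91_93 (j : ℕ) : ℕ := bif Nat.blt j 92 then E_91 else E_92
def eT_94_96 (j : ℕ) : ℕ := bif Nat.blt j 95 then E_94 else E_95
def eT_93_96 (j : ℕ) : ℕ := bif Nat.blt j 94 then E_93 else (eT_94_96 j)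
def eT_91_96 (j : ℕ) : ℕ := bif Nat.blt j 93 then (eT_91_93 j) else (eT_93_96 j)
def eT_86_96 (j : ℕ) : ℕ := bif Nat.blt j 91 then (eT_86_91 j) else (eT_91_96 j)
def eT_77_96 (j : ℕ) : ℕ := bif Nat.blt j 86 then (eT_77_86 j) else (eT_86_96 j)
def eT_96_98 (j : ℕ) : ℕ := bif Nat.blt j 97 then E_96 else E_97
def eT_98_100 (j : ℕ) : ℕ := bif Nat.blt j 99 then E_98 else E_99
def eT_96_100 (j : ℕ) : ℕ := bif Nat.blt j 98 then (eT_96_98 j) else (eT_98_100 j)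
def eT_100_102 (j : ℕ) : ℕ := bif Nat.blt j 101 then E_100 else E_101
def eT_103_105 (j : ℕ) : ℕ := bif Nat.blt j 104 then E_103 else E_104
def eT_102_105 (j : ℕ) : ℕ := bif Nat.blt j 103 then E_102 else (eT_103_105 j)
def eT_100_105 (j : ℕ) : ℕ := bif Nat.blt j 102 then (eT_100_102 j) else (eT_102_105 j)
def eT_96_105 (j : ℕ) : ℕ := bif Nat.blt j 100 then (eT_96_100 j) else (eT_100_105 j)
def eT_105_107 (j : ℕ) : ℕ := bif Nat.blt j 106 then E_105 else E_106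
def eT_108_110 (j : ℕ) : ℕ := bif Nat.blt j 109 then E_108 else E_109
def eT_107_110 (j : ℕ) : ℕ := bif Nat.blt j 108 then E_107 else (eT_108_110 j)
def eT_105_110 (j : ℕ) : ℕ := bif Nat.blt j 107 then (eT_105_107 j) else (eT_107_110 j)
def eT_110_112 (j : ℕ) : ℕ := bif Nat.blt j 111 then E_110 else E_111
def eT_113_115 (j : ℕ) : ℕ := bif Nat.blt j 114 then E_113 else E_114
def eT_112_115 (j : ℕ) : ℕ := bif Nat.blt j 113 then E_112 else (eT_113_115 j)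
def eT_110_115 (j : ℕ) : ℕ := bif Nat.blt j 112 then (eT_110_112 j) else (eT_112_115 j)
def eT_105_115 (j : ℕ) : ℕ := bif Nat.blt j 110 then (eT_105_110 j) else (eT_110_115 j)
def eT_96_115 (j : ℕ) : ℕ := bif Nat.blt j 105 then (eT_96_105 j) else (eT_105_115 j)
def eT_77_115 (j : ℕ) : ℕ := bif Nat.blt j 96 then (eT_77_96 j) else (eT_96_115 j)
def eT_115_117 (j : ℕ) : ℕ := bif Nat.blt j 116 then E_115 else E_116
def eT_117_119 (j : ℕ) : ℕ := bif Nat.blt j 118 then E_117 else E_118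
def eT_115_119 (j : ℕ) : ℕ := bif Nat.blt j 117 then (eT_115_117 j) else (eT_117_119 j)
def eT_119_121 (j : ℕ) : ℕ := bif Nat.blt j 120 then E_119 else E_120
def eT_122_124 (j : ℕ) : ℕ := bif Nat.blt j 123 then E_122 else E_123
def eT_121_124 (j : ℕ) : ℕ := bif Nat.blt j 122 then E_121 else (eT_122_124 j)
def eT_119_124 (j : ℕ) : ℕ := bif Nat.blt j 121 then (eT_119_121 j) else (eT_121_124 j)
def eT_115_124 (j : ℕ) : ℕ := bif Nat.blt j 119 then (eT_115_119 j) else (eT_119_124 j)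
def eT_124_126 (j : ℕ) : ℕ := bif Nat.blt j 125 then E_124 else E_125
def eT_127_129 (j : ℕ) : ℕ := bif Nat.blt j 128 then E_127 else E_128
def eT_126_129 (j : ℕ) : ℕ := bif Nat.blt j 127 then E_126 else (eT_127_129 j)
def eT_124_129 (j : ℕ) : ℕ := bif Nat.blt j 126 then (eT_124_126 j) else (eT_126_129 j)
def eT_129_131 (j : ℕ) : ℕ := bif Nat.blt j 130 then E_129 else E_130
def eT_132_134 (j : ℕ) : ℕ := bif Nat.blt j 133 then E_132 else E_133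
def eT_131_134 (j : ℕ) : ℕ := bif Nat.blt j 132 then E_131 else (eT_132_134 j)
def eT_129_134 (j : ℕ) : ℕ := bif Nat.blt j 131 then (eT_129_131 j) else (eT_131_134 j)
def eT_124_134 (j : ℕ) : ℕ := bif Nat.blt j 129 then (eT_124_129 j) else (eT_129_134 j)
def eT_115_134 (j : ℕ) : ℕ := bif Nat.blt j 124 then (eT_115_124 j) else (eT_124_134 j)
def eT_134_136 (j : ℕ) : ℕ := bif Nat.blt j 135 then E_134 else E_135
def eT_137_139 (j : ℕ) : ℕ := bif Nat.blt j 138 then E_137 else E_138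
def eT_136_139 (j : ℕ) : ℕ := bif Nat.blt j 137 then E_136 else (eT_137_139 j)
def eT_134_139 (j : ℕ) : ℕ := bif Nat.blt j 136 then (eT_134_136 j) else (eT_136_139 j)
def eT_139_141 (j : ℕ) : ℕ := bif Nat.blt j 140 then E_139 else E_140
def eT_142_144 (j : ℕ) : ℕ := bif Nat.blt j 143 then E_142 else E_143
def eT_141_144 (j : ℕ) : ℕ := bif Nat.blt j 142 then E_141 else (eT_142_144 j)
def eT_139_144 (j : ℕ) : ℕ := bif Nat.blt j 141 then (eT_139_141 j) else (eT_141_144 j)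
def eT_134_144 (j : ℕ) : ℕ := bif Nat.blt j 139 then (eT_134_139 j) else (eT_139_144 j)
def eT_144_146 (j : ℕ) : ℕ := bif Nat.blt j 145 then E_144 else E_145
def eT_147_149 (j : ℕ) : ℕ := bif Nat.blt j 148 then E_147 else E_148
def eT_146_149 (j : ℕ) : ℕ := bif Nat.blt j 147 then E_146 else (eT_147_149 j)
def eT_144_149 (j : ℕ) : ℕ := bif Nat.blt j 146 then (eT_144_146 j) else (eT_146_149 j)
def eT_149_151 (j : ℕ) : ℕ := bif Nat.blt j 150 then E_149 else E_150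
def eT_152_154 (j : ℕ) : ℕ := bif Nat.blt j 153 then E_152 else E_153
def eT_151_154 (j : ℕ) : ℕ := bif Nat.blt j 152 then E_151 else (eT_152_154 j)
def eT_149_154 (j : ℕ) : ℕ := bif Nat.blt j 151 then (eT_149_151 j) else (eT_151_154 j)
def eT_144_154 (j : ℕ) : ℕ := bif Nat.blt j 149 then (eT_144_149 j) else (eT_149_154 j)
def eT_134_154 (j : ℕ) : ℕ := bif Nat.blt j 144 then (eT_134_144 j) else (eT_144_154 j)
def eT_115_154 (j : ℕ) : ℕ := bif Nat.blt j 134 then (eT_115_134 j) else (eT_134_154 j)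
def eT_77_154 (j : ℕ) : ℕ := bif Nat.blt j 115 then (eT_77_115 j) else (eT_115_154 j)
def eT_0_154 (j : ℕ) : ℕ := bif Nat.blt j 77 then (eT_0_77 j) else (eT_77_154 j)
def eT_154_156 (j : ℕ) : ℕ := bif Nat.blt j 155 then E_154 else E_155
def eT_156_158 (j : ℕ) : ℕ := bif Nat.blt j 157 then E_156 else E_157
def eT_154_158 (j : ℕ) : ℕ := bif Nat.blt j 156 then (eT_154_156 j) else (eT_156_158 j)
def eT_158_160 (j : ℕ) : ℕ := bif Nat.blt j 159 then E_158 else E_159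
def eT_161_163 (j : ℕ) : ℕ := bif Nat.blt j 162 then E_161 else E_162
def eT_160_163 (j : ℕ) : ℕ := bif Nat.blt j 161 then E_160 else (eT_161_163 j)
def eT_158_163 (j : ℕ) : ℕ := bif Nat.blt j 160 then (eT_158_160 j) else (eT_160_163 j)
def eT_154_163 (j : ℕ) : ℕ := bif Nat.blt j 158 then (eT_154_158 j) else (eT_158_163 j)
def eT_163_165 (j : ℕ) : ℕ := bif Nat.blt j 164 then E_163 else E_164
def eT_166_168 (j : ℕ) : ℕ := bif Nat.blt j 167 then E_166 else E_167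
def eT_165_168 (j : ℕ) : ℕ := bif Nat.blt j 166 then E_165 else (eT_166_168 j)
def eT_163_168 (j : ℕ) : ℕ := bif Nat.blt j 165 then (eT_163_165 j) else (eT_165_168 j)
def eT_168_170 (j : ℕ) : ℕ := bif Nat.blt j 169 then E_168 else E_169
def eT_171_173 (j : ℕ) : ℕ := bif Nat.blt j 172 then E_171 else E_172
def eT_170_173 (j : ℕ) : ℕ := bif Nat.blt j 171 then E_170 else (eT_171_173 j)
def eT_168_173 (j : ℕ) : ℕ := bif Nat.blt j 170 then (eT_168_170 j) else (eT_170_173 j)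
def eT_163_173 (j : ℕ) : ℕ := bif Nat.blt j 168 then (eT_163_168 j) else (eT_168_173 j)
def eT_154_173 (j : ℕ) : ℕ := bif Nat.blt j 163 then (eT_154_163 j) else (eT_163_173 j)
def eT_173_175 (j : ℕ) : ℕ := bif Nat.blt j 174 then E_173 else E_174
def eT_175_177 (j : ℕ) : ℕ := bif Nat.blt j 176 then E_175 else E_176
def eT_173_177 (j : ℕ) : ℕ := bif Nat.blt j 175 then (eT_173_175 j) else (eT_175_177 j)
def eT_177_179 (j : ℕ) : ℕ := bif Nat.blt j 178 then E_177 else E_178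
def eT_180_182 (j : ℕ) : ℕ := bif Nat.blt j 181 then E_180 else E_181
def eT_179_182 (j : ℕ) : ℕ := bif Nat.blt j 180 then E_179 else (eT_180_182 j)
def eT_177_182 (j : ℕ) : ℕ := bif Nat.blt j 179 then (eT_177_179 j) else (eT_179_182 j)
def eT_173_182 (j : ℕ) : ℕ := bif Nat.blt j 177 then (eT_173_177 j) else (eT_177_182 j)
def eT_182_184 (j : ℕ) : ℕ := bif Nat.blt j 183 then E_182 else E_183
def eT_185_187 (j : ℕ) : ℕ := bif Nat.blt j 186 then E_185 else E_186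
def eT_184_187 (j : ℕ) : ℕ := bif Nat.blt j 185 then E_184 else (eT_185_187 j)
def eT_182_187 (j : ℕ) : ℕ := bif Nat.blt j 184 then (eT_182_184 j) else (eT_184_187 j)
def eT_187_189 (j : ℕ) : ℕ := bif Nat.blt j 188 then E_187 else E_188
def eT_190_192 (j : ℕ) : ℕ := bif Nat.blt j 191 then E_190 else E_191
def eT_189_192 (j : ℕ) : ℕ := bif Nat.blt j 190 then E_189 else (eT_190_192 j)
def eT_187_192 (j : ℕ) : ℕ := bif Nat.blt j 189 then (eT_187_189 j) else (eT_189_192 j)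
def eT_182_192 (j : ℕ) : ℕ := bif Nat.blt j 187 then (eT_182_187 j) else (eT_187_192 j)
def eT_173_192 (j : ℕ) : ℕ := bif Nat.blt j 182 then (eT_173_182 j) else (eT_182_192 j)
def eT_154_192 (j : ℕ) : ℕ := bif Nat.blt j 173 then (eT_154_173 j) else (eT_173_192 j)
def eT_192_194 (j : ℕ) : ℕ := bif Nat.blt j 193 then E_192 else E_193
def eT_194_196 (j : ℕ) : ℕ := bif Nat.blt j 195 then E_194 else E_195
def eT_192_196 (j : ℕ) : ℕ := bif Nat.blt j 194 then (eT_192_194 j) else (eT_194_196 j)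
def eT_196_198 (j : ℕ) : ℕ := bif Nat.blt j 197 then E_196 else E_197
def eT_199_201 (j : ℕ) : ℕ := bif Nat.blt j 200 then E_199 else E_200
def eT_198_201 (j : ℕ) : ℕ := bif Nat.blt j 199 then E_198 else (eT_199_201 j)
def eT_196_201 (j : ℕ) : ℕ := bif Nat.blt j 198 then (eT_196_198 j) else (eT_198_201 j)
def eT_192_201 (j : ℕ) : ℕ := bif Nat.blt j 196 then (eT_192_196 j) else (eT_196_201 j)
def eT_201_203 (j : ℕ) : ℕ := bif Nat.blt j 202 then E_201 else E_202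
def eT_204_206 (j : ℕ) : ℕ := bif Nat.blt j 205 then E_204 else E_205
def eT_203_206 (j : ℕ) : ℕ := bif Nat.blt j 204 then E_203 else (eT_204_206 j)
def eT_201_206 (j : ℕ) : ℕ := bif Nat.blt j 203 then (eT_201_203 j) else (eT_203_206 j)
def eT_206_208 (j : ℕ) : ℕ := bif Nat.blt j 207 then E_206 else E_207
def eT_209_211 (j : ℕ) : ℕ := bif Nat.blt j 210 then E_209 else E_210
def eT_208_211 (j : ℕ) : ℕ := bif Nat.blt j 209 then E_208 else (eT_209_211 j)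
def eT_206_211 (j : ℕ) : ℕ := bif Nat.blt j 208 then (eT_206_208 j) else (eT_208_211 j)
def eT_201_211 (j : ℕ) : ℕ := bif Nat.blt j 206 then (eT_201_206 j) else (eT_206_211 j)
def eT_192_211 (j : ℕ) : ℕ := bif Nat.blt j 201 then (eT_192_201 j) else (eT_201_211 j)
def eT_211_213 (j : ℕ) : ℕ := bif Nat.blt j 212 then E_211 else E_212
def eT_214_216 (j : ℕ) : ℕ := bif Nat.blt j 215 then E_214 else E_215
def eT_213_216 (j : ℕ) : ℕ := bif Nat.blt j 214 then E_213 else (eT_214_216 j)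
def eT_211_216 (j : ℕ) : ℕ := bif Nat.blt j 213 then (eT_211_213 j) else (eT_213_216 j)
def eT_216_218 (j : ℕ) : ℕ := bif Nat.blt j 217 then E_216 else E_217
def eT_219_221 (j : ℕ) : ℕ := bif Nat.blt j 220 then E_219 else E_220
def eT_218_221 (j : ℕ) : ℕ := bif Nat.blt j 219 then E_218 else (eT_219_221 j)
def eT_216_221 (j : ℕ) : ℕ := bif Nat.blt j 218 then (eT_216_218 j) else (eT_218_221 j)
def eT_211_221 (j : ℕ) : ℕ := bif Nat.blt j 216 then (eT_211_216 j) else (eT_216_221 j)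
def eT_221_223 (j : ℕ) : ℕ := bif Nat.blt j 222 then E_221 else E_222
def eT_224_226 (j : ℕ) : ℕ := bif Nat.blt j 225 then E_224 else E_225
def eT_223_226 (j : ℕ) : ℕ := bif Nat.blt j 224 then E_223 else (eT_224_226 j)
def eT_221_226 (j : ℕ) : ℕ := bif Nat.blt j 223 then (eT_221_223 j) else (eT_223_226 j)
def eT_226_228 (j : ℕ) : ℕ := bif Nat.blt j 227 then E_226 else E_227
def eT_229_231 (j : ℕ) : ℕ := bif Nat.blt j 230 then E_229 else E_230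
def eT_228_231 (j : ℕ) : ℕ := bif Nat.blt j 229 then E_228 else (eT_229_231 j)
def eT_226_231 (j : ℕ) : ℕ := bif Nat.blt j 228 then (eT_226_228 j) else (eT_228_231 j)
def eT_221_231 (j : ℕ) : ℕ := bif Nat.blt j 226 then (eT_221_226 j) else (eT_226_231 j)
def eT_211_231 (j : ℕ) : ℕ := bif Nat.blt j 221 then (eT_211_221 j) else (eT_221_231 j)
def eT_192_231 (j : ℕ) : ℕ := bif Nat.blt j 211 then (eT_192_211 j) else (eT_211_231 j)
def eT_154_231 (j : ℕ) : ℕ := bif Nat.blt j 192 then (eT_154_192 j) else (eT_192_231 j)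
def eT_231_233 (j : ℕ) : ℕ := bif Nat.blt j 232 then E_231 else E_232
def eT_233_235 (j : ℕ) : ℕ := bif Nat.blt j 234 then E_233 else E_234
def eT_231_235 (j : ℕ) : ℕ := bif Nat.blt j 233 then (eT_231_233 j) else (eT_233_235 j)
def eT_235_237 (j : ℕ) : ℕ := bif Nat.blt j 236 then E_235 else E_236
def eT_238_240 (j : ℕ) : ℕ := bif Nat.blt j 239 then E_238 else E_239
def eT_237_240 (j : ℕ) : ℕ := bif Nat.blt j 238 then E_237 else (eT_238_240 j)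
def eT_235_240 (j : ℕ) : ℕ := bif Nat.blt j 237 then (eT_235_237 j) else (eT_237_240 j)
def eT_231_240 (j : ℕ) : ℕ := bif Nat.blt j 235 then (eT_231_235 j) else (eT_235_240 j)
def eT_240_242 (j : ℕ) : ℕ := bif Nat.blt j 241 then E_240 else E_241
def eT_243_245 (j : ℕ) : ℕ := bif Nat.blt j 244 then E_243 else E_244
def eT_242_245 (j : ℕ) : ℕ := bif Nat.blt j 243 then E_242 else (eT_243_245 j)
def eT_240_245 (j : ℕ) : ℕ := bif Nat.blt j 242 then (eT_240_242 j) else (eT_242_245 j)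
def eT_245_247 (j : ℕ) : ℕ := bif Nat.blt j 246 then E_245 else E_246
def eT_248_250 (j : ℕ) : ℕ := bif Nat.blt j 249 then E_248 else E_249
def eT_247_250 (j : ℕ) : ℕ := bif Nat.blt j 248 then E_247 else (eT_248_250 j)
def eT_245_250 (j : ℕ) : ℕ := bif Nat.blt j 247 then (eT_245_247 j) else (eT_247_250 j)
def eT_240_250 (j : ℕ) : ℕ := bif Nat.blt j 245 then (eT_240_245 j) else (eT_245_250 j)
def eT_231_250 (j : ℕ) : ℕ := bif Nat.blt j 240 then (eT_231_240 j) else (eT_240_250 j)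
def eT_250_252 (j : ℕ) : ℕ := bif Nat.blt j 251 then E_250 else E_251
def eT_253_255 (j : ℕ) : ℕ := bif Nat.blt j 254 then E_253 else E_254
def eT_252_255 (j : ℕ) : ℕ := bif Nat.blt j 253 then E_252 else (eT_253_255 j)
def eT_250_255 (j : ℕ) : ℕ := bif Nat.blt j 252 then (eT_250_252 j) else (eT_252_255 j)
def eT_255_257 (j : ℕ) : ℕ := bif Nat.blt j 256 then E_255 else E_256
def eT_258_260 (j : ℕ) : ℕ := bif Nat.blt j 259 then E_258 else E_259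
def eT_257_260 (j : ℕ) : ℕ := bif Nat.blt j 258 then E_257 else (eT_258_260 j)
def eT_255_260 (j : ℕ) : ℕ := bif Nat.blt j 257 then (eT_255_257 j) else (eT_257_260 j)
def eT_250_260 (j : ℕ) : ℕ := bif Nat.blt j 255 then (eT_250_255 j) else (eT_255_260 j)
def eT_260_262 (j : ℕ) : ℕ := bif Nat.blt j 261 then E_260 else E_261
def eT_263_265 (j : ℕ) : ℕ := bif Nat.blt j 264 then E_263 else E_264
def eT_262_265 (j : ℕ) : ℕ := bif Nat.blt j 263 then E_262 else (eT_263_265 j)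
def eT_260_265 (j : ℕ) : ℕ := bif Nat.blt j 262 then (eT_260_262 j) else (eT_262_265 j)
def eT_265_267 (j : ℕ) : ℕ := bif Nat.blt j 266 then E_265 else E_266
def eT_268_270 (j : ℕ) : ℕ := bif Nat.blt j 269 then E_268 else E_269
def eT_267_270 (j : ℕ) : ℕ := bif Nat.blt j 268 then E_267 else (eT_268_270 j)
def eT_265_270 (j : ℕ) : ℕ := bif Nat.blt j 267 then (eT_265_267 j) else (eT_267_270 j)
def eT_260_270 (j : ℕ) : ℕ := bif Nat.blt j 265 then (eT_260_265 j) else (eT_265_270 j)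
def eT_250_270 (j : ℕ) : ℕ := bif Nat.blt j 260 then (eT_250_260 j) else (eT_260_270 j)
def eT_231_270 (j : ℕ) : ℕ := bif Nat.blt j 250 then (eT_231_250 j) else (eT_250_270 j)
def eT_270_272 (j : ℕ) : ℕ := bif Nat.blt j 271 then E_270 else E_271
def eT_272_274 (j : ℕ) : ℕ := bif Nat.blt j 273 then E_272 else E_273
def eT_270_274 (j : ℕ) : ℕ := bif Nat.blt j 272 then (eT_270_272 j) else (eT_272_274 j)
def eT_274_276 (j : ℕ) : ℕ := bif Nat.blt j 275 then E_274 else E_275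
def eT_277_279 (j : ℕ) : ℕ := bif Nat.blt j 278 then E_277 else E_278
def eT_276_279 (j : ℕ) : ℕ := bif Nat.blt j 277 then E_276 else (eT_277_279 j)
def eT_274_279 (j : ℕ) : ℕ := bif Nat.blt j 276 then (eT_274_276 j) else (eT_276_279 j)
def eT_270_279 (j : ℕ) : ℕ := bif Nat.blt j 274 then (eT_270_274 j) else (eT_274_279 j)
def eT_279_281 (j : ℕ) : ℕ := bif Nat.blt j 280 then E_279 else E_280
def eT_282_284 (j : ℕ) : ℕ := bif Nat.blt j 283 then E_282 else E_283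
def eT_281_284 (j : ℕ) : ℕ := bif Nat.blt j 282 then E_281 else (eT_282_284 j)
def eT_279_284 (j : ℕ) : ℕ := bif Nat.blt j 281 then (eT_279_281 j) else (eT_281_284 j)
def eT_284_286 (j : ℕ) : ℕ := bif Nat.blt j 285 then E_284 else E_285
def eT_287_289 (j : ℕ) : ℕ := bif Nat.blt j 288 then E_287 else E_288
def eT_286_289 (j : ℕ) : ℕ := bif Nat.blt j 287 then E_286 else (eT_287_289 j)
def eT_284_289 (j : ℕ) : ℕ := bif Nat.blt j 286 then (eT_284_286 j) else (eT_286_289 j)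
def eT_279_289 (j : ℕ) : ℕ := bif Nat.blt j 284 then (eT_279_284 j) else (eT_284_289 j)
def eT_270_289 (j : ℕ) : ℕ := bif Nat.blt j 279 then (eT_270_279 j) else (eT_279_289 j)
def eT_289_291 (j : ℕ) : ℕ := bif Nat.blt j 290 then E_289 else E_290
def eT_292_294 (j : ℕ) : ℕ := bif Nat.blt j 293 then E_292 else E_293
def eT_291_294 (j : ℕ) : ℕ := bif Nat.blt j 292 then E_291 else (eT_292_294 j)
def eT_289_294 (j : ℕ) : ℕ := bif Nat.blt j 291 then (eT_289_291 j) else (eT_291_294 j)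
def eT_294_296 (j : ℕ) : ℕ := bif Nat.blt j 295 then E_294 else E_295
def eT_297_299 (j : ℕ) : ℕ := bif Nat.blt j 298 then E_297 else E_298
def eT_296_299 (j : ℕ) : ℕ := bif Nat.blt j 297 then E_296 else (eT_297_299 j)
def eT_294_299 (j : ℕ) : ℕ := bif Nat.blt j 296 then (eT_294_296 j) else (eT_296_299 j)
def eT_289_299 (j : ℕ) : ℕ := bif Nat.blt j 294 then (eT_289_294 j) else (eT_294_299 j)
def eT_299_301 (j : ℕ) : ℕ := bif Nat.blt j 300 then E_299 else E_300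
def eT_302_304 (j : ℕ) : ℕ := bif Nat.blt j 303 then E_302 else E_303
def eT_301_304 (j : ℕ) : ℕ := bif Nat.blt j 302 then E_301 else (eT_302_304 j)
def eT_299_304 (j : ℕ) : ℕ := bif Nat.blt j 301 then (eT_299_301 j) else (eT_301_304 j)
def eT_304_306 (j : ℕ) : ℕ := bif Nat.blt j 305 then E_304 else E_305
def eT_307_309 (j : ℕ) : ℕ := bif Nat.blt j 308 then E_307 else E_308
def eT_306_309 (j : ℕ) : ℕ := bif Nat.blt j 307 then E_306 else (eT_307_309 j)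
def eT_304_309 (j : ℕ) : ℕ := bif Nat.blt j 306 then (eT_304_306 j) else (eT_306_309 j)
def eT_299_309 (j : ℕ) : ℕ := bif Nat.blt j 304 then (eT_299_304 j) else (eT_304_309 j)
def eT_289_309 (j : ℕ) : ℕ := bif Nat.blt j 299 then (eT_289_299 j) else (eT_299_309 j)
def eT_270_309 (j : ℕ) : ℕ := bif Nat.blt j 289 then (eT_270_289 j) else (eT_289_309 j)
def eT_231_309 (j : ℕ) : ℕ := bif Nat.blt j 270 then (eT_231_270 j) else (eT_270_309 j)
def eT_154_309 (j : ℕ) : ℕ := bif Nat.blt j 231 then (eT_154_231 j) else (eT_231_309 j)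
def eT_0_309 (j : ℕ) : ℕ := bif Nat.blt j 154 then (eT_0_154 j) else (eT_154_309 j)
def eT_309_311 (j : ℕ) : ℕ := bif Nat.blt j 310 then E_309 else E_310
def eT_311_313 (j : ℕ) : ℕ := bif Nat.blt j 312 then E_311 else E_312
def eT_309_313 (j : ℕ) : ℕ := bif Nat.blt j 311 then (eT_309_311 j) else (eT_311_313 j)
def eT_313_315 (j : ℕ) : ℕ := bif Nat.blt j 314 then E_313 else E_314
def eT_316_318 (j : ℕ) : ℕ := bif Nat.blt j 317 then E_316 else E_317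
def eT_315_318 (j : ℕ) : ℕ := bif Nat.blt j 316 then E_315 else (eT_316_318 j)
def eT_313_318 (j : ℕ) : ℕ := bif Nat.blt j 315 then (eT_313_315 j) else (eT_315_318 j)
def eT_309_318 (j : ℕ) : ℕ := bif Nat.blt j 313 then (eT_309_313 j) else (eT_313_318 j)
def eT_318_320 (j : ℕ) : ℕ := bif Nat.blt j 319 then E_318 else E_319
def eT_321_323 (j : ℕ) : ℕ := bif Nat.blt j 322 then E_321 else E_322
def eT_320_323 (j : ℕ) : ℕ := bif Nat.blt j 321 then E_320 else (eT_321_323 j)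
def eT_318_323 (j : ℕ) : ℕ := bif Nat.blt j 320 then (eT_318_320 j) else (eT_320_323 j)
def eT_323_325 (j : ℕ) : ℕ := bif Nat.blt j 324 then E_323 else E_324
def eT_326_328 (j : ℕ) : ℕ := bif Nat.blt j 327 then E_326 else E_327
def eT_325_328 (j : ℕ) : ℕ := bif Nat.blt j 326 then E_325 else (eT_326_328 j)
def eT_323_328 (j : ℕ) : ℕ := bif Nat.blt j 325 then (eT_323_325 j) else (eT_325_328 j)
def eT_318_328 (j : ℕ) : ℕ := bif Nat.blt j 323 then (eT_318_323 j) else (eT_323_328 j)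
def eT_309_328 (j : ℕ) : ℕ := bif Nat.blt j 318 then (eT_309_318 j) else (eT_318_328 j)
def eT_328_330 (j : ℕ) : ℕ := bif Nat.blt j 329 then E_328 else E_329
def eT_330_332 (j : ℕ) : ℕ := bif Nat.blt j 331 then E_330 else E_331
def eT_328_332 (j : ℕ) : ℕ := bif Nat.blt j 330 then (eT_328_330 j) else (eT_330_332 j)
def eT_332_334 (j : ℕ) : ℕ := bif Nat.blt j 333 then E_332 else E_333
def eT_335_337 (j : ℕ) : ℕ := bif Nat.blt j 336 then E_335 else E_336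
def eT_334_337 (j : ℕ) : ℕ := bif Nat.blt j 335 then E_334 else (eT_335_337 j)
def eT_332_337 (j : ℕ) : ℕ := bif Nat.blt j 334 then (eT_332_334 j) else (eT_334_337 j)
def eT_328_337 (j : ℕ) : ℕ := bif Nat.blt j 332 then (eT_328_332 j) else (eT_332_337 j)
def eT_337_339 (j : ℕ) : ℕ := bif Nat.blt j 338 then E_337 else E_338
def eT_340_342 (j : ℕ) : ℕ := bif Nat.blt j 341 then E_340 else E_341
def eT_339_342 (j : ℕ) : ℕ := bif Nat.blt j 340 then E_339 else (eT_340_342 j)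
def eT_337_342 (j : ℕ) : ℕ := bif Nat.blt j 339 then (eT_337_339 j) else (eT_339_342 j)
def eT_342_344 (j : ℕ) : ℕ := bif Nat.blt j 343 then E_342 else E_343
def eT_345_347 (j : ℕ) : ℕ := bif Nat.blt j 346 then E_345 else E_346
def eT_344_347 (j : ℕ) : ℕ := bif Nat.blt j 345 then E_344 else (eT_345_347 j)
def eT_342_347 (j : ℕ) : ℕ := bif Nat.blt j 344 then (eT_342_344 j) else (eT_344_347 j)
def eT_337_347 (j : ℕ) : ℕ := bif Nat.blt j 342 then (eT_337_342 j) else (eT_342_347 j)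
def eT_328_347 (j : ℕ) : ℕ := bif Nat.blt j 337 then (eT_328_337 j) else (eT_337_347 j)
def eT_309_347 (j : ℕ) : ℕ := bif Nat.blt j 328 then (eT_309_328 j) else (eT_328_347 j)
def eT_347_349 (j : ℕ) : ℕ := bif Nat.blt j 348 then E_347 else E_348
def eT_349_351 (j : ℕ) : ℕ := bif Nat.blt j 350 then E_349 else E_350
def eT_347_351 (j : ℕ) : ℕ := bif Nat.blt j 349 then (eT_347_349 j) else (eT_349_351 j)
def eT_351_353 (j : ℕ) : ℕ := bif Nat.blt j 352 then E_351 else E_352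
def eT_354_356 (j : ℕ) : ℕ := bif Nat.blt j 355 then E_354 else E_355
def eT_353_356 (j : ℕ) : ℕ := bif Nat.blt j 354 then E_353 else (eT_354_356 j)
def eT_351_356 (j : ℕ) : ℕ := bif Nat.blt j 353 then (eT_351_353 j) else (eT_353_356 j)
def eT_347_356 (j : ℕ) : ℕ := bif Nat.blt j 351 then (eT_347_351 j) else (eT_351_356 j)
def eT_356_358 (j : ℕ) : ℕ := bif Nat.blt j 357 then E_356 else E_357
def eT_359_361 (j : ℕ) : ℕ := bif Nat.blt j 360 then E_359 else E_360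
def eT_358_361 (j : ℕ) : ℕ := bif Nat.blt j 359 then E_358 else (eT_359_361 j)
def eT_356_361 (j : ℕ) : ℕ := bif Nat.blt j 358 then (eT_356_358 j) else (eT_358_361 j)
def eT_361_363 (j : ℕ) : ℕ := bif Nat.blt j 362 then E_361 else E_362
def eT_364_366 (j : ℕ) : ℕ := bif Nat.blt j 365 then E_364 else E_365
def eT_363_366 (j : ℕ) : ℕ := bif Nat.blt j 364 then E_363 else (eT_364_366 j)
def eT_361_366 (j : ℕ) : ℕ := bif Nat.blt j 363 then (eT_361_363 j) else (eT_363_366 j)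
def eT_356_366 (j : ℕ) : ℕ := bif Nat.blt j 361 then (eT_356_361 j) else (eT_361_366 j)
def eT_347_366 (j : ℕ) : ℕ := bif Nat.blt j 356 then (eT_347_356 j) else (eT_356_366 j)
def eT_366_368 (j : ℕ) : ℕ := bif Nat.blt j 367 then E_366 else E_367
def eT_369_371 (j : ℕ) : ℕ := bif Nat.blt j 370 then E_369 else E_370
def eT_368_371 (j : ℕ) : ℕ := bif Nat.blt j 369 then E_368 else (eT_369_371 j)
def eT_366_371 (j : ℕ) : ℕ := bif Nat.blt j 368 then (eT_366_368 j) else (eT_368_371 j)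
def eT_371_373 (j : ℕ) : ℕ := bif Nat.blt j 372 then E_371 else E_372
def eT_374_376 (j : ℕ) : ℕ := bif Nat.blt j 375 then E_374 else E_375
def eT_373_376 (j : ℕ) : ℕ := bif Nat.blt j 374 then E_373 else (eT_374_376 j)
def eT_371_376 (j : ℕ) : ℕ := bif Nat.blt j 373 then (eT_371_373 j) else (eT_373_376 j)
def eT_366_376 (j : ℕ) : ℕ := bif Nat.blt j 371 then (eT_366_371 j) else (eT_371_376 j)
def eT_376_378 (j : ℕ) : ℕ := bif Nat.blt j 377 then E_376 else E_377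
def eT_379_381 (j : ℕ) : ℕ := bif Nat.blt j 380 then E_379 else E_380
def eT_378_381 (j : ℕ) : ℕ := bif Nat.blt j 379 then E_378 else (eT_379_381 j)
def eT_376_381 (j : ℕ) : ℕ := bif Nat.blt j 378 then (eT_376_378 j) else (eT_378_381 j)
def eT_381_383 (j : ℕ) : ℕ := bif Nat.blt j 382 then E_381 else E_382
def eT_384_386 (j : ℕ) : ℕ := bif Nat.blt j 385 then E_384 else E_385
def eT_383_386 (j : ℕ) : ℕ := bif Nat.blt j 384 then E_383 else (eT_384_386 j)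
def eT_381_386 (j : ℕ) : ℕ := bif Nat.blt j 383 then (eT_381_383 j) else (eT_383_386 j)
def eT_376_386 (j : ℕ) : ℕ := bif Nat.blt j 381 then (eT_376_381 j) else (eT_381_386 j)
def eT_366_386 (j : ℕ) : ℕ := bif Nat.blt j 376 then (eT_366_376 j) else (eT_376_386 j)
def eT_347_386 (j : ℕ) : ℕ := bif Nat.blt j 366 then (eT_347_366 j) else (eT_366_386 j)
def eT_309_386 (j : ℕ) : ℕ := bif Nat.blt j 347 then (eT_309_347 j) else (eT_347_386 j)
def eT_386_388 (j : ℕ) : ℕ := bif Nat.blt j 387 then E_386 else E_387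
def eT_388_390 (j : ℕ) : ℕ := bif Nat.blt j 389 then E_388 else E_389
def eT_386_390 (j : ℕ) : ℕ := bif Nat.blt j 388 then (eT_386_388 j) else (eT_388_390 j)
def eT_390_392 (j : ℕ) : ℕ := bif Nat.blt j 391 then E_390 else E_391
def eT_393_395 (j : ℕ) : ℕ := bif Nat.blt j 394 then E_393 else E_394
def eT_392_395 (j : ℕ) : ℕ := bif Nat.blt j 393 then E_392 else (eT_393_395 j)
def eT_390_395 (j : ℕ) : ℕ := bif Nat.blt j 392 then (eT_390_392 j) else (eT_392_395 j)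
def eT_386_395 (j : ℕ) : ℕ := bif Nat.blt j 390 then (eT_386_390 j) else (eT_390_395 j)
def eT_395_397 (j : ℕ) : ℕ := bif Nat.blt j 396 then E_395 else E_396
def eT_398_400 (j : ℕ) : ℕ := bif Nat.blt j 399 then E_398 else E_399
def eT_397_400 (j : ℕ) : ℕ := bif Nat.blt j 398 then E_397 else (eT_398_400 j)
def eT_395_400 (j : ℕ) : ℕ := bif Nat.blt j 397 then (eT_395_397 j) else (eT_397_400 j)
def eT_400_402 (j : ℕ) : ℕ := bif Nat.blt j 401 then E_400 else E_401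
def eT_403_405 (j : ℕ) : ℕ := bif Nat.blt j 404 then E_403 else E_404
def eT_402_405 (j : ℕ) : ℕ := bif Nat.blt j 403 then E_402 else (eT_403_405 j)
def eT_400_405 (j : ℕ) : ℕ := bif Nat.blt j 402 then (eT_400_402 j) else (eT_402_405 j)
def eT_395_405 (j : ℕ) : ℕ := bif Nat.blt j 400 then (eT_395_400 j) else (eT_400_405 j)
def eT_386_405 (j : ℕ) : ℕ := bif Nat.blt j 395 then (eT_386_395 j) else (eT_395_405 j)
def eT_405_407 (j : ℕ) : ℕ := bif Nat.blt j 406 then E_405 else E_406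
def eT_407_409 (j : ℕ) : ℕ := bif Nat.blt j 408 then E_407 else E_408
def eT_405_409 (j : ℕ) : ℕ := bif Nat.blt j 407 then (eT_405_407 j) else (eT_407_409 j)
def eT_409_411 (j : ℕ) : ℕ := bif Nat.blt j 410 then E_409 else E_410
def eT_412_414 (j : ℕ) : ℕ := bif Nat.blt j 413 then E_412 else E_413
def eT_411_414 (j : ℕ) : ℕ := bif Nat.blt j 412 then E_411 else (eT_412_414 j)
def eT_409_414 (j : ℕ) : ℕ := bif Nat.blt j 411 then (eT_409_411 j) else (eT_411_414 j)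
def eT_405_414 (j : ℕ) : ℕ := bif Nat.blt j 409 then (eT_405_409 j) else (eT_409_414 j)
def eT_414_416 (j : ℕ) : ℕ := bif Nat.blt j 415 then E_414 else E_415
def eT_417_419 (j : ℕ) : ℕ := bif Nat.blt j 418 then E_417 else E_418
def eT_416_419 (j : ℕ) : ℕ := bif Nat.blt j 417 then E_416 else (eT_417_419 j)
def eT_414_419 (j : ℕ) : ℕ := bif Nat.blt j 416 then (eT_414_416 j) else (eT_416_419 j)
def eT_419_421 (j : ℕ) : ℕ := bif Nat.blt j 420 then E_419 else E_420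
def eT_422_424 (j : ℕ) : ℕ := bif Nat.blt j 423 then E_422 else E_423
def eT_421_424 (j : ℕ) : ℕ := bif Nat.blt j 422 then E_421 else (eT_422_424 j)
def eT_419_424 (j : ℕ) : ℕ := bif Nat.blt j 421 then (eT_419_421 j) else (eT_421_424 j)
def eT_414_424 (j : ℕ) : ℕ := bif Nat.blt j 419 then (eT_414_419 j) else (eT_419_424 j)
def eT_405_424 (j : ℕ) : ℕ := bif Nat.blt j 414 then (eT_405_414 j) else (eT_414_424 j)
def eT_386_424 (j : ℕ) : ℕ := bif Nat.blt j 405 then (eT_386_405 j) else (eT_405_424 j)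
def eT_424_426 (j : ℕ) : ℕ := bif Nat.blt j 425 then E_424 else E_425
def eT_426_428 (j : ℕ) : ℕ := bif Nat.blt j 427 then E_426 else E_427
def eT_424_428 (j : ℕ) : ℕ := bif Nat.blt j 426 then (eT_424_426 j) else (eT_426_428 j)
def eT_428_430 (j : ℕ) : ℕ := bif Nat.blt j 429 then E_428 else E_429
def eT_431_433 (j : ℕ) : ℕ := bif Nat.blt j 432 then E_431 else E_432
def eT_430_433 (j : ℕ) : ℕ := bif Nat.blt j 431 then E_430 else (eT_431_433 j)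
def eT_428_433 (j : ℕ) : ℕ := bif Nat.blt j 430 then (eT_428_430 j) else (eT_430_433 j)
def eT_424_433 (j : ℕ) : ℕ := bif Nat.blt j 428 then (eT_424_428 j) else (eT_428_433 j)
def eT_433_435 (j : ℕ) : ℕ := bif Nat.blt j 434 then E_433 else E_434
def eT_436_438 (j : ℕ) : ℕ := bif Nat.blt j 437 then E_436 else E_437
def eT_435_438 (j : ℕ) : ℕ := bif Nat.blt j 436 then E_435 else (eT_436_438 j)
def eT_433_438 (j : ℕ) : ℕ := bif Nat.blt j 435 then (eT_433_435 j) else (eT_435_438 j)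
def eT_438_440 (j : ℕ) : ℕ := bif Nat.blt j 439 then E_438 else E_439
def eT_441_443 (j : ℕ) : ℕ := bif Nat.blt j 442 then E_441 else E_442
def eT_440_443 (j : ℕ) : ℕ := bif Nat.blt j 441 then E_440 else (eT_441_443 j)
def eT_438_443 (j : ℕ) : ℕ := bif Nat.blt j 440 then (eT_438_440 j) else (eT_440_443 j)
def eT_433_443 (j : ℕ) : ℕ := bif Nat.blt j 438 then (eT_433_438 j) else (eT_438_443 j)
def eT_424_443 (j : ℕ) : ℕ := bif Nat.blt j 433 then (eT_424_433 j) else (eT_433_443 j)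
def eT_443_445 (j : ℕ) : ℕ := bif Nat.blt j 444 then E_443 else E_444
def eT_446_448 (j : ℕ) : ℕ := bif Nat.blt j 447 then E_446 else E_447
def eT_445_448 (j : ℕ) : ℕ := bif Nat.blt j 446 then E_445 else (eT_446_448 j)
def eT_443_448 (j : ℕ) : ℕ := bif Nat.blt j 445 then (eT_443_445 j) else (eT_445_448 j)
def eT_448_450 (j : ℕ) : ℕ := bif Nat.blt j 449 then E_448 else E_449
def eT_451_453 (j : ℕ) : ℕ := bif Nat.blt j 452 then E_451 else E_452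
def eT_450_453 (j : ℕ) : ℕ := bif Nat.blt j 451 then E_450 else (eT_451_453 j)
def eT_448_453 (j : ℕ) : ℕ := bif Nat.blt j 450 then (eT_448_450 j) else (eT_450_453 j)
def eT_443_453 (j : ℕ) : ℕ := bif Nat.blt j 448 then (eT_443_448 j) else (eT_448_453 j)
def eT_453_455 (j : ℕ) : ℕ := bif Nat.blt j 454 then E_453 else E_454
def eT_456_458 (j : ℕ) : ℕ := bif Nat.blt j 457 then E_456 else E_457
def eT_455_458 (j : ℕ) : ℕ := bif Nat.blt j 456 then E_455 else (eT_456_458 j)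
def eT_453_458 (j : ℕ) : ℕ := bif Nat.blt j 455 then (eT_453_455 j) else (eT_455_458 j)
def eT_458_460 (j : ℕ) : ℕ := bif Nat.blt j 459 then E_458 else E_459
def eT_461_463 (j : ℕ) : ℕ := bif Nat.blt j 462 then E_461 else E_462
def eT_460_463 (j : ℕ) : ℕ := bif Nat.blt j 461 then E_460 else (eT_461_463 j)
def eT_458_463 (j : ℕ) : ℕ := bif Nat.blt j 460 then (eT_458_460 j) else (eT_460_463 j)
def eT_453_463 (j : ℕ) : ℕ := bif Nat.blt j 458 then (eT_453_458 j) else (eT_458_463 j)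
def eT_443_463 (j : ℕ) : ℕ := bif Nat.blt j 453 then (eT_443_453 j) else (eT_453_463 j)
def eT_424_463 (j : ℕ) : ℕ := bif Nat.blt j 443 then (eT_424_443 j) else (eT_443_463 j)
def eT_386_463 (j : ℕ) : ℕ := bif Nat.blt j 424 then (eT_386_424 j) else (eT_424_463 j)
def eT_309_463 (j : ℕ) : ℕ := bif Nat.blt j 386 then (eT_309_386 j) else (eT_386_463 j)
def eT_463_465 (j : ℕ) : ℕ := bif Nat.blt j 464 then E_463 else E_464
def eT_465_467 (j : ℕ) : ℕ := bif Nat.blt j 466 then E_465 else E_466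
def eT_463_467 (j : ℕ) : ℕ := bif Nat.blt j 465 then (eT_463_465 j) else (eT_465_467 j)
def eT_467_469 (j : ℕ) : ℕ := bif Nat.blt j 468 then E_467 else E_468
def eT_470_472 (j : ℕ) : ℕ := bif Nat.blt j 471 then E_470 else E_471
def eT_469_472 (j : ℕ) : ℕ := bif Nat.blt j 470 then E_469 else (eT_470_472 j)
def eT_467_472 (j : ℕ) : ℕ := bif Nat.blt j 469 then (eT_467_469 j) else (eT_469_472 j)
def eT_463_472 (j : ℕ) : ℕ := bif Nat.blt j 467 then (eT_463_467 j) else (eT_467_472 j)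
def eT_472_474 (j : ℕ) : ℕ := bif Nat.blt j 473 then E_472 else E_473
def eT_475_477 (j : ℕ) : ℕ := bif Nat.blt j 476 then E_475 else E_476
def eT_474_477 (j : ℕ) : ℕ := bif Nat.blt j 475 then E_474 else (eT_475_477 j)
def eT_472_477 (j : ℕ) : ℕ := bif Nat.blt j 474 then (eT_472_474 j) else (eT_474_477 j)
def eT_477_479 (j : ℕ) : ℕ := bif Nat.blt j 478 then E_477 else E_478
def eT_480_482 (j : ℕ) : ℕ := bif Nat.blt j 481 then E_480 else E_481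
def eT_479_482 (j : ℕ) : ℕ := bif Nat.blt j 480 then E_479 else (eT_480_482 j)
def eT_477_482 (j : ℕ) : ℕ := bif Nat.blt j 479 then (eT_477_479 j) else (eT_479_482 j)
def eT_472_482 (j : ℕ) : ℕ := bif Nat.blt j 477 then (eT_472_477 j) else (eT_477_482 j)
def eT_463_482 (j : ℕ) : ℕ := bif Nat.blt j 472 then (eT_463_472 j) else (eT_472_482 j)
def eT_482_484 (j : ℕ) : ℕ := bif Nat.blt j 483 then E_482 else E_483
def eT_484_486 (j : ℕ) : ℕ := bif Nat.blt j 485 then E_484 else E_485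
def eT_482_486 (j : ℕ) : ℕ := bif Nat.blt j 484 then (eT_482_484 j) else (eT_484_486 j)
def eT_486_488 (j : ℕ) : ℕ := bif Nat.blt j 487 then E_486 else E_487
def eT_489_491 (j : ℕ) : ℕ := bif Nat.blt j 490 then E_489 else E_490
def eT_488_491 (j : ℕ) : ℕ := bif Nat.blt j 489 then E_488 else (eT_489_491 j)
def eT_486_491 (j : ℕ) : ℕ := bif Nat.blt j 488 then (eT_486_488 j) else (eT_488_491 j)
def eT_482_491 (j : ℕ) : ℕ := bif Nat.blt j 486 then (eT_482_486 j) else (eT_486_491 j)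
def eT_491_493 (j : ℕ) : ℕ := bif Nat.blt j 492 then E_491 else E_492
def eT_494_496 (j : ℕ) : ℕ := bif Nat.blt j 495 then E_494 else E_495
def eT_493_496 (j : ℕ) : ℕ := bif Nat.blt j 494 then E_493 else (eT_494_496 j)
def eT_491_496 (j : ℕ) : ℕ := bif Nat.blt j 493 then (eT_491_493 j) else (eT_493_496 j)
def eT_496_498 (j : ℕ) : ℕ := bif Nat.blt j 497 then E_496 else E_497
def eT_499_501 (j : ℕ) : ℕ := bif Nat.blt j 500 then E_499 else E_500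
def eT_498_501 (j : ℕ) : ℕ := bif Nat.blt j 499 then E_498 else (eT_499_501 j)
def eT_496_501 (j : ℕ) : ℕ := bif Nat.blt j 498 then (eT_496_498 j) else (eT_498_501 j)
def eT_491_501 (j : ℕ) : ℕ := bif Nat.blt j 496 then (eT_491_496 j) else (eT_496_501 j)
def eT_482_501 (j : ℕ) : ℕ := bif Nat.blt j 491 then (eT_482_491 j) else (eT_491_501 j)
def eT_463_501 (j : ℕ) : ℕ := bif Nat.blt j 482 then (eT_463_482 j) else (eT_482_501 j)
def eT_501_503 (j : ℕ) : ℕ := bif Nat.blt j 502 then E_501 else E_502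
def eT_503_505 (j : ℕ) : ℕ := bif Nat.blt j 504 then E_503 else E_504
def eT_501_505 (j : ℕ) : ℕ := bif Nat.blt j 503 then (eT_501_503 j) else (eT_503_505 j)
def eT_505_507 (j : ℕ) : ℕ := bif Nat.blt j 506 then E_505 else E_506
def eT_508_510 (j : ℕ) : ℕ := bif Nat.blt j 509 then E_508 else E_509
def eT_507_510 (j : ℕ) : ℕ := bif Nat.blt j 508 then E_507 else (eT_508_510 j)
def eT_505_510 (j : ℕ) : ℕ := bif Nat.blt j 507 then (eT_505_507 j) else (eT_507_510 j)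
def eT_501_510 (j : ℕ) : ℕ := bif Nat.blt j 505 then (eT_501_505 j) else (eT_505_510 j)
def eT_510_512 (j : ℕ) : ℕ := bif Nat.blt j 511 then E_510 else E_511
def eT_513_515 (j : ℕ) : ℕ := bif Nat.blt j 514 then E_513 else E_514
def eT_512_515 (j : ℕ) : ℕ := bif Nat.blt j 513 then E_512 else (eT_513_515 j)
def eT_510_515 (j : ℕ) : ℕ := bif Nat.blt j 512 then (eT_510_512 j) else (eT_512_515 j)
def eT_515_517 (j : ℕ) : ℕ := bif Nat.blt j 516 then E_515 else E_516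
def eT_518_520 (j : ℕ) : ℕ := bif Nat.blt j 519 then E_518 else E_519
def eT_517_520 (j : ℕ) : ℕ := bif Nat.blt j 518 then E_517 else (eT_518_520 j)
def eT_515_520 (j : ℕ) : ℕ := bif Nat.blt j 517 then (eT_515_517 j) else (eT_517_520 j)
def eT_510_520 (j : ℕ) : ℕ := bif Nat.blt j 515 then (eT_510_515 j) else (eT_515_520 j)
def eT_501_520 (j : ℕ) : ℕ := bif Nat.blt j 510 then (eT_501_510 j) else (eT_510_520 j)
def eT_520_522 (j : ℕ) : ℕ := bif Nat.blt j 521 then E_520 else E_521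
def eT_523_525 (j : ℕ) : ℕ := bif Nat.blt j 524 then E_523 else E_524
def eT_522_525 (j : ℕ) : ℕ := bif Nat.blt j 523 then E_522 else (eT_523_525 j)
def eT_520_525 (j : ℕ) : ℕ := bif Nat.blt j 522 then (eT_520_522 j) else (eT_522_525 j)
def eT_525_527 (j : ℕ) : ℕ := bif Nat.blt j 526 then E_525 else E_526
def eT_528_530 (j : ℕ) : ℕ := bif Nat.blt j 529 then E_528 else E_529
def eT_527_530 (j : ℕ) : ℕ := bif Nat.blt j 528 then E_527 else (eT_528_530 j)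
def eT_525_530 (j : ℕ) : ℕ := bif Nat.blt j 527 then (eT_525_527 j) else (eT_527_530 j)
def eT_520_530 (j : ℕ) : ℕ := bif Nat.blt j 525 then (eT_520_525 j) else (eT_525_530 j)
def eT_530_532 (j : ℕ) : ℕ := bif Nat.blt j 531 then E_530 else E_531
def eT_533_535 (j : ℕ) : ℕ := bif Nat.blt j 534 then E_533 else E_534
def eT_532_535 (j : ℕ) : ℕ := bif Nat.blt j 533 then E_532 else (eT_533_535 j)
def eT_530_535 (j : ℕ) : ℕ := bif Nat.blt j 532 then (eT_530_532 j) else (eT_532_535 j)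
def eT_535_537 (j : ℕ) : ℕ := bif Nat.blt j 536 then E_535 else E_536
def eT_538_540 (j : ℕ) : ℕ := bif Nat.blt j 539 then E_538 else E_539
def eT_537_540 (j : ℕ) : ℕ := bif Nat.blt j 538 then E_537 else (eT_538_540 j)
def eT_535_540 (j : ℕ) : ℕ := bif Nat.blt j 537 then (eT_535_537 j) else (eT_537_540 j)
def eT_530_540 (j : ℕ) : ℕ := bif Nat.blt j 535 then (eT_530_535 j) else (eT_535_540 j)
def eT_520_540 (j : ℕ) : ℕ := bif Nat.blt j 530 then (eT_520_530 j) else (eT_530_540 j)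
def eT_501_540 (j : ℕ) : ℕ := bif Nat.blt j 520 then (eT_501_520 j) else (eT_520_540 j)
def eT_463_540 (j : ℕ) : ℕ := bif Nat.blt j 501 then (eT_463_501 j) else (eT_501_540 j)
def eT_540_542 (j : ℕ) : ℕ := bif Nat.blt j 541 then E_540 else E_541
def eT_542_544 (j : ℕ) : ℕ := bif Nat.blt j 543 then E_542 else E_543
def eT_540_544 (j : ℕ) : ℕ := bif Nat.blt j 542 then (eT_540_542 j) else (eT_542_544 j)
def eT_544_546 (j : ℕ) : ℕ := bif Nat.blt j 545 then E_544 else E_545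
def eT_547_549 (j : ℕ) : ℕ := bif Nat.blt j 548 then E_547 else E_548
def eT_546_549 (j : ℕ) : ℕ := bif Nat.blt j 547 then E_546 else (eT_547_549 j)
def eT_544_549 (j : ℕ) : ℕ := bif Nat.blt j 546 then (eT_544_546 j) else (eT_546_549 j)
def eT_540_549 (j : ℕ) : ℕ := bif Nat.blt j 544 then (eT_540_544 j) else (eT_544_549 j)
def eT_549_551 (j : ℕ) : ℕ := bif Nat.blt j 550 then E_549 else E_550
def eT_552_554 (j : ℕ) : ℕ := bif Nat.blt j 553 then E_552 else E_553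
def eT_551_554 (j : ℕ) : ℕ := bif Nat.blt j 552 then E_551 else (eT_552_554 j)
def eT_549_554 (j : ℕ) : ℕ := bif Nat.blt j 551 then (eT_549_551 j) else (eT_551_554 j)
def eT_554_556 (j : ℕ) : ℕ := bif Nat.blt j 555 then E_554 else E_555
def eT_557_559 (j : ℕ) : ℕ := bif Nat.blt j 558 then E_557 else E_558
def eT_556_559 (j : ℕ) : ℕ := bif Nat.blt j 557 then E_556 else (eT_557_559 j)
def eT_554_559 (j : ℕ) : ℕ := bif Nat.blt j 556 then (eT_554_556 j) else (eT_556_559 j)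
def eT_549_559 (j : ℕ) : ℕ := bif Nat.blt j 554 then (eT_549_554 j) else (eT_554_559 j)
def eT_540_559 (j : ℕ) : ℕ := bif Nat.blt j 549 then (eT_540_549 j) else (eT_549_559 j)
def eT_559_561 (j : ℕ) : ℕ := bif Nat.blt j 560 then E_559 else E_560
def eT_562_564 (j : ℕ) : ℕ := bif Nat.blt j 563 then E_562 else E_563
def eT_561_564 (j : ℕ) : ℕ := bif Nat.blt j 562 then E_561 else (eT_562_564 j)
def eT_559_564 (j : ℕ) : ℕ := bif Nat.blt j 561 then (eT_559_561 j) else (eT_561_564 j)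
def eT_564_566 (j : ℕ) : ℕ := bif Nat.blt j 565 then E_564 else E_565
def eT_567_569 (j : ℕ) : ℕ := bif Nat.blt j 568 then E_567 else E_568
def eT_566_569 (j : ℕ) : ℕ := bif Nat.blt j 567 then E_566 else (eT_567_569 j)
def eT_564_569 (j : ℕ) : ℕ := bif Nat.blt j 566 then (eT_564_566 j) else (eT_566_569 j)
def eT_559_569 (j : ℕ) : ℕ := bif Nat.blt j 564 then (eT_559_564 j) else (eT_564_569 j)
def eT_569_571 (j : ℕ) : ℕ := bif Nat.blt j 570 then E_569 else E_570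
def eT_572_574 (j : ℕ) : ℕ := bif Nat.blt j 573 then E_572 else E_573
def eT_571_574 (j : ℕ) : ℕ := bif Nat.blt j 572 then E_571 else (eT_572_574 j)
def eT_569_574 (j : ℕ) : ℕ := bif Nat.blt j 571 then (eT_569_571 j) else (eT_571_574 j)
def eT_574_576 (j : ℕ) : ℕ := bif Nat.blt j 575 then E_574 else E_575
def eT_577_579 (j : ℕ) : ℕ := bif Nat.blt j 578 then E_577 else E_578
def eT_576_579 (j : ℕ) : ℕ := bif Nat.blt j 577 then E_576 else (eT_577_579 j)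
def eT_574_579 (j : ℕ) : ℕ := bif Nat.blt j 576 then (eT_574_576 j) else (eT_576_579 j)
def eT_569_579 (j : ℕ) : ℕ := bif Nat.blt j 574 then (eT_569_574 j) else (eT_574_579 j)
def eT_559_579 (j : ℕ) : ℕ := bif Nat.blt j 569 then (eT_559_569 j) else (eT_569_579 j)
def eT_540_579 (j : ℕ) : ℕ := bif Nat.blt j 559 then (eT_540_559 j) else (eT_559_579 j)
def eT_579_581 (j : ℕ) : ℕ := bif Nat.blt j 580 then E_579 else E_580
def eT_581_583 (j : ℕ) : ℕ := bif Nat.blt j 582 then E_581 else E_582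
def eT_579_583 (j : ℕ) : ℕ := bif Nat.blt j 581 then (eT_579_581 j) else (eT_581_583 j)
def eT_583_585 (j : ℕ) : ℕ := bif Nat.blt j 584 then E_583 else E_584
def eT_586_588 (j : ℕ) : ℕ := bif Nat.blt j 587 then E_586 else E_587
def eT_585_588 (j : ℕ) : ℕ := bif Nat.blt j 586 then E_585 else (eT_586_588 j)
def eT_583_588 (j : ℕ) : ℕ := bif Nat.blt j 585 then (eT_583_585 j) else (eT_585_588 j)
def eT_579_588 (j : ℕ) : ℕ := bif Nat.blt j 583 then (eT_579_583 j) else (eT_583_588 j)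
def eT_588_590 (j : ℕ) : ℕ := bif Nat.blt j 589 then E_588 else E_589
def eT_591_593 (j : ℕ) : ℕ := bif Nat.blt j 592 then E_591 else E_592
def eT_590_593 (j : ℕ) : ℕ := bif Nat.blt j 591 then E_590 else (eT_591_593 j)
def eT_588_593 (j : ℕ) : ℕ := bif Nat.blt j 590 then (eT_588_590 j) else (eT_590_593 j)
def eT_593_595 (j : ℕ) : ℕ := bif Nat.blt j 594 then E_593 else E_594
def eT_596_598 (j : ℕ) : ℕ := bif Nat.blt j 597 then E_596 else E_597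
def eT_595_598 (j : ℕ) : ℕ := bif Nat.blt j 596 then E_595 else (eT_596_598 j)
def eT_593_598 (j : ℕ) : ℕ := bif Nat.blt j 595 then (eT_593_595 j) else (eT_595_598 j)
def eT_588_598 (j : ℕ) : ℕ := bif Nat.blt j 593 then (eT_588_593 j) else (eT_593_598 j)
def eT_579_598 (j : ℕ) : ℕ := bif Nat.blt j 588 then (eT_579_588 j) else (eT_588_598 j)
def eT_598_600 (j : ℕ) : ℕ := bif Nat.blt j 599 then E_598 else E_599
def eT_601_603 (j : ℕ) : ℕ := bif Nat.blt j 602 then E_601 else E_602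
def eT_600_603 (j : ℕ) : ℕ := bif Nat.blt j 601 then E_600 else (eT_601_603 j)
def eT_598_603 (j : ℕ) : ℕ := bif Nat.blt j 600 then (eT_598_600 j) else (eT_600_603 j)
def eT_603_605 (j : ℕ) : ℕ := bif Nat.blt j 604 then E_603 else E_604
def eT_606_608 (j : ℕ) : ℕ := bif Nat.blt j 607 then E_606 else E_607
def eT_605_608 (j : ℕ) : ℕ := bif Nat.blt j 606 then E_605 else (eT_606_608 j)
def eT_603_608 (j : ℕ) : ℕ := bif Nat.blt j 605 then (eT_603_605 j) else (eT_605_608 j)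
def eT_598_608 (j : ℕ) : ℕ := bif Nat.blt j 603 then (eT_598_603 j) else (eT_603_608 j)
def eT_608_610 (j : ℕ) : ℕ := bif Nat.blt j 609 then E_608 else E_609
def eT_611_613 (j : ℕ) : ℕ := bif Nat.blt j 612 then E_611 else E_612
def eT_610_613 (j : ℕ) : ℕ := bif Nat.blt j 611 then E_610 else (eT_611_613 j)
def eT_608_613 (j : ℕ) : ℕ := bif Nat.blt j 610 then (eT_608_610 j) else (eT_610_613 j)
def eT_613_615 (j : ℕ) : ℕ := bif Nat.blt j 614 then E_613 else E_614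
def eT_616_618 (j : ℕ) : ℕ := bif Nat.blt j 617 then E_616 else E_617
def eT_615_618 (j : ℕ) : ℕ := bif Nat.blt j 616 then E_615 else (eT_616_618 j)
def eT_613_618 (j : ℕ) : ℕ := bif Nat.blt j 615 then (eT_613_615 j) else (eT_615_618 j)
def eT_608_618 (j : ℕ) : ℕ := bif Nat.blt j 613 then (eT_608_613 j) else (eT_613_618 j)
def eT_598_618 (j : ℕ) : ℕ := bif Nat.blt j 608 then (eT_598_608 j) else (eT_608_618 j)
def eT_579_618 (j : ℕ) : ℕ := bif Nat.blt j 598 then (eT_579_598 j) else (eT_598_618 j)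
def eT_540_618 (j : ℕ) : ℕ := bif Nat.blt j 579 then (eT_540_579 j) else (eT_579_618 j)
def eT_463_618 (j : ℕ) : ℕ := bif Nat.blt j 540 then (eT_463_540 j) else (eT_540_618 j)
def eT_309_618 (j : ℕ) : ℕ := bif Nat.blt j 463 then (eT_309_463 j) else (eT_463_618 j)
def eT_0_618 (j : ℕ) : ℕ := bif Nat.blt j 309 then (eT_0_309 j) else (eT_309_618 j)
def eT_618_620 (j : ℕ) : ℕ := bif Nat.blt j 619 then E_618 else E_619
def eT_620_622 (j : ℕ) : ℕ := bif Nat.blt j 621 then E_620 else E_621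
def eT_618_622 (j : ℕ) : ℕ := bif Nat.blt j 620 then (eT_618_620 j) else (eT_620_622 j)
def eT_622_624 (j : ℕ) : ℕ := bif Nat.blt j 623 then E_622 else E_623
def eT_625_627 (j : ℕ) : ℕ := bif Nat.blt j 626 then E_625 else E_626
def eT_624_627 (j : ℕ) : ℕ := bif Nat.blt j 625 then E_624 else (eT_625_627 j)
def eT_622_627 (j : ℕ) : ℕ := bif Nat.blt j 624 then (eT_622_624 j) else (eT_624_627 j)
def eT_618_627 (j : ℕ) : ℕ := bif Nat.blt j 622 then (eT_618_622 j) else (eT_622_627 j)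
def eT_627_629 (j : ℕ) : ℕ := bif Nat.blt j 628 then E_627 else E_628
def eT_630_632 (j : ℕ) : ℕ := bif Nat.blt j 631 then E_630 else E_631
def eT_629_632 (j : ℕ) : ℕ := bif Nat.blt j 630 then E_629 else (eT_630_632 j)
def eT_627_632 (j : ℕ) : ℕ := bif Nat.blt j 629 then (eT_627_629 j) else (eT_629_632 j)
def eT_632_634 (j : ℕ) : ℕ := bif Nat.blt j 633 then E_632 else E_633
def eT_635_637 (j : ℕ) : ℕ := bif Nat.blt j 636 then E_635 else E_636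
def eT_634_637 (j : ℕ) : ℕ := bif Nat.blt j 635 then E_634 else (eT_635_637 j)
def eT_632_637 (j : ℕ) : ℕ := bif Nat.blt j 634 then (eT_632_634 j) else (eT_634_637 j)
def eT_627_637 (j : ℕ) : ℕ := bif Nat.blt j 632 then (eT_627_632 j) else (eT_632_637 j)
def eT_618_637 (j : ℕ) : ℕ := bif Nat.blt j 627 then (eT_618_627 j) else (eT_627_637 j)
def eT_637_639 (j : ℕ) : ℕ := bif Nat.blt j 638 then E_637 else E_638
def eT_639_641 (j : ℕ) : ℕ := bif Nat.blt j 640 then E_639 else E_640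
def eT_637_641 (j : ℕ) : ℕ := bif Nat.blt j 639 then (eT_637_639 j) else (eT_639_641 j)
def eT_641_643 (j : ℕ) : ℕ := bif Nat.blt j 642 then E_641 else E_642
def eT_644_646 (j : ℕ) : ℕ := bif Nat.blt j 645 then E_644 else E_645
def eT_643_646 (j : ℕ) : ℕ := bif Nat.blt j 644 then E_643 else (eT_644_646 j)
def eT_641_646 (j : ℕ) : ℕ := bif Nat.blt j 643 then (eT_641_643 j) else (eT_643_646 j)
def eT_637_646 (j : ℕ) : ℕ := bif Nat.blt j 641 then (eT_637_641 j) else (eT_641_646 j)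
def eT_646_648 (j : ℕ) : ℕ := bif Nat.blt j 647 then E_646 else E_647
def eT_649_651 (j : ℕ) : ℕ := bif Nat.blt j 650 then E_649 else E_650
def eT_648_651 (j : ℕ) : ℕ := bif Nat.blt j 649 then E_648 else (eT_649_651 j)
def eT_646_651 (j : ℕ) : ℕ := bif Nat.blt j 648 then (eT_646_648 j) else (eT_648_651 j)
def eT_651_653 (j : ℕ) : ℕ := bif Nat.blt j 652 then E_651 else E_652
def eT_654_656 (j : ℕ) : ℕ := bif Nat.blt j 655 then E_654 else E_655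
def eT_653_656 (j : ℕ) : ℕ := bif Nat.blt j 654 then E_653 else (eT_654_656 j)
def eT_651_656 (j : ℕ) : ℕ := bif Nat.blt j 653 then (eT_651_653 j) else (eT_653_656 j)
def eT_646_656 (j : ℕ) : ℕ := bif Nat.blt j 651 then (eT_646_651 j) else (eT_651_656 j)
def eT_637_656 (j : ℕ) : ℕ := bif Nat.blt j 646 then (eT_637_646 j) else (eT_646_656 j)
def eT_618_656 (j : ℕ) : ℕ := bif Nat.blt j 637 then (eT_618_637 j) else (eT_637_656 j)
def eT_656_658 (j : ℕ) : ℕ := bif Nat.blt j 657 then E_656 else E_657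
def eT_658_660 (j : ℕ) : ℕ := bif Nat.blt j 659 then E_658 else E_659
def eT_656_660 (j : ℕ) : ℕ := bif Nat.blt j 658 then (eT_656_658 j) else (eT_658_660 j)
def eT_660_662 (j : ℕ) : ℕ := bif Nat.blt j 661 then E_660 else E_661
def eT_663_665 (j : ℕ) : ℕ := bif Nat.blt j 664 then E_663 else E_664
def eT_662_665 (j : ℕ) : ℕ := bif Nat.blt j 663 then E_662 else (eT_663_665 j)
def eT_660_665 (j : ℕ) : ℕ := bif Nat.blt j 662 then (eT_660_662 j) else (eT_662_665 j)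
def eT_656_665 (j : ℕ) : ℕ := bif Nat.blt j 660 then (eT_656_660 j) else (eT_660_665 j)
def eT_665_667 (j : ℕ) : ℕ := bif Nat.blt j 666 then E_665 else E_666
def eT_668_670 (j : ℕ) : ℕ := bif Nat.blt j 669 then E_668 else E_669
def eT_667_670 (j : ℕ) : ℕ := bif Nat.blt j 668 then E_667 else (eT_668_670 j)
def eT_665_670 (j : ℕ) : ℕ := bif Nat.blt j 667 then (eT_665_667 j) else (eT_667_670 j)
def eT_670_672 (j : ℕ) : ℕ := bif Nat.blt j 671 then E_670 else E_671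
def eT_673_675 (j : ℕ) : ℕ := bif Nat.blt j 674 then E_673 else E_674
def eT_672_675 (j : ℕ) : ℕ := bif Nat.blt j 673 then E_672 else (eT_673_675 j)
def eT_670_675 (j : ℕ) : ℕ := bif Nat.blt j 672 then (eT_670_672 j) else (eT_672_675 j)
def eT_665_675 (j : ℕ) : ℕ := bif Nat.blt j 670 then (eT_665_670 j) else (eT_670_675 j)
def eT_656_675 (j : ℕ) : ℕ := bif Nat.blt j 665 then (eT_656_665 j) else (eT_665_675 j)
def eT_675_677 (j : ℕ) : ℕ := bif Nat.blt j 676 then E_675 else E_676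
def eT_678_680 (j : ℕ) : ℕ := bif Nat.blt j 679 then E_678 else E_679
def eT_677_680 (j : ℕ) : ℕ := bif Nat.blt j 678 then E_677 else (eT_678_680 j)
def eT_675_680 (j : ℕ) : ℕ := bif Nat.blt j 677 then (eT_675_677 j) else (eT_677_680 j)
def eT_680_682 (j : ℕ) : ℕ := bif Nat.blt j 681 then E_680 else E_681
def eT_683_685 (j : ℕ) : ℕ := bif Nat.blt j 684 then E_683 else E_684
def eT_682_685 (j : ℕ) : ℕ := bif Nat.blt j 683 then E_682 else (eT_683_685 j)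
def eT_680_685 (j : ℕ) : ℕ := bif Nat.blt j 682 then (eT_680_682 j) else (eT_682_685 j)
def eT_675_685 (j : ℕ) : ℕ := bif Nat.blt j 680 then (eT_675_680 j) else (eT_680_685 j)
def eT_685_687 (j : ℕ) : ℕ := bif Nat.blt j 686 then E_685 else E_686
def eT_688_690 (j : ℕ) : ℕ := bif Nat.blt j 689 then E_688 else E_689
def eT_687_690 (j : ℕ) : ℕ := bif Nat.blt j 688 then E_687 else (eT_688_690 j)
def eT_685_690 (j : ℕ) : ℕ := bif Nat.blt j 687 then (eT_685_687 j) else (eT_687_690 j)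
def eT_690_692 (j : ℕ) : ℕ := bif Nat.blt j 691 then E_690 else E_691
def eT_693_695 (j : ℕ) : ℕ := bif Nat.blt j 694 then E_693 else E_694
def eT_692_695 (j : ℕ) : ℕ := bif Nat.blt j 693 then E_692 else (eT_693_695 j)
def eT_690_695 (j : ℕ) : ℕ := bif Nat.blt j 692 then (eT_690_692 j) else (eT_692_695 j)
def eT_685_695 (j : ℕ) : ℕ := bif Nat.blt j 690 then (eT_685_690 j) else (eT_690_695 j)
def eT_675_695 (j : ℕ) : ℕ := bif Nat.blt j 685 then (eT_675_685 j) else (eT_685_695 j)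
def eT_656_695 (j : ℕ) : ℕ := bif Nat.blt j 675 then (eT_656_675 j) else (eT_675_695 j)
def eT_618_695 (j : ℕ) : ℕ := bif Nat.blt j 656 then (eT_618_656 j) else (eT_656_695 j)
def eT_695_697 (j : ℕ) : ℕ := bif Nat.blt j 696 then E_695 else E_696
def eT_697_699 (j : ℕ) : ℕ := bif Nat.blt j 698 then E_697 else E_698
def eT_695_699 (j : ℕ) : ℕ := bif Nat.blt j 697 then (eT_695_697 j) else (eT_697_699 j)
def eT_699_701 (j : ℕ) : ℕ := bif Nat.blt j 700 then E_699 else E_700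
def eT_702_704 (j : ℕ) : ℕ := bif Nat.blt j 703 then E_702 else E_703
def eT_701_704 (j : ℕ) : ℕ := bif Nat.blt j 702 then E_701 else (eT_702_704 j)
def eT_699_704 (j : ℕ) : ℕ := bif Nat.blt j 701 then (eT_699_701 j) else (eT_701_704 j)
def eT_695_704 (j : ℕ) : ℕ := bif Nat.blt j 699 then (eT_695_699 j) else (eT_699_704 j)
def eT_704_706 (j : ℕ) : ℕ := bif Nat.blt j 705 then E_704 else E_705
def eT_707_709 (j : ℕ) : ℕ := bif Nat.blt j 708 then E_707 else E_708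
def eT_706_709 (j : ℕ) : ℕ := bif Nat.blt j 707 then E_706 else (eT_707_709 j)
def eT_704_709 (j : ℕ) : ℕ := bif Nat.blt j 706 then (eT_704_706 j) else (eT_706_709 j)
def eT_709_711 (j : ℕ) : ℕ := bif Nat.blt j 710 then E_709 else E_710
def eT_712_714 (j : ℕ) : ℕ := bif Nat.blt j 713 then E_712 else E_713
def eT_711_714 (j : ℕ) : ℕ := bif Nat.blt j 712 then E_711 else (eT_712_714 j)
def eT_709_714 (j : ℕ) : ℕ := bif Nat.blt j 711 then (eT_709_711 j) else (eT_711_714 j)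
def eT_704_714 (j : ℕ) : ℕ := bif Nat.blt j 709 then (eT_704_709 j) else (eT_709_714 j)
def eT_695_714 (j : ℕ) : ℕ := bif Nat.blt j 704 then (eT_695_704 j) else (eT_704_714 j)
def eT_714_716 (j : ℕ) : ℕ := bif Nat.blt j 715 then E_714 else E_715
def eT_716_718 (j : ℕ) : ℕ := bif Nat.blt j 717 then E_716 else E_717
def eT_714_718 (j : ℕ) : ℕ := bif Nat.blt j 716 then (eT_714_716 j) else (eT_716_718 j)
def eT_718_720 (j : ℕ) : ℕ := bif Nat.blt j 719 then E_718 else E_719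
def eT_721_723 (j : ℕ) : ℕ := bif Nat.blt j 722 then E_721 else E_722
def eT_720_723 (j : ℕ) : ℕ := bif Nat.blt j 721 then E_720 else (eT_721_723 j)
def eT_718_723 (j : ℕ) : ℕ := bif Nat.blt j 720 then (eT_718_720 j) else (eT_720_723 j)
def eT_714_723 (j : ℕ) : ℕ := bif Nat.blt j 718 then (eT_714_718 j) else (eT_718_723 j)
def eT_723_725 (j : ℕ) : ℕ := bif Nat.blt j 724 then E_723 else E_724
def eT_726_728 (j : ℕ) : ℕ := bif Nat.blt j 727 then E_726 else E_727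
def eT_725_728 (j : ℕ) : ℕ := bif Nat.blt j 726 then E_725 else (eT_726_728 j)
def eT_723_728 (j : ℕ) : ℕ := bif Nat.blt j 725 then (eT_723_725 j) else (eT_725_728 j)
def eT_728_730 (j : ℕ) : ℕ := bif Nat.blt j 729 then E_728 else E_729
def eT_731_733 (j : ℕ) : ℕ := bif Nat.blt j 732 then E_731 else E_732
def eT_730_733 (j : ℕ) : ℕ := bif Nat.blt j 731 then E_730 else (eT_731_733 j)
def eT_728_733 (j : ℕ) : ℕ := bif Nat.blt j 730 then (eT_728_730 j) else (eT_730_733 j)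
def eT_723_733 (j : ℕ) : ℕ := bif Nat.blt j 728 then (eT_723_728 j) else (eT_728_733 j)
def eT_714_733 (j : ℕ) : ℕ := bif Nat.blt j 723 then (eT_714_723 j) else (eT_723_733 j)
def eT_695_733 (j : ℕ) : ℕ := bif Nat.blt j 714 then (eT_695_714 j) else (eT_714_733 j)
def eT_733_735 (j : ℕ) : ℕ := bif Nat.blt j 734 then E_733 else E_734
def eT_735_737 (j : ℕ) : ℕ := bif Nat.blt j 736 then E_735 else E_736
def eT_733_737 (j : ℕ) : ℕ := bif Nat.blt j 735 then (eT_733_735 j) else (eT_735_737 j)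
def eT_737_739 (j : ℕ) : ℕ := bif Nat.blt j 738 then E_737 else E_738
def eT_740_742 (j : ℕ) : ℕ := bif Nat.blt j 741 then E_740 else E_741
def eT_739_742 (j : ℕ) : ℕ := bif Nat.blt j 740 then E_739 else (eT_740_742 j)
def eT_737_742 (j : ℕ) : ℕ := bif Nat.blt j 739 then (eT_737_739 j) else (eT_739_742 j)
def eT_733_742 (j : ℕ) : ℕ := bif Nat.blt j 737 then (eT_733_737 j) else (eT_737_742 j)
def eT_742_744 (j : ℕ) : ℕ := bif Nat.blt j 743 then E_742 else E_743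
def eT_745_747 (j : ℕ) : ℕ := bif Nat.blt j 746 then E_745 else E_746
def eT_744_747 (j : ℕ) : ℕ := bif Nat.blt j 745 then E_744 else (eT_745_747 j)
def eT_742_747 (j : ℕ) : ℕ := bif Nat.blt j 744 then (eT_742_744 j) else (eT_744_747 j)
def eT_747_749 (j : ℕ) : ℕ := bif Nat.blt j 748 then E_747 else E_748
def eT_750_752 (j : ℕ) : ℕ := bif Nat.blt j 751 then E_750 else E_751
def eT_749_752 (j : ℕ) : ℕ := bif Nat.blt j 750 then E_749 else (eT_750_752 j)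
def eT_747_752 (j : ℕ) : ℕ := bif Nat.blt j 749 then (eT_747_749 j) else (eT_749_752 j)
def eT_742_752 (j : ℕ) : ℕ := bif Nat.blt j 747 then (eT_742_747 j) else (eT_747_752 j)
def eT_733_752 (j : ℕ) : ℕ := bif Nat.blt j 742 then (eT_733_742 j) else (eT_742_752 j)
def eT_752_754 (j : ℕ) : ℕ := bif Nat.blt j 753 then E_752 else E_753
def eT_755_757 (j : ℕ) : ℕ := bif Nat.blt j 756 then E_755 else E_756
def eT_754_757 (j : ℕ) : ℕ := bif Nat.blt j 755 then E_754 else (eT_755_757 j)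
def eT_752_757 (j : ℕ) : ℕ := bif Nat.blt j 754 then (eT_752_754 j) else (eT_754_757 j)
def eT_757_759 (j : ℕ) : ℕ := bif Nat.blt j 758 then E_757 else E_758
def eT_760_762 (j : ℕ) : ℕ := bif Nat.blt j 761 then E_760 else E_761
def eT_759_762 (j : ℕ) : ℕ := bif Nat.blt j 760 then E_759 else (eT_760_762 j)
def eT_757_762 (j : ℕ) : ℕ := bif Nat.blt j 759 then (eT_757_759 j) else (eT_759_762 j)
def eT_752_762 (j : ℕ) : ℕ := bif Nat.blt j 757 then (eT_752_757 j) else (eT_757_762 j)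
def eT_762_764 (j : ℕ) : ℕ := bif Nat.blt j 763 then E_762 else E_763
def eT_765_767 (j : ℕ) : ℕ := bif Nat.blt j 766 then E_765 else E_766
def eT_764_767 (j : ℕ) : ℕ := bif Nat.blt j 765 then E_764 else (eT_765_767 j)
def eT_762_767 (j : ℕ) : ℕ := bif Nat.blt j 764 then (eT_762_764 j) else (eT_764_767 j)
def eT_767_769 (j : ℕ) : ℕ := bif Nat.blt j 768 then E_767 else E_768
def eT_770_772 (j : ℕ) : ℕ := bif Nat.blt j 771 then E_770 else E_771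
def eT_769_772 (j : ℕ) : ℕ := bif Nat.blt j 770 then E_769 else (eT_770_772 j)
def eT_767_772 (j : ℕ) : ℕ := bif Nat.blt j 769 then (eT_767_769 j) else (eT_769_772 j)
def eT_762_772 (j : ℕ) : ℕ := bif Nat.blt j 767 then (eT_762_767 j) else (eT_767_772 j)
def eT_752_772 (j : ℕ) : ℕ := bif Nat.blt j 762 then (eT_752_762 j) else (eT_762_772 j)
def eT_733_772 (j : ℕ) : ℕ := bif Nat.blt j 752 then (eT_733_752 j) else (eT_752_772 j)
def eT_695_772 (j : ℕ) : ℕ := bif Nat.blt j 733 then (eT_695_733 j) else (eT_733_772 j)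
def eT_618_772 (j : ℕ) : ℕ := bif Nat.blt j 695 then (eT_618_695 j) else (eT_695_772 j)
def eT_772_774 (j : ℕ) : ℕ := bif Nat.blt j 773 then E_772 else E_773
def eT_774_776 (j : ℕ) : ℕ := bif Nat.blt j 775 then E_774 else E_775
def eT_772_776 (j : ℕ) : ℕ := bif Nat.blt j 774 then (eT_772_774 j) else (eT_774_776 j)
def eT_776_778 (j : ℕ) : ℕ := bif Nat.blt j 777 then E_776 else E_777
def eT_779_781 (j : ℕ) : ℕ := bif Nat.blt j 780 then E_779 else E_780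
def eT_778_781 (j : ℕ) : ℕ := bif Nat.blt j 779 then E_778 else (eT_779_781 j)
def eT_776_781 (j : ℕ) : ℕ := bif Nat.blt j 778 then (eT_776_778 j) else (eT_778_781 j)
def eT_772_781 (j : ℕ) : ℕ := bif Nat.blt j 776 then (eT_772_776 j) else (eT_776_781 j)
def eT_781_783 (j : ℕ) : ℕ := bif Nat.blt j 782 then E_781 else E_782
def eT_784_786 (j : ℕ) : ℕ := bif Nat.blt j 785 then E_784 else E_785
def eT_783_786 (j : ℕ) : ℕ := bif Nat.blt j 784 then E_783 else (eT_784_786 j)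
def eT_781_786 (j : ℕ) : ℕ := bif Nat.blt j 783 then (eT_781_783 j) else (eT_783_786 j)
def eT_786_788 (j : ℕ) : ℕ := bif Nat.blt j 787 then E_786 else E_787
def eT_789_791 (j : ℕ) : ℕ := bif Nat.blt j 790 then E_789 else E_790
def eT_788_791 (j : ℕ) : ℕ := bif Nat.blt j 789 then E_788 else (eT_789_791 j)
def eT_786_791 (j : ℕ) : ℕ := bif Nat.blt j 788 then (eT_786_788 j) else (eT_788_791 j)
def eT_781_791 (j : ℕ) : ℕ := bif Nat.blt j 786 then (eT_781_786 j) else (eT_786_791 j)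
def eT_772_791 (j : ℕ) : ℕ := bif Nat.blt j 781 then (eT_772_781 j) else (eT_781_791 j)
def eT_791_793 (j : ℕ) : ℕ := bif Nat.blt j 792 then E_791 else E_792
def eT_793_795 (j : ℕ) : ℕ := bif Nat.blt j 794 then E_793 else E_794
def eT_791_795 (j : ℕ) : ℕ := bif Nat.blt j 793 then (eT_791_793 j) else (eT_793_795 j)
def eT_795_797 (j : ℕ) : ℕ := bif Nat.blt j 796 then E_795 else E_796
def eT_798_800 (j : ℕ) : ℕ := bif Nat.blt j 799 then E_798 else E_799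
def eT_797_800 (j : ℕ) : ℕ := bif Nat.blt j 798 then E_797 else (eT_798_800 j)
def eT_795_800 (j : ℕ) : ℕ := bif Nat.blt j 797 then (eT_795_797 j) else (eT_797_800 j)
def eT_791_800 (j : ℕ) : ℕ := bif Nat.blt j 795 then (eT_791_795 j) else (eT_795_800 j)
def eT_800_802 (j : ℕ) : ℕ := bif Nat.blt j 801 then E_800 else E_801
def eT_803_805 (j : ℕ) : ℕ := bif Nat.blt j 804 then E_803 else E_804
def eT_802_805 (j : ℕ) : ℕ := bif Nat.blt j 803 then E_802 else (eT_803_805 j)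
def eT_800_805 (j : ℕ) : ℕ := bif Nat.blt j 802 then (eT_800_802 j) else (eT_802_805 j)
def eT_805_807 (j : ℕ) : ℕ := bif Nat.blt j 806 then E_805 else E_806
def eT_808_810 (j : ℕ) : ℕ := bif Nat.blt j 809 then E_808 else E_809
def eT_807_810 (j : ℕ) : ℕ := bif Nat.blt j 808 then E_807 else (eT_808_810 j)
def eT_805_810 (j : ℕ) : ℕ := bif Nat.blt j 807 then (eT_805_807 j) else (eT_807_810 j)
def eT_800_810 (j : ℕ) : ℕ := bif Nat.blt j 805 then (eT_800_805 j) else (eT_805_810 j)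
def eT_791_810 (j : ℕ) : ℕ := bif Nat.blt j 800 then (eT_791_800 j) else (eT_800_810 j)
def eT_772_810 (j : ℕ) : ℕ := bif Nat.blt j 791 then (eT_772_791 j) else (eT_791_810 j)
def eT_810_812 (j : ℕ) : ℕ := bif Nat.blt j 811 then E_810 else E_811
def eT_812_814 (j : ℕ) : ℕ := bif Nat.blt j 813 then E_812 else E_813
def eT_810_814 (j : ℕ) : ℕ := bif Nat.blt j 812 then (eT_810_812 j) else (eT_812_814 j)
def eT_814_816 (j : ℕ) : ℕ := bif Nat.blt j 815 then E_814 else E_815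
def eT_817_819 (j : ℕ) : ℕ := bif Nat.blt j 818 then E_817 else E_818
def eT_816_819 (j : ℕ) : ℕ := bif Nat.blt j 817 then E_816 else (eT_817_819 j)
def eT_814_819 (j : ℕ) : ℕ := bif Nat.blt j 816 then (eT_814_816 j) else (eT_816_819 j)
def eT_810_819 (j : ℕ) : ℕ := bif Nat.blt j 814 then (eT_810_814 j) else (eT_814_819 j)
def eT_819_821 (j : ℕ) : ℕ := bif Nat.blt j 820 then E_819 else E_820
def eT_822_824 (j : ℕ) : ℕ := bif Nat.blt j 823 then E_822 else E_823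
def eT_821_824 (j : ℕ) : ℕ := bif Nat.blt j 822 then E_821 else (eT_822_824 j)
def eT_819_824 (j : ℕ) : ℕ := bif Nat.blt j 821 then (eT_819_821 j) else (eT_821_824 j)
def eT_824_826 (j : ℕ) : ℕ := bif Nat.blt j 825 then E_824 else E_825
def eT_827_829 (j : ℕ) : ℕ := bif Nat.blt j 828 then E_827 else E_828
def eT_826_829 (j : ℕ) : ℕ := bif Nat.blt j 827 then E_826 else (eT_827_829 j)
def eT_824_829 (j : ℕ) : ℕ := bif Nat.blt j 826 then (eT_824_826 j) else (eT_826_829 j)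
def eT_819_829 (j : ℕ) : ℕ := bif Nat.blt j 824 then (eT_819_824 j) else (eT_824_829 j)
def eT_810_829 (j : ℕ) : ℕ := bif Nat.blt j 819 then (eT_810_819 j) else (eT_819_829 j)
def eT_829_831 (j : ℕ) : ℕ := bif Nat.blt j 830 then E_829 else E_830
def eT_832_834 (j : ℕ) : ℕ := bif Nat.blt j 833 then E_832 else E_833
def eT_831_834 (j : ℕ) : ℕ := bif Nat.blt j 832 then E_831 else (eT_832_834 j)
def eT_829_834 (j : ℕ) : ℕ := bif Nat.blt j 831 then (eT_829_831 j) else (eT_831_834 j)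
def eT_834_836 (j : ℕ) : ℕ := bif Nat.blt j 835 then E_834 else E_835
def eT_837_839 (j : ℕ) : ℕ := bif Nat.blt j 838 then E_837 else E_838
def eT_836_839 (j : ℕ) : ℕ := bif Nat.blt j 837 then E_836 else (eT_837_839 j)
def eT_834_839 (j : ℕ) : ℕ := bif Nat.blt j 836 then (eT_834_836 j) else (eT_836_839 j)
def eT_829_839 (j : ℕ) : ℕ := bif Nat.blt j 834 then (eT_829_834 j) else (eT_834_839 j)
def eT_839_841 (j : ℕ) : ℕ := bif Nat.blt j 840 then E_839 else E_840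
def eT_842_844 (j : ℕ) : ℕ := bif Nat.blt j 843 then E_842 else E_843
def eT_841_844 (j : ℕ) : ℕ := bif Nat.blt j 842 then E_841 else (eT_842_844 j)
def eT_839_844 (j : ℕ) : ℕ := bif Nat.blt j 841 then (eT_839_841 j) else (eT_841_844 j)
def eT_844_846 (j : ℕ) : ℕ := bif Nat.blt j 845 then E_844 else E_845
def eT_847_849 (j : ℕ) : ℕ := bif Nat.blt j 848 then E_847 else E_848
def eT_846_849 (j : ℕ) : ℕ := bif Nat.blt j 847 then E_846 else (eT_847_849 j)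
def eT_844_849 (j : ℕ) : ℕ := bif Nat.blt j 846 then (eT_844_846 j) else (eT_846_849 j)
def eT_839_849 (j : ℕ) : ℕ := bif Nat.blt j 844 then (eT_839_844 j) else (eT_844_849 j)
def eT_829_849 (j : ℕ) : ℕ := bif Nat.blt j 839 then (eT_829_839 j) else (eT_839_849 j)
def eT_810_849 (j : ℕ) : ℕ := bif Nat.blt j 829 then (eT_810_829 j) else (eT_829_849 j)
def eT_772_849 (j : ℕ) : ℕ := bif Nat.blt j 810 then (eT_772_810 j) else (eT_810_849 j)
def eT_849_851 (j : ℕ) : ℕ := bif Nat.blt j 850 then E_849 else E_850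
def eT_851_853 (j : ℕ) : ℕ := bif Nat.blt j 852 then E_851 else E_852
def eT_849_853 (j : ℕ) : ℕ := bif Nat.blt j 851 then (eT_849_851 j) else (eT_851_853 j)
def eT_853_855 (j : ℕ) : ℕ := bif Nat.blt j 854 then E_853 else E_854
def eT_856_858 (j : ℕ) : ℕ := bif Nat.blt j 857 then E_856 else E_857
def eT_855_858 (j : ℕ) : ℕ := bif Nat.blt j 856 then E_855 else (eT_856_858 j)
def eT_853_858 (j : ℕ) : ℕ := bif Nat.blt j 855 then (eT_853_855 j) else (eT_855_858 j)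
def eT_849_858 (j : ℕ) : ℕ := bif Nat.blt j 853 then (eT_849_853 j) else (eT_853_858 j)
def eT_858_860 (j : ℕ) : ℕ := bif Nat.blt j 859 then E_858 else E_859
def eT_861_863 (j : ℕ) : ℕ := bif Nat.blt j 862 then E_861 else E_862
def eT_860_863 (j : ℕ) : ℕ := bif Nat.blt j 861 then E_860 else (eT_861_863 j)
def eT_858_863 (j : ℕ) : ℕ := bif Nat.blt j 860 then (eT_858_860 j) else (eT_860_863 j)
def eT_863_865 (j : ℕ) : ℕ := bif Nat.blt j 864 then E_863 else E_864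
def eT_866_868 (j : ℕ) : ℕ := bif Nat.blt j 867 then E_866 else E_867
def eT_865_868 (j : ℕ) : ℕ := bif Nat.blt j 866 then E_865 else (eT_866_868 j)
def eT_863_868 (j : ℕ) : ℕ := bif Nat.blt j 865 then (eT_863_865 j) else (eT_865_868 j)
def eT_858_868 (j : ℕ) : ℕ := bif Nat.blt j 863 then (eT_858_863 j) else (eT_863_868 j)
def eT_849_868 (j : ℕ) : ℕ := bif Nat.blt j 858 then (eT_849_858 j) else (eT_858_868 j)
def eT_868_870 (j : ℕ) : ℕ := bif Nat.blt j 869 then E_868 else E_869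
def eT_871_873 (j : ℕ) : ℕ := bif Nat.blt j 872 then E_871 else E_872
def eT_870_873 (j : ℕ) : ℕ := bif Nat.blt j 871 then E_870 else (eT_871_873 j)
def eT_868_873 (j : ℕ) : ℕ := bif Nat.blt j 870 then (eT_868_870 j) else (eT_870_873 j)
def eT_873_875 (j : ℕ) : ℕ := bif Nat.blt j 874 then E_873 else E_874
def eT_876_878 (j : ℕ) : ℕ := bif Nat.blt j 877 then E_876 else E_877
def eT_875_878 (j : ℕ) : ℕ := bif Nat.blt j 876 then E_875 else (eT_876_878 j)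
def eT_873_878 (j : ℕ) : ℕ := bif Nat.blt j 875 then (eT_873_875 j) else (eT_875_878 j)
def eT_868_878 (j : ℕ) : ℕ := bif Nat.blt j 873 then (eT_868_873 j) else (eT_873_878 j)
def eT_878_880 (j : ℕ) : ℕ := bif Nat.blt j 879 then E_878 else E_879
def eT_881_883 (j : ℕ) : ℕ := bif Nat.blt j 882 then E_881 else E_882
def eT_880_883 (j : ℕ) : ℕ := bif Nat.blt j 881 then E_880 else (eT_881_883 j)
def eT_878_883 (j : ℕ) : ℕ := bif Nat.blt j 880 then (eT_878_880 j) else (eT_880_883 j)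
def eT_883_885 (j : ℕ) : ℕ := bif Nat.blt j 884 then E_883 else E_884
def eT_886_888 (j : ℕ) : ℕ := bif Nat.blt j 887 then E_886 else E_887
def eT_885_888 (j : ℕ) : ℕ := bif Nat.blt j 886 then E_885 else (eT_886_888 j)
def eT_883_888 (j : ℕ) : ℕ := bif Nat.blt j 885 then (eT_883_885 j) else (eT_885_888 j)
def eT_878_888 (j : ℕ) : ℕ := bif Nat.blt j 883 then (eT_878_883 j) else (eT_883_888 j)
def eT_868_888 (j : ℕ) : ℕ := bif Nat.blt j 878 then (eT_868_878 j) else (eT_878_888 j)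
def eT_849_888 (j : ℕ) : ℕ := bif Nat.blt j 868 then (eT_849_868 j) else (eT_868_888 j)
def eT_888_890 (j : ℕ) : ℕ := bif Nat.blt j 889 then E_888 else E_889
def eT_890_892 (j : ℕ) : ℕ := bif Nat.blt j 891 then E_890 else E_891
def eT_888_892 (j : ℕ) : ℕ := bif Nat.blt j 890 then (eT_888_890 j) else (eT_890_892 j)
def eT_892_894 (j : ℕ) : ℕ := bif Nat.blt j 893 then E_892 else E_893
def eT_895_897 (j : ℕ) : ℕ := bif Nat.blt j 896 then E_895 else E_896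
def eT_894_897 (j : ℕ) : ℕ := bif Nat.blt j 895 then E_894 else (eT_895_897 j)
def eT_892_897 (j : ℕ) : ℕ := bif Nat.blt j 894 then (eT_892_894 j) else (eT_894_897 j)
def eT_888_897 (j : ℕ) : ℕ := bif Nat.blt j 892 then (eT_888_892 j) else (eT_892_897 j)
def eT_897_899 (j : ℕ) : ℕ := bif Nat.blt j 898 then E_897 else E_898
def eT_900_902 (j : ℕ) : ℕ := bif Nat.blt j 901 then E_900 else E_901
def eT_899_902 (j : ℕ) : ℕ := bif Nat.blt j 900 then E_899 else (eT_900_902 j)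
def eT_897_902 (j : ℕ) : ℕ := bif Nat.blt j 899 then (eT_897_899 j) else (eT_899_902 j)
def eT_902_904 (j : ℕ) : ℕ := bif Nat.blt j 903 then E_902 else E_903
def eT_905_907 (j : ℕ) : ℕ := bif Nat.blt j 906 then E_905 else E_906
def eT_904_907 (j : ℕ) : ℕ := bif Nat.blt j 905 then E_904 else (eT_905_907 j)
def eT_902_907 (j : ℕ) : ℕ := bif Nat.blt j 904 then (eT_902_904 j) else (eT_904_907 j)
def eT_897_907 (j : ℕ) : ℕ := bif Nat.blt j 902 then (eT_897_902 j) else (eT_902_907 j)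
def eT_888_907 (j : ℕ) : ℕ := bif Nat.blt j 897 then (eT_888_897 j) else (eT_897_907 j)
def eT_907_909 (j : ℕ) : ℕ := bif Nat.blt j 908 then E_907 else E_908
def eT_910_912 (j : ℕ) : ℕ := bif Nat.blt j 911 then E_910 else E_911
def eT_909_912 (j : ℕ) : ℕ := bif Nat.blt j 910 then E_909 else (eT_910_912 j)
def eT_907_912 (j : ℕ) : ℕ := bif Nat.blt j 909 then (eT_907_909 j) else (eT_909_912 j)
def eT_912_914 (j : ℕ) : ℕ := bif Nat.blt j 913 then E_912 else E_913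
def eT_915_917 (j : ℕ) : ℕ := bif Nat.blt j 916 then E_915 else E_916
def eT_914_917 (j : ℕ) : ℕ := bif Nat.blt j 915 then E_914 else (eT_915_917 j)
def eT_912_917 (j : ℕ) : ℕ := bif Nat.blt j 914 then (eT_912_914 j) else (eT_914_917 j)
def eT_907_917 (j : ℕ) : ℕ := bif Nat.blt j 912 then (eT_907_912 j) else (eT_912_917 j)
def eT_917_919 (j : ℕ) : ℕ := bif Nat.blt j 918 then E_917 else E_918
def eT_920_922 (j : ℕ) : ℕ := bif Nat.blt j 921 then E_920 else E_921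
def eT_919_922 (j : ℕ) : ℕ := bif Nat.blt j 920 then E_919 else (eT_920_922 j)
def eT_917_922 (j : ℕ) : ℕ := bif Nat.blt j 919 then (eT_917_919 j) else (eT_919_922 j)
def eT_922_924 (j : ℕ) : ℕ := bif Nat.blt j 923 then E_922 else E_923
def eT_925_927 (j : ℕ) : ℕ := bif Nat.blt j 926 then E_925 else E_926
def eT_924_927 (j : ℕ) : ℕ := bif Nat.blt j 925 then E_924 else (eT_925_927 j)
def eT_922_927 (j : ℕ) : ℕ := bif Nat.blt j 924 then (eT_922_924 j) else (eT_924_927 j)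
def eT_917_927 (j : ℕ) : ℕ := bif Nat.blt j 922 then (eT_917_922 j) else (eT_922_927 j)
def eT_907_927 (j : ℕ) : ℕ := bif Nat.blt j 917 then (eT_907_917 j) else (eT_917_927 j)
def eT_888_927 (j : ℕ) : ℕ := bif Nat.blt j 907 then (eT_888_907 j) else (eT_907_927 j)
def eT_849_927 (j : ℕ) : ℕ := bif Nat.blt j 888 then (eT_849_888 j) else (eT_888_927 j)
def eT_772_927 (j : ℕ) : ℕ := bif Nat.blt j 849 then (eT_772_849 j) else (eT_849_927 j)
def eT_618_927 (j : ℕ) : ℕ := bif Nat.blt j 772 then (eT_618_772 j) else (eT_772_927 j)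
def eT_927_929 (j : ℕ) : ℕ := bif Nat.blt j 928 then E_927 else E_928
def eT_929_931 (j : ℕ) : ℕ := bif Nat.blt j 930 then E_929 else E_930
def eT_927_931 (j : ℕ) : ℕ := bif Nat.blt j 929 then (eT_927_929 j) else (eT_929_931 j)
def eT_931_933 (j : ℕ) : ℕ := bif Nat.blt j 932 then E_931 else E_932
def eT_934_936 (j : ℕ) : ℕ := bif Nat.blt j 935 then E_934 else E_935
def eT_933_936 (j : ℕ) : ℕ := bif Nat.blt j 934 then E_933 else (eT_934_936 j)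
def eT_931_936 (j : ℕ) : ℕ := bif Nat.blt j 933 then (eT_931_933 j) else (eT_933_936 j)
def eT_927_936 (j : ℕ) : ℕ := bif Nat.blt j 931 then (eT_927_931 j) else (eT_931_936 j)
def eT_936_938 (j : ℕ) : ℕ := bif Nat.blt j 937 then E_936 else E_937
def eT_939_941 (j : ℕ) : ℕ := bif Nat.blt j 940 then E_939 else E_940
def eT_938_941 (j : ℕ) : ℕ := bif Nat.blt j 939 then E_938 else (eT_939_941 j)
def eT_936_941 (j : ℕ) : ℕ := bif Nat.blt j 938 then (eT_936_938 j) else (eT_938_941 j)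
def eT_941_943 (j : ℕ) : ℕ := bif Nat.blt j 942 then E_941 else E_942
def eT_944_946 (j : ℕ) : ℕ := bif Nat.blt j 945 then E_944 else E_945
def eT_943_946 (j : ℕ) : ℕ := bif Nat.blt j 944 then E_943 else (eT_944_946 j)
def eT_941_946 (j : ℕ) : ℕ := bif Nat.blt j 943 then (eT_941_943 j) else (eT_943_946 j)
def eT_936_946 (j : ℕ) : ℕ := bif Nat.blt j 941 then (eT_936_941 j) else (eT_941_946 j)
def eT_927_946 (j : ℕ) : ℕ := bif Nat.blt j 936 then (eT_927_936 j) else (eT_936_946 j)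
def eT_946_948 (j : ℕ) : ℕ := bif Nat.blt j 947 then E_946 else E_947
def eT_948_950 (j : ℕ) : ℕ := bif Nat.blt j 949 then E_948 else E_949
def eT_946_950 (j : ℕ) : ℕ := bif Nat.blt j 948 then (eT_946_948 j) else (eT_948_950 j)
def eT_950_952 (j : ℕ) : ℕ := bif Nat.blt j 951 then E_950 else E_951
def eT_953_955 (j : ℕ) : ℕ := bif Nat.blt j 954 then E_953 else E_954
def eT_952_955 (j : ℕ) : ℕ := bif Nat.blt j 953 then E_952 else (eT_953_955 j)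
def eT_950_955 (j : ℕ) : ℕ := bif Nat.blt j 952 then (eT_950_952 j) else (eT_952_955 j)
def eT_946_955 (j : ℕ) : ℕ := bif Nat.blt j 950 then (eT_946_950 j) else (eT_950_955 j)
def eT_955_957 (j : ℕ) : ℕ := bif Nat.blt j 956 then E_955 else E_956
def eT_958_960 (j : ℕ) : ℕ := bif Nat.blt j 959 then E_958 else E_959
def eT_957_960 (j : ℕ) : ℕ := bif Nat.blt j 958 then E_957 else (eT_958_960 j)
def eT_955_960 (j : ℕ) : ℕ := bif Nat.blt j 957 then (eT_955_957 j) else (eT_957_960 j)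
def eT_960_962 (j : ℕ) : ℕ := bif Nat.blt j 961 then E_960 else E_961
def eT_963_965 (j : ℕ) : ℕ := bif Nat.blt j 964 then E_963 else E_964
def eT_962_965 (j : ℕ) : ℕ := bif Nat.blt j 963 then E_962 else (eT_963_965 j)
def eT_960_965 (j : ℕ) : ℕ := bif Nat.blt j 962 then (eT_960_962 j) else (eT_962_965 j)
def eT_955_965 (j : ℕ) : ℕ := bif Nat.blt j 960 then (eT_955_960 j) else (eT_960_965 j)
def eT_946_965 (j : ℕ) : ℕ := bif Nat.blt j 955 then (eT_946_955 j) else (eT_955_965 j)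
def eT_927_965 (j : ℕ) : ℕ := bif Nat.blt j 946 then (eT_927_946 j) else (eT_946_965 j)
def eT_965_967 (j : ℕ) : ℕ := bif Nat.blt j 966 then E_965 else E_966
def eT_967_969 (j : ℕ) : ℕ := bif Nat.blt j 968 then E_967 else E_968
def eT_965_969 (j : ℕ) : ℕ := bif Nat.blt j 967 then (eT_965_967 j) else (eT_967_969 j)
def eT_969_971 (j : ℕ) : ℕ := bif Nat.blt j 970 then E_969 else E_970
def eT_972_974 (j : ℕ) : ℕ := bif Nat.blt j 973 then E_972 else E_973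
def eT_971_974 (j : ℕ) : ℕ := bif Nat.blt j 972 then E_971 else (eT_972_974 j)
def eT_969_974 (j : ℕ) : ℕ := bif Nat.blt j 971 then (eT_969_971 j) else (eT_971_974 j)
def eT_965_974 (j : ℕ) : ℕ := bif Nat.blt j 969 then (eT_965_969 j) else (eT_969_974 j)
def eT_974_976 (j : ℕ) : ℕ := bif Nat.blt j 975 then E_974 else E_975
def eT_977_979 (j : ℕ) : ℕ := bif Nat.blt j 978 then E_977 else E_978
def eT_976_979 (j : ℕ) : ℕ := bif Nat.blt j 977 then E_976 else (eT_977_979 j)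
def eT_974_979 (j : ℕ) : ℕ := bif Nat.blt j 976 then (eT_974_976 j) else (eT_976_979 j)
def eT_979_981 (j : ℕ) : ℕ := bif Nat.blt j 980 then E_979 else E_980
def eT_982_984 (j : ℕ) : ℕ := bif Nat.blt j 983 then E_982 else E_983
def eT_981_984 (j : ℕ) : ℕ := bif Nat.blt j 982 then E_981 else (eT_982_984 j)
def eT_979_984 (j : ℕ) : ℕ := bif Nat.blt j 981 then (eT_979_981 j) else (eT_981_984 j)
def eT_974_984 (j : ℕ) : ℕ := bif Nat.blt j 979 then (eT_974_979 j) else (eT_979_984 j)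
def eT_965_984 (j : ℕ) : ℕ := bif Nat.blt j 974 then (eT_965_974 j) else (eT_974_984 j)
def eT_984_986 (j : ℕ) : ℕ := bif Nat.blt j 985 then E_984 else E_985
def eT_987_989 (j : ℕ) : ℕ := bif Nat.blt j 988 then E_987 else E_988
def eT_986_989 (j : ℕ) : ℕ := bif Nat.blt j 987 then E_986 else (eT_987_989 j)
def eT_984_989 (j : ℕ) : ℕ := bif Nat.blt j 986 then (eT_984_986 j) else (eT_986_989 j)
def eT_989_991 (j : ℕ) : ℕ := bif Nat.blt j 990 then E_989 else E_990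
def eT_992_994 (j : ℕ) : ℕ := bif Nat.blt j 993 then E_992 else E_993
def eT_991_994 (j : ℕ) : ℕ := bif Nat.blt j 992 then E_991 else (eT_992_994 j)
def eT_989_994 (j : ℕ) : ℕ := bif Nat.blt j 991 then (eT_989_991 j) else (eT_991_994 j)
def eT_984_994 (j : ℕ) : ℕ := bif Nat.blt j 989 then (eT_984_989 j) else (eT_989_994 j)
def eT_994_996 (j : ℕ) : ℕ := bif Nat.blt j 995 then E_994 else E_995
def eT_997_999 (j : ℕ) : ℕ := bif Nat.blt j 998 then E_997 else E_998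
def eT_996_999 (j : ℕ) : ℕ := bif Nat.blt j 997 then E_996 else (eT_997_999 j)
def eT_994_999 (j : ℕ) : ℕ := bif Nat.blt j 996 then (eT_994_996 j) else (eT_996_999 j)
def eT_999_1001 (j : ℕ) : ℕ := bif Nat.blt j 1000 then E_999 else E_1000
def eT_1002_1004 (j : ℕ) : ℕ := bif Nat.blt j 1003 then E_1002 else E_1003
def eT_1001_1004 (j : ℕ) : ℕ := bif Nat.blt j 1002 then E_1001 else (eT_1002_1004 j)
def eT_999_1004 (j : ℕ) : ℕ := bif Nat.blt j 1001 then (eT_999_1001 j) else (eT_1001_1004 j)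
def eT_994_1004 (j : ℕ) : ℕ := bif Nat.blt j 999 then (eT_994_999 j) else (eT_999_1004 j)
def eT_984_1004 (j : ℕ) : ℕ := bif Nat.blt j 994 then (eT_984_994 j) else (eT_994_1004 j)
def eT_965_1004 (j : ℕ) : ℕ := bif Nat.blt j 984 then (eT_965_984 j) else (eT_984_1004 j)
def eT_927_1004 (j : ℕ) : ℕ := bif Nat.blt j 965 then (eT_927_965 j) else (eT_965_1004 j)
def eT_1004_1006 (j : ℕ) : ℕ := bif Nat.blt j 1005 then E_1004 else E_1005
def eT_1006_1008 (j : ℕ) : ℕ := bif Nat.blt j 1007 then E_1006 else E_1007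
def eT_1004_1008 (j : ℕ) : ℕ := bif Nat.blt j 1006 then (eT_1004_1006 j) else (eT_1006_1008 j)
def eT_1008_1010 (j : ℕ) : ℕ := bif Nat.blt j 1009 then E_1008 else E_1009
def eT_1011_1013 (j : ℕ) : ℕ := bif Nat.blt j 1012 then E_1011 else E_1012
def eT_1010_1013 (j : ℕ) : ℕ := bif Nat.blt j 1011 then E_1010 else (eT_1011_1013 j)
def eT_1008_1013 (j : ℕ) : ℕ := bif Nat.blt j 1010 then (eT_1008_1010 j) else (eT_1010_1013 j)
def eT_1004_1013 (j : ℕ) : ℕ := bif Nat.blt j 1008 then (eT_1004_1008 j) else (eT_1008_1013 j)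
def eT_1013_1015 (j : ℕ) : ℕ := bif Nat.blt j 1014 then E_1013 else E_1014
def eT_1016_1018 (j : ℕ) : ℕ := bif Nat.blt j 1017 then E_1016 else E_1017
def eT_1015_1018 (j : ℕ) : ℕ := bif Nat.blt j 1016 then E_1015 else (eT_1016_1018 j)
def eT_1013_1018 (j : ℕ) : ℕ := bif Nat.blt j 1015 then (eT_1013_1015 j) else (eT_1015_1018 j)
def eT_1018_1020 (j : ℕ) : ℕ := bif Nat.blt j 1019 then E_1018 else E_1019
def eT_1021_1023 (j : ℕ) : ℕ := bif Nat.blt j 1022 then E_1021 else E_1022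
def eT_1020_1023 (j : ℕ) : ℕ := bif Nat.blt j 1021 then E_1020 else (eT_1021_1023 j)
def eT_1018_1023 (j : ℕ) : ℕ := bif Nat.blt j 1020 then (eT_1018_1020 j) else (eT_1020_1023 j)
def eT_1013_1023 (j : ℕ) : ℕ := bif Nat.blt j 1018 then (eT_1013_1018 j) else (eT_1018_1023 j)
def eT_1004_1023 (j : ℕ) : ℕ := bif Nat.blt j 1013 then (eT_1004_1013 j) else (eT_1013_1023 j)
def eT_1023_1025 (j : ℕ) : ℕ := bif Nat.blt j 1024 then E_1023 else E_1024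
def eT_1026_1028 (j : ℕ) : ℕ := bif Nat.blt j 1027 then E_1026 else E_1027
def eT_1025_1028 (j : ℕ) : ℕ := bif Nat.blt j 1026 then E_1025 else (eT_1026_1028 j)
def eT_1023_1028 (j : ℕ) : ℕ := bif Nat.blt j 1025 then (eT_1023_1025 j) else (eT_1025_1028 j)
def eT_1028_1030 (j : ℕ) : ℕ := bif Nat.blt j 1029 then E_1028 else E_1029
def eT_1031_1033 (j : ℕ) : ℕ := bif Nat.blt j 1032 then E_1031 else E_1032
def eT_1030_1033 (j : ℕ) : ℕ := bif Nat.blt j 1031 then E_1030 else (eT_1031_1033 j)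
def eT_1028_1033 (j : ℕ) : ℕ := bif Nat.blt j 1030 then (eT_1028_1030 j) else (eT_1030_1033 j)
def eT_1023_1033 (j : ℕ) : ℕ := bif Nat.blt j 1028 then (eT_1023_1028 j) else (eT_1028_1033 j)
def eT_1033_1035 (j : ℕ) : ℕ := bif Nat.blt j 1034 then E_1033 else E_1034
def eT_1036_1038 (j : ℕ) : ℕ := bif Nat.blt j 1037 then E_1036 else E_1037
def eT_1035_1038 (j : ℕ) : ℕ := bif Nat.blt j 1036 then E_1035 else (eT_1036_1038 j)
def eT_1033_1038 (j : ℕ) : ℕ := bif Nat.blt j 1035 then (eT_1033_1035 j) else (eT_1035_1038 j)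
def eT_1038_1040 (j : ℕ) : ℕ := bif Nat.blt j 1039 then E_1038 else E_1039
def eT_1041_1043 (j : ℕ) : ℕ := bif Nat.blt j 1042 then E_1041 else E_1042
def eT_1040_1043 (j : ℕ) : ℕ := bif Nat.blt j 1041 then E_1040 else (eT_1041_1043 j)
def eT_1038_1043 (j : ℕ) : ℕ := bif Nat.blt j 1040 then (eT_1038_1040 j) else (eT_1040_1043 j)
def eT_1033_1043 (j : ℕ) : ℕ := bif Nat.blt j 1038 then (eT_1033_1038 j) else (eT_1038_1043 j)
def eT_1023_1043 (j : ℕ) : ℕ := bif Nat.blt j 1033 then (eT_1023_1033 j) else (eT_1033_1043 j)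
def eT_1004_1043 (j : ℕ) : ℕ := bif Nat.blt j 1023 then (eT_1004_1023 j) else (eT_1023_1043 j)
def eT_1043_1045 (j : ℕ) : ℕ := bif Nat.blt j 1044 then E_1043 else E_1044
def eT_1045_1047 (j : ℕ) : ℕ := bif Nat.blt j 1046 then E_1045 else E_1046
def eT_1043_1047 (j : ℕ) : ℕ := bif Nat.blt j 1045 then (eT_1043_1045 j) else (eT_1045_1047 j)
def eT_1047_1049 (j : ℕ) : ℕ := bif Nat.blt j 1048 then E_1047 else E_1048
def eT_1050_1052 (j : ℕ) : ℕ := bif Nat.blt j 1051 then E_1050 else E_1051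
def eT_1049_1052 (j : ℕ) : ℕ := bif Nat.blt j 1050 then E_1049 else (eT_1050_1052 j)
def eT_1047_1052 (j : ℕ) : ℕ := bif Nat.blt j 1049 then (eT_1047_1049 j) else (eT_1049_1052 j)
def eT_1043_1052 (j : ℕ) : ℕ := bif Nat.blt j 1047 then (eT_1043_1047 j) else (eT_1047_1052 j)
def eT_1052_1054 (j : ℕ) : ℕ := bif Nat.blt j 1053 then E_1052 else E_1053
def eT_1055_1057 (j : ℕ) : ℕ := bif Nat.blt j 1056 then E_1055 else E_1056
def eT_1054_1057 (j : ℕ) : ℕ := bif Nat.blt j 1055 then E_1054 else (eT_1055_1057 j)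
def eT_1052_1057 (j : ℕ) : ℕ := bif Nat.blt j 1054 then (eT_1052_1054 j) else (eT_1054_1057 j)
def eT_1057_1059 (j : ℕ) : ℕ := bif Nat.blt j 1058 then E_1057 else E_1058
def eT_1060_1062 (j : ℕ) : ℕ := bif Nat.blt j 1061 then E_1060 else E_1061
def eT_1059_1062 (j : ℕ) : ℕ := bif Nat.blt j 1060 then E_1059 else (eT_1060_1062 j)
def eT_1057_1062 (j : ℕ) : ℕ := bif Nat.blt j 1059 then (eT_1057_1059 j) else (eT_1059_1062 j)
def eT_1052_1062 (j : ℕ) : ℕ := bif Nat.blt j 1057 then (eT_1052_1057 j) else (eT_1057_1062 j)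
def eT_1043_1062 (j : ℕ) : ℕ := bif Nat.blt j 1052 then (eT_1043_1052 j) else (eT_1052_1062 j)
def eT_1062_1064 (j : ℕ) : ℕ := bif Nat.blt j 1063 then E_1062 else E_1063
def eT_1065_1067 (j : ℕ) : ℕ := bif Nat.blt j 1066 then E_1065 else E_1066
def eT_1064_1067 (j : ℕ) : ℕ := bif Nat.blt j 1065 then E_1064 else (eT_1065_1067 j)
def eT_1062_1067 (j : ℕ) : ℕ := bif Nat.blt j 1064 then (eT_1062_1064 j) else (eT_1064_1067 j)
def eT_1067_1069 (j : ℕ) : ℕ := bif Nat.blt j 1068 then E_1067 else E_1068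
def eT_1070_1072 (j : ℕ) : ℕ := bif Nat.blt j 1071 then E_1070 else E_1071
def eT_1069_1072 (j : ℕ) : ℕ := bif Nat.blt j 1070 then E_1069 else (eT_1070_1072 j)
def eT_1067_1072 (j : ℕ) : ℕ := bif Nat.blt j 1069 then (eT_1067_1069 j) else (eT_1069_1072 j)
def eT_1062_1072 (j : ℕ) : ℕ := bif Nat.blt j 1067 then (eT_1062_1067 j) else (eT_1067_1072 j)
def eT_1072_1074 (j : ℕ) : ℕ := bif Nat.blt j 1073 then E_1072 else E_1073
def eT_1075_1077 (j : ℕ) : ℕ := bif Nat.blt j 1076 then E_1075 else E_1076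
def eT_1074_1077 (j : ℕ) : ℕ := bif Nat.blt j 1075 then E_1074 else (eT_1075_1077 j)
def eT_1072_1077 (j : ℕ) : ℕ := bif Nat.blt j 1074 then (eT_1072_1074 j) else (eT_1074_1077 j)
def eT_1077_1079 (j : ℕ) : ℕ := bif Nat.blt j 1078 then E_1077 else E_1078
def eT_1080_1082 (j : ℕ) : ℕ := bif Nat.blt j 1081 then E_1080 else E_1081
def eT_1079_1082 (j : ℕ) : ℕ := bif Nat.blt j 1080 then E_1079 else (eT_1080_1082 j)
def eT_1077_1082 (j : ℕ) : ℕ := bif Nat.blt j 1079 then (eT_1077_1079 j) else (eT_1079_1082 j)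
def eT_1072_1082 (j : ℕ) : ℕ := bif Nat.blt j 1077 then (eT_1072_1077 j) else (eT_1077_1082 j)
def eT_1062_1082 (j : ℕ) : ℕ := bif Nat.blt j 1072 then (eT_1062_1072 j) else (eT_1072_1082 j)
def eT_1043_1082 (j : ℕ) : ℕ := bif Nat.blt j 1062 then (eT_1043_1062 j) else (eT_1062_1082 j)
def eT_1004_1082 (j : ℕ) : ℕ := bif Nat.blt j 1043 then (eT_1004_1043 j) else (eT_1043_1082 j)
def eT_927_1082 (j : ℕ) : ℕ := bif Nat.blt j 1004 then (eT_927_1004 j) else (eT_1004_1082 j)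
def eT_1082_1084 (j : ℕ) : ℕ := bif Nat.blt j 1083 then E_1082 else E_1083
def eT_1084_1086 (j : ℕ) : ℕ := bif Nat.blt j 1085 then E_1084 else E_1085
def eT_1082_1086 (j : ℕ) : ℕ := bif Nat.blt j 1084 then (eT_1082_1084 j) else (eT_1084_1086 j)
def eT_1086_1088 (j : ℕ) : ℕ := bif Nat.blt j 1087 then E_1086 else E_1087
def eT_1089_1091 (j : ℕ) : ℕ := bif Nat.blt j 1090 then E_1089 else E_1090
def eT_1088_1091 (j : ℕ) : ℕ := bif Nat.blt j 1089 then E_1088 else (eT_1089_1091 j)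
def eT_1086_1091 (j : ℕ) : ℕ := bif Nat.blt j 1088 then (eT_1086_1088 j) else (eT_1088_1091 j)
def eT_1082_1091 (j : ℕ) : ℕ := bif Nat.blt j 1086 then (eT_1082_1086 j) else (eT_1086_1091 j)
def eT_1091_1093 (j : ℕ) : ℕ := bif Nat.blt j 1092 then E_1091 else E_1092
def eT_1094_1096 (j : ℕ) : ℕ := bif Nat.blt j 1095 then E_1094 else E_1095
def eT_1093_1096 (j : ℕ) : ℕ := bif Nat.blt j 1094 then E_1093 else (eT_1094_1096 j)
def eT_1091_1096 (j : ℕ) : ℕ := bif Nat.blt j 1093 then (eT_1091_1093 j) else (eT_1093_1096 j)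
def eT_1096_1098 (j : ℕ) : ℕ := bif Nat.blt j 1097 then E_1096 else E_1097
def eT_1099_1101 (j : ℕ) : ℕ := bif Nat.blt j 1100 then E_1099 else E_1100
def eT_1098_1101 (j : ℕ) : ℕ := bif Nat.blt j 1099 then E_1098 else (eT_1099_1101 j)
def eT_1096_1101 (j : ℕ) : ℕ := bif Nat.blt j 1098 then (eT_1096_1098 j) else (eT_1098_1101 j)
def eT_1091_1101 (j : ℕ) : ℕ := bif Nat.blt j 1096 then (eT_1091_1096 j) else (eT_1096_1101 j)
def eT_1082_1101 (j : ℕ) : ℕ := bif Nat.blt j 1091 then (eT_1082_1091 j) else (eT_1091_1101 j)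
def eT_1101_1103 (j : ℕ) : ℕ := bif Nat.blt j 1102 then E_1101 else E_1102
def eT_1103_1105 (j : ℕ) : ℕ := bif Nat.blt j 1104 then E_1103 else E_1104
def eT_1101_1105 (j : ℕ) : ℕ := bif Nat.blt j 1103 then (eT_1101_1103 j) else (eT_1103_1105 j)
def eT_1105_1107 (j : ℕ) : ℕ := bif Nat.blt j 1106 then E_1105 else E_1106
def eT_1108_1110 (j : ℕ) : ℕ := bif Nat.blt j 1109 then E_1108 else E_1109
def eT_1107_1110 (j : ℕ) : ℕ := bif Nat.blt j 1108 then E_1107 else (eT_1108_1110 j)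
def eT_1105_1110 (j : ℕ) : ℕ := bif Nat.blt j 1107 then (eT_1105_1107 j) else (eT_1107_1110 j)
def eT_1101_1110 (j : ℕ) : ℕ := bif Nat.blt j 1105 then (eT_1101_1105 j) else (eT_1105_1110 j)
def eT_1110_1112 (j : ℕ) : ℕ := bif Nat.blt j 1111 then E_1110 else E_1111
def eT_1113_1115 (j : ℕ) : ℕ := bif Nat.blt j 1114 then E_1113 else E_1114
def eT_1112_1115 (j : ℕ) : ℕ := bif Nat.blt j 1113 then E_1112 else (eT_1113_1115 j)
def eT_1110_1115 (j : ℕ) : ℕ := bif Nat.blt j 1112 then (eT_1110_1112 j) else (eT_1112_1115 j)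
def eT_1115_1117 (j : ℕ) : ℕ := bif Nat.blt j 1116 then E_1115 else E_1116
def eT_1118_1120 (j : ℕ) : ℕ := bif Nat.blt j 1119 then E_1118 else E_1119
def eT_1117_1120 (j : ℕ) : ℕ := bif Nat.blt j 1118 then E_1117 else (eT_1118_1120 j)
def eT_1115_1120 (j : ℕ) : ℕ := bif Nat.blt j 1117 then (eT_1115_1117 j) else (eT_1117_1120 j)
def eT_1110_1120 (j : ℕ) : ℕ := bif Nat.blt j 1115 then (eT_1110_1115 j) else (eT_1115_1120 j)
def eT_1101_1120 (j : ℕ) : ℕ := bif Nat.blt j 1110 then (eT_1101_1110 j) else (eT_1110_1120 j)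
def eT_1082_1120 (j : ℕ) : ℕ := bif Nat.blt j 1101 then (eT_1082_1101 j) else (eT_1101_1120 j)
def eT_1120_1122 (j : ℕ) : ℕ := bif Nat.blt j 1121 then E_1120 else E_1121
def eT_1122_1124 (j : ℕ) : ℕ := bif Nat.blt j 1123 then E_1122 else E_1123
def eT_1120_1124 (j : ℕ) : ℕ := bif Nat.blt j 1122 then (eT_1120_1122 j) else (eT_1122_1124 j)
def eT_1124_1126 (j : ℕ) : ℕ := bif Nat.blt j 1125 then E_1124 else E_1125
def eT_1127_1129 (j : ℕ) : ℕ := bif Nat.blt j 1128 then E_1127 else E_1128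
def eT_1126_1129 (j : ℕ) : ℕ := bif Nat.blt j 1127 then E_1126 else (eT_1127_1129 j)
def eT_1124_1129 (j : ℕ) : ℕ := bif Nat.blt j 1126 then (eT_1124_1126 j) else (eT_1126_1129 j)
def eT_1120_1129 (j : ℕ) : ℕ := bif Nat.blt j 1124 then (eT_1120_1124 j) else (eT_1124_1129 j)
def eT_1129_1131 (j : ℕ) : ℕ := bif Nat.blt j 1130 then E_1129 else E_1130
def eT_1132_1134 (j : ℕ) : ℕ := bif Nat.blt j 1133 then E_1132 else E_1133
def eT_1131_1134 (j : ℕ) : ℕ := bif Nat.blt j 1132 then E_1131 else (eT_1132_1134 j)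
def eT_1129_1134 (j : ℕ) : ℕ := bif Nat.blt j 1131 then (eT_1129_1131 j) else (eT_1131_1134 j)
def eT_1134_1136 (j : ℕ) : ℕ := bif Nat.blt j 1135 then E_1134 else E_1135
def eT_1137_1139 (j : ℕ) : ℕ := bif Nat.blt j 1138 then E_1137 else E_1138
def eT_1136_1139 (j : ℕ) : ℕ := bif Nat.blt j 1137 then E_1136 else (eT_1137_1139 j)
def eT_1134_1139 (j : ℕ) : ℕ := bif Nat.blt j 1136 then (eT_1134_1136 j) else (eT_1136_1139 j)
def eT_1129_1139 (j : ℕ) : ℕ := bif Nat.blt j 1134 then (eT_1129_1134 j) else (eT_1134_1139 j)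
def eT_1120_1139 (j : ℕ) : ℕ := bif Nat.blt j 1129 then (eT_1120_1129 j) else (eT_1129_1139 j)
def eT_1139_1141 (j : ℕ) : ℕ := bif Nat.blt j 1140 then E_1139 else E_1140
def eT_1142_1144 (j : ℕ) : ℕ := bif Nat.blt j 1143 then E_1142 else E_1143
def eT_1141_1144 (j : ℕ) : ℕ := bif Nat.blt j 1142 then E_1141 else (eT_1142_1144 j)
def eT_1139_1144 (j : ℕ) : ℕ := bif Nat.blt j 1141 then (eT_1139_1141 j) else (eT_1141_1144 j)
def eT_1144_1146 (j : ℕ) : ℕ := bif Nat.blt j 1145 then E_1144 else E_1145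
def eT_1147_1149 (j : ℕ) : ℕ := bif Nat.blt j 1148 then E_1147 else E_1148
def eT_1146_1149 (j : ℕ) : ℕ := bif Nat.blt j 1147 then E_1146 else (eT_1147_1149 j)
def eT_1144_1149 (j : ℕ) : ℕ := bif Nat.blt j 1146 then (eT_1144_1146 j) else (eT_1146_1149 j)
def eT_1139_1149 (j : ℕ) : ℕ := bif Nat.blt j 1144 then (eT_1139_1144 j) else (eT_1144_1149 j)
def eT_1149_1151 (j : ℕ) : ℕ := bif Nat.blt j 1150 then E_1149 else E_1150
def eT_1152_1154 (j : ℕ) : ℕ := bif Nat.blt j 1153 then E_1152 else E_1153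
def eT_1151_1154 (j : ℕ) : ℕ := bif Nat.blt j 1152 then E_1151 else (eT_1152_1154 j)
def eT_1149_1154 (j : ℕ) : ℕ := bif Nat.blt j 1151 then (eT_1149_1151 j) else (eT_1151_1154 j)
def eT_1154_1156 (j : ℕ) : ℕ := bif Nat.blt j 1155 then E_1154 else E_1155
def eT_1157_1159 (j : ℕ) : ℕ := bif Nat.blt j 1158 then E_1157 else E_1158
def eT_1156_1159 (j : ℕ) : ℕ := bif Nat.blt j 1157 then E_1156 else (eT_1157_1159 j)
def eT_1154_1159 (j : ℕ) : ℕ := bif Nat.blt j 1156 then (eT_1154_1156 j) else (eT_1156_1159 j)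
def eT_1149_1159 (j : ℕ) : ℕ := bif Nat.blt j 1154 then (eT_1149_1154 j) else (eT_1154_1159 j)
def eT_1139_1159 (j : ℕ) : ℕ := bif Nat.blt j 1149 then (eT_1139_1149 j) else (eT_1149_1159 j)
def eT_1120_1159 (j : ℕ) : ℕ := bif Nat.blt j 1139 then (eT_1120_1139 j) else (eT_1139_1159 j)
def eT_1082_1159 (j : ℕ) : ℕ := bif Nat.blt j 1120 then (eT_1082_1120 j) else (eT_1120_1159 j)
def eT_1159_1161 (j : ℕ) : ℕ := bif Nat.blt j 1160 then E_1159 else E_1160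
def eT_1161_1163 (j : ℕ) : ℕ := bif Nat.blt j 1162 then E_1161 else E_1162
def eT_1159_1163 (j : ℕ) : ℕ := bif Nat.blt j 1161 then (eT_1159_1161 j) else (eT_1161_1163 j)
def eT_1163_1165 (j : ℕ) : ℕ := bif Nat.blt j 1164 then E_1163 else E_1164
def eT_1166_1168 (j : ℕ) : ℕ := bif Nat.blt j 1167 then E_1166 else E_1167
def eT_1165_1168 (j : ℕ) : ℕ := bif Nat.blt j 1166 then E_1165 else (eT_1166_1168 j)
def eT_1163_1168 (j : ℕ) : ℕ := bif Nat.blt j 1165 then (eT_1163_1165 j) else (eT_1165_1168 j)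
def eT_1159_1168 (j : ℕ) : ℕ := bif Nat.blt j 1163 then (eT_1159_1163 j) else (eT_1163_1168 j)
def eT_1168_1170 (j : ℕ) : ℕ := bif Nat.blt j 1169 then E_1168 else E_1169
def eT_1171_1173 (j : ℕ) : ℕ := bif Nat.blt j 1172 then E_1171 else E_1172
def eT_1170_1173 (j : ℕ) : ℕ := bif Nat.blt j 1171 then E_1170 else (eT_1171_1173 j)
def eT_1168_1173 (j : ℕ) : ℕ := bif Nat.blt j 1170 then (eT_1168_1170 j) else (eT_1170_1173 j)
def eT_1173_1175 (j : ℕ) : ℕ := bif Nat.blt j 1174 then E_1173 else E_1174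
def eT_1176_1178 (j : ℕ) : ℕ := bif Nat.blt j 1177 then E_1176 else E_1177
def eT_1175_1178 (j : ℕ) : ℕ := bif Nat.blt j 1176 then E_1175 else (eT_1176_1178 j)
def eT_1173_1178 (j : ℕ) : ℕ := bif Nat.blt j 1175 then (eT_1173_1175 j) else (eT_1175_1178 j)
def eT_1168_1178 (j : ℕ) : ℕ := bif Nat.blt j 1173 then (eT_1168_1173 j) else (eT_1173_1178 j)
def eT_1159_1178 (j : ℕ) : ℕ := bif Nat.blt j 1168 then (eT_1159_1168 j) else (eT_1168_1178 j)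
def eT_1178_1180 (j : ℕ) : ℕ := bif Nat.blt j 1179 then E_1178 else E_1179
def eT_1181_1183 (j : ℕ) : ℕ := bif Nat.blt j 1182 then E_1181 else E_1182
def eT_1180_1183 (j : ℕ) : ℕ := bif Nat.blt j 1181 then E_1180 else (eT_1181_1183 j)
def eT_1178_1183 (j : ℕ) : ℕ := bif Nat.blt j 1180 then (eT_1178_1180 j) else (eT_1180_1183 j)
def eT_1183_1185 (j : ℕ) : ℕ := bif Nat.blt j 1184 then E_1183 else E_1184
def eT_1186_1188 (j : ℕ) : ℕ := bif Nat.blt j 1187 then E_1186 else E_1187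
def eT_1185_1188 (j : ℕ) : ℕ := bif Nat.blt j 1186 then E_1185 else (eT_1186_1188 j)
def eT_1183_1188 (j : ℕ) : ℕ := bif Nat.blt j 1185 then (eT_1183_1185 j) else (eT_1185_1188 j)
def eT_1178_1188 (j : ℕ) : ℕ := bif Nat.blt j 1183 then (eT_1178_1183 j) else (eT_1183_1188 j)
def eT_1188_1190 (j : ℕ) : ℕ := bif Nat.blt j 1189 then E_1188 else E_1189
def eT_1191_1193 (j : ℕ) : ℕ := bif Nat.blt j 1192 then E_1191 else E_1192
def eT_1190_1193 (j : ℕ) : ℕ := bif Nat.blt j 1191 then E_1190 else (eT_1191_1193 j)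
def eT_1188_1193 (j : ℕ) : ℕ := bif Nat.blt j 1190 then (eT_1188_1190 j) else (eT_1190_1193 j)
def eT_1193_1195 (j : ℕ) : ℕ := bif Nat.blt j 1194 then E_1193 else E_1194
def eT_1196_1198 (j : ℕ) : ℕ := bif Nat.blt j 1197 then E_1196 else E_1197
def eT_1195_1198 (j : ℕ) : ℕ := bif Nat.blt j 1196 then E_1195 else (eT_1196_1198 j)
def eT_1193_1198 (j : ℕ) : ℕ := bif Nat.blt j 1195 then (eT_1193_1195 j) else (eT_1195_1198 j)
def eT_1188_1198 (j : ℕ) : ℕ := bif Nat.blt j 1193 then (eT_1188_1193 j) else (eT_1193_1198 j)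
def eT_1178_1198 (j : ℕ) : ℕ := bif Nat.blt j 1188 then (eT_1178_1188 j) else (eT_1188_1198 j)
def eT_1159_1198 (j : ℕ) : ℕ := bif Nat.blt j 1178 then (eT_1159_1178 j) else (eT_1178_1198 j)
def eT_1198_1200 (j : ℕ) : ℕ := bif Nat.blt j 1199 then E_1198 else E_1199
def eT_1200_1202 (j : ℕ) : ℕ := bif Nat.blt j 1201 then E_1200 else E_1201
def eT_1198_1202 (j : ℕ) : ℕ := bif Nat.blt j 1200 then (eT_1198_1200 j) else (eT_1200_1202 j)
def eT_1202_1204 (j : ℕ) : ℕ := bif Nat.blt j 1203 then E_1202 else E_1203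
def eT_1205_1207 (j : ℕ) : ℕ := bif Nat.blt j 1206 then E_1205 else E_1206
def eT_1204_1207 (j : ℕ) : ℕ := bif Nat.blt j 1205 then E_1204 else (eT_1205_1207 j)
def eT_1202_1207 (j : ℕ) : ℕ := bif Nat.blt j 1204 then (eT_1202_1204 j) else (eT_1204_1207 j)
def eT_1198_1207 (j : ℕ) : ℕ := bif Nat.blt j 1202 then (eT_1198_1202 j) else (eT_1202_1207 j)
def eT_1207_1209 (j : ℕ) : ℕ := bif Nat.blt j 1208 then E_1207 else E_1208
def eT_1210_1212 (j : ℕ) : ℕ := bif Nat.blt j 1211 then E_1210 else E_1211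
def eT_1209_1212 (j : ℕ) : ℕ := bif Nat.blt j 1210 then E_1209 else (eT_1210_1212 j)
def eT_1207_1212 (j : ℕ) : ℕ := bif Nat.blt j 1209 then (eT_1207_1209 j) else (eT_1209_1212 j)
def eT_1212_1214 (j : ℕ) : ℕ := bif Nat.blt j 1213 then E_1212 else E_1213
def eT_1215_1217 (j : ℕ) : ℕ := bif Nat.blt j 1216 then E_1215 else E_1216
def eT_1214_1217 (j : ℕ) : ℕ := bif Nat.blt j 1215 then E_1214 else (eT_1215_1217 j)
def eT_1212_1217 (j : ℕ) : ℕ := bif Nat.blt j 1214 then (eT_1212_1214 j) else (eT_1214_1217 j)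
def eT_1207_1217 (j : ℕ) : ℕ := bif Nat.blt j 1212 then (eT_1207_1212 j) else (eT_1212_1217 j)
def eT_1198_1217 (j : ℕ) : ℕ := bif Nat.blt j 1207 then (eT_1198_1207 j) else (eT_1207_1217 j)
def eT_1217_1219 (j : ℕ) : ℕ := bif Nat.blt j 1218 then E_1217 else E_1218
def eT_1220_1222 (j : ℕ) : ℕ := bif Nat.blt j 1221 then E_1220 else E_1221
def eT_1219_1222 (j : ℕ) : ℕ := bif Nat.blt j 1220 then E_1219 else (eT_1220_1222 j)
def eT_1217_1222 (j : ℕ) : ℕ := bif Nat.blt j 1219 then (eT_1217_1219 j) else (eT_1219_1222 j)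
def eT_1222_1224 (j : ℕ) : ℕ := bif Nat.blt j 1223 then E_1222 else E_1223
def eT_1225_1227 (j : ℕ) : ℕ := bif Nat.blt j 1226 then E_1225 else E_1226
def eT_1224_1227 (j : ℕ) : ℕ := bif Nat.blt j 1225 then E_1224 else (eT_1225_1227 j)
def eT_1222_1227 (j : ℕ) : ℕ := bif Nat.blt j 1224 then (eT_1222_1224 j) else (eT_1224_1227 j)
def eT_1217_1227 (j : ℕ) : ℕ := bif Nat.blt j 1222 then (eT_1217_1222 j) else (eT_1222_1227 j)
def eT_1227_1229 (j : ℕ) : ℕ := bif Nat.blt j 1228 then E_1227 else E_1228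
def eT_1230_1232 (j : ℕ) : ℕ := bif Nat.blt j 1231 then E_1230 else E_1231
def eT_1229_1232 (j : ℕ) : ℕ := bif Nat.blt j 1230 then E_1229 else (eT_1230_1232 j)
def eT_1227_1232 (j : ℕ) : ℕ := bif Nat.blt j 1229 then (eT_1227_1229 j) else (eT_1229_1232 j)
def eT_1232_1234 (j : ℕ) : ℕ := bif Nat.blt j 1233 then E_1232 else E_1233
def eT_1235_1237 (j : ℕ) : ℕ := bif Nat.blt j 1236 then E_1235 else E_1236
def eT_1234_1237 (j : ℕ) : ℕ := bif Nat.blt j 1235 then E_1234 else (eT_1235_1237 j)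
def eT_1232_1237 (j : ℕ) : ℕ := bif Nat.blt j 1234 then (eT_1232_1234 j) else (eT_1234_1237 j)
def eT_1227_1237 (j : ℕ) : ℕ := bif Nat.blt j 1232 then (eT_1227_1232 j) else (eT_1232_1237 j)
def eT_1217_1237 (j : ℕ) : ℕ := bif Nat.blt j 1227 then (eT_1217_1227 j) else (eT_1227_1237 j)
def eT_1198_1237 (j : ℕ) : ℕ := bif Nat.blt j 1217 then (eT_1198_1217 j) else (eT_1217_1237 j)
def eT_1159_1237 (j : ℕ) : ℕ := bif Nat.blt j 1198 then (eT_1159_1198 j) else (eT_1198_1237 j)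
def eT_1082_1237 (j : ℕ) : ℕ := bif Nat.blt j 1159 then (eT_1082_1159 j) else (eT_1159_1237 j)
def eT_927_1237 (j : ℕ) : ℕ := bif Nat.blt j 1082 then (eT_927_1082 j) else (eT_1082_1237 j)
def eT_618_1237 (j : ℕ) : ℕ := bif Nat.blt j 927 then (eT_618_927 j) else (eT_927_1237 j)
def eT_0_1237 (j : ℕ) : ℕ := bif Nat.blt j 618 then (eT_0_618 j) else (eT_618_1237 j)
def eT (j : ℕ) : ℕ := (eT_0_1237 j)
noncomputable def chunkF (h : ℕ) : ℕ := Nat.rec (motive := fun _ => ℕ) (eT 0) (fun n _ => eT (Nat.succ n)) h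
noncomputable def Eo (r : ℕ) : ℕ := Nat.land (Nat.shiftRight (chunkF (Nat.shiftRight r 8)) (Nat.mul (Nat.land r 255) 54)) 18014398509481983
def invT : ℕ := 0xffef7cefae78df6d74cf2c70beeb6caeaa689e69648e28607de75c6da6585d65544d24503ce34c2ca2481871440c2040
def inv (y : ℕ) : ℕ := invOf invT y
def Wt_1_3 (j : ℕ) : List ℕ := bif Nat.blt j 2 then [nat_lit 1, nat_lit 5, nat_lit 1, nat_lit 5] else [nat_lit 2, nat_lit 5, nat_lit 2, nat_lit 5]
def Wt_0_3 (j : ℕ) : List ℕ := bif Nat.blt j 1 then [nat_lit 0, nat_lit 5, nat_lit 0, nat_lit 5] else (Wt_1_3 j)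
def Wt_4_6 (j : ℕ) : List ℕ := bif Nat.blt j 5 then [nat_lit 0, nat_lit 2, nat_lit 0, nat_lit 2] else [nat_lit 2, nat_lit 3, nat_lit 2, nat_lit 3]
def Wt_3_6 (j : ℕ) : List ℕ := bif Nat.blt j 4 then [nat_lit 3, nat_lit 5, nat_lit 2, nat_lit 3, nat_lit 5] else (Wt_4_6 j)
def Wt_0_6 (j : ℕ) : List ℕ := bif Nat.blt j 3 then (Wt_0_3 j) else (Wt_3_6 j)
def Wt_7_9 (j : ℕ) : List ℕ := bif Nat.blt j 8 then [nat_lit 1, nat_lit 0, nat_lit 3, nat_lit 1, nat_lit 4, nat_lit 1, nat_lit 3, nat_lit 0, nat_lit 1, nat_lit 0, nat_lit 3, nat_lit 1, nat_lit 4, nat_lit 1, nat_lit 3, nat_lit 0] else [nat_lit 5, nat_lit 4, nat_lit 1, nat_lit 4, nat_lit 2, nat_lit 5, nat_lit 4, nat_lit 1, nat_lit 4, nat_lit 2, nat_lit 5, nat_lit 4, nat_lit 1, nat_lit 4, nat_lit 2]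
def Wt_6_9 (j : ℕ) : List ℕ := bif Nat.blt j 7 then [nat_lit 5, nat_lit 3, nat_lit 5, nat_lit 3, nat_lit 5, nat_lit 3, nat_lit 5, nat_lit 3] else (Wt_7_9 j)
def Wt_10_12 (j : ℕ) : List ℕ := bif Nat.blt j 11 then [nat_lit 3, nat_lit 4, nat_lit 1, nat_lit 2, nat_lit 4, nat_lit 3, nat_lit 1, nat_lit 3, nat_lit 1, nat_lit 3, nat_lit 1, nat_lit 3, nat_lit 4, nat_lit 2, nat_lit 1, nat_lit 4] else [nat_lit 2, nat_lit 0, nat_lit 2, nat_lit 0]
def Wt_9_12 (j : ℕ) : List ℕ := bif Nat.blt j 10 then [nat_lit 5, nat_lit 3, nat_lit 5, nat_lit 2, nat_lit 3] else (Wt_10_12 j)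
def Wt_6_12 (j : ℕ) : List ℕ := bif Nat.blt j 9 then (Wt_6_9 j) else (Wt_9_12 j)
def Wt_0_12 (j : ℕ) : List ℕ := bif Nat.blt j 6 then (Wt_0_6 j) else (Wt_6_12 j)
def Wt_13_15 (j : ℕ) : List ℕ := bif Nat.blt j 14 then [nat_lit 5, nat_lit 1, nat_lit 5, nat_lit 1] else [nat_lit 3, nat_lit 4, nat_lit 1, nat_lit 0, nat_lit 4, nat_lit 1, nat_lit 0, nat_lit 2, nat_lit 1, nat_lit 0, nat_lit 1, nat_lit 3, nat_lit 4, nat_lit 0, nat_lit 1, nat_lit 4, nat_lit 1]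
def Wt_12_15 (j : ℕ) : List ℕ := bif Nat.blt j 13 then [nat_lit 5, nat_lit 0, nat_lit 5, nat_lit 0] else (Wt_13_15 j)
def Wt_16_18 (j : ℕ) : List ℕ := bif Nat.blt j 17 then [nat_lit 0, nat_lit 1, nat_lit 2, nat_lit 1, nat_lit 0, nat_lit 2, nat_lit 0, nat_lit 1, nat_lit 2, nat_lit 1, nat_lit 0, nat_lit 2] else [nat_lit 3, nat_lit 2, nat_lit 3, nat_lit 2]
def Wt_15_18 (j : ℕ) : List ℕ := bif Nat.blt j 16 then [nat_lit 1, nat_lit 2, nat_lit 1, nat_lit 2, nat_lit 1, nat_lit 2, nat_lit 1, nat_lit 2] else (Wt_16_18 j)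
def Wt_12_18 (j : ℕ) : List ℕ := bif Nat.blt j 15 then (Wt_12_15 j) else (Wt_15_18 j)
def Wt_19_21 (j : ℕ) : List ℕ := bif Nat.blt j 20 then [nat_lit 2, nat_lit 4, nat_lit 3, nat_lit 4, nat_lit 2, nat_lit 4, nat_lit 1, nat_lit 2, nat_lit 1, nat_lit 3, nat_lit 0, nat_lit 3, nat_lit 4, nat_lit 3, nat_lit 4, nat_lit 2, nat_lit 4] else [nat_lit 63, nat_lit 1, nat_lit 2, nat_lit 1, nat_lit 4, nat_lit 2, nat_lit 4, nat_lit 3, nat_lit 4, nat_lit 2, nat_lit 4, nat_lit 2, nat_lit 4, nat_lit 3, nat_lit 4, nat_lit 3, nat_lit 0, nat_lit 3]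
def Wt_18_21 (j : ℕ) : List ℕ := bif Nat.blt j 19 then [nat_lit 2, nat_lit 4, nat_lit 2, nat_lit 4, nat_lit 2, nat_lit 4, nat_lit 2, nat_lit 4, nat_lit 2, nat_lit 4, nat_lit 2, nat_lit 4] else (Wt_19_21 j)
def Wt_22_24 (j : ℕ) : List ℕ := bif Nat.blt j 23 then [nat_lit 63, nat_lit 3, nat_lit 63, nat_lit 3] else [nat_lit 63, nat_lit 5, nat_lit 63, nat_lit 5]
def Wt_21_24 (j : ℕ) : List ℕ := bif Nat.blt j 22 then [nat_lit 63, nat_lit 2, nat_lit 63, nat_lit 2] else (Wt_22_24 j)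
def Wt_18_24 (j : ℕ) : List ℕ := bif Nat.blt j 21 then (Wt_18_21 j) else (Wt_21_24 j)
def Wt_12_24 (j : ℕ) : List ℕ := bif Nat.blt j 18 then (Wt_12_18 j) else (Wt_18_24 j)
def Wt_0_24 (j : ℕ) : List ℕ := bif Nat.blt j 12 then (Wt_0_12 j) else (Wt_12_24 j)
def Wt_25_27 (j : ℕ) : List ℕ := bif Nat.blt j 26 then [nat_lit 2, nat_lit 2, nat_lit 63] else [nat_lit 3, nat_lit 3, nat_lit 63]
def Wt_24_27 (j : ℕ) : List ℕ := bif Nat.blt j 25 then [nat_lit 63, nat_lit 1, nat_lit 63, nat_lit 1] else (Wt_25_27 j)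
def Wt_28_30 (j : ℕ) : List ℕ := bif Nat.blt j 29 then [nat_lit 2, nat_lit 0, nat_lit 1, nat_lit 2, nat_lit 1, nat_lit 0, nat_lit 2, nat_lit 0, nat_lit 1, nat_lit 2, nat_lit 1, nat_lit 0] else [nat_lit 3, nat_lit 4, nat_lit 2, nat_lit 4, nat_lit 1, nat_lit 2, nat_lit 1, nat_lit 3, nat_lit 0, nat_lit 3, nat_lit 4, nat_lit 3, nat_lit 4, nat_lit 2, nat_lit 4, nat_lit 2, nat_lit 4]
def Wt_27_30 (j : ℕ) : List ℕ := bif Nat.blt j 28 then [nat_lit 1, nat_lit 1, nat_lit 63] else (Wt_28_30 j)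
def Wt_24_30 (j : ℕ) : List ℕ := bif Nat.blt j 27 then (Wt_24_27 j) else (Wt_27_30 j)
def Wt_31_33 (j : ℕ) : List ℕ := bif Nat.blt j 32 then [nat_lit 4, nat_lit 3, nat_lit 2, nat_lit 4, nat_lit 3, nat_lit 4, nat_lit 0, nat_lit 1, nat_lit 3, nat_lit 2, nat_lit 1, nat_lit 4, nat_lit 0, nat_lit 1, nat_lit 0, nat_lit 4, nat_lit 1] else [nat_lit 4, nat_lit 2, nat_lit 0, nat_lit 4, nat_lit 0, nat_lit 2, nat_lit 4, nat_lit 0, nat_lit 2, nat_lit 4, nat_lit 3, nat_lit 2, nat_lit 3, nat_lit 0, nat_lit 4, nat_lit 2, nat_lit 0]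
def Wt_30_33 (j : ℕ) : List ℕ := bif Nat.blt j 31 then [nat_lit 5, nat_lit 2, nat_lit 5, nat_lit 2] else (Wt_31_33 j)
def Wt_34_36 (j : ℕ) : List ℕ := bif Nat.blt j 35 then [nat_lit 3, nat_lit 2, nat_lit 0, nat_lit 1, nat_lit 2, nat_lit 0, nat_lit 3, nat_lit 2, nat_lit 0, nat_lit 1, nat_lit 2, nat_lit 0, nat_lit 3, nat_lit 2, nat_lit 0, nat_lit 1, nat_lit 2, nat_lit 0] else [nat_lit 5, nat_lit 4, nat_lit 1, nat_lit 2, nat_lit 1, nat_lit 4, nat_lit 1, nat_lit 5, nat_lit 4, nat_lit 1, nat_lit 2, nat_lit 1, nat_lit 4, nat_lit 1, nat_lit 5, nat_lit 4, nat_lit 1, nat_lit 2, nat_lit 1, nat_lit 4, nat_lit 1]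
def Wt_33_36 (j : ℕ) : List ℕ := bif Nat.blt j 34 then [nat_lit 2, nat_lit 3, nat_lit 4, nat_lit 2, nat_lit 0, nat_lit 4, nat_lit 2, nat_lit 0, nat_lit 4, nat_lit 0, nat_lit 2, nat_lit 4, nat_lit 0, nat_lit 2, nat_lit 4, nat_lit 0, nat_lit 3] else (Wt_34_36 j)
def Wt_30_36 (j : ℕ) : List ℕ := bif Nat.blt j 33 then (Wt_30_33 j) else (Wt_33_36 j)
def Wt_24_36 (j : ℕ) : List ℕ := bif Nat.blt j 30 then (Wt_24_30 j) else (Wt_30_36 j)
def Wt_37_39 (j : ℕ) : List ℕ := bif Nat.blt j 38 then [nat_lit 1, nat_lit 4, nat_lit 0, nat_lit 2, nat_lit 4, nat_lit 1, nat_lit 4, nat_lit 2, nat_lit 0, nat_lit 4, nat_lit 1, nat_lit 4, nat_lit 2, nat_lit 0, nat_lit 4] else [nat_lit 4, nat_lit 2, nat_lit 1, nat_lit 4, nat_lit 1, nat_lit 4, nat_lit 1, nat_lit 2, nat_lit 4, nat_lit 1, nat_lit 4, nat_lit 2, nat_lit 0, nat_lit 2, nat_lit 4, nat_lit 1]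
def Wt_36_39 (j : ℕ) : List ℕ := bif Nat.blt j 37 then [nat_lit 0, nat_lit 4, nat_lit 1, nat_lit 4, nat_lit 2, nat_lit 1, nat_lit 4, nat_lit 1, nat_lit 4, nat_lit 3, nat_lit 2, nat_lit 0, nat_lit 3, nat_lit 1, nat_lit 4, nat_lit 1, nat_lit 4] else (Wt_37_39 j)
def Wt_40_42 (j : ℕ) : List ℕ := bif Nat.blt j 41 then [nat_lit 63, nat_lit 0, nat_lit 3, nat_lit 1, nat_lit 4, nat_lit 1, nat_lit 4, nat_lit 0, nat_lit 4, nat_lit 1, nat_lit 4, nat_lit 2, nat_lit 1, nat_lit 4, nat_lit 1, nat_lit 4, nat_lit 3, nat_lit 2] else [nat_lit 5, nat_lit 5, nat_lit 63]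
def Wt_39_42 (j : ℕ) : List ℕ := bif Nat.blt j 40 then [nat_lit 1, nat_lit 4, nat_lit 1, nat_lit 2, nat_lit 4, nat_lit 1, nat_lit 4, nat_lit 2, nat_lit 0, nat_lit 2, nat_lit 4, nat_lit 1, nat_lit 4, nat_lit 2, nat_lit 1, nat_lit 4] else (Wt_40_42 j)
def Wt_36_42 (j : ℕ) : List ℕ := bif Nat.blt j 39 then (Wt_36_39 j) else (Wt_39_42 j)
def Wt_43_45 (j : ℕ) : List ℕ := bif Nat.blt j 44 then [nat_lit 1, nat_lit 2, nat_lit 3, nat_lit 0, nat_lit 3, nat_lit 1, nat_lit 2, nat_lit 3, nat_lit 0, nat_lit 3, nat_lit 1, nat_lit 2, nat_lit 3, nat_lit 0, nat_lit 3, nat_lit 1, nat_lit 2, nat_lit 3, nat_lit 0, nat_lit 3] else [nat_lit 1, nat_lit 2, nat_lit 4, nat_lit 1, nat_lit 4, nat_lit 2, nat_lit 0, nat_lit 2, nat_lit 4, nat_lit 1, nat_lit 4, nat_lit 2, nat_lit 1, nat_lit 4, nat_lit 1, nat_lit 4]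
def Wt_42_45 (j : ℕ) : List ℕ := bif Nat.blt j 43 then [nat_lit 3, nat_lit 1, nat_lit 4, nat_lit 1, nat_lit 4, nat_lit 0, nat_lit 4, nat_lit 1, nat_lit 4, nat_lit 2, nat_lit 1, nat_lit 4, nat_lit 1, nat_lit 4, nat_lit 3, nat_lit 2, nat_lit 0] else (Wt_43_45 j)
def Wt_46_48 (j : ℕ) : List ℕ := bif Nat.blt j 47 then [nat_lit 63, nat_lit 0, nat_lit 63, nat_lit 0] else [nat_lit 0, nat_lit 0, nat_lit 63]
def Wt_45_48 (j : ℕ) : List ℕ := bif Nat.blt j 46 then [nat_lit 63, nat_lit 4, nat_lit 1, nat_lit 4, nat_lit 1, nat_lit 2, nat_lit 4, nat_lit 1, nat_lit 4, nat_lit 0, nat_lit 4, nat_lit 1, nat_lit 4, nat_lit 1, nat_lit 3, nat_lit 0, nat_lit 2, nat_lit 3] else (Wt_46_48 j)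
def Wt_42_48 (j : ℕ) : List ℕ := bif Nat.blt j 45 then (Wt_42_45 j) else (Wt_45_48 j)
def Wt_36_48 (j : ℕ) : List ℕ := bif Nat.blt j 42 then (Wt_36_42 j) else (Wt_42_48 j)
def Wt_24_48 (j : ℕ) : List ℕ := bif Nat.blt j 36 then (Wt_24_36 j) else (Wt_36_48 j)
def Wt_0_48 (j : ℕ) : List ℕ := bif Nat.blt j 24 then (Wt_0_24 j) else (Wt_24_48 j)
def Wt_49_51 (j : ℕ) : List ℕ := bif Nat.blt j 50 then [nat_lit 1, nat_lit 4, nat_lit 2, nat_lit 4, nat_lit 3, nat_lit 2, nat_lit 4, nat_lit 1, nat_lit 3, nat_lit 0, nat_lit 3, nat_lit 4, nat_lit 2, nat_lit 3, nat_lit 4, nat_lit 2, nat_lit 4] else [nat_lit 3, nat_lit 1, nat_lit 2, nat_lit 1, nat_lit 4, nat_lit 2, nat_lit 4, nat_lit 3, nat_lit 4, nat_lit 2, nat_lit 4, nat_lit 2, nat_lit 4, nat_lit 3, nat_lit 4, nat_lit 3, nat_lit 0]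
def Wt_48_51 (j : ℕ) : List ℕ := bif Nat.blt j 49 then [nat_lit 2, nat_lit 1, nat_lit 0, nat_lit 2, nat_lit 0, nat_lit 1, nat_lit 2, nat_lit 1, nat_lit 0, nat_lit 2, nat_lit 0, nat_lit 1] else (Wt_49_51 j)
def Wt_52_54 (j : ℕ) : List ℕ := bif Nat.blt j 53 then [nat_lit 1, nat_lit 2, nat_lit 1, nat_lit 4, nat_lit 2, nat_lit 4, nat_lit 3, nat_lit 4, nat_lit 2, nat_lit 4, nat_lit 2, nat_lit 4, nat_lit 3, nat_lit 4, nat_lit 3, nat_lit 0, nat_lit 3] else [nat_lit 3, nat_lit 1, nat_lit 2, nat_lit 1, nat_lit 4, nat_lit 3, nat_lit 4, nat_lit 2, nat_lit 4, nat_lit 2, nat_lit 4, nat_lit 3, nat_lit 4, nat_lit 2, nat_lit 4, nat_lit 3, nat_lit 0]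
def Wt_51_54 (j : ℕ) : List ℕ := bif Nat.blt j 52 then [nat_lit 2, nat_lit 4, nat_lit 2, nat_lit 4, nat_lit 3, nat_lit 4, nat_lit 1, nat_lit 2, nat_lit 1, nat_lit 3, nat_lit 0, nat_lit 3, nat_lit 4, nat_lit 2, nat_lit 4, nat_lit 3, nat_lit 4] else (Wt_52_54 j)
def Wt_48_54 (j : ℕ) : List ℕ := bif Nat.blt j 51 then (Wt_48_51 j) else (Wt_51_54 j)
def Wt_55_57 (j : ℕ) : List ℕ := bif Nat.blt j 56 then [nat_lit 3, nat_lit 4, nat_lit 3, nat_lit 4, nat_lit 3, nat_lit 4, nat_lit 3, nat_lit 4, nat_lit 3, nat_lit 4, nat_lit 3, nat_lit 4, nat_lit 3, nat_lit 4, nat_lit 3, nat_lit 4] else [nat_lit 1, nat_lit 4, nat_lit 3, nat_lit 4, nat_lit 3, nat_lit 4, nat_lit 3, nat_lit 4, nat_lit 3, nat_lit 1, nat_lit 4, nat_lit 1, nat_lit 4, nat_lit 1, nat_lit 4]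
def Wt_54_57 (j : ℕ) : List ℕ := bif Nat.blt j 55 then [nat_lit 4, nat_lit 1, nat_lit 4, nat_lit 1, nat_lit 4, nat_lit 1, nat_lit 4, nat_lit 1, nat_lit 3, nat_lit 4, nat_lit 3, nat_lit 4, nat_lit 3, nat_lit 4, nat_lit 3] else (Wt_55_57 j)
def Wt_58_60 (j : ℕ) : List ℕ := bif Nat.blt j 59 then [nat_lit 0, nat_lit 2, nat_lit 1, nat_lit 0, nat_lit 1, nat_lit 2, nat_lit 0, nat_lit 2, nat_lit 1, nat_lit 0, nat_lit 1, nat_lit 2, nat_lit 0, nat_lit 2, nat_lit 1, nat_lit 0, nat_lit 1, nat_lit 2] else [nat_lit 2, nat_lit 1, nat_lit 0, nat_lit 1, nat_lit 2, nat_lit 1, nat_lit 0, nat_lit 1, nat_lit 2, nat_lit 1, nat_lit 0, nat_lit 1]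
def Wt_57_60 (j : ℕ) : List ℕ := bif Nat.blt j 58 then [nat_lit 0, nat_lit 1, nat_lit 0, nat_lit 1, nat_lit 0, nat_lit 1, nat_lit 0, nat_lit 1, nat_lit 0, nat_lit 1, nat_lit 0, nat_lit 1] else (Wt_58_60 j)
def Wt_54_60 (j : ℕ) : List ℕ := bif Nat.blt j 57 then (Wt_54_57 j) else (Wt_57_60 j)
def Wt_48_60 (j : ℕ) : List ℕ := bif Nat.blt j 54 then (Wt_48_54 j) else (Wt_54_60 j)
def Wt_61_63 (j : ℕ) : List ℕ := bif Nat.blt j 62 then [nat_lit 2, nat_lit 3, nat_lit 0, nat_lit 4, nat_lit 2, nat_lit 0, nat_lit 4, nat_lit 2, nat_lit 0, nat_lit 4, nat_lit 0, nat_lit 2, nat_lit 4, nat_lit 0, nat_lit 2, nat_lit 4, nat_lit 3] else [nat_lit 2, nat_lit 4, nat_lit 1, nat_lit 4, nat_lit 2, nat_lit 0, nat_lit 4, nat_lit 1, nat_lit 4, nat_lit 2, nat_lit 0, nat_lit 4, nat_lit 1, nat_lit 4, nat_lit 0]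
def Wt_60_63 (j : ℕ) : List ℕ := bif Nat.blt j 61 then [nat_lit 1, nat_lit 0, nat_lit 4, nat_lit 1, nat_lit 2, nat_lit 1, nat_lit 4, nat_lit 1, nat_lit 2, nat_lit 1, nat_lit 4, nat_lit 0, nat_lit 1, nat_lit 4, nat_lit 3, nat_lit 2, nat_lit 4] else (Wt_61_63 j)
def Wt_64_66 (j : ℕ) : List ℕ := bif Nat.blt j 65 then [nat_lit 3, nat_lit 4, nat_lit 3, nat_lit 4, nat_lit 3, nat_lit 4, nat_lit 3, nat_lit 1, nat_lit 4, nat_lit 1, nat_lit 4, nat_lit 1, nat_lit 4, nat_lit 1, nat_lit 4] else [nat_lit 1, nat_lit 2, nat_lit 4, nat_lit 1, nat_lit 3, nat_lit 4, nat_lit 0, nat_lit 4, nat_lit 2, nat_lit 0, nat_lit 4, nat_lit 0, nat_lit 4, nat_lit 3, nat_lit 1, nat_lit 4, nat_lit 2]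
def Wt_63_66 (j : ℕ) : List ℕ := bif Nat.blt j 64 then [nat_lit 4, nat_lit 3, nat_lit 4, nat_lit 2, nat_lit 3, nat_lit 4, nat_lit 3, nat_lit 4, nat_lit 0, nat_lit 3, nat_lit 4, nat_lit 0, nat_lit 3, nat_lit 0, nat_lit 4, nat_lit 3, nat_lit 0] else (Wt_64_66 j)
def Wt_60_66 (j : ℕ) : List ℕ := bif Nat.blt j 63 then (Wt_60_63 j) else (Wt_63_66 j)
def Wt_67_69 (j : ℕ) : List ℕ := bif Nat.blt j 68 then [nat_lit 4, nat_lit 1, nat_lit 0, nat_lit 1, nat_lit 0, nat_lit 5, nat_lit 1, nat_lit 4, nat_lit 1, nat_lit 0, nat_lit 1, nat_lit 0, nat_lit 5, nat_lit 1, nat_lit 4, nat_lit 1, nat_lit 0, nat_lit 1, nat_lit 0, nat_lit 5, nat_lit 1, nat_lit 4, nat_lit 1, nat_lit 0, nat_lit 1, nat_lit 0, nat_lit 5, nat_lit 1] else [nat_lit 1, nat_lit 2, nat_lit 1, nat_lit 0, nat_lit 1, nat_lit 2, nat_lit 1, nat_lit 0, nat_lit 1, nat_lit 2, nat_lit 1, nat_lit 0]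
def Wt_66_69 (j : ℕ) : List ℕ := bif Nat.blt j 67 then [nat_lit 1, nat_lit 2, nat_lit 4, nat_lit 0, nat_lit 4, nat_lit 3, nat_lit 4, nat_lit 2, nat_lit 5, nat_lit 1, nat_lit 2, nat_lit 4, nat_lit 0, nat_lit 4, nat_lit 3, nat_lit 4, nat_lit 2, nat_lit 5, nat_lit 1, nat_lit 2, nat_lit 4, nat_lit 0, nat_lit 4, nat_lit 3, nat_lit 4, nat_lit 2, nat_lit 5] else (Wt_67_69 j)
def Wt_70_72 (j : ℕ) : List ℕ := bif Nat.blt j 71 then [nat_lit 4, nat_lit 1, nat_lit 2, nat_lit 1, nat_lit 4, nat_lit 0, nat_lit 1, nat_lit 4, nat_lit 3, nat_lit 2, nat_lit 4, nat_lit 1, nat_lit 0, nat_lit 4, nat_lit 1, nat_lit 2, nat_lit 1] else [nat_lit 1, nat_lit 2, nat_lit 0, nat_lit 1, nat_lit 4, nat_lit 0, nat_lit 1, nat_lit 4, nat_lit 3, nat_lit 1, nat_lit 4, nat_lit 1, nat_lit 0, nat_lit 4, nat_lit 3, nat_lit 1, nat_lit 0]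
def Wt_69_72 (j : ℕ) : List ℕ := bif Nat.blt j 70 then [nat_lit 63, nat_lit 3, nat_lit 0, nat_lit 1, nat_lit 3, nat_lit 2, nat_lit 3, nat_lit 0, nat_lit 3, nat_lit 0, nat_lit 1, nat_lit 3, nat_lit 2, nat_lit 3, nat_lit 0, nat_lit 3, nat_lit 0, nat_lit 1, nat_lit 3, nat_lit 2, nat_lit 3, nat_lit 0] else (Wt_70_72 j)
def Wt_66_72 (j : ℕ) : List ℕ := bif Nat.blt j 69 then (Wt_66_69 j) else (Wt_69_72 j)
def Wt_60_72 (j : ℕ) : List ℕ := bif Nat.blt j 66 then (Wt_60_66 j) else (Wt_66_72 j)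
def Wt_48_72 (j : ℕ) : List ℕ := bif Nat.blt j 60 then (Wt_48_60 j) else (Wt_60_72 j)
def Wt_73_75 (j : ℕ) : List ℕ := bif Nat.blt j 74 then [nat_lit 3, nat_lit 4, nat_lit 2, nat_lit 3, nat_lit 4, nat_lit 1, nat_lit 4, nat_lit 0, nat_lit 1, nat_lit 0, nat_lit 4, nat_lit 1, nat_lit 2, nat_lit 3, nat_lit 1, nat_lit 0, nat_lit 4] else [nat_lit 0, nat_lit 2, nat_lit 4, nat_lit 1, nat_lit 4, nat_lit 2, nat_lit 1, nat_lit 4, nat_lit 1, nat_lit 4, nat_lit 1, nat_lit 2, nat_lit 4, nat_lit 1, nat_lit 4, nat_lit 2]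
def Wt_72_75 (j : ℕ) : List ℕ := bif Nat.blt j 73 then [nat_lit 3, nat_lit 5, nat_lit 3, nat_lit 5, nat_lit 3, nat_lit 5, nat_lit 3, nat_lit 5] else (Wt_73_75 j)
def Wt_76_78 (j : ℕ) : List ℕ := bif Nat.blt j 77 then [nat_lit 1, nat_lit 0, nat_lit 1, nat_lit 0, nat_lit 1, nat_lit 0, nat_lit 1, nat_lit 0, nat_lit 1, nat_lit 0, nat_lit 1, nat_lit 0] else [nat_lit 2, nat_lit 4, nat_lit 0, nat_lit 4, nat_lit 3, nat_lit 1, nat_lit 4, nat_lit 2, nat_lit 1, nat_lit 2, nat_lit 4, nat_lit 1, nat_lit 3, nat_lit 4, nat_lit 0, nat_lit 4, nat_lit 0]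
def Wt_75_78 (j : ℕ) : List ℕ := bif Nat.blt j 76 then [nat_lit 1, nat_lit 3, nat_lit 1, nat_lit 3, nat_lit 4, nat_lit 2, nat_lit 1, nat_lit 4, nat_lit 3, nat_lit 4, nat_lit 1, nat_lit 2, nat_lit 4, nat_lit 3, nat_lit 1, nat_lit 3] else (Wt_76_78 j)
def Wt_72_78 (j : ℕ) : List ℕ := bif Nat.blt j 75 then (Wt_72_75 j) else (Wt_75_78 j)
def Wt_79_81 (j : ℕ) : List ℕ := bif Nat.blt j 80 then [nat_lit 1, nat_lit 4, nat_lit 1, nat_lit 4, nat_lit 1, nat_lit 4, nat_lit 3, nat_lit 4, nat_lit 3, nat_lit 4, nat_lit 3, nat_lit 4, nat_lit 3, nat_lit 1, nat_lit 4] else [nat_lit 4, nat_lit 3, nat_lit 4, nat_lit 3, nat_lit 4, nat_lit 3, nat_lit 1, nat_lit 4, nat_lit 1, nat_lit 4, nat_lit 1, nat_lit 4, nat_lit 1, nat_lit 4, nat_lit 3]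
def Wt_78_81 (j : ℕ) : List ℕ := bif Nat.blt j 79 then [nat_lit 4, nat_lit 3, nat_lit 1, nat_lit 4, nat_lit 1, nat_lit 4, nat_lit 1, nat_lit 4, nat_lit 1, nat_lit 4, nat_lit 3, nat_lit 4, nat_lit 3, nat_lit 4, nat_lit 3] else (Wt_79_81 j)
def Wt_82_84 (j : ℕ) : List ℕ := bif Nat.blt j 83 then [nat_lit 4, nat_lit 2, nat_lit 4, nat_lit 1, nat_lit 4, nat_lit 2, nat_lit 4, nat_lit 3, nat_lit 2, nat_lit 4, nat_lit 1, nat_lit 3, nat_lit 0, nat_lit 3, nat_lit 4, nat_lit 2, nat_lit 3] else [nat_lit 3, nat_lit 0, nat_lit 2, nat_lit 1, nat_lit 0, nat_lit 2, nat_lit 3, nat_lit 0, nat_lit 2, nat_lit 1, nat_lit 0, nat_lit 2, nat_lit 3, nat_lit 0, nat_lit 2, nat_lit 1, nat_lit 0, nat_lit 2]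
def Wt_81_84 (j : ℕ) : List ℕ := bif Nat.blt j 82 then [nat_lit 4, nat_lit 0, nat_lit 4, nat_lit 2, nat_lit 0, nat_lit 4, nat_lit 0, nat_lit 4, nat_lit 3, nat_lit 1, nat_lit 4, nat_lit 2, nat_lit 1, nat_lit 2, nat_lit 4, nat_lit 1, nat_lit 3] else (Wt_82_84 j)
def Wt_78_84 (j : ℕ) : List ℕ := bif Nat.blt j 81 then (Wt_78_81 j) else (Wt_81_84 j)
def Wt_72_84 (j : ℕ) : List ℕ := bif Nat.blt j 78 then (Wt_72_78 j) else (Wt_78_84 j)
def Wt_85_87 (j : ℕ) : List ℕ := bif Nat.blt j 86 then [nat_lit 1, nat_lit 0, nat_lit 2, nat_lit 0, nat_lit 1, nat_lit 2, nat_lit 1, nat_lit 0, nat_lit 2, nat_lit 0, nat_lit 1, nat_lit 2] else [nat_lit 2, nat_lit 4, nat_lit 1, nat_lit 3, nat_lit 0, nat_lit 3, nat_lit 4, nat_lit 2, nat_lit 3, nat_lit 4, nat_lit 2, nat_lit 4, nat_lit 1, nat_lit 4, nat_lit 2, nat_lit 4, nat_lit 3]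
def Wt_84_87 (j : ℕ) : List ℕ := bif Nat.blt j 85 then [nat_lit 0, nat_lit 2, nat_lit 1, nat_lit 0, nat_lit 2, nat_lit 3, nat_lit 0, nat_lit 2, nat_lit 1, nat_lit 0, nat_lit 2, nat_lit 3, nat_lit 0, nat_lit 2, nat_lit 1, nat_lit 0, nat_lit 2, nat_lit 3] else (Wt_85_87 j)
def Wt_88_90 (j : ℕ) : List ℕ := bif Nat.blt j 89 then [nat_lit 1, nat_lit 2, nat_lit 1, nat_lit 4, nat_lit 1, nat_lit 2, nat_lit 1, nat_lit 4, nat_lit 0, nat_lit 1, nat_lit 4, nat_lit 3, nat_lit 2, nat_lit 4, nat_lit 1, nat_lit 0, nat_lit 4] else [nat_lit 2, nat_lit 4, nat_lit 3, nat_lit 2, nat_lit 4, nat_lit 1, nat_lit 3, nat_lit 0, nat_lit 3, nat_lit 4, nat_lit 2, nat_lit 3, nat_lit 4, nat_lit 2, nat_lit 4, nat_lit 1, nat_lit 4]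
def Wt_87_90 (j : ℕ) : List ℕ := bif Nat.blt j 88 then [nat_lit 0, nat_lit 3, nat_lit 1, nat_lit 4, nat_lit 2, nat_lit 3, nat_lit 4, nat_lit 2, nat_lit 4, nat_lit 1, nat_lit 4, nat_lit 2, nat_lit 4, nat_lit 3, nat_lit 2, nat_lit 4, nat_lit 3] else (Wt_88_90 j)
def Wt_84_90 (j : ℕ) : List ℕ := bif Nat.blt j 87 then (Wt_84_87 j) else (Wt_87_90 j)
def Wt_91_93 (j : ℕ) : List ℕ := bif Nat.blt j 92 then [nat_lit 3, nat_lit 0, nat_lit 3, nat_lit 1, nat_lit 4, nat_lit 2, nat_lit 3, nat_lit 4, nat_lit 2, nat_lit 4, nat_lit 1, nat_lit 4, nat_lit 2, nat_lit 4, nat_lit 3, nat_lit 2, nat_lit 4] else [nat_lit 2, nat_lit 4, nat_lit 3, nat_lit 4, nat_lit 2, nat_lit 4, nat_lit 1, nat_lit 4, nat_lit 1, nat_lit 2, nat_lit 4, nat_lit 2, nat_lit 4, nat_lit 2, nat_lit 1, nat_lit 4, nat_lit 1]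
def Wt_90_93 (j : ℕ) : List ℕ := bif Nat.blt j 91 then [nat_lit 4, nat_lit 1, nat_lit 3, nat_lit 0, nat_lit 3, nat_lit 4, nat_lit 2, nat_lit 3, nat_lit 4, nat_lit 2, nat_lit 4, nat_lit 1, nat_lit 4, nat_lit 2, nat_lit 4, nat_lit 3, nat_lit 2] else (Wt_91_93 j)
def Wt_93_95 (j : ℕ) : List ℕ := bif Nat.blt j 94 then [nat_lit 4, nat_lit 2, nat_lit 4, nat_lit 3, nat_lit 4, nat_lit 2, nat_lit 1, nat_lit 4, nat_lit 1, nat_lit 2, nat_lit 4, nat_lit 2, nat_lit 4, nat_lit 2, nat_lit 1, nat_lit 4, nat_lit 1] else [nat_lit 1, nat_lit 3, nat_lit 0, nat_lit 3, nat_lit 4, nat_lit 3, nat_lit 4, nat_lit 2, nat_lit 4, nat_lit 2, nat_lit 4, nat_lit 3, nat_lit 4, nat_lit 2, nat_lit 4, nat_lit 1, nat_lit 2]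
def Wt_95_97 (j : ℕ) : List ℕ := bif Nat.blt j 96 then [nat_lit 0, nat_lit 2, nat_lit 3, nat_lit 0, nat_lit 2, nat_lit 1, nat_lit 0, nat_lit 2, nat_lit 3, nat_lit 0, nat_lit 2, nat_lit 1, nat_lit 0, nat_lit 2, nat_lit 3, nat_lit 0, nat_lit 2, nat_lit 1] else [nat_lit 3, nat_lit 4, nat_lit 3, nat_lit 4, nat_lit 0, nat_lit 3, nat_lit 4, nat_lit 0, nat_lit 3, nat_lit 0, nat_lit 4, nat_lit 3, nat_lit 0, nat_lit 4, nat_lit 3, nat_lit 4, nat_lit 2]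
def Wt_93_97 (j : ℕ) : List ℕ := bif Nat.blt j 95 then (Wt_93_95 j) else (Wt_95_97 j)
def Wt_90_97 (j : ℕ) : List ℕ := bif Nat.blt j 93 then (Wt_90_93 j) else (Wt_93_97 j)
def Wt_84_97 (j : ℕ) : List ℕ := bif Nat.blt j 90 then (Wt_84_90 j) else (Wt_90_97 j)
def Wt_72_97 (j : ℕ) : List ℕ := bif Nat.blt j 84 then (Wt_72_84 j) else (Wt_84_97 j)
def Wt_48_97 (j : ℕ) : List ℕ := bif Nat.blt j 72 then (Wt_48_72 j) else (Wt_72_97 j)
def Wt_0_97 (j : ℕ) : List ℕ := bif Nat.blt j 48 then (Wt_0_48 j) else (Wt_48_97 j)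
def Wt_98_100 (j : ℕ) : List ℕ := bif Nat.blt j 99 then [nat_lit 3, nat_lit 4, nat_lit 2, nat_lit 1, nat_lit 4, nat_lit 3, nat_lit 4, nat_lit 1, nat_lit 2, nat_lit 4, nat_lit 3, nat_lit 1, nat_lit 3, nat_lit 1, nat_lit 3, nat_lit 1] else [nat_lit 3, nat_lit 1, nat_lit 0, nat_lit 1, nat_lit 2, nat_lit 0, nat_lit 1, nat_lit 4, nat_lit 0, nat_lit 1, nat_lit 4, nat_lit 3, nat_lit 1, nat_lit 4, nat_lit 1, nat_lit 0, nat_lit 4]
def Wt_97_100 (j : ℕ) : List ℕ := bif Nat.blt j 98 then [nat_lit 1, nat_lit 0, nat_lit 2, nat_lit 1, nat_lit 0, nat_lit 1, nat_lit 3, nat_lit 4, nat_lit 0, nat_lit 1, nat_lit 4, nat_lit 1, nat_lit 3, nat_lit 4, nat_lit 1, nat_lit 0, nat_lit 4] else (Wt_98_100 j)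
def Wt_101_103 (j : ℕ) : List ℕ := bif Nat.blt j 102 then [nat_lit 1, nat_lit 2, nat_lit 3, nat_lit 1, nat_lit 0, nat_lit 4, nat_lit 3, nat_lit 4, nat_lit 2, nat_lit 3, nat_lit 4, nat_lit 1, nat_lit 4, nat_lit 0, nat_lit 1, nat_lit 0, nat_lit 4] else [nat_lit 3, nat_lit 0, nat_lit 4, nat_lit 3, nat_lit 0, nat_lit 4, nat_lit 3, nat_lit 4, nat_lit 2, nat_lit 3, nat_lit 4, nat_lit 3, nat_lit 4, nat_lit 0, nat_lit 3, nat_lit 4, nat_lit 0]
def Wt_100_103 (j : ℕ) : List ℕ := bif Nat.blt j 101 then [nat_lit 4, nat_lit 1, nat_lit 4, nat_lit 3, nat_lit 4, nat_lit 3, nat_lit 4, nat_lit 3, nat_lit 4, nat_lit 3, nat_lit 1, nat_lit 4, nat_lit 1, nat_lit 4, nat_lit 1] else (Wt_101_103 j)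
def Wt_97_103 (j : ℕ) : List ℕ := bif Nat.blt j 100 then (Wt_97_100 j) else (Wt_100_103 j)
def Wt_104_106 (j : ℕ) : List ℕ := bif Nat.blt j 105 then [nat_lit 63, nat_lit 1, nat_lit 4, nat_lit 1, nat_lit 4, nat_lit 1, nat_lit 2, nat_lit 4, nat_lit 1, nat_lit 4, nat_lit 2, nat_lit 0, nat_lit 2, nat_lit 4, nat_lit 1, nat_lit 4, nat_lit 2] else [nat_lit 63, nat_lit 3, nat_lit 4, nat_lit 1, nat_lit 2, nat_lit 4, nat_lit 3, nat_lit 1, nat_lit 3, nat_lit 1, nat_lit 3, nat_lit 1, nat_lit 3, nat_lit 4, nat_lit 2, nat_lit 1, nat_lit 4]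
def Wt_103_106 (j : ℕ) : List ℕ := bif Nat.blt j 104 then [nat_lit 1, nat_lit 4, nat_lit 1, nat_lit 4, nat_lit 3, nat_lit 4, nat_lit 3, nat_lit 4, nat_lit 3, nat_lit 4, nat_lit 3, nat_lit 1, nat_lit 4, nat_lit 1, nat_lit 4] else (Wt_104_106 j)
def Wt_107_109 (j : ℕ) : List ℕ := bif Nat.blt j 108 then [nat_lit 3, nat_lit 4, nat_lit 3, nat_lit 4, nat_lit 3, nat_lit 4, nat_lit 1, nat_lit 4, nat_lit 1, nat_lit 4, nat_lit 1, nat_lit 4, nat_lit 1, nat_lit 3, nat_lit 4] else [nat_lit 2, nat_lit 1, nat_lit 4, nat_lit 1, nat_lit 2, nat_lit 4, nat_lit 3, nat_lit 4, nat_lit 2, nat_lit 4, nat_lit 1, nat_lit 4, nat_lit 1, nat_lit 2, nat_lit 4, nat_lit 2, nat_lit 4]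
def Wt_106_109 (j : ℕ) : List ℕ := bif Nat.blt j 107 then [nat_lit 4, nat_lit 4, nat_lit 63] else (Wt_107_109 j)
def Wt_103_109 (j : ℕ) : List ℕ := bif Nat.blt j 106 then (Wt_103_106 j) else (Wt_106_109 j)
def Wt_97_109 (j : ℕ) : List ℕ := bif Nat.blt j 103 then (Wt_97_103 j) else (Wt_103_109 j)
def Wt_110_112 (j : ℕ) : List ℕ := bif Nat.blt j 111 then [nat_lit 63, nat_lit 2, nat_lit 1, nat_lit 4, nat_lit 2, nat_lit 4, nat_lit 3, nat_lit 4, nat_lit 2, nat_lit 4, nat_lit 2, nat_lit 4, nat_lit 3, nat_lit 4, nat_lit 3, nat_lit 0, nat_lit 3, nat_lit 1] else [nat_lit 63, nat_lit 3, nat_lit 1, nat_lit 2, nat_lit 1, nat_lit 4, nat_lit 2, nat_lit 4, nat_lit 3, nat_lit 4, nat_lit 2, nat_lit 4, nat_lit 2, nat_lit 4, nat_lit 3, nat_lit 4, nat_lit 3, nat_lit 0]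
def Wt_109_112 (j : ℕ) : List ℕ := bif Nat.blt j 110 then [nat_lit 63, nat_lit 3, nat_lit 4, nat_lit 2, nat_lit 1, nat_lit 4, nat_lit 1, nat_lit 2, nat_lit 4, nat_lit 2, nat_lit 4, nat_lit 2, nat_lit 1, nat_lit 4, nat_lit 1, nat_lit 4, nat_lit 2, nat_lit 4] else (Wt_110_112 j)
def Wt_113_115 (j : ℕ) : List ℕ := bif Nat.blt j 114 then [nat_lit 1, nat_lit 2, nat_lit 4, nat_lit 3, nat_lit 4, nat_lit 2, nat_lit 4, nat_lit 1, nat_lit 4, nat_lit 1, nat_lit 2, nat_lit 4, nat_lit 2, nat_lit 4, nat_lit 2, nat_lit 1, nat_lit 4] else [nat_lit 0, nat_lit 2, nat_lit 3, nat_lit 4, nat_lit 1, nat_lit 4, nat_lit 1, nat_lit 2, nat_lit 4, nat_lit 1, nat_lit 4, nat_lit 0, nat_lit 4, nat_lit 1, nat_lit 4, nat_lit 1, nat_lit 3]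
def Wt_112_115 (j : ℕ) : List ℕ := bif Nat.blt j 113 then [nat_lit 63, nat_lit 3, nat_lit 0, nat_lit 3, nat_lit 4, nat_lit 2, nat_lit 4, nat_lit 3, nat_lit 4, nat_lit 2, nat_lit 4, nat_lit 2, nat_lit 4, nat_lit 3, nat_lit 4, nat_lit 1, nat_lit 2, nat_lit 1] else (Wt_113_115 j)
def Wt_109_115 (j : ℕ) : List ℕ := bif Nat.blt j 112 then (Wt_109_112 j) else (Wt_112_115 j)
def Wt_116_118 (j : ℕ) : List ℕ := bif Nat.blt j 117 then [nat_lit 3, nat_lit 0, nat_lit 1, nat_lit 3, nat_lit 2, nat_lit 3, nat_lit 0, nat_lit 3, nat_lit 0, nat_lit 1, nat_lit 3, nat_lit 2, nat_lit 3, nat_lit 0, nat_lit 3, nat_lit 0, nat_lit 1, nat_lit 3, nat_lit 2, nat_lit 3, nat_lit 0] else [nat_lit 0, nat_lit 3, nat_lit 2, nat_lit 0, nat_lit 1, nat_lit 2, nat_lit 0, nat_lit 3, nat_lit 2, nat_lit 0, nat_lit 1, nat_lit 2, nat_lit 0, nat_lit 3, nat_lit 2, nat_lit 0, nat_lit 1, nat_lit 2]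
def Wt_115_118 (j : ℕ) : List ℕ := bif Nat.blt j 116 then [nat_lit 3, nat_lit 4, nat_lit 3, nat_lit 4, nat_lit 3, nat_lit 1, nat_lit 4, nat_lit 1, nat_lit 4, nat_lit 1, nat_lit 4, nat_lit 1, nat_lit 4, nat_lit 3, nat_lit 4] else (Wt_116_118 j)
def Wt_119_121 (j : ℕ) : List ℕ := bif Nat.blt j 120 then [nat_lit 1, nat_lit 0, nat_lit 4, nat_lit 3, nat_lit 4, nat_lit 2, nat_lit 3, nat_lit 4, nat_lit 1, nat_lit 4, nat_lit 0, nat_lit 1, nat_lit 0, nat_lit 4, nat_lit 1, nat_lit 2, nat_lit 3] else [nat_lit 0, nat_lit 3, nat_lit 0, nat_lit 3, nat_lit 2, nat_lit 3, nat_lit 1, nat_lit 0, nat_lit 3, nat_lit 0, nat_lit 3, nat_lit 2, nat_lit 3, nat_lit 1, nat_lit 0, nat_lit 3, nat_lit 0, nat_lit 3, nat_lit 2, nat_lit 3, nat_lit 1]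
def Wt_118_121 (j : ℕ) : List ℕ := bif Nat.blt j 119 then [nat_lit 2, nat_lit 3, nat_lit 0, nat_lit 3, nat_lit 0, nat_lit 1, nat_lit 3, nat_lit 2, nat_lit 3, nat_lit 0, nat_lit 3, nat_lit 0, nat_lit 1, nat_lit 3, nat_lit 2, nat_lit 3, nat_lit 0, nat_lit 3, nat_lit 0, nat_lit 1, nat_lit 3] else (Wt_119_121 j)
def Wt_115_121 (j : ℕ) : List ℕ := bif Nat.blt j 118 then (Wt_115_118 j) else (Wt_118_121 j)
def Wt_109_121 (j : ℕ) : List ℕ := bif Nat.blt j 115 then (Wt_109_115 j) else (Wt_115_121 j)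
def Wt_97_121 (j : ℕ) : List ℕ := bif Nat.blt j 109 then (Wt_97_109 j) else (Wt_109_121 j)
def Wt_122_124 (j : ℕ) : List ℕ := bif Nat.blt j 123 then [nat_lit 1, nat_lit 2, nat_lit 1, nat_lit 4, nat_lit 3, nat_lit 4, nat_lit 2, nat_lit 4, nat_lit 2, nat_lit 4, nat_lit 3, nat_lit 4, nat_lit 2, nat_lit 4, nat_lit 3, nat_lit 0, nat_lit 3] else [nat_lit 1, nat_lit 2, nat_lit 0, nat_lit 3, nat_lit 2, nat_lit 0, nat_lit 1, nat_lit 2, nat_lit 0, nat_lit 3, nat_lit 2, nat_lit 0, nat_lit 1, nat_lit 2, nat_lit 0, nat_lit 3, nat_lit 2, nat_lit 0]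
def Wt_121_124 (j : ℕ) : List ℕ := bif Nat.blt j 122 then [nat_lit 1, nat_lit 0, nat_lit 4, nat_lit 1, nat_lit 4, nat_lit 3, nat_lit 2, nat_lit 4, nat_lit 3, nat_lit 4, nat_lit 0, nat_lit 1, nat_lit 3, nat_lit 2, nat_lit 1, nat_lit 4, nat_lit 0] else (Wt_122_124 j)
def Wt_125_127 (j : ℕ) : List ℕ := bif Nat.blt j 126 then [nat_lit 2, nat_lit 0, nat_lit 1, nat_lit 2, nat_lit 0, nat_lit 3, nat_lit 2, nat_lit 0, nat_lit 1, nat_lit 2, nat_lit 0, nat_lit 3, nat_lit 2, nat_lit 0, nat_lit 1, nat_lit 2, nat_lit 0, nat_lit 3] else [nat_lit 63, nat_lit 3, nat_lit 2, nat_lit 3, nat_lit 2]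
def Wt_124_127 (j : ℕ) : List ℕ := bif Nat.blt j 125 then [nat_lit 4, nat_lit 2, nat_lit 1, nat_lit 2, nat_lit 4, nat_lit 1, nat_lit 3, nat_lit 4, nat_lit 0, nat_lit 4, nat_lit 2, nat_lit 0, nat_lit 4, nat_lit 0, nat_lit 4, nat_lit 3, nat_lit 1] else (Wt_125_127 j)
def Wt_121_127 (j : ℕ) : List ℕ := bif Nat.blt j 124 then (Wt_121_124 j) else (Wt_124_127 j)
def Wt_128_130 (j : ℕ) : List ℕ := bif Nat.blt j 129 then [nat_lit 1, nat_lit 0, nat_lit 2, nat_lit 3, nat_lit 0, nat_lit 2, nat_lit 1, nat_lit 0, nat_lit 2, nat_lit 3, nat_lit 0, nat_lit 2, nat_lit 1, nat_lit 0, nat_lit 2, nat_lit 3, nat_lit 0, nat_lit 2] else [nat_lit 3, nat_lit 0, nat_lit 4, nat_lit 3, nat_lit 4, nat_lit 2, nat_lit 3, nat_lit 4, nat_lit 3, nat_lit 4, nat_lit 0, nat_lit 3, nat_lit 4, nat_lit 0, nat_lit 3, nat_lit 0, nat_lit 4]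
def Wt_127_130 (j : ℕ) : List ℕ := bif Nat.blt j 128 then [nat_lit 63, nat_lit 1, nat_lit 3, nat_lit 2, nat_lit 3, nat_lit 0, nat_lit 3, nat_lit 0, nat_lit 1, nat_lit 3, nat_lit 2, nat_lit 3, nat_lit 0, nat_lit 3, nat_lit 0, nat_lit 1, nat_lit 3, nat_lit 2, nat_lit 3, nat_lit 0, nat_lit 3, nat_lit 0] else (Wt_128_130 j)
def Wt_131_133 (j : ℕ) : List ℕ := bif Nat.blt j 132 then [nat_lit 1, nat_lit 4, nat_lit 1, nat_lit 4, nat_lit 1, nat_lit 4, nat_lit 1, nat_lit 3, nat_lit 4, nat_lit 3, nat_lit 4, nat_lit 3, nat_lit 4, nat_lit 3, nat_lit 4] else [nat_lit 3, nat_lit 4, nat_lit 3, nat_lit 4, nat_lit 3, nat_lit 4, nat_lit 3, nat_lit 4, nat_lit 1, nat_lit 4, nat_lit 1, nat_lit 4, nat_lit 1, nat_lit 4, nat_lit 1]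
def Wt_130_133 (j : ℕ) : List ℕ := bif Nat.blt j 131 then [nat_lit 2, nat_lit 3, nat_lit 4, nat_lit 1, nat_lit 4, nat_lit 1, nat_lit 2, nat_lit 4, nat_lit 1, nat_lit 4, nat_lit 0, nat_lit 4, nat_lit 1, nat_lit 4, nat_lit 1, nat_lit 3, nat_lit 0] else (Wt_131_133 j)
def Wt_127_133 (j : ℕ) : List ℕ := bif Nat.blt j 130 then (Wt_127_130 j) else (Wt_130_133 j)
def Wt_121_133 (j : ℕ) : List ℕ := bif Nat.blt j 127 then (Wt_121_127 j) else (Wt_127_133 j)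
def Wt_134_136 (j : ℕ) : List ℕ := bif Nat.blt j 135 then [nat_lit 0, nat_lit 2, nat_lit 0, nat_lit 1, nat_lit 2, nat_lit 1, nat_lit 0, nat_lit 2, nat_lit 0, nat_lit 1, nat_lit 2, nat_lit 1] else [nat_lit 0, nat_lit 1, nat_lit 4, nat_lit 1, nat_lit 3, nat_lit 4, nat_lit 1, nat_lit 0, nat_lit 4, nat_lit 1, nat_lit 0, nat_lit 2, nat_lit 1, nat_lit 0, nat_lit 1, nat_lit 3, nat_lit 4]
def Wt_133_136 (j : ℕ) : List ℕ := bif Nat.blt j 134 then [nat_lit 2, nat_lit 1, nat_lit 2, nat_lit 1, nat_lit 2, nat_lit 1, nat_lit 2, nat_lit 1] else (Wt_134_136 j)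
def Wt_137_139 (j : ℕ) : List ℕ := bif Nat.blt j 138 then [nat_lit 2, nat_lit 0, nat_lit 1, nat_lit 2, nat_lit 0, nat_lit 1, nat_lit 2, nat_lit 0, nat_lit 1, nat_lit 2, nat_lit 0, nat_lit 1, nat_lit 2, nat_lit 0, nat_lit 1] else [nat_lit 0, nat_lit 2, nat_lit 1, nat_lit 0, nat_lit 2, nat_lit 1, nat_lit 0, nat_lit 2, nat_lit 1, nat_lit 0, nat_lit 2, nat_lit 1, nat_lit 0, nat_lit 2, nat_lit 1]
def Wt_136_139 (j : ℕ) : List ℕ := bif Nat.blt j 137 then [nat_lit 2, nat_lit 3, nat_lit 1, nat_lit 0, nat_lit 3, nat_lit 0, nat_lit 3, nat_lit 2, nat_lit 3, nat_lit 1, nat_lit 0, nat_lit 3, nat_lit 0, nat_lit 3, nat_lit 2, nat_lit 3, nat_lit 1, nat_lit 0, nat_lit 3, nat_lit 0, nat_lit 3] else (Wt_137_139 j)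
def Wt_133_139 (j : ℕ) : List ℕ := bif Nat.blt j 136 then (Wt_133_136 j) else (Wt_136_139 j)
def Wt_140_142 (j : ℕ) : List ℕ := bif Nat.blt j 141 then [nat_lit 5, nat_lit 3, nat_lit 4, nat_lit 3, nat_lit 0, nat_lit 5, nat_lit 3, nat_lit 4, nat_lit 3, nat_lit 0, nat_lit 5, nat_lit 3, nat_lit 4, nat_lit 3, nat_lit 0, nat_lit 5, nat_lit 3, nat_lit 4, nat_lit 3, nat_lit 0, nat_lit 5, nat_lit 3, nat_lit 4, nat_lit 3, nat_lit 0] else [nat_lit 3, nat_lit 5, nat_lit 3, nat_lit 5, nat_lit 2]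
def Wt_139_142 (j : ℕ) : List ℕ := bif Nat.blt j 140 then [nat_lit 3, nat_lit 0, nat_lit 3, nat_lit 2, nat_lit 3, nat_lit 1, nat_lit 0, nat_lit 3, nat_lit 0, nat_lit 3, nat_lit 2, nat_lit 3, nat_lit 1, nat_lit 0, nat_lit 3, nat_lit 0, nat_lit 3, nat_lit 2, nat_lit 3, nat_lit 1, nat_lit 0] else (Wt_140_142 j)
def Wt_143_145 (j : ℕ) : List ℕ := bif Nat.blt j 144 then [nat_lit 2, nat_lit 4, nat_lit 3, nat_lit 4, nat_lit 3, nat_lit 0, nat_lit 3, nat_lit 1, nat_lit 2, nat_lit 1, nat_lit 4, nat_lit 2, nat_lit 4, nat_lit 3, nat_lit 4, nat_lit 2, nat_lit 4] else [nat_lit 2, nat_lit 4, nat_lit 2, nat_lit 4, nat_lit 3, nat_lit 4, nat_lit 3, nat_lit 0, nat_lit 3, nat_lit 1, nat_lit 2, nat_lit 1, nat_lit 4, nat_lit 2, nat_lit 4, nat_lit 3, nat_lit 4]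
def Wt_142_145 (j : ℕ) : List ℕ := bif Nat.blt j 143 then [nat_lit 3, nat_lit 4, nat_lit 1, nat_lit 4, nat_lit 1, nat_lit 4, nat_lit 1, nat_lit 4, nat_lit 1, nat_lit 3, nat_lit 4, nat_lit 3, nat_lit 4, nat_lit 3, nat_lit 4] else (Wt_143_145 j)
def Wt_139_145 (j : ℕ) : List ℕ := bif Nat.blt j 142 then (Wt_139_142 j) else (Wt_142_145 j)
def Wt_133_145 (j : ℕ) : List ℕ := bif Nat.blt j 139 then (Wt_133_139 j) else (Wt_139_145 j)
def Wt_121_145 (j : ℕ) : List ℕ := bif Nat.blt j 133 then (Wt_121_133 j) else (Wt_133_145 j)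
def Wt_97_145 (j : ℕ) : List ℕ := bif Nat.blt j 121 then (Wt_97_121 j) else (Wt_121_145 j)
def Wt_146_148 (j : ℕ) : List ℕ := bif Nat.blt j 147 then [nat_lit 1, nat_lit 4, nat_lit 2, nat_lit 0, nat_lit 2, nat_lit 4, nat_lit 1, nat_lit 4, nat_lit 2, nat_lit 1, nat_lit 4, nat_lit 1, nat_lit 4, nat_lit 1, nat_lit 2, nat_lit 4] else [nat_lit 0, nat_lit 4, nat_lit 1, nat_lit 4, nat_lit 2, nat_lit 0, nat_lit 4, nat_lit 1, nat_lit 4, nat_lit 0, nat_lit 2, nat_lit 4, nat_lit 1, nat_lit 4, nat_lit 2]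
def Wt_145_148 (j : ℕ) : List ℕ := bif Nat.blt j 146 then [nat_lit 63, nat_lit 1, nat_lit 2, nat_lit 1, nat_lit 4, nat_lit 3, nat_lit 4, nat_lit 2, nat_lit 4, nat_lit 2, nat_lit 4, nat_lit 3, nat_lit 4, nat_lit 2, nat_lit 4, nat_lit 3, nat_lit 0, nat_lit 3] else (Wt_146_148 j)
def Wt_149_151 (j : ℕ) : List ℕ := bif Nat.blt j 150 then [nat_lit 63, nat_lit 3, nat_lit 1, nat_lit 4, nat_lit 1, nat_lit 4, nat_lit 0, nat_lit 4, nat_lit 1, nat_lit 4, nat_lit 2, nat_lit 1, nat_lit 4, nat_lit 1, nat_lit 4, nat_lit 3, nat_lit 2, nat_lit 0] else [nat_lit 3, nat_lit 2, nat_lit 1, nat_lit 4, nat_lit 0, nat_lit 1, nat_lit 0, nat_lit 4, nat_lit 1, nat_lit 4, nat_lit 3, nat_lit 2, nat_lit 4, nat_lit 3, nat_lit 4, nat_lit 0, nat_lit 1]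
def Wt_148_151 (j : ℕ) : List ℕ := bif Nat.blt j 149 then [nat_lit 1, nat_lit 4, nat_lit 1, nat_lit 4, nat_lit 1, nat_lit 2, nat_lit 4, nat_lit 1, nat_lit 4, nat_lit 2, nat_lit 0, nat_lit 2, nat_lit 4, nat_lit 1, nat_lit 4, nat_lit 2] else (Wt_149_151 j)
def Wt_145_151 (j : ℕ) : List ℕ := bif Nat.blt j 148 then (Wt_145_148 j) else (Wt_148_151 j)
def Wt_152_154 (j : ℕ) : List ℕ := bif Nat.blt j 153 then [nat_lit 1, nat_lit 0, nat_lit 2, nat_lit 1, nat_lit 0, nat_lit 2, nat_lit 1, nat_lit 0, nat_lit 2, nat_lit 1, nat_lit 0, nat_lit 2, nat_lit 1, nat_lit 0, nat_lit 2] else [nat_lit 1, nat_lit 0, nat_lit 1, nat_lit 2, nat_lit 1, nat_lit 0, nat_lit 1, nat_lit 2, nat_lit 1, nat_lit 0, nat_lit 1, nat_lit 2]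
def Wt_151_154 (j : ℕ) : List ℕ := bif Nat.blt j 152 then [nat_lit 4, nat_lit 1, nat_lit 3, nat_lit 0, nat_lit 1, nat_lit 0, nat_lit 3, nat_lit 1, nat_lit 4, nat_lit 1, nat_lit 3, nat_lit 0, nat_lit 1, nat_lit 0, nat_lit 3, nat_lit 1] else (Wt_152_154 j)
def Wt_155_157 (j : ℕ) : List ℕ := bif Nat.blt j 156 then [nat_lit 2, nat_lit 1, nat_lit 4, nat_lit 1, nat_lit 4, nat_lit 1, nat_lit 2, nat_lit 4, nat_lit 1, nat_lit 4, nat_lit 2, nat_lit 0, nat_lit 2, nat_lit 4, nat_lit 1, nat_lit 4] else [nat_lit 4, nat_lit 2, nat_lit 1, nat_lit 4, nat_lit 1, nat_lit 2, nat_lit 4, nat_lit 3, nat_lit 4, nat_lit 2, nat_lit 4, nat_lit 1, nat_lit 4, nat_lit 1, nat_lit 2, nat_lit 4, nat_lit 2]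
def Wt_154_157 (j : ℕ) : List ℕ := bif Nat.blt j 155 then [nat_lit 1, nat_lit 4, nat_lit 1, nat_lit 4, nat_lit 1, nat_lit 4, nat_lit 1, nat_lit 4, nat_lit 3, nat_lit 4, nat_lit 3, nat_lit 4, nat_lit 3, nat_lit 4, nat_lit 3] else (Wt_155_157 j)
def Wt_151_157 (j : ℕ) : List ℕ := bif Nat.blt j 154 then (Wt_151_154 j) else (Wt_154_157 j)
def Wt_145_157 (j : ℕ) : List ℕ := bif Nat.blt j 151 then (Wt_145_151 j) else (Wt_151_157 j)
def Wt_158_160 (j : ℕ) : List ℕ := bif Nat.blt j 159 then [nat_lit 3, nat_lit 0, nat_lit 3, nat_lit 4, nat_lit 2, nat_lit 4, nat_lit 3, nat_lit 4, nat_lit 2, nat_lit 4, nat_lit 2, nat_lit 4, nat_lit 3, nat_lit 4, nat_lit 1, nat_lit 2, nat_lit 1] else [nat_lit 0, nat_lit 1, nat_lit 3, nat_lit 2, nat_lit 3, nat_lit 0, nat_lit 3, nat_lit 0, nat_lit 1, nat_lit 3, nat_lit 2, nat_lit 3, nat_lit 0, nat_lit 3, nat_lit 0, nat_lit 1, nat_lit 3, nat_lit 2, nat_lit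 3, nat_lit 0, nat_lit 3]
def Wt_157_160 (j : ℕ) : List ℕ := bif Nat.blt j 158 then [nat_lit 4, nat_lit 2, nat_lit 4, nat_lit 1, nat_lit 4, nat_lit 1, nat_lit 2, nat_lit 4, nat_lit 2, nat_lit 4, nat_lit 2, nat_lit 1, nat_lit 4, nat_lit 1, nat_lit 2, nat_lit 4, nat_lit 3] else (Wt_158_160 j)
def Wt_161_163 (j : ℕ) : List ℕ := bif Nat.blt j 162 then [nat_lit 3, nat_lit 4, nat_lit 5, nat_lit 1, nat_lit 4, nat_lit 2, nat_lit 3, nat_lit 4, nat_lit 5, nat_lit 1, nat_lit 4, nat_lit 2, nat_lit 3, nat_lit 4, nat_lit 5, nat_lit 1, nat_lit 4, nat_lit 2, nat_lit 3, nat_lit 4, nat_lit 5, nat_lit 1, nat_lit 4, nat_lit 2] else [nat_lit 3, nat_lit 0, nat_lit 3, nat_lit 4, nat_lit 2, nat_lit 3, nat_lit 4, nat_lit 2, nat_lit 4, nat_lit 1, nat_lit 4, nat_lit 2, nat_lit 4, nat_lit 3, nat_lit 2, nat_lit 4, nat_lit 1]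
def Wt_160_163 (j : ℕ) : List ℕ := bif Nat.blt j 161 then [nat_lit 0, nat_lit 1, nat_lit 2, nat_lit 1, nat_lit 0, nat_lit 1, nat_lit 2, nat_lit 1, nat_lit 0, nat_lit 1, nat_lit 2, nat_lit 1] else (Wt_161_163 j)
def Wt_157_163 (j : ℕ) : List ℕ := bif Nat.blt j 160 then (Wt_157_160 j) else (Wt_160_163 j)
def Wt_164_166 (j : ℕ) : List ℕ := bif Nat.blt j 165 then [nat_lit 63, nat_lit 4, nat_lit 3, nat_lit 4, nat_lit 2, nat_lit 4, nat_lit 2, nat_lit 4, nat_lit 3, nat_lit 4, nat_lit 3, nat_lit 0, nat_lit 3, nat_lit 1, nat_lit 2, nat_lit 1, nat_lit 4, nat_lit 2] else [nat_lit 63, nat_lit 4, nat_lit 63, nat_lit 4]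
def Wt_163_166 (j : ℕ) : List ℕ := bif Nat.blt j 164 then [nat_lit 2, nat_lit 4, nat_lit 2, nat_lit 4, nat_lit 3, nat_lit 4, nat_lit 2, nat_lit 4, nat_lit 1, nat_lit 2, nat_lit 1, nat_lit 3, nat_lit 0, nat_lit 3, nat_lit 4, nat_lit 3, nat_lit 4] else (Wt_164_166 j)
def Wt_167_169 (j : ℕ) : List ℕ := bif Nat.blt j 168 then [nat_lit 2, nat_lit 1, nat_lit 0, nat_lit 2, nat_lit 1, nat_lit 0, nat_lit 2, nat_lit 1, nat_lit 0, nat_lit 2, nat_lit 1, nat_lit 0, nat_lit 2, nat_lit 1, nat_lit 0] else [nat_lit 4, nat_lit 0, nat_lit 2, nat_lit 4, nat_lit 3, nat_lit 2, nat_lit 3, nat_lit 0, nat_lit 4, nat_lit 2, nat_lit 0, nat_lit 4, nat_lit 2, nat_lit 0, nat_lit 4, nat_lit 0, nat_lit 2]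
def Wt_166_169 (j : ℕ) : List ℕ := bif Nat.blt j 167 then [nat_lit 0, nat_lit 1, nat_lit 2, nat_lit 0, nat_lit 1, nat_lit 2, nat_lit 0, nat_lit 1, nat_lit 2, nat_lit 0, nat_lit 1, nat_lit 2, nat_lit 0, nat_lit 1, nat_lit 2] else (Wt_167_169 j)
def Wt_163_169 (j : ℕ) : List ℕ := bif Nat.blt j 166 then (Wt_163_166 j) else (Wt_166_169 j)
def Wt_157_169 (j : ℕ) : List ℕ := bif Nat.blt j 163 then (Wt_157_163 j) else (Wt_163_169 j)
def Wt_145_169 (j : ℕ) : List ℕ := bif Nat.blt j 157 then (Wt_145_157 j) else (Wt_157_169 j)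
def Wt_170_172 (j : ℕ) : List ℕ := bif Nat.blt j 171 then [nat_lit 3, nat_lit 1, nat_lit 4, nat_lit 2, nat_lit 3, nat_lit 4, nat_lit 2, nat_lit 4, nat_lit 1, nat_lit 4, nat_lit 2, nat_lit 4, nat_lit 3, nat_lit 2, nat_lit 4, nat_lit 3, nat_lit 0] else [nat_lit 63, nat_lit 1, nat_lit 4, nat_lit 2, nat_lit 4, nat_lit 3, nat_lit 4, nat_lit 2, nat_lit 4, nat_lit 2, nat_lit 4, nat_lit 3, nat_lit 4, nat_lit 3, nat_lit 0, nat_lit 3, nat_lit 1, nat_lit 2]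
def Wt_169_172 (j : ℕ) : List ℕ := bif Nat.blt j 170 then [nat_lit 0, nat_lit 3, nat_lit 4, nat_lit 2, nat_lit 3, nat_lit 4, nat_lit 2, nat_lit 4, nat_lit 1, nat_lit 4, nat_lit 2, nat_lit 4, nat_lit 3, nat_lit 2, nat_lit 4, nat_lit 1, nat_lit 3] else (Wt_170_172 j)
def Wt_173_175 (j : ℕ) : List ℕ := bif Nat.blt j 174 then [nat_lit 3, nat_lit 0, nat_lit 3, nat_lit 4, nat_lit 3, nat_lit 4, nat_lit 2, nat_lit 4, nat_lit 2, nat_lit 4, nat_lit 3, nat_lit 4, nat_lit 2, nat_lit 4, nat_lit 1, nat_lit 2, nat_lit 1] else [nat_lit 4, nat_lit 2, nat_lit 4, nat_lit 3, nat_lit 4, nat_lit 2, nat_lit 4, nat_lit 1, nat_lit 2, nat_lit 1, nat_lit 3, nat_lit 0, nat_lit 3, nat_lit 4, nat_lit 3, nat_lit 4, nat_lit 2]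
def Wt_172_175 (j : ℕ) : List ℕ := bif Nat.blt j 173 then [nat_lit 0, nat_lit 3, nat_lit 4, nat_lit 2, nat_lit 4, nat_lit 3, nat_lit 4, nat_lit 2, nat_lit 4, nat_lit 2, nat_lit 4, nat_lit 3, nat_lit 4, nat_lit 1, nat_lit 2, nat_lit 1, nat_lit 3] else (Wt_173_175 j)
def Wt_169_175 (j : ℕ) : List ℕ := bif Nat.blt j 172 then (Wt_169_172 j) else (Wt_172_175 j)
def Wt_176_178 (j : ℕ) : List ℕ := bif Nat.blt j 177 then [nat_lit 2, nat_lit 1, nat_lit 0, nat_lit 2, nat_lit 3, nat_lit 0, nat_lit 2, nat_lit 1, nat_lit 0, nat_lit 2, nat_lit 3, nat_lit 0, nat_lit 2, nat_lit 1, nat_lit 0, nat_lit 2, nat_lit 3, nat_lit 0] else [nat_lit 0, nat_lit 3, nat_lit 1, nat_lit 2, nat_lit 3, nat_lit 0, nat_lit 3, nat_lit 1, nat_lit 2, nat_lit 3, nat_lit 0, nat_lit 3, nat_lit 1, nat_lit 2, nat_lit 3, nat_lit 0, nat_lit 3, nat_lit 1, nat_lit 2, nat_lit 3]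
def Wt_175_178 (j : ℕ) : List ℕ := bif Nat.blt j 176 then [nat_lit 63, nat_lit 1, nat_lit 2, nat_lit 1, nat_lit 3, nat_lit 0, nat_lit 3, nat_lit 4, nat_lit 3, nat_lit 4, nat_lit 2, nat_lit 4, nat_lit 2, nat_lit 4, nat_lit 3, nat_lit 4, nat_lit 2, nat_lit 4] else (Wt_176_178 j)
def Wt_179_181 (j : ℕ) : List ℕ := bif Nat.blt j 180 then [nat_lit 4, nat_lit 1, nat_lit 2, nat_lit 4, nat_lit 2, nat_lit 4, nat_lit 2, nat_lit 1, nat_lit 4, nat_lit 1, nat_lit 4, nat_lit 2, nat_lit 4, nat_lit 3, nat_lit 4, nat_lit 2, nat_lit 1] else [nat_lit 4, nat_lit 0, nat_lit 4, nat_lit 1, nat_lit 4, nat_lit 2, nat_lit 1, nat_lit 4, nat_lit 1, nat_lit 4, nat_lit 3, nat_lit 2, nat_lit 0, nat_lit 3, nat_lit 1, nat_lit 4, nat_lit 1]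
def Wt_178_181 (j : ℕ) : List ℕ := bif Nat.blt j 179 then [nat_lit 3, nat_lit 2, nat_lit 1, nat_lit 3, nat_lit 0, nat_lit 3, nat_lit 2, nat_lit 1, nat_lit 3, nat_lit 0, nat_lit 3, nat_lit 2, nat_lit 1, nat_lit 3, nat_lit 0, nat_lit 3, nat_lit 2, nat_lit 1, nat_lit 3, nat_lit 0] else (Wt_179_181 j)
def Wt_175_181 (j : ℕ) : List ℕ := bif Nat.blt j 178 then (Wt_175_178 j) else (Wt_178_181 j)
def Wt_169_181 (j : ℕ) : List ℕ := bif Nat.blt j 175 then (Wt_169_175 j) else (Wt_175_181 j)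
def Wt_182_184 (j : ℕ) : List ℕ := bif Nat.blt j 183 then [nat_lit 2, nat_lit 0, nat_lit 4, nat_lit 1, nat_lit 4, nat_lit 2, nat_lit 0, nat_lit 4, nat_lit 1, nat_lit 4, nat_lit 0, nat_lit 2, nat_lit 4, nat_lit 1, nat_lit 4] else [nat_lit 1, nat_lit 4, nat_lit 2, nat_lit 5, nat_lit 4, nat_lit 1, nat_lit 4, nat_lit 2, nat_lit 5, nat_lit 4, nat_lit 1, nat_lit 4, nat_lit 2, nat_lit 5, nat_lit 4]
def Wt_181_184 (j : ℕ) : List ℕ := bif Nat.blt j 182 then [nat_lit 0, nat_lit 2, nat_lit 4, nat_lit 1, nat_lit 4, nat_lit 2, nat_lit 0, nat_lit 4, nat_lit 1, nat_lit 4, nat_lit 2, nat_lit 0, nat_lit 4, nat_lit 1, nat_lit 4] else (Wt_182_184 j)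
def Wt_185_187 (j : ℕ) : List ℕ := bif Nat.blt j 186 then [nat_lit 0, nat_lit 3, nat_lit 1, nat_lit 0, nat_lit 3, nat_lit 0, nat_lit 3, nat_lit 0, nat_lit 3, nat_lit 1, nat_lit 0, nat_lit 3, nat_lit 0, nat_lit 3, nat_lit 0, nat_lit 3, nat_lit 1, nat_lit 0, nat_lit 3, nat_lit 0, nat_lit 3] else [nat_lit 3, nat_lit 1, nat_lit 0, nat_lit 3, nat_lit 0, nat_lit 3, nat_lit 0, nat_lit 3, nat_lit 1, nat_lit 0, nat_lit 3, nat_lit 0, nat_lit 3, nat_lit 0, nat_lit 3, nat_lit 1, nat_lit 0, nat_lit 3, nat_lit 0, nat_lit 3, nat_lit 0]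
def Wt_184_187 (j : ℕ) : List ℕ := bif Nat.blt j 185 then [nat_lit 1, nat_lit 0, nat_lit 1, nat_lit 2, nat_lit 0, nat_lit 2, nat_lit 1, nat_lit 0, nat_lit 1, nat_lit 2, nat_lit 0, nat_lit 2, nat_lit 1, nat_lit 0, nat_lit 1, nat_lit 2, nat_lit 0, nat_lit 2] else (Wt_185_187 j)
def Wt_181_187 (j : ℕ) : List ℕ := bif Nat.blt j 184 then (Wt_181_184 j) else (Wt_184_187 j)
def Wt_188_190 (j : ℕ) : List ℕ := bif Nat.blt j 189 then [nat_lit 63, nat_lit 2, nat_lit 3, nat_lit 1, nat_lit 0, nat_lit 3, nat_lit 0, nat_lit 3, nat_lit 2, nat_lit 3, nat_lit 1, nat_lit 0, nat_lit 3, nat_lit 0, nat_lit 3, nat_lit 2, nat_lit 3, nat_lit 1, nat_lit 0, nat_lit 3, nat_lit 0, nat_lit 3] else [nat_lit 0, nat_lit 3, nat_lit 0, nat_lit 3, nat_lit 0, nat_lit 1, nat_lit 3, nat_lit 0, nat_lit 3, nat_lit 0, nat_lit 3, nat_lit 0, nat_lit 1, nat_lit 3, nat_lit 0, nat_lit 3, nat_lit 0, nat_lit 3, nat_lit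 0, nat_lit 1, nat_lit 3]
def Wt_187_190 (j : ℕ) : List ℕ := bif Nat.blt j 188 then [nat_lit 0, nat_lit 1, nat_lit 0, nat_lit 3, nat_lit 1, nat_lit 4, nat_lit 1, nat_lit 3, nat_lit 0, nat_lit 1, nat_lit 0, nat_lit 3, nat_lit 1, nat_lit 4, nat_lit 1, nat_lit 3] else (Wt_188_190 j)
def Wt_190_192 (j : ℕ) : List ℕ := bif Nat.blt j 191 then [nat_lit 63, nat_lit 0, nat_lit 2, nat_lit 0, nat_lit 2] else [nat_lit 63, nat_lit 0, nat_lit 1, nat_lit 3, nat_lit 2, nat_lit 3, nat_lit 0, nat_lit 3, nat_lit 0, nat_lit 1, nat_lit 3, nat_lit 2, nat_lit 3, nat_lit 0, nat_lit 3, nat_lit 0, nat_lit 1, nat_lit 3, nat_lit 2, nat_lit 3, nat_lit 0, nat_lit 3]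
def Wt_192_194 (j : ℕ) : List ℕ := bif Nat.blt j 193 then [nat_lit 63, nat_lit 1, nat_lit 0, nat_lit 2, nat_lit 3, nat_lit 0, nat_lit 2, nat_lit 1, nat_lit 0, nat_lit 2, nat_lit 3, nat_lit 0, nat_lit 2, nat_lit 1, nat_lit 0, nat_lit 2, nat_lit 3, nat_lit 0, nat_lit 2] else [nat_lit 63, nat_lit 4, nat_lit 3, nat_lit 4, nat_lit 2, nat_lit 4, nat_lit 1, nat_lit 2, nat_lit 1, nat_lit 3, nat_lit 0, nat_lit 3, nat_lit 4, nat_lit 3, nat_lit 4, nat_lit 2, nat_lit 4, nat_lit 2]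
def Wt_190_194 (j : ℕ) : List ℕ := bif Nat.blt j 192 then (Wt_190_192 j) else (Wt_192_194 j)
def Wt_187_194 (j : ℕ) : List ℕ := bif Nat.blt j 190 then (Wt_187_190 j) else (Wt_190_194 j)
def Wt_181_194 (j : ℕ) : List ℕ := bif Nat.blt j 187 then (Wt_181_187 j) else (Wt_187_194 j)
def Wt_169_194 (j : ℕ) : List ℕ := bif Nat.blt j 181 then (Wt_169_181 j) else (Wt_181_194 j)
def Wt_145_194 (j : ℕ) : List ℕ := bif Nat.blt j 169 then (Wt_145_169 j) else (Wt_169_194 j)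
def Wt_97_194 (j : ℕ) : List ℕ := bif Nat.blt j 145 then (Wt_97_145 j) else (Wt_145_194 j)
def Wt_0_194 (j : ℕ) : List ℕ := bif Nat.blt j 97 then (Wt_0_97 j) else (Wt_97_194 j)
def Wt_195_197 (j : ℕ) : List ℕ := bif Nat.blt j 196 then [nat_lit 63, nat_lit 3, nat_lit 4, nat_lit 2, nat_lit 4, nat_lit 1, nat_lit 2, nat_lit 1, nat_lit 3, nat_lit 0, nat_lit 3, nat_lit 4, nat_lit 3, nat_lit 4, nat_lit 2, nat_lit 4, nat_lit 2, nat_lit 4] else [nat_lit 1, nat_lit 3, nat_lit 0, nat_lit 3, nat_lit 4, nat_lit 2, nat_lit 4, nat_lit 3, nat_lit 4, nat_lit 2, nat_lit 4, nat_lit 2, nat_lit 4, nat_lit 3, nat_lit 4, nat_lit 1, nat_lit 2]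
def Wt_194_197 (j : ℕ) : List ℕ := bif Nat.blt j 195 then [nat_lit 63, nat_lit 4, nat_lit 2, nat_lit 4, nat_lit 3, nat_lit 4, nat_lit 1, nat_lit 2, nat_lit 1, nat_lit 3, nat_lit 0, nat_lit 3, nat_lit 4, nat_lit 2, nat_lit 4, nat_lit 3, nat_lit 4, nat_lit 2] else (Wt_195_197 j)
def Wt_198_200 (j : ℕ) : List ℕ := bif Nat.blt j 199 then [nat_lit 63, nat_lit 0, nat_lit 2, nat_lit 3, nat_lit 4, nat_lit 1, nat_lit 4, nat_lit 1, nat_lit 2, nat_lit 4, nat_lit 1, nat_lit 4, nat_lit 0, nat_lit 4, nat_lit 1, nat_lit 4, nat_lit 1, nat_lit 3] else [nat_lit 63, nat_lit 0, nat_lit 3, nat_lit 4, nat_lit 3, nat_lit 4, nat_lit 2, nat_lit 4, nat_lit 2, nat_lit 4, nat_lit 3, nat_lit 4, nat_lit 2, nat_lit 4, nat_lit 1, nat_lit 2, nat_lit 1, nat_lit 3]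
def Wt_197_200 (j : ℕ) : List ℕ := bif Nat.blt j 198 then [nat_lit 63, nat_lit 0, nat_lit 4, nat_lit 1, nat_lit 4, nat_lit 2, nat_lit 1, nat_lit 4, nat_lit 1, nat_lit 4, nat_lit 3, nat_lit 2, nat_lit 0, nat_lit 3, nat_lit 1, nat_lit 4, nat_lit 1, nat_lit 4] else (Wt_198_200 j)
def Wt_194_200 (j : ℕ) : List ℕ := bif Nat.blt j 197 then (Wt_194_197 j) else (Wt_197_200 j)
def Wt_201_203 (j : ℕ) : List ℕ := bif Nat.blt j 202 then [nat_lit 1, nat_lit 4, nat_lit 2, nat_lit 1, nat_lit 4, nat_lit 1, nat_lit 4, nat_lit 1, nat_lit 2, nat_lit 4, nat_lit 1, nat_lit 4, nat_lit 2, nat_lit 0, nat_lit 2, nat_lit 4] else [nat_lit 3, nat_lit 0, nat_lit 2, nat_lit 3, nat_lit 4, nat_lit 1, nat_lit 4, nat_lit 1, nat_lit 2, nat_lit 4, nat_lit 1, nat_lit 4, nat_lit 0, nat_lit 4, nat_lit 1, nat_lit 4, nat_lit 1]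
def Wt_200_203 (j : ℕ) : List ℕ := bif Nat.blt j 201 then [nat_lit 4, nat_lit 3, nat_lit 1, nat_lit 4, nat_lit 2, nat_lit 1, nat_lit 2, nat_lit 4, nat_lit 1, nat_lit 3, nat_lit 4, nat_lit 0, nat_lit 4, nat_lit 2, nat_lit 0, nat_lit 4, nat_lit 0] else (Wt_201_203 j)
def Wt_204_206 (j : ℕ) : List ℕ := bif Nat.blt j 205 then [nat_lit 2, nat_lit 4, nat_lit 1, nat_lit 4, nat_lit 2, nat_lit 4, nat_lit 3, nat_lit 2, nat_lit 4, nat_lit 1, nat_lit 3, nat_lit 0, nat_lit 3, nat_lit 4, nat_lit 2, nat_lit 3, nat_lit 4] else [nat_lit 1, nat_lit 0, nat_lit 1, nat_lit 2, nat_lit 0, nat_lit 1, nat_lit 4, nat_lit 0, nat_lit 1, nat_lit 4, nat_lit 3, nat_lit 1, nat_lit 4, nat_lit 1, nat_lit 0, nat_lit 4, nat_lit 3]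
def Wt_203_206 (j : ℕ) : List ℕ := bif Nat.blt j 204 then [nat_lit 63, nat_lit 2, nat_lit 3, nat_lit 2, nat_lit 3] else (Wt_204_206 j)
def Wt_200_206 (j : ℕ) : List ℕ := bif Nat.blt j 203 then (Wt_200_203 j) else (Wt_203_206 j)
def Wt_194_206 (j : ℕ) : List ℕ := bif Nat.blt j 200 then (Wt_194_200 j) else (Wt_200_206 j)
def Wt_207_209 (j : ℕ) : List ℕ := bif Nat.blt j 208 then [nat_lit 1, nat_lit 4, nat_lit 2, nat_lit 0, nat_lit 4, nat_lit 1, nat_lit 4, nat_lit 2, nat_lit 0, nat_lit 4, nat_lit 1, nat_lit 4, nat_lit 0, nat_lit 2, nat_lit 4] else [nat_lit 4, nat_lit 3, nat_lit 4, nat_lit 3, nat_lit 4, nat_lit 3, nat_lit 4, nat_lit 3, nat_lit 1, nat_lit 4, nat_lit 1, nat_lit 4, nat_lit 1, nat_lit 4, nat_lit 1]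
def Wt_206_209 (j : ℕ) : List ℕ := bif Nat.blt j 207 then [nat_lit 63, nat_lit 4, nat_lit 3, nat_lit 4, nat_lit 2, nat_lit 4, nat_lit 2, nat_lit 4, nat_lit 3, nat_lit 4, nat_lit 2, nat_lit 4, nat_lit 3, nat_lit 0, nat_lit 3, nat_lit 1, nat_lit 2, nat_lit 1] else (Wt_207_209 j)
def Wt_210_212 (j : ℕ) : List ℕ := bif Nat.blt j 211 then [nat_lit 63, nat_lit 1, nat_lit 0, nat_lit 4, nat_lit 3, nat_lit 4, nat_lit 2, nat_lit 3, nat_lit 4, nat_lit 1, nat_lit 4, nat_lit 0, nat_lit 1, nat_lit 0, nat_lit 4, nat_lit 1, nat_lit 2, nat_lit 3] else [nat_lit 4, nat_lit 2, nat_lit 5, nat_lit 4, nat_lit 1, nat_lit 4, nat_lit 2, nat_lit 5, nat_lit 4, nat_lit 1, nat_lit 4, nat_lit 2, nat_lit 5, nat_lit 4, nat_lit 1]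
def Wt_209_212 (j : ℕ) : List ℕ := bif Nat.blt j 210 then [nat_lit 63, nat_lit 4, nat_lit 1, nat_lit 4, nat_lit 2, nat_lit 0, nat_lit 2, nat_lit 4, nat_lit 1, nat_lit 4, nat_lit 2, nat_lit 1, nat_lit 4, nat_lit 1, nat_lit 4, nat_lit 1, nat_lit 2] else (Wt_210_212 j)
def Wt_206_212 (j : ℕ) : List ℕ := bif Nat.blt j 209 then (Wt_206_209 j) else (Wt_209_212 j)
def Wt_213_215 (j : ℕ) : List ℕ := bif Nat.blt j 214 then [nat_lit 4, nat_lit 1, nat_lit 4, nat_lit 2, nat_lit 0, nat_lit 2, nat_lit 4, nat_lit 1, nat_lit 4, nat_lit 2, nat_lit 1, nat_lit 4, nat_lit 1, nat_lit 4, nat_lit 1, nat_lit 2] else [nat_lit 63, nat_lit 3, nat_lit 4, nat_lit 3, nat_lit 4, nat_lit 3, nat_lit 4, nat_lit 3, nat_lit 4, nat_lit 1, nat_lit 4, nat_lit 1, nat_lit 4, nat_lit 1, nat_lit 4, nat_lit 1]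
def Wt_212_215 (j : ℕ) : List ℕ := bif Nat.blt j 213 then [nat_lit 0, nat_lit 3, nat_lit 1, nat_lit 2, nat_lit 1, nat_lit 4, nat_lit 3, nat_lit 4, nat_lit 2, nat_lit 4, nat_lit 2, nat_lit 4, nat_lit 3, nat_lit 4, nat_lit 2, nat_lit 4, nat_lit 3] else (Wt_213_215 j)
def Wt_216_218 (j : ℕ) : List ℕ := bif Nat.blt j 217 then [nat_lit 63, nat_lit 2, nat_lit 4, nat_lit 3, nat_lit 2, nat_lit 4, nat_lit 1, nat_lit 3, nat_lit 0, nat_lit 3, nat_lit 4, nat_lit 2, nat_lit 3, nat_lit 4, nat_lit 2, nat_lit 4, nat_lit 1, nat_lit 4] else [nat_lit 1, nat_lit 2, nat_lit 4, nat_lit 2, nat_lit 4, nat_lit 2, nat_lit 1, nat_lit 4, nat_lit 1, nat_lit 4, nat_lit 2, nat_lit 4, nat_lit 3, nat_lit 4, nat_lit 2, nat_lit 1, nat_lit 4]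
def Wt_215_218 (j : ℕ) : List ℕ := bif Nat.blt j 216 then [nat_lit 63, nat_lit 1, nat_lit 3, nat_lit 1, nat_lit 3, nat_lit 4, nat_lit 2, nat_lit 1, nat_lit 4, nat_lit 3, nat_lit 4, nat_lit 1, nat_lit 2, nat_lit 4, nat_lit 3, nat_lit 1, nat_lit 3] else (Wt_216_218 j)
def Wt_212_218 (j : ℕ) : List ℕ := bif Nat.blt j 215 then (Wt_212_215 j) else (Wt_215_218 j)
def Wt_206_218 (j : ℕ) : List ℕ := bif Nat.blt j 212 then (Wt_206_212 j) else (Wt_212_218 j)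
def Wt_194_218 (j : ℕ) : List ℕ := bif Nat.blt j 206 then (Wt_194_206 j) else (Wt_206_218 j)
def Wt_219_221 (j : ℕ) : List ℕ := bif Nat.blt j 220 then [nat_lit 2, nat_lit 1, nat_lit 2, nat_lit 4, nat_lit 1, nat_lit 3, nat_lit 4, nat_lit 0, nat_lit 4, nat_lit 2, nat_lit 0, nat_lit 4, nat_lit 0, nat_lit 4, nat_lit 3, nat_lit 1, nat_lit 4] else [nat_lit 3, nat_lit 1, nat_lit 0, nat_lit 1, nat_lit 2, nat_lit 1, nat_lit 3, nat_lit 1, nat_lit 0, nat_lit 1, nat_lit 2, nat_lit 1, nat_lit 3, nat_lit 1, nat_lit 0, nat_lit 1, nat_lit 2, nat_lit 1]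
def Wt_218_221 (j : ℕ) : List ℕ := bif Nat.blt j 219 then [nat_lit 4, nat_lit 2, nat_lit 4, nat_lit 2, nat_lit 4, nat_lit 2, nat_lit 4, nat_lit 2, nat_lit 4, nat_lit 2, nat_lit 4, nat_lit 2] else (Wt_219_221 j)
def Wt_222_224 (j : ℕ) : List ℕ := bif Nat.blt j 223 then [nat_lit 63, nat_lit 2, nat_lit 1, nat_lit 0, nat_lit 1, nat_lit 2, nat_lit 3, nat_lit 1, nat_lit 2, nat_lit 1, nat_lit 0, nat_lit 1, nat_lit 2, nat_lit 3, nat_lit 1, nat_lit 2, nat_lit 1, nat_lit 0, nat_lit 1, nat_lit 2, nat_lit 3, nat_lit 1] else [nat_lit 63, nat_lit 3, nat_lit 1, nat_lit 0, nat_lit 3, nat_lit 0, nat_lit 3, nat_lit 0, nat_lit 3, nat_lit 1, nat_lit 0, nat_lit 3, nat_lit 0, nat_lit 3, nat_lit 0, nat_lit 3, nat_lit 1, nat_lit 0, nat_lit 3, nat_lit 0, nat_lit 3, nat_lit 0]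
def Wt_221_224 (j : ℕ) : List ℕ := bif Nat.blt j 222 then [nat_lit 0, nat_lit 1, nat_lit 2, nat_lit 3, nat_lit 1, nat_lit 2, nat_lit 1, nat_lit 0, nat_lit 1, nat_lit 2, nat_lit 3, nat_lit 1, nat_lit 2, nat_lit 1, nat_lit 0, nat_lit 1, nat_lit 2, nat_lit 3, nat_lit 1, nat_lit 2, nat_lit 1] else (Wt_222_224 j)
def Wt_218_224 (j : ℕ) : List ℕ := bif Nat.blt j 221 then (Wt_218_221 j) else (Wt_221_224 j)
def Wt_225_227 (j : ℕ) : List ℕ := bif Nat.blt j 226 then [nat_lit 2, nat_lit 1, nat_lit 4, nat_lit 2, nat_lit 4, nat_lit 3, nat_lit 4, nat_lit 2, nat_lit 4, nat_lit 2, nat_lit 4, nat_lit 3, nat_lit 4, nat_lit 3, nat_lit 0, nat_lit 3, nat_lit 1] else [nat_lit 0, nat_lit 3, nat_lit 1, nat_lit 4, nat_lit 1, nat_lit 3, nat_lit 0, nat_lit 1, nat_lit 0, nat_lit 3, nat_lit 1, nat_lit 4, nat_lit 1, nat_lit 3, nat_lit 0, nat_lit 1]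
def Wt_224_227 (j : ℕ) : List ℕ := bif Nat.blt j 225 then [nat_lit 63, nat_lit 0, nat_lit 1, nat_lit 2, nat_lit 0, nat_lit 1, nat_lit 2, nat_lit 0, nat_lit 1, nat_lit 2, nat_lit 0, nat_lit 1, nat_lit 2, nat_lit 0, nat_lit 1, nat_lit 2] else (Wt_225_227 j)
def Wt_228_230 (j : ℕ) : List ℕ := bif Nat.blt j 229 then [nat_lit 63, nat_lit 2, nat_lit 3, nat_lit 4, nat_lit 2, nat_lit 4, nat_lit 1, nat_lit 4, nat_lit 2, nat_lit 4, nat_lit 3, nat_lit 2, nat_lit 4, nat_lit 3, nat_lit 0, nat_lit 3, nat_lit 1, nat_lit 4] else [nat_lit 0, nat_lit 3, nat_lit 1, nat_lit 4, nat_lit 1, nat_lit 4, nat_lit 0, nat_lit 4, nat_lit 1, nat_lit 4, nat_lit 2, nat_lit 1, nat_lit 4, nat_lit 1, nat_lit 4, nat_lit 3, nat_lit 2]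
def Wt_227_230 (j : ℕ) : List ℕ := bif Nat.blt j 228 then [nat_lit 4, nat_lit 1, nat_lit 4, nat_lit 2, nat_lit 4, nat_lit 3, nat_lit 2, nat_lit 4, nat_lit 3, nat_lit 0, nat_lit 3, nat_lit 1, nat_lit 4, nat_lit 2, nat_lit 3, nat_lit 4, nat_lit 2] else (Wt_228_230 j)
def Wt_224_230 (j : ℕ) : List ℕ := bif Nat.blt j 227 then (Wt_224_227 j) else (Wt_227_230 j)
def Wt_218_230 (j : ℕ) : List ℕ := bif Nat.blt j 224 then (Wt_218_224 j) else (Wt_224_230 j)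
def Wt_231_233 (j : ℕ) : List ℕ := bif Nat.blt j 232 then [nat_lit 63, nat_lit 4, nat_lit 3, nat_lit 4, nat_lit 3, nat_lit 4, nat_lit 3, nat_lit 1, nat_lit 4, nat_lit 1, nat_lit 4, nat_lit 1, nat_lit 4, nat_lit 1, nat_lit 4, nat_lit 3] else [nat_lit 4, nat_lit 1, nat_lit 4, nat_lit 1, nat_lit 4, nat_lit 1, nat_lit 4, nat_lit 3, nat_lit 4, nat_lit 3, nat_lit 4, nat_lit 3, nat_lit 4, nat_lit 3, nat_lit 1]
def Wt_230_233 (j : ℕ) : List ℕ := bif Nat.blt j 231 then [nat_lit 63, nat_lit 4, nat_lit 2, nat_lit 4, nat_lit 3, nat_lit 4, nat_lit 2, nat_lit 1, nat_lit 4, nat_lit 1, nat_lit 2, nat_lit 4, nat_lit 2, nat_lit 4, nat_lit 2, nat_lit 1, nat_lit 4, nat_lit 1] else (Wt_231_233 j)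
def Wt_234_236 (j : ℕ) : List ℕ := bif Nat.blt j 235 then [nat_lit 0, nat_lit 1, nat_lit 3, nat_lit 2, nat_lit 1, nat_lit 4, nat_lit 0, nat_lit 1, nat_lit 0, nat_lit 4, nat_lit 1, nat_lit 4, nat_lit 3, nat_lit 2, nat_lit 4, nat_lit 3, nat_lit 4] else [nat_lit 3, nat_lit 4, nat_lit 3, nat_lit 1, nat_lit 4, nat_lit 1, nat_lit 4, nat_lit 1, nat_lit 4, nat_lit 1, nat_lit 4, nat_lit 3, nat_lit 4, nat_lit 3, nat_lit 4]
def Wt_233_236 (j : ℕ) : List ℕ := bif Nat.blt j 234 then [nat_lit 4, nat_lit 3, nat_lit 4, nat_lit 3, nat_lit 1, nat_lit 4, nat_lit 1, nat_lit 4, nat_lit 1, nat_lit 4, nat_lit 1, nat_lit 4, nat_lit 3, nat_lit 4, nat_lit 3] else (Wt_234_236 j)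
def Wt_230_236 (j : ℕ) : List ℕ := bif Nat.blt j 233 then (Wt_230_233 j) else (Wt_233_236 j)
def Wt_237_239 (j : ℕ) : List ℕ := bif Nat.blt j 238 then [nat_lit 1, nat_lit 4, nat_lit 1, nat_lit 3, nat_lit 4, nat_lit 3, nat_lit 4, nat_lit 3, nat_lit 4, nat_lit 3, nat_lit 4, nat_lit 1, nat_lit 4, nat_lit 1, nat_lit 4] else [nat_lit 4, nat_lit 1, nat_lit 4, nat_lit 1, nat_lit 4, nat_lit 3, nat_lit 4, nat_lit 3, nat_lit 4, nat_lit 3, nat_lit 4, nat_lit 3, nat_lit 1, nat_lit 4, nat_lit 1]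
def Wt_236_239 (j : ℕ) : List ℕ := bif Nat.blt j 237 then [nat_lit 4, nat_lit 3, nat_lit 0, nat_lit 4, nat_lit 3, nat_lit 4, nat_lit 2, nat_lit 3, nat_lit 4, nat_lit 3, nat_lit 4, nat_lit 0, nat_lit 3, nat_lit 4, nat_lit 0, nat_lit 3, nat_lit 0] else (Wt_237_239 j)
def Wt_240_242 (j : ℕ) : List ℕ := bif Nat.blt j 241 then [nat_lit 2, nat_lit 0, nat_lit 3, nat_lit 1, nat_lit 4, nat_lit 1, nat_lit 4, nat_lit 0, nat_lit 4, nat_lit 1, nat_lit 4, nat_lit 2, nat_lit 1, nat_lit 4, nat_lit 1, nat_lit 4, nat_lit 3] else [nat_lit 1, nat_lit 2, nat_lit 1, nat_lit 3, nat_lit 2, nat_lit 1, nat_lit 0, nat_lit 1, nat_lit 2, nat_lit 1, nat_lit 3, nat_lit 2, nat_lit 1, nat_lit 0, nat_lit 1, nat_lit 2, nat_lit 1, nat_lit 3, nat_lit 2, nat_lit 1, nat_lit 0]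
def Wt_239_242 (j : ℕ) : List ℕ := bif Nat.blt j 240 then [nat_lit 1, nat_lit 4, nat_lit 1, nat_lit 4, nat_lit 1, nat_lit 3, nat_lit 4, nat_lit 3, nat_lit 4, nat_lit 3, nat_lit 4, nat_lit 3, nat_lit 4, nat_lit 1, nat_lit 4] else (Wt_240_242 j)
def Wt_236_242 (j : ℕ) : List ℕ := bif Nat.blt j 239 then (Wt_236_239 j) else (Wt_239_242 j)
def Wt_230_242 (j : ℕ) : List ℕ := bif Nat.blt j 236 then (Wt_230_236 j) else (Wt_236_242 j)
def Wt_218_242 (j : ℕ) : List ℕ := bif Nat.blt j 230 then (Wt_218_230 j) else (Wt_230_242 j)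
def Wt_194_242 (j : ℕ) : List ℕ := bif Nat.blt j 218 then (Wt_194_218 j) else (Wt_218_242 j)
def Wt_243_245 (j : ℕ) : List ℕ := bif Nat.blt j 244 then [nat_lit 63, nat_lit 1, nat_lit 2, nat_lit 0, nat_lit 2, nat_lit 1, nat_lit 0, nat_lit 1, nat_lit 2, nat_lit 0, nat_lit 2, nat_lit 1, nat_lit 0, nat_lit 1, nat_lit 2, nat_lit 0, nat_lit 2, nat_lit 1, nat_lit 0] else [nat_lit 63, nat_lit 1, nat_lit 0, nat_lit 1, nat_lit 2, nat_lit 1, nat_lit 0, nat_lit 1, nat_lit 2, nat_lit 1, nat_lit 0, nat_lit 1, nat_lit 2]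
def Wt_242_245 (j : ℕ) : List ℕ := bif Nat.blt j 243 then [nat_lit 63, nat_lit 2, nat_lit 0, nat_lit 1, nat_lit 2, nat_lit 1, nat_lit 0, nat_lit 2, nat_lit 0, nat_lit 1, nat_lit 2, nat_lit 1, nat_lit 0] else (Wt_243_245 j)
def Wt_246_248 (j : ℕ) : List ℕ := bif Nat.blt j 247 then [nat_lit 63, nat_lit 1, nat_lit 2, nat_lit 1, nat_lit 3, nat_lit 2, nat_lit 1, nat_lit 0, nat_lit 1, nat_lit 2, nat_lit 1, nat_lit 3, nat_lit 2, nat_lit 1, nat_lit 0, nat_lit 1, nat_lit 2, nat_lit 1, nat_lit 3, nat_lit 2, nat_lit 1, nat_lit 0] else [nat_lit 63, nat_lit 1, nat_lit 0, nat_lit 1, nat_lit 2, nat_lit 1, nat_lit 3, nat_lit 1, nat_lit 0, nat_lit 1, nat_lit 2, nat_lit 1, nat_lit 3, nat_lit 1, nat_lit 0, nat_lit 1, nat_lit 2, nat_lit 1, nat_lit 3]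
def Wt_245_248 (j : ℕ) : List ℕ := bif Nat.blt j 246 then [nat_lit 63, nat_lit 0, nat_lit 1, nat_lit 3, nat_lit 1, nat_lit 2, nat_lit 1, nat_lit 0, nat_lit 1, nat_lit 3, nat_lit 1, nat_lit 2, nat_lit 1, nat_lit 0, nat_lit 1, nat_lit 3, nat_lit 1, nat_lit 2, nat_lit 1] else (Wt_246_248 j)
def Wt_242_248 (j : ℕ) : List ℕ := bif Nat.blt j 245 then (Wt_242_245 j) else (Wt_245_248 j)
def Wt_249_251 (j : ℕ) : List ℕ := bif Nat.blt j 250 then [nat_lit 63, nat_lit 1, nat_lit 0, nat_lit 2, nat_lit 0, nat_lit 1, nat_lit 2, nat_lit 1, nat_lit 0, nat_lit 2, nat_lit 0, nat_lit 1, nat_lit 2] else [nat_lit 63, nat_lit 1, nat_lit 3, nat_lit 2, nat_lit 1, nat_lit 0, nat_lit 1, nat_lit 2, nat_lit 1, nat_lit 3, nat_lit 2, nat_lit 1, nat_lit 0, nat_lit 1, nat_lit 2, nat_lit 1, nat_lit 3, nat_lit 2, nat_lit 1, nat_lit 0, nat_lit 1, nat_lit 2]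
def Wt_248_251 (j : ℕ) : List ℕ := bif Nat.blt j 249 then [nat_lit 4, nat_lit 63, nat_lit 4, nat_lit 63] else (Wt_249_251 j)
def Wt_252_254 (j : ℕ) : List ℕ := bif Nat.blt j 253 then [nat_lit 1, nat_lit 2, nat_lit 1, nat_lit 0, nat_lit 1, nat_lit 2, nat_lit 3, nat_lit 1, nat_lit 2, nat_lit 1, nat_lit 0, nat_lit 1, nat_lit 2, nat_lit 3, nat_lit 1, nat_lit 2, nat_lit 1, nat_lit 0, nat_lit 1, nat_lit 2, nat_lit 3] else [nat_lit 63, nat_lit 2, nat_lit 1, nat_lit 0, nat_lit 2, nat_lit 1, nat_lit 0, nat_lit 2, nat_lit 1, nat_lit 0, nat_lit 2, nat_lit 1, nat_lit 0, nat_lit 2, nat_lit 1, nat_lit 0]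
def Wt_251_254 (j : ℕ) : List ℕ := bif Nat.blt j 252 then [nat_lit 1, nat_lit 3, nat_lit 2, nat_lit 1, nat_lit 0, nat_lit 1, nat_lit 2, nat_lit 1, nat_lit 3, nat_lit 2, nat_lit 1, nat_lit 0, nat_lit 1, nat_lit 2, nat_lit 1, nat_lit 3, nat_lit 2, nat_lit 1, nat_lit 0, nat_lit 1, nat_lit 2] else (Wt_252_254 j)
def Wt_248_254 (j : ℕ) : List ℕ := bif Nat.blt j 251 then (Wt_248_251 j) else (Wt_251_254 j)
def Wt_242_254 (j : ℕ) : List ℕ := bif Nat.blt j 248 then (Wt_242_248 j) else (Wt_248_254 j)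
def Wt_255_257 (j : ℕ) : List ℕ := bif Nat.blt j 256 then [nat_lit 1, nat_lit 2, nat_lit 0, nat_lit 1, nat_lit 2, nat_lit 0, nat_lit 1, nat_lit 2, nat_lit 0, nat_lit 1, nat_lit 2, nat_lit 0, nat_lit 1, nat_lit 2, nat_lit 0] else [nat_lit 3, nat_lit 2, nat_lit 5, nat_lit 3, nat_lit 5]
def Wt_254_257 (j : ℕ) : List ℕ := bif Nat.blt j 255 then [nat_lit 4, nat_lit 3, nat_lit 4, nat_lit 3, nat_lit 0, nat_lit 3, nat_lit 1, nat_lit 2, nat_lit 1, nat_lit 4, nat_lit 2, nat_lit 4, nat_lit 3, nat_lit 4, nat_lit 2, nat_lit 4, nat_lit 2] else (Wt_255_257 j)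
def Wt_258_260 (j : ℕ) : List ℕ := bif Nat.blt j 259 then [nat_lit 4, nat_lit 1, nat_lit 3, nat_lit 4, nat_lit 1, nat_lit 0, nat_lit 4, nat_lit 1, nat_lit 0, nat_lit 2, nat_lit 1, nat_lit 0, nat_lit 1, nat_lit 3, nat_lit 4, nat_lit 0, nat_lit 1] else [nat_lit 3, nat_lit 1, nat_lit 4, nat_lit 1, nat_lit 0, nat_lit 4, nat_lit 3, nat_lit 1, nat_lit 0, nat_lit 1, nat_lit 2, nat_lit 0, nat_lit 1, nat_lit 4, nat_lit 0, nat_lit 1, nat_lit 4]
def Wt_257_260 (j : ℕ) : List ℕ := bif Nat.blt j 258 then [nat_lit 1, nat_lit 3, nat_lit 4, nat_lit 1, nat_lit 0, nat_lit 4, nat_lit 1, nat_lit 0, nat_lit 2, nat_lit 1, nat_lit 0, nat_lit 1, nat_lit 3, nat_lit 4, nat_lit 0, nat_lit 1, nat_lit 4] else (Wt_258_260 j)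
def Wt_254_260 (j : ℕ) : List ℕ := bif Nat.blt j 257 then (Wt_254_257 j) else (Wt_257_260 j)
def Wt_261_263 (j : ℕ) : List ℕ := bif Nat.blt j 262 then [nat_lit 4, nat_lit 1, nat_lit 0, nat_lit 4, nat_lit 1, nat_lit 0, nat_lit 2, nat_lit 1, nat_lit 0, nat_lit 1, nat_lit 3, nat_lit 4, nat_lit 0, nat_lit 1, nat_lit 4, nat_lit 1, nat_lit 3] else [nat_lit 63, nat_lit 2, nat_lit 0, nat_lit 3, nat_lit 1, nat_lit 4, nat_lit 1, nat_lit 4, nat_lit 0, nat_lit 4, nat_lit 1, nat_lit 4, nat_lit 2, nat_lit 1, nat_lit 4, nat_lit 1, nat_lit 4, nat_lit 3]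
def Wt_260_263 (j : ℕ) : List ℕ := bif Nat.blt j 261 then [nat_lit 2, nat_lit 1, nat_lit 0, nat_lit 1, nat_lit 3, nat_lit 1, nat_lit 2, nat_lit 1, nat_lit 0, nat_lit 1, nat_lit 3, nat_lit 1, nat_lit 2, nat_lit 1, nat_lit 0, nat_lit 1, nat_lit 3, nat_lit 1] else (Wt_261_263 j)
def Wt_264_266 (j : ℕ) : List ℕ := bif Nat.blt j 265 then [nat_lit 2, nat_lit 0, nat_lit 2, nat_lit 1, nat_lit 0, nat_lit 1, nat_lit 2, nat_lit 0, nat_lit 2, nat_lit 1, nat_lit 0, nat_lit 1, nat_lit 2, nat_lit 0, nat_lit 2, nat_lit 1, nat_lit 0, nat_lit 1] else [nat_lit 4, nat_lit 1, nat_lit 4, nat_lit 3, nat_lit 2, nat_lit 4, nat_lit 3, nat_lit 4, nat_lit 0, nat_lit 1, nat_lit 3, nat_lit 2, nat_lit 1, nat_lit 4, nat_lit 0, nat_lit 1, nat_lit 0]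
def Wt_263_266 (j : ℕ) : List ℕ := bif Nat.blt j 264 then [nat_lit 3, nat_lit 4, nat_lit 0, nat_lit 1, nat_lit 3, nat_lit 2, nat_lit 1, nat_lit 4, nat_lit 0, nat_lit 1, nat_lit 0, nat_lit 4, nat_lit 1, nat_lit 4, nat_lit 3, nat_lit 2, nat_lit 4] else (Wt_264_266 j)
def Wt_260_266 (j : ℕ) : List ℕ := bif Nat.blt j 263 then (Wt_260_263 j) else (Wt_263_266 j)
def Wt_254_266 (j : ℕ) : List ℕ := bif Nat.blt j 260 then (Wt_254_260 j) else (Wt_260_266 j)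
def Wt_242_266 (j : ℕ) : List ℕ := bif Nat.blt j 254 then (Wt_242_254 j) else (Wt_254_266 j)
def Wt_267_269 (j : ℕ) : List ℕ := bif Nat.blt j 268 then [nat_lit 4, nat_lit 3, nat_lit 4, nat_lit 2, nat_lit 4, nat_lit 1, nat_lit 4, nat_lit 1, nat_lit 2, nat_lit 4, nat_lit 2, nat_lit 4, nat_lit 2, nat_lit 1, nat_lit 4, nat_lit 1, nat_lit 2] else [nat_lit 1, nat_lit 4, nat_lit 3, nat_lit 2, nat_lit 4, nat_lit 3, nat_lit 4, nat_lit 0, nat_lit 1, nat_lit 3, nat_lit 2, nat_lit 1, nat_lit 4, nat_lit 0, nat_lit 1, nat_lit 0, nat_lit 4]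
def Wt_266_269 (j : ℕ) : List ℕ := bif Nat.blt j 267 then [nat_lit 1, nat_lit 4, nat_lit 1, nat_lit 2, nat_lit 1, nat_lit 4, nat_lit 0, nat_lit 1, nat_lit 4, nat_lit 3, nat_lit 2, nat_lit 4, nat_lit 1, nat_lit 0, nat_lit 4, nat_lit 1, nat_lit 2] else (Wt_267_269 j)
def Wt_270_272 (j : ℕ) : List ℕ := bif Nat.blt j 271 then [nat_lit 63, nat_lit 3, nat_lit 0, nat_lit 3, nat_lit 0, nat_lit 1, nat_lit 3, nat_lit 0, nat_lit 3, nat_lit 0, nat_lit 3, nat_lit 0, nat_lit 1, nat_lit 3, nat_lit 0, nat_lit 3, nat_lit 0, nat_lit 3, nat_lit 0, nat_lit 1, nat_lit 3, nat_lit 0] else [nat_lit 63, nat_lit 1, nat_lit 2, nat_lit 1, nat_lit 0, nat_lit 1, nat_lit 2, nat_lit 3, nat_lit 1, nat_lit 2, nat_lit 1, nat_lit 0, nat_lit 1, nat_lit 2, nat_lit 3, nat_lit 1, nat_lit 2, nat_lit 1, nat_lit 0, nat_lit 1, nat_lit 2, nat_lit 3]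
def Wt_269_272 (j : ℕ) : List ℕ := bif Nat.blt j 270 then [nat_lit 2, nat_lit 0, nat_lit 3, nat_lit 2, nat_lit 0, nat_lit 1, nat_lit 2, nat_lit 0, nat_lit 3, nat_lit 2, nat_lit 0, nat_lit 1, nat_lit 2, nat_lit 0, nat_lit 3, nat_lit 2, nat_lit 0, nat_lit 1] else (Wt_270_272 j)
def Wt_266_272 (j : ℕ) : List ℕ := bif Nat.blt j 269 then (Wt_266_269 j) else (Wt_269_272 j)
def Wt_273_275 (j : ℕ) : List ℕ := bif Nat.blt j 274 then [nat_lit 4, nat_lit 1, nat_lit 0, nat_lit 4, nat_lit 3, nat_lit 1, nat_lit 0, nat_lit 1, nat_lit 2, nat_lit 0, nat_lit 1, nat_lit 4, nat_lit 0, nat_lit 1, nat_lit 4, nat_lit 3, nat_lit 1] else [nat_lit 1, nat_lit 2, nat_lit 4, nat_lit 3, nat_lit 1, nat_lit 3, nat_lit 1, nat_lit 3, nat_lit 1, nat_lit 3, nat_lit 4, nat_lit 2, nat_lit 1, nat_lit 4, nat_lit 3, nat_lit 4]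
def Wt_272_275 (j : ℕ) : List ℕ := bif Nat.blt j 273 then [nat_lit 3, nat_lit 5, nat_lit 3, nat_lit 2, nat_lit 5] else (Wt_273_275 j)
def Wt_276_278 (j : ℕ) : List ℕ := bif Nat.blt j 277 then [nat_lit 4, nat_lit 1, nat_lit 4, nat_lit 1, nat_lit 2, nat_lit 4, nat_lit 2, nat_lit 4, nat_lit 2, nat_lit 1, nat_lit 4, nat_lit 1, nat_lit 2, nat_lit 4, nat_lit 3, nat_lit 4, nat_lit 2] else [nat_lit 1, nat_lit 4, nat_lit 1, nat_lit 3, nat_lit 0, nat_lit 1, nat_lit 0, nat_lit 3, nat_lit 1, nat_lit 4, nat_lit 1, nat_lit 3, nat_lit 0, nat_lit 1, nat_lit 0, nat_lit 3]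
def Wt_275_278 (j : ℕ) : List ℕ := bif Nat.blt j 276 then [nat_lit 1, nat_lit 0, nat_lit 4, nat_lit 3, nat_lit 1, nat_lit 0, nat_lit 1, nat_lit 2, nat_lit 0, nat_lit 1, nat_lit 4, nat_lit 0, nat_lit 1, nat_lit 4, nat_lit 3, nat_lit 1, nat_lit 4] else (Wt_276_278 j)
def Wt_272_278 (j : ℕ) : List ℕ := bif Nat.blt j 275 then (Wt_272_275 j) else (Wt_275_278 j)
def Wt_266_278 (j : ℕ) : List ℕ := bif Nat.blt j 272 then (Wt_266_272 j) else (Wt_272_278 j)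
def Wt_279_281 (j : ℕ) : List ℕ := bif Nat.blt j 280 then [nat_lit 4, nat_lit 0, nat_lit 2, nat_lit 4, nat_lit 1, nat_lit 4, nat_lit 2, nat_lit 0, nat_lit 4, nat_lit 1, nat_lit 4, nat_lit 2, nat_lit 0, nat_lit 4, nat_lit 1] else [nat_lit 4, nat_lit 3, nat_lit 4, nat_lit 2, nat_lit 4, nat_lit 2, nat_lit 4, nat_lit 3, nat_lit 4, nat_lit 3, nat_lit 0, nat_lit 3, nat_lit 1, nat_lit 2, nat_lit 1, nat_lit 4, nat_lit 2]
def Wt_278_281 (j : ℕ) : List ℕ := bif Nat.blt j 279 then [nat_lit 63, nat_lit 1, nat_lit 4, nat_lit 1, nat_lit 2, nat_lit 4, nat_lit 1, nat_lit 4, nat_lit 0, nat_lit 4, nat_lit 1, nat_lit 4, nat_lit 1, nat_lit 3, nat_lit 0, nat_lit 2, nat_lit 3, nat_lit 4] else (Wt_279_281 j)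
def Wt_282_284 (j : ℕ) : List ℕ := bif Nat.blt j 283 then [nat_lit 2, nat_lit 3, nat_lit 5, nat_lit 3, nat_lit 5] else [nat_lit 63, nat_lit 3, nat_lit 0, nat_lit 2, nat_lit 3, nat_lit 4, nat_lit 1, nat_lit 4, nat_lit 1, nat_lit 2, nat_lit 4, nat_lit 1, nat_lit 4, nat_lit 0, nat_lit 4, nat_lit 1, nat_lit 4, nat_lit 1]
def Wt_281_284 (j : ℕ) : List ℕ := bif Nat.blt j 282 then [nat_lit 63, nat_lit 1, nat_lit 4, nat_lit 3, nat_lit 4, nat_lit 2, nat_lit 4, nat_lit 2, nat_lit 4, nat_lit 3, nat_lit 4, nat_lit 2, nat_lit 4, nat_lit 3, nat_lit 0, nat_lit 3, nat_lit 1, nat_lit 2] else (Wt_282_284 j)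
def Wt_278_284 (j : ℕ) : List ℕ := bif Nat.blt j 281 then (Wt_278_281 j) else (Wt_281_284 j)
def Wt_285_287 (j : ℕ) : List ℕ := bif Nat.blt j 286 then [nat_lit 63, nat_lit 5, nat_lit 1, nat_lit 5, nat_lit 1] else [nat_lit 1, nat_lit 2, nat_lit 1, nat_lit 0, nat_lit 2, nat_lit 0, nat_lit 1, nat_lit 2, nat_lit 1, nat_lit 0, nat_lit 2, nat_lit 0]
def Wt_284_287 (j : ℕ) : List ℕ := bif Nat.blt j 285 then [nat_lit 0, nat_lit 1, nat_lit 0, nat_lit 4, nat_lit 1, nat_lit 4, nat_lit 3, nat_lit 2, nat_lit 4, nat_lit 3, nat_lit 4, nat_lit 0, nat_lit 1, nat_lit 3, nat_lit 2, nat_lit 1, nat_lit 4] else (Wt_285_287 j)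
def Wt_287_289 (j : ℕ) : List ℕ := bif Nat.blt j 288 then [nat_lit 63, nat_lit 2, nat_lit 3, nat_lit 4, nat_lit 1, nat_lit 4, nat_lit 1, nat_lit 2, nat_lit 4, nat_lit 1, nat_lit 4, nat_lit 0, nat_lit 4, nat_lit 1, nat_lit 4, nat_lit 1, nat_lit 3, nat_lit 0] else [nat_lit 1, nat_lit 3, nat_lit 1, nat_lit 3, nat_lit 1, nat_lit 3, nat_lit 4, nat_lit 2, nat_lit 1, nat_lit 4, nat_lit 3, nat_lit 4, nat_lit 1, nat_lit 2, nat_lit 4, nat_lit 3]
def Wt_289_291 (j : ℕ) : List ℕ := bif Nat.blt j 290 then [nat_lit 63, nat_lit 2, nat_lit 1, nat_lit 4, nat_lit 1, nat_lit 4, nat_lit 1, nat_lit 2, nat_lit 4, nat_lit 1, nat_lit 4, nat_lit 2, nat_lit 0, nat_lit 2, nat_lit 4, nat_lit 1, nat_lit 4] else [nat_lit 3, nat_lit 0, nat_lit 1, nat_lit 0, nat_lit 3, nat_lit 1, nat_lit 4, nat_lit 1, nat_lit 3, nat_lit 0, nat_lit 1, nat_lit 0, nat_lit 3, nat_lit 1, nat_lit 4, nat_lit 1]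
def Wt_287_291 (j : ℕ) : List ℕ := bif Nat.blt j 289 then (Wt_287_289 j) else (Wt_289_291 j)
def Wt_284_291 (j : ℕ) : List ℕ := bif Nat.blt j 287 then (Wt_284_287 j) else (Wt_287_291 j)
def Wt_278_291 (j : ℕ) : List ℕ := bif Nat.blt j 284 then (Wt_278_284 j) else (Wt_284_291 j)
def Wt_266_291 (j : ℕ) : List ℕ := bif Nat.blt j 278 then (Wt_266_278 j) else (Wt_278_291 j)
def Wt_242_291 (j : ℕ) : List ℕ := bif Nat.blt j 266 then (Wt_242_266 j) else (Wt_266_291 j)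
def Wt_194_291 (j : ℕ) : List ℕ := bif Nat.blt j 242 then (Wt_194_242 j) else (Wt_242_291 j)
def Wt_292_294 (j : ℕ) : List ℕ := bif Nat.blt j 293 then [nat_lit 0, nat_lit 1, nat_lit 3, nat_lit 0, nat_lit 3, nat_lit 0, nat_lit 3, nat_lit 0, nat_lit 1, nat_lit 3, nat_lit 0, nat_lit 3, nat_lit 0, nat_lit 3, nat_lit 0, nat_lit 1, nat_lit 3, nat_lit 0, nat_lit 3, nat_lit 0, nat_lit 3] else [nat_lit 4, nat_lit 3, nat_lit 4, nat_lit 3, nat_lit 4, nat_lit 3, nat_lit 4, nat_lit 1, nat_lit 4, nat_lit 1, nat_lit 4, nat_lit 1, nat_lit 4, nat_lit 1, nat_lit 3]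
def Wt_291_294 (j : ℕ) : List ℕ := bif Nat.blt j 292 then [nat_lit 4, nat_lit 3, nat_lit 4, nat_lit 1, nat_lit 2, nat_lit 4, nat_lit 3, nat_lit 1, nat_lit 3, nat_lit 1, nat_lit 3, nat_lit 1, nat_lit 3, nat_lit 4, nat_lit 2, nat_lit 1] else (Wt_292_294 j)
def Wt_295_297 (j : ℕ) : List ℕ := bif Nat.blt j 296 then [nat_lit 4, nat_lit 1, nat_lit 4, nat_lit 0, nat_lit 1, nat_lit 0, nat_lit 4, nat_lit 1, nat_lit 2, nat_lit 3, nat_lit 1, nat_lit 0, nat_lit 4, nat_lit 3, nat_lit 4, nat_lit 2, nat_lit 3] else [nat_lit 4, nat_lit 1, nat_lit 2, nat_lit 4, nat_lit 3, nat_lit 4, nat_lit 2, nat_lit 4, nat_lit 1, nat_lit 4, nat_lit 1, nat_lit 2, nat_lit 4, nat_lit 2, nat_lit 4, nat_lit 2, nat_lit 1]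
def Wt_294_297 (j : ℕ) : List ℕ := bif Nat.blt j 295 then [nat_lit 4, nat_lit 1, nat_lit 2, nat_lit 4, nat_lit 3, nat_lit 1, nat_lit 3, nat_lit 1, nat_lit 3, nat_lit 1, nat_lit 3, nat_lit 4, nat_lit 2, nat_lit 1, nat_lit 4, nat_lit 3] else (Wt_295_297 j)
def Wt_291_297 (j : ℕ) : List ℕ := bif Nat.blt j 294 then (Wt_291_294 j) else (Wt_294_297 j)
def Wt_298_300 (j : ℕ) : List ℕ := bif Nat.blt j 299 then [nat_lit 1, nat_lit 2, nat_lit 4, nat_lit 2, nat_lit 4, nat_lit 2, nat_lit 1, nat_lit 4, nat_lit 1, nat_lit 2, nat_lit 4, nat_lit 3, nat_lit 4, nat_lit 2, nat_lit 4, nat_lit 1, nat_lit 4] else [nat_lit 63, nat_lit 4, nat_lit 1, nat_lit 4, nat_lit 1, nat_lit 2, nat_lit 4, nat_lit 2, nat_lit 4, nat_lit 2, nat_lit 1, nat_lit 4, nat_lit 1, nat_lit 2, nat_lit 4, nat_lit 3, nat_lit 4, nat_lit 2]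
def Wt_297_300 (j : ℕ) : List ℕ := bif Nat.blt j 298 then [nat_lit 3, nat_lit 4, nat_lit 2, nat_lit 4, nat_lit 2, nat_lit 4, nat_lit 3, nat_lit 4, nat_lit 3, nat_lit 0, nat_lit 3, nat_lit 1, nat_lit 2, nat_lit 1, nat_lit 4, nat_lit 2, nat_lit 4] else (Wt_298_300 j)
def Wt_301_303 (j : ℕ) : List ℕ := bif Nat.blt j 302 then [nat_lit 4, nat_lit 2, nat_lit 4, nat_lit 2, nat_lit 4, nat_lit 3, nat_lit 4, nat_lit 3, nat_lit 0, nat_lit 3, nat_lit 1, nat_lit 2, nat_lit 1, nat_lit 4, nat_lit 2, nat_lit 4, nat_lit 3] else [nat_lit 63, nat_lit 0, nat_lit 3, nat_lit 0, nat_lit 4, nat_lit 3, nat_lit 0, nat_lit 4, nat_lit 3, nat_lit 4, nat_lit 2, nat_lit 3, nat_lit 4, nat_lit 3, nat_lit 4, nat_lit 0, nat_lit 3, nat_lit 4]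
def Wt_300_303 (j : ℕ) : List ℕ := bif Nat.blt j 301 then [nat_lit 63, nat_lit 2, nat_lit 1, nat_lit 4, nat_lit 1, nat_lit 2, nat_lit 4, nat_lit 2, nat_lit 4, nat_lit 2, nat_lit 1, nat_lit 4, nat_lit 1, nat_lit 4, nat_lit 2, nat_lit 4, nat_lit 3, nat_lit 4] else (Wt_301_303 j)
def Wt_297_303 (j : ℕ) : List ℕ := bif Nat.blt j 300 then (Wt_297_300 j) else (Wt_300_303 j)
def Wt_291_303 (j : ℕ) : List ℕ := bif Nat.blt j 297 then (Wt_291_297 j) else (Wt_297_303 j)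
def Wt_304_306 (j : ℕ) : List ℕ := bif Nat.blt j 305 then [nat_lit 4, nat_lit 1, nat_lit 0, nat_lit 4, nat_lit 1, nat_lit 2, nat_lit 1, nat_lit 4, nat_lit 1, nat_lit 2, nat_lit 1, nat_lit 4, nat_lit 0, nat_lit 1, nat_lit 4, nat_lit 2, nat_lit 3] else [nat_lit 1, nat_lit 4, nat_lit 3, nat_lit 2, nat_lit 4, nat_lit 1, nat_lit 0, nat_lit 4, nat_lit 1, nat_lit 2, nat_lit 1, nat_lit 4, nat_lit 1, nat_lit 2, nat_lit 1, nat_lit 4, nat_lit 0]
def Wt_303_306 (j : ℕ) : List ℕ := bif Nat.blt j 304 then [nat_lit 63, nat_lit 2, nat_lit 1, nat_lit 4, nat_lit 3, nat_lit 4, nat_lit 2, nat_lit 4, nat_lit 2, nat_lit 4, nat_lit 3, nat_lit 4, nat_lit 2, nat_lit 4, nat_lit 3, nat_lit 0, nat_lit 3, nat_lit 1] else (Wt_304_306 j)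
def Wt_307_309 (j : ℕ) : List ℕ := bif Nat.blt j 308 then [nat_lit 4, nat_lit 2, nat_lit 4, nat_lit 3, nat_lit 2, nat_lit 4, nat_lit 1, nat_lit 3, nat_lit 0, nat_lit 3, nat_lit 4, nat_lit 2, nat_lit 3, nat_lit 4, nat_lit 2, nat_lit 4, nat_lit 1] else [nat_lit 4, nat_lit 1, nat_lit 4, nat_lit 2, nat_lit 0, nat_lit 4, nat_lit 1, nat_lit 4, nat_lit 2, nat_lit 0, nat_lit 4, nat_lit 1, nat_lit 4, nat_lit 0, nat_lit 2]
def Wt_306_309 (j : ℕ) : List ℕ := bif Nat.blt j 307 then [nat_lit 2, nat_lit 0, nat_lit 2, nat_lit 4, nat_lit 1, nat_lit 4, nat_lit 2, nat_lit 1, nat_lit 4, nat_lit 1, nat_lit 4, nat_lit 1, nat_lit 2, nat_lit 4, nat_lit 1, nat_lit 4] else (Wt_307_309 j)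
def Wt_303_309 (j : ℕ) : List ℕ := bif Nat.blt j 306 then (Wt_303_306 j) else (Wt_306_309 j)
def Wt_310_312 (j : ℕ) : List ℕ := bif Nat.blt j 311 then [nat_lit 3, nat_lit 4, nat_lit 2, nat_lit 4, nat_lit 3, nat_lit 0, nat_lit 3, nat_lit 1, nat_lit 2, nat_lit 1, nat_lit 4, nat_lit 3, nat_lit 4, nat_lit 2, nat_lit 4, nat_lit 2, nat_lit 4] else [nat_lit 3, nat_lit 4, nat_lit 1, nat_lit 4, nat_lit 0, nat_lit 1, nat_lit 0, nat_lit 4, nat_lit 1, nat_lit 2, nat_lit 3, nat_lit 1, nat_lit 0, nat_lit 4, nat_lit 3, nat_lit 4, nat_lit 2]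
def Wt_309_312 (j : ℕ) : List ℕ := bif Nat.blt j 310 then [nat_lit 63, nat_lit 2, nat_lit 4, nat_lit 1, nat_lit 4, nat_lit 2, nat_lit 0, nat_lit 2, nat_lit 4, nat_lit 1, nat_lit 4, nat_lit 2, nat_lit 1, nat_lit 4, nat_lit 1, nat_lit 4, nat_lit 1] else (Wt_310_312 j)
def Wt_313_315 (j : ℕ) : List ℕ := bif Nat.blt j 314 then [nat_lit 63, nat_lit 1, nat_lit 4, nat_lit 1, nat_lit 4, nat_lit 0, nat_lit 4, nat_lit 1, nat_lit 4, nat_lit 2, nat_lit 1, nat_lit 4, nat_lit 1, nat_lit 4, nat_lit 3, nat_lit 2, nat_lit 0, nat_lit 3] else [nat_lit 63, nat_lit 3, nat_lit 0, nat_lit 3, nat_lit 2, nat_lit 3, nat_lit 1, nat_lit 0, nat_lit 3, nat_lit 0, nat_lit 3, nat_lit 2, nat_lit 3, nat_lit 1, nat_lit 0, nat_lit 3, nat_lit 0, nat_lit 3, nat_lit 2, nat_lit 3, nat_lit 1, nat_lit 0]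
def Wt_312_315 (j : ℕ) : List ℕ := bif Nat.blt j 313 then [nat_lit 63, nat_lit 4, nat_lit 1, nat_lit 4, nat_lit 2, nat_lit 0, nat_lit 4, nat_lit 1, nat_lit 4, nat_lit 0, nat_lit 2, nat_lit 4, nat_lit 1, nat_lit 4, nat_lit 2, nat_lit 0] else (Wt_313_315 j)
def Wt_309_315 (j : ℕ) : List ℕ := bif Nat.blt j 312 then (Wt_309_312 j) else (Wt_312_315 j)
def Wt_303_315 (j : ℕ) : List ℕ := bif Nat.blt j 309 then (Wt_303_309 j) else (Wt_309_315 j)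
def Wt_291_315 (j : ℕ) : List ℕ := bif Nat.blt j 303 then (Wt_291_303 j) else (Wt_303_315 j)
def Wt_316_318 (j : ℕ) : List ℕ := bif Nat.blt j 317 then [nat_lit 3, nat_lit 1, nat_lit 0, nat_lit 3, nat_lit 0, nat_lit 3, nat_lit 2, nat_lit 3, nat_lit 1, nat_lit 0, nat_lit 3, nat_lit 0, nat_lit 3, nat_lit 2, nat_lit 3, nat_lit 1, nat_lit 0, nat_lit 3, nat_lit 0, nat_lit 3, nat_lit 2] else [nat_lit 3, nat_lit 0, nat_lit 3, nat_lit 0, nat_lit 3, nat_lit 0, nat_lit 3, nat_lit 0, nat_lit 3, nat_lit 0, nat_lit 3, nat_lit 0, nat_lit 3, nat_lit 0, nat_lit 3, nat_lit 0, nat_lit 3, nat_lit 0, nat_lit 3, nat_lit 0, nat_lit 3, nat_lit 0, nat_lit 3, nat_lit 0]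
def Wt_315_318 (j : ℕ) : List ℕ := bif Nat.blt j 316 then [nat_lit 63, nat_lit 0, nat_lit 1, nat_lit 2, nat_lit 3, nat_lit 1, nat_lit 2, nat_lit 1, nat_lit 0, nat_lit 1, nat_lit 2, nat_lit 3, nat_lit 1, nat_lit 2, nat_lit 1, nat_lit 0, nat_lit 1, nat_lit 2, nat_lit 3, nat_lit 1, nat_lit 2, nat_lit 1] else (Wt_316_318 j)
def Wt_319_321 (j : ℕ) : List ℕ := bif Nat.blt j 320 then [nat_lit 63, nat_lit 1, nat_lit 3, nat_lit 0, nat_lit 3, nat_lit 4, nat_lit 2, nat_lit 4, nat_lit 3, nat_lit 4, nat_lit 2, nat_lit 4, nat_lit 2, nat_lit 4, nat_lit 3, nat_lit 4, nat_lit 1, nat_lit 2] else [nat_lit 63, nat_lit 3, nat_lit 0, nat_lit 3, nat_lit 4, nat_lit 3, nat_lit 4, nat_lit 2, nat_lit 4, nat_lit 2, nat_lit 4, nat_lit 3, nat_lit 4, nat_lit 2, nat_lit 4, nat_lit 1, nat_lit 2, nat_lit 1]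
def Wt_318_321 (j : ℕ) : List ℕ := bif Nat.blt j 319 then [nat_lit 63, nat_lit 4, nat_lit 3, nat_lit 4, nat_lit 3, nat_lit 4, nat_lit 1, nat_lit 4, nat_lit 1, nat_lit 4, nat_lit 1, nat_lit 4, nat_lit 1, nat_lit 3, nat_lit 4, nat_lit 3] else (Wt_319_321 j)
def Wt_315_321 (j : ℕ) : List ℕ := bif Nat.blt j 318 then (Wt_315_318 j) else (Wt_318_321 j)
def Wt_322_324 (j : ℕ) : List ℕ := bif Nat.blt j 323 then [nat_lit 63, nat_lit 4, nat_lit 1, nat_lit 4, nat_lit 2, nat_lit 4, nat_lit 3, nat_lit 4, nat_lit 2, nat_lit 1, nat_lit 4, nat_lit 1, nat_lit 2, nat_lit 4, nat_lit 2, nat_lit 4, nat_lit 2, nat_lit 1] else [nat_lit 63, nat_lit 4, nat_lit 1, nat_lit 2, nat_lit 4, nat_lit 2, nat_lit 4, nat_lit 2, nat_lit 1, nat_lit 4, nat_lit 1, nat_lit 4, nat_lit 2, nat_lit 4, nat_lit 3, nat_lit 4, nat_lit 2, nat_lit 1]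
def Wt_321_324 (j : ℕ) : List ℕ := bif Nat.blt j 322 then [nat_lit 63, nat_lit 1, nat_lit 4, nat_lit 1, nat_lit 2, nat_lit 4, nat_lit 1, nat_lit 4, nat_lit 2, nat_lit 0, nat_lit 2, nat_lit 4, nat_lit 1, nat_lit 4, nat_lit 2, nat_lit 1, nat_lit 4] else (Wt_322_324 j)
def Wt_325_327 (j : ℕ) : List ℕ := bif Nat.blt j 326 then [nat_lit 0, nat_lit 4, nat_lit 1, nat_lit 4, nat_lit 1, nat_lit 3, nat_lit 0, nat_lit 2, nat_lit 3, nat_lit 4, nat_lit 1, nat_lit 4, nat_lit 1, nat_lit 2, nat_lit 4, nat_lit 1, nat_lit 4] else [nat_lit 63, nat_lit 2, nat_lit 4, nat_lit 2, nat_lit 4, nat_lit 2, nat_lit 1, nat_lit 4, nat_lit 1, nat_lit 4, nat_lit 2, nat_lit 4, nat_lit 3, nat_lit 4, nat_lit 2, nat_lit 1, nat_lit 4, nat_lit 1]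
def Wt_324_327 (j : ℕ) : List ℕ := bif Nat.blt j 325 then [nat_lit 63, nat_lit 2, nat_lit 4, nat_lit 2, nat_lit 4, nat_lit 2, nat_lit 1, nat_lit 4, nat_lit 1, nat_lit 2, nat_lit 4, nat_lit 3, nat_lit 4, nat_lit 2, nat_lit 4, nat_lit 1, nat_lit 4, nat_lit 1] else (Wt_325_327 j)
def Wt_321_327 (j : ℕ) : List ℕ := bif Nat.blt j 324 then (Wt_321_324 j) else (Wt_324_327 j)
def Wt_315_327 (j : ℕ) : List ℕ := bif Nat.blt j 321 then (Wt_315_321 j) else (Wt_321_327 j)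
def Wt_328_330 (j : ℕ) : List ℕ := bif Nat.blt j 329 then [nat_lit 2, nat_lit 4, nat_lit 3, nat_lit 0, nat_lit 3, nat_lit 1, nat_lit 4, nat_lit 2, nat_lit 3, nat_lit 4, nat_lit 2, nat_lit 4, nat_lit 1, nat_lit 4, nat_lit 2, nat_lit 4, nat_lit 3] else [nat_lit 63, nat_lit 4, nat_lit 2, nat_lit 3, nat_lit 4, nat_lit 2, nat_lit 4, nat_lit 1, nat_lit 4, nat_lit 2, nat_lit 4, nat_lit 3, nat_lit 2, nat_lit 4, nat_lit 3, nat_lit 0, nat_lit 3, nat_lit 1]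
def Wt_327_330 (j : ℕ) : List ℕ := bif Nat.blt j 328 then [nat_lit 2, nat_lit 4, nat_lit 1, nat_lit 4, nat_lit 2, nat_lit 0, nat_lit 2, nat_lit 4, nat_lit 1, nat_lit 4, nat_lit 2, nat_lit 1, nat_lit 4, nat_lit 1, nat_lit 4, nat_lit 1] else (Wt_328_330 j)
def Wt_331_333 (j : ℕ) : List ℕ := bif Nat.blt j 332 then [nat_lit 2, nat_lit 4, nat_lit 3, nat_lit 4, nat_lit 2, nat_lit 1, nat_lit 4, nat_lit 1, nat_lit 2, nat_lit 4, nat_lit 2, nat_lit 4, nat_lit 2, nat_lit 1, nat_lit 4, nat_lit 1, nat_lit 4] else [nat_lit 0, nat_lit 3, nat_lit 1, nat_lit 2, nat_lit 1, nat_lit 4, nat_lit 2, nat_lit 4, nat_lit 3, nat_lit 4, nat_lit 2, nat_lit 4, nat_lit 2, nat_lit 4, nat_lit 3, nat_lit 4, nat_lit 3]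
def Wt_330_333 (j : ℕ) : List ℕ := bif Nat.blt j 331 then [nat_lit 4, nat_lit 3, nat_lit 4, nat_lit 2, nat_lit 4, nat_lit 1, nat_lit 2, nat_lit 1, nat_lit 3, nat_lit 0, nat_lit 3, nat_lit 4, nat_lit 3, nat_lit 4, nat_lit 2, nat_lit 4, nat_lit 2] else (Wt_331_333 j)
def Wt_327_333 (j : ℕ) : List ℕ := bif Nat.blt j 330 then (Wt_327_330 j) else (Wt_330_333 j)
def Wt_334_336 (j : ℕ) : List ℕ := bif Nat.blt j 335 then [nat_lit 2, nat_lit 1, nat_lit 3, nat_lit 0, nat_lit 3, nat_lit 4, nat_lit 2, nat_lit 4, nat_lit 3, nat_lit 4, nat_lit 2, nat_lit 4, nat_lit 2, nat_lit 4, nat_lit 3, nat_lit 4, nat_lit 1] else [nat_lit 4, nat_lit 3, nat_lit 2, nat_lit 0, nat_lit 3, nat_lit 1, nat_lit 4, nat_lit 1, nat_lit 4, nat_lit 0, nat_lit 4, nat_lit 1, nat_lit 4, nat_lit 2, nat_lit 1, nat_lit 4, nat_lit 1]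
def Wt_333_336 (j : ℕ) : List ℕ := bif Nat.blt j 334 then [nat_lit 0, nat_lit 4, nat_lit 0, nat_lit 4, nat_lit 3, nat_lit 1, nat_lit 4, nat_lit 2, nat_lit 1, nat_lit 2, nat_lit 4, nat_lit 1, nat_lit 3, nat_lit 4, nat_lit 0, nat_lit 4, nat_lit 2] else (Wt_334_336 j)
def Wt_336_338 (j : ℕ) : List ℕ := bif Nat.blt j 337 then [nat_lit 3, nat_lit 4, nat_lit 2, nat_lit 3, nat_lit 4, nat_lit 2, nat_lit 4, nat_lit 1, nat_lit 4, nat_lit 2, nat_lit 4, nat_lit 3, nat_lit 2, nat_lit 4, nat_lit 1, nat_lit 3, nat_lit 0] else [nat_lit 3, nat_lit 4, nat_lit 2, nat_lit 4, nat_lit 1, nat_lit 4, nat_lit 2, nat_lit 4, nat_lit 3, nat_lit 2, nat_lit 4, nat_lit 3, nat_lit 0, nat_lit 3, nat_lit 1, nat_lit 4, nat_lit 2]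
def Wt_338_340 (j : ℕ) : List ℕ := bif Nat.blt j 339 then [nat_lit 63, nat_lit 3, nat_lit 1, nat_lit 4, nat_lit 2, nat_lit 3, nat_lit 4, nat_lit 2, nat_lit 4, nat_lit 1, nat_lit 4, nat_lit 2, nat_lit 4, nat_lit 3, nat_lit 2, nat_lit 4, nat_lit 3, nat_lit 0] else [nat_lit 63, nat_lit 0, nat_lit 3, nat_lit 1, nat_lit 4, nat_lit 2, nat_lit 3, nat_lit 4, nat_lit 2, nat_lit 4, nat_lit 1, nat_lit 4, nat_lit 2, nat_lit 4, nat_lit 3, nat_lit 2, nat_lit 4, nat_lit 3]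
def Wt_336_340 (j : ℕ) : List ℕ := bif Nat.blt j 338 then (Wt_336_338 j) else (Wt_338_340 j)
def Wt_333_340 (j : ℕ) : List ℕ := bif Nat.blt j 336 then (Wt_333_336 j) else (Wt_336_340 j)
def Wt_327_340 (j : ℕ) : List ℕ := bif Nat.blt j 333 then (Wt_327_333 j) else (Wt_333_340 j)
def Wt_315_340 (j : ℕ) : List ℕ := bif Nat.blt j 327 then (Wt_315_327 j) else (Wt_327_340 j)
def Wt_291_340 (j : ℕ) : List ℕ := bif Nat.blt j 315 then (Wt_291_315 j) else (Wt_315_340 j)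
def Wt_341_343 (j : ℕ) : List ℕ := bif Nat.blt j 342 then [nat_lit 1, nat_lit 4, nat_lit 2, nat_lit 3, nat_lit 4, nat_lit 2, nat_lit 4, nat_lit 1, nat_lit 4, nat_lit 2, nat_lit 4, nat_lit 3, nat_lit 2, nat_lit 4, nat_lit 3, nat_lit 0, nat_lit 3] else [nat_lit 63, nat_lit 1, nat_lit 2, nat_lit 3, nat_lit 0, nat_lit 3, nat_lit 1, nat_lit 2, nat_lit 3, nat_lit 0, nat_lit 3, nat_lit 1, nat_lit 2, nat_lit 3, nat_lit 0, nat_lit 3, nat_lit 1, nat_lit 2, nat_lit 3, nat_lit 0, nat_lit 3]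
def Wt_340_343 (j : ℕ) : List ℕ := bif Nat.blt j 341 then [nat_lit 3, nat_lit 2, nat_lit 4, nat_lit 1, nat_lit 3, nat_lit 0, nat_lit 3, nat_lit 4, nat_lit 2, nat_lit 3, nat_lit 4, nat_lit 2, nat_lit 4, nat_lit 1, nat_lit 4, nat_lit 2, nat_lit 4] else (Wt_341_343 j)
def Wt_344_346 (j : ℕ) : List ℕ := bif Nat.blt j 345 then [nat_lit 1, nat_lit 3, nat_lit 1, nat_lit 2, nat_lit 1, nat_lit 0, nat_lit 1, nat_lit 3, nat_lit 1, nat_lit 2, nat_lit 1, nat_lit 0, nat_lit 1, nat_lit 3, nat_lit 1, nat_lit 2, nat_lit 1, nat_lit 0] else [nat_lit 4, nat_lit 1, nat_lit 4, nat_lit 2, nat_lit 4, nat_lit 3, nat_lit 2, nat_lit 4, nat_lit 1, nat_lit 3, nat_lit 0, nat_lit 3, nat_lit 4, nat_lit 2, nat_lit 3, nat_lit 4, nat_lit 2]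
def Wt_343_346 (j : ℕ) : List ℕ := bif Nat.blt j 344 then [nat_lit 1, nat_lit 0, nat_lit 1, nat_lit 2, nat_lit 1, nat_lit 3, nat_lit 1, nat_lit 0, nat_lit 1, nat_lit 2, nat_lit 1, nat_lit 3, nat_lit 1, nat_lit 0, nat_lit 1, nat_lit 2, nat_lit 1, nat_lit 3] else (Wt_344_346 j)
def Wt_340_346 (j : ℕ) : List ℕ := bif Nat.blt j 343 then (Wt_340_343 j) else (Wt_343_346 j)
def Wt_347_349 (j : ℕ) : List ℕ := bif Nat.blt j 348 then [nat_lit 3, nat_lit 2, nat_lit 4, nat_lit 3, nat_lit 4, nat_lit 0, nat_lit 3, nat_lit 4, nat_lit 0, nat_lit 3, nat_lit 0, nat_lit 4, nat_lit 3, nat_lit 0, nat_lit 4, nat_lit 3, nat_lit 4] else [nat_lit 1, nat_lit 2, nat_lit 1, nat_lit 4, nat_lit 0, nat_lit 1, nat_lit 4, nat_lit 3, nat_lit 2, nat_lit 4, nat_lit 1, nat_lit 0, nat_lit 4, nat_lit 1, nat_lit 2, nat_lit 1, nat_lit 4]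
def Wt_346_349 (j : ℕ) : List ℕ := bif Nat.blt j 347 then [nat_lit 4, nat_lit 2, nat_lit 3, nat_lit 4, nat_lit 1, nat_lit 4, nat_lit 0, nat_lit 1, nat_lit 0, nat_lit 4, nat_lit 1, nat_lit 2, nat_lit 3, nat_lit 1, nat_lit 0, nat_lit 4, nat_lit 3] else (Wt_347_349 j)
def Wt_350_352 (j : ℕ) : List ℕ := bif Nat.blt j 351 then [nat_lit 4, nat_lit 3, nat_lit 4, nat_lit 2, nat_lit 4, nat_lit 3, nat_lit 0, nat_lit 3, nat_lit 1, nat_lit 2, nat_lit 1, nat_lit 4, nat_lit 3, nat_lit 4, nat_lit 2, nat_lit 4, nat_lit 2] else [nat_lit 63, nat_lit 0, nat_lit 3, nat_lit 4, nat_lit 2, nat_lit 4, nat_lit 3, nat_lit 4, nat_lit 2, nat_lit 4, nat_lit 2, nat_lit 4, nat_lit 3, nat_lit 4, nat_lit 1, nat_lit 2, nat_lit 1, nat_lit 3]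
def Wt_349_352 (j : ℕ) : List ℕ := bif Nat.blt j 350 then [nat_lit 4, nat_lit 1, nat_lit 4, nat_lit 1, nat_lit 3, nat_lit 0, nat_lit 2, nat_lit 3, nat_lit 4, nat_lit 1, nat_lit 4, nat_lit 1, nat_lit 2, nat_lit 4, nat_lit 1, nat_lit 4, nat_lit 0] else (Wt_350_352 j)
def Wt_346_352 (j : ℕ) : List ℕ := bif Nat.blt j 349 then (Wt_346_349 j) else (Wt_349_352 j)
def Wt_340_352 (j : ℕ) : List ℕ := bif Nat.blt j 346 then (Wt_340_346 j) else (Wt_346_352 j)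
def Wt_353_355 (j : ℕ) : List ℕ := bif Nat.blt j 354 then [nat_lit 0, nat_lit 3, nat_lit 4, nat_lit 0, nat_lit 3, nat_lit 0, nat_lit 4, nat_lit 3, nat_lit 0, nat_lit 4, nat_lit 3, nat_lit 4, nat_lit 2, nat_lit 3, nat_lit 4, nat_lit 3, nat_lit 4] else [nat_lit 4, nat_lit 1, nat_lit 4, nat_lit 2, nat_lit 1, nat_lit 4, nat_lit 1, nat_lit 4, nat_lit 3, nat_lit 2, nat_lit 0, nat_lit 3, nat_lit 1, nat_lit 4, nat_lit 1, nat_lit 4, nat_lit 0]
def Wt_352_355 (j : ℕ) : List ℕ := bif Nat.blt j 353 then [nat_lit 63, nat_lit 4, nat_lit 1, nat_lit 4, nat_lit 2, nat_lit 1, nat_lit 4, nat_lit 1, nat_lit 4, nat_lit 3, nat_lit 2, nat_lit 0, nat_lit 3, nat_lit 1, nat_lit 4, nat_lit 1, nat_lit 4, nat_lit 0] else (Wt_353_355 j)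
def Wt_356_358 (j : ℕ) : List ℕ := bif Nat.blt j 357 then [nat_lit 0, nat_lit 4, nat_lit 3, nat_lit 0, nat_lit 4, nat_lit 3, nat_lit 4, nat_lit 2, nat_lit 3, nat_lit 4, nat_lit 3, nat_lit 4, nat_lit 0, nat_lit 3, nat_lit 4, nat_lit 0, nat_lit 3] else [nat_lit 0, nat_lit 2, nat_lit 4, nat_lit 0, nat_lit 2, nat_lit 4, nat_lit 3, nat_lit 2, nat_lit 3, nat_lit 0, nat_lit 4, nat_lit 2, nat_lit 0, nat_lit 4, nat_lit 2, nat_lit 0, nat_lit 4]
def Wt_355_358 (j : ℕ) : List ℕ := bif Nat.blt j 356 then [nat_lit 4, nat_lit 0, nat_lit 3, nat_lit 0, nat_lit 4, nat_lit 3, nat_lit 0, nat_lit 4, nat_lit 3, nat_lit 4, nat_lit 2, nat_lit 3, nat_lit 4, nat_lit 3, nat_lit 4, nat_lit 0, nat_lit 3] else (Wt_356_358 j)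
def Wt_352_358 (j : ℕ) : List ℕ := bif Nat.blt j 355 then (Wt_352_355 j) else (Wt_355_358 j)
def Wt_359_361 (j : ℕ) : List ℕ := bif Nat.blt j 360 then [nat_lit 1, nat_lit 2, nat_lit 1, nat_lit 0, nat_lit 1, nat_lit 3, nat_lit 1, nat_lit 2, nat_lit 1, nat_lit 0, nat_lit 1, nat_lit 3, nat_lit 1, nat_lit 2, nat_lit 1, nat_lit 0, nat_lit 1, nat_lit 3] else [nat_lit 2, nat_lit 5, nat_lit 4, nat_lit 1, nat_lit 4, nat_lit 2, nat_lit 5, nat_lit 4, nat_lit 1, nat_lit 4, nat_lit 2, nat_lit 5, nat_lit 4, nat_lit 1, nat_lit 4]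
def Wt_358_361 (j : ℕ) : List ℕ := bif Nat.blt j 359 then [nat_lit 2, nat_lit 0, nat_lit 4, nat_lit 2, nat_lit 0, nat_lit 4, nat_lit 0, nat_lit 2, nat_lit 4, nat_lit 0, nat_lit 2, nat_lit 4, nat_lit 3, nat_lit 2, nat_lit 3, nat_lit 0, nat_lit 4] else (Wt_359_361 j)
def Wt_362_364 (j : ℕ) : List ℕ := bif Nat.blt j 363 then [nat_lit 0, nat_lit 1, nat_lit 0, nat_lit 4, nat_lit 1, nat_lit 2, nat_lit 3, nat_lit 1, nat_lit 0, nat_lit 4, nat_lit 3, nat_lit 4, nat_lit 2, nat_lit 3, nat_lit 4, nat_lit 1, nat_lit 4] else [nat_lit 2, nat_lit 3, nat_lit 1, nat_lit 0, nat_lit 4, nat_lit 3, nat_lit 4, nat_lit 2, nat_lit 3, nat_lit 4, nat_lit 1, nat_lit 4, nat_lit 0, nat_lit 1, nat_lit 0, nat_lit 4, nat_lit 1]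
def Wt_361_364 (j : ℕ) : List ℕ := bif Nat.blt j 362 then [nat_lit 5, nat_lit 2, nat_lit 4, nat_lit 1, nat_lit 4, nat_lit 5, nat_lit 2, nat_lit 4, nat_lit 1, nat_lit 4, nat_lit 5, nat_lit 2, nat_lit 4, nat_lit 1, nat_lit 4] else (Wt_362_364 j)
def Wt_358_364 (j : ℕ) : List ℕ := bif Nat.blt j 361 then (Wt_358_361 j) else (Wt_361_364 j)
def Wt_352_364 (j : ℕ) : List ℕ := bif Nat.blt j 358 then (Wt_352_358 j) else (Wt_358_364 j)
def Wt_340_364 (j : ℕ) : List ℕ := bif Nat.blt j 352 then (Wt_340_352 j) else (Wt_352_364 j)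
def Wt_365_367 (j : ℕ) : List ℕ := bif Nat.blt j 366 then [nat_lit 4, nat_lit 3, nat_lit 2, nat_lit 4, nat_lit 1, nat_lit 3, nat_lit 0, nat_lit 3, nat_lit 4, nat_lit 2, nat_lit 3, nat_lit 4, nat_lit 2, nat_lit 4, nat_lit 1, nat_lit 4, nat_lit 2] else [nat_lit 63, nat_lit 1, nat_lit 4, nat_lit 2, nat_lit 3, nat_lit 4, nat_lit 2, nat_lit 4, nat_lit 1, nat_lit 4, nat_lit 2, nat_lit 4, nat_lit 3, nat_lit 2, nat_lit 4, nat_lit 3, nat_lit 0, nat_lit 3]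
def Wt_364_367 (j : ℕ) : List ℕ := bif Nat.blt j 365 then [nat_lit 2, nat_lit 3, nat_lit 4, nat_lit 2, nat_lit 4, nat_lit 1, nat_lit 4, nat_lit 2, nat_lit 4, nat_lit 3, nat_lit 2, nat_lit 4, nat_lit 1, nat_lit 3, nat_lit 0, nat_lit 3, nat_lit 4] else (Wt_365_367 j)
def Wt_368_370 (j : ℕ) : List ℕ := bif Nat.blt j 369 then [nat_lit 4, nat_lit 3, nat_lit 4, nat_lit 3, nat_lit 4, nat_lit 1, nat_lit 4, nat_lit 1, nat_lit 4, nat_lit 1, nat_lit 4, nat_lit 1, nat_lit 3, nat_lit 4, nat_lit 3] else [nat_lit 63, nat_lit 5, nat_lit 2, nat_lit 5, nat_lit 2]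
def Wt_367_370 (j : ℕ) : List ℕ := bif Nat.blt j 368 then [nat_lit 4, nat_lit 3, nat_lit 4, nat_lit 1, nat_lit 4, nat_lit 1, nat_lit 4, nat_lit 1, nat_lit 4, nat_lit 1, nat_lit 3, nat_lit 4, nat_lit 3, nat_lit 4, nat_lit 3] else (Wt_368_370 j)
def Wt_364_370 (j : ℕ) : List ℕ := bif Nat.blt j 367 then (Wt_364_367 j) else (Wt_367_370 j)
def Wt_371_373 (j : ℕ) : List ℕ := bif Nat.blt j 372 then [nat_lit 1, nat_lit 0, nat_lit 1, nat_lit 2, nat_lit 1, nat_lit 3, nat_lit 2, nat_lit 1, nat_lit 0, nat_lit 1, nat_lit 2, nat_lit 1, nat_lit 3, nat_lit 2, nat_lit 1, nat_lit 0, nat_lit 1, nat_lit 2, nat_lit 1, nat_lit 3, nat_lit 2] else [nat_lit 1, nat_lit 4, nat_lit 1, nat_lit 2, nat_lit 4, nat_lit 3, nat_lit 4, nat_lit 2, nat_lit 4, nat_lit 1, nat_lit 4, nat_lit 1, nat_lit 2, nat_lit 4, nat_lit 2, nat_lit 4, nat_lit 2]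
def Wt_370_373 (j : ℕ) : List ℕ := bif Nat.blt j 371 then [nat_lit 1, nat_lit 0, nat_lit 1, nat_lit 3, nat_lit 1, nat_lit 2, nat_lit 1, nat_lit 0, nat_lit 1, nat_lit 3, nat_lit 1, nat_lit 2, nat_lit 1, nat_lit 0, nat_lit 1, nat_lit 3, nat_lit 1, nat_lit 2] else (Wt_371_373 j)
def Wt_374_376 (j : ℕ) : List ℕ := bif Nat.blt j 375 then [nat_lit 2, nat_lit 1, nat_lit 3, nat_lit 1, nat_lit 0, nat_lit 1, nat_lit 2, nat_lit 1, nat_lit 3, nat_lit 1, nat_lit 0, nat_lit 1, nat_lit 2, nat_lit 1, nat_lit 3, nat_lit 1, nat_lit 0, nat_lit 1] else [nat_lit 63, nat_lit 1, nat_lit 2, nat_lit 1, nat_lit 0, nat_lit 1, nat_lit 2, nat_lit 1, nat_lit 0, nat_lit 1, nat_lit 2, nat_lit 1, nat_lit 0]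
def Wt_373_376 (j : ℕ) : List ℕ := bif Nat.blt j 374 then [nat_lit 63, nat_lit 3, nat_lit 1, nat_lit 2, nat_lit 1, nat_lit 0, nat_lit 1, nat_lit 2, nat_lit 3, nat_lit 1, nat_lit 2, nat_lit 1, nat_lit 0, nat_lit 1, nat_lit 2, nat_lit 3, nat_lit 1, nat_lit 2, nat_lit 1, nat_lit 0, nat_lit 1, nat_lit 2] else (Wt_374_376 j)
def Wt_370_376 (j : ℕ) : List ℕ := bif Nat.blt j 373 then (Wt_370_373 j) else (Wt_373_376 j)
def Wt_364_376 (j : ℕ) : List ℕ := bif Nat.blt j 370 then (Wt_364_370 j) else (Wt_370_376 j)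
def Wt_377_379 (j : ℕ) : List ℕ := bif Nat.blt j 378 then [nat_lit 63, nat_lit 0, nat_lit 3, nat_lit 1, nat_lit 0, nat_lit 3, nat_lit 0, nat_lit 3, nat_lit 0, nat_lit 3, nat_lit 1, nat_lit 0, nat_lit 3, nat_lit 0, nat_lit 3, nat_lit 0, nat_lit 3, nat_lit 1, nat_lit 0, nat_lit 3, nat_lit 0, nat_lit 3] else [nat_lit 63, nat_lit 2, nat_lit 1, nat_lit 0, nat_lit 1, nat_lit 2, nat_lit 1, nat_lit 0, nat_lit 1, nat_lit 2, nat_lit 1, nat_lit 0, nat_lit 1]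
def Wt_376_379 (j : ℕ) : List ℕ := bif Nat.blt j 377 then [nat_lit 63, nat_lit 0, nat_lit 3, nat_lit 0, nat_lit 1, nat_lit 3, nat_lit 0, nat_lit 3, nat_lit 0, nat_lit 3, nat_lit 0, nat_lit 1, nat_lit 3, nat_lit 0, nat_lit 3, nat_lit 0, nat_lit 3, nat_lit 0, nat_lit 1, nat_lit 3, nat_lit 0, nat_lit 3] else (Wt_377_379 j)
def Wt_380_382 (j : ℕ) : List ℕ := bif Nat.blt j 381 then [nat_lit 2, nat_lit 1, nat_lit 0, nat_lit 1, nat_lit 2, nat_lit 3, nat_lit 1, nat_lit 2, nat_lit 1, nat_lit 0, nat_lit 1, nat_lit 2, nat_lit 3, nat_lit 1, nat_lit 2, nat_lit 1, nat_lit 0, nat_lit 1, nat_lit 2, nat_lit 3, nat_lit 1] else [nat_lit 3, nat_lit 0, nat_lit 3, nat_lit 1, nat_lit 0, nat_lit 3, nat_lit 0, nat_lit 3, nat_lit 0, nat_lit 3, nat_lit 1, nat_lit 0, nat_lit 3, nat_lit 0, nat_lit 3, nat_lit 0, nat_lit 3, nat_lit 1, nat_lit 0, nat_lit 3, nat_lit 0]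
def Wt_379_382 (j : ℕ) : List ℕ := bif Nat.blt j 380 then [nat_lit 0, nat_lit 3, nat_lit 2, nat_lit 3, nat_lit 1, nat_lit 0, nat_lit 3, nat_lit 0, nat_lit 3, nat_lit 2, nat_lit 3, nat_lit 1, nat_lit 0, nat_lit 3, nat_lit 0, nat_lit 3, nat_lit 2, nat_lit 3, nat_lit 1, nat_lit 0, nat_lit 3] else (Wt_380_382 j)
def Wt_376_382 (j : ℕ) : List ℕ := bif Nat.blt j 379 then (Wt_376_379 j) else (Wt_379_382 j)
def Wt_383_385 (j : ℕ) : List ℕ := bif Nat.blt j 384 then [nat_lit 0, nat_lit 4, nat_lit 3, nat_lit 1, nat_lit 4, nat_lit 2, nat_lit 1, nat_lit 2, nat_lit 4, nat_lit 1, nat_lit 3, nat_lit 4, nat_lit 0, nat_lit 4, nat_lit 2, nat_lit 0, nat_lit 4] else [nat_lit 3, nat_lit 4, nat_lit 0, nat_lit 4, nat_lit 2, nat_lit 0, nat_lit 4, nat_lit 0, nat_lit 4, nat_lit 3, nat_lit 1, nat_lit 4, nat_lit 2, nat_lit 1, nat_lit 2, nat_lit 4, nat_lit 1]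
def Wt_382_385 (j : ℕ) : List ℕ := bif Nat.blt j 383 then [nat_lit 1, nat_lit 4, nat_lit 0, nat_lit 1, nat_lit 0, nat_lit 4, nat_lit 1, nat_lit 2, nat_lit 3, nat_lit 1, nat_lit 0, nat_lit 4, nat_lit 3, nat_lit 4, nat_lit 2, nat_lit 3, nat_lit 4] else (Wt_383_385 j)
def Wt_385_387 (j : ℕ) : List ℕ := bif Nat.blt j 386 then [nat_lit 4, nat_lit 2, nat_lit 1, nat_lit 4, nat_lit 1, nat_lit 2, nat_lit 4, nat_lit 2, nat_lit 4, nat_lit 2, nat_lit 1, nat_lit 4, nat_lit 1, nat_lit 4, nat_lit 2, nat_lit 4, nat_lit 3] else [nat_lit 3, nat_lit 1, nat_lit 4, nat_lit 1, nat_lit 3, nat_lit 0, nat_lit 1, nat_lit 0, nat_lit 3, nat_lit 1, nat_lit 4, nat_lit 1, nat_lit 3, nat_lit 0, nat_lit 1, nat_lit 0]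
def Wt_387_389 (j : ℕ) : List ℕ := bif Nat.blt j 388 then [nat_lit 4, nat_lit 2, nat_lit 0, nat_lit 2, nat_lit 4, nat_lit 1, nat_lit 4, nat_lit 2, nat_lit 1, nat_lit 4, nat_lit 1, nat_lit 4, nat_lit 1, nat_lit 2, nat_lit 4, nat_lit 1] else [nat_lit 63, nat_lit 4, nat_lit 2, nat_lit 0, nat_lit 4, nat_lit 1, nat_lit 4, nat_lit 2, nat_lit 0, nat_lit 4, nat_lit 1, nat_lit 4, nat_lit 0, nat_lit 2, nat_lit 4, nat_lit 1]
def Wt_385_389 (j : ℕ) : List ℕ := bif Nat.blt j 387 then (Wt_385_387 j) else (Wt_387_389 j)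
def Wt_382_389 (j : ℕ) : List ℕ := bif Nat.blt j 385 then (Wt_382_385 j) else (Wt_385_389 j)
def Wt_376_389 (j : ℕ) : List ℕ := bif Nat.blt j 382 then (Wt_376_382 j) else (Wt_382_389 j)
def Wt_364_389 (j : ℕ) : List ℕ := bif Nat.blt j 376 then (Wt_364_376 j) else (Wt_376_389 j)
def Wt_340_389 (j : ℕ) : List ℕ := bif Nat.blt j 364 then (Wt_340_364 j) else (Wt_364_389 j)
def Wt_291_389 (j : ℕ) : List ℕ := bif Nat.blt j 340 then (Wt_291_340 j) else (Wt_340_389 j)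
def Wt_194_389 (j : ℕ) : List ℕ := bif Nat.blt j 291 then (Wt_194_291 j) else (Wt_291_389 j)
def Wt_0_389 (j : ℕ) : List ℕ := bif Nat.blt j 194 then (Wt_0_194 j) else (Wt_194_389 j)
def Wt_390_392 (j : ℕ) : List ℕ := bif Nat.blt j 391 then [nat_lit 1, nat_lit 3, nat_lit 4, nat_lit 2, nat_lit 1, nat_lit 4, nat_lit 3, nat_lit 4, nat_lit 1, nat_lit 2, nat_lit 4, nat_lit 3, nat_lit 1, nat_lit 3, nat_lit 1, nat_lit 3] else [nat_lit 3, nat_lit 2, nat_lit 1, nat_lit 0, nat_lit 1, nat_lit 2, nat_lit 1, nat_lit 3, nat_lit 2, nat_lit 1, nat_lit 0, nat_lit 1, nat_lit 2, nat_lit 1, nat_lit 3, nat_lit 2, nat_lit 1, nat_lit 0, nat_lit 1, nat_lit 2, nat_lit 1]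
def Wt_389_392 (j : ℕ) : List ℕ := bif Nat.blt j 390 then [nat_lit 0, nat_lit 1, nat_lit 4, nat_lit 0, nat_lit 1, nat_lit 4, nat_lit 3, nat_lit 1, nat_lit 4, nat_lit 1, nat_lit 0, nat_lit 4, nat_lit 3, nat_lit 1, nat_lit 0, nat_lit 1, nat_lit 2] else (Wt_390_392 j)
def Wt_393_395 (j : ℕ) : List ℕ := bif Nat.blt j 394 then [nat_lit 3, nat_lit 4, nat_lit 0, nat_lit 1, nat_lit 4, nat_lit 1, nat_lit 3, nat_lit 4, nat_lit 1, nat_lit 0, nat_lit 4, nat_lit 1, nat_lit 0, nat_lit 2, nat_lit 1, nat_lit 0, nat_lit 1] else [nat_lit 1, nat_lit 4, nat_lit 3, nat_lit 4, nat_lit 1, nat_lit 2, nat_lit 4, nat_lit 3, nat_lit 1, nat_lit 3, nat_lit 1, nat_lit 3, nat_lit 1, nat_lit 3, nat_lit 4, nat_lit 2]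
def Wt_392_395 (j : ℕ) : List ℕ := bif Nat.blt j 393 then [nat_lit 1, nat_lit 3, nat_lit 0, nat_lit 1, nat_lit 0, nat_lit 3, nat_lit 1, nat_lit 4, nat_lit 1, nat_lit 3, nat_lit 0, nat_lit 1, nat_lit 0, nat_lit 3, nat_lit 1, nat_lit 4] else (Wt_393_395 j)
def Wt_389_395 (j : ℕ) : List ℕ := bif Nat.blt j 392 then (Wt_389_392 j) else (Wt_392_395 j)
def Wt_396_398 (j : ℕ) : List ℕ := bif Nat.blt j 397 then [nat_lit 3, nat_lit 2, nat_lit 4, nat_lit 3, nat_lit 4, nat_lit 0, nat_lit 1, nat_lit 3, nat_lit 2, nat_lit 1, nat_lit 4, nat_lit 0, nat_lit 1, nat_lit 0, nat_lit 4, nat_lit 1, nat_lit 4] else [nat_lit 1, nat_lit 0, nat_lit 4, nat_lit 1, nat_lit 0, nat_lit 2, nat_lit 1, nat_lit 0, nat_lit 1, nat_lit 3, nat_lit 4, nat_lit 0, nat_lit 1, nat_lit 4, nat_lit 1, nat_lit 3, nat_lit 4]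
def Wt_395_398 (j : ℕ) : List ℕ := bif Nat.blt j 396 then [nat_lit 0, nat_lit 1, nat_lit 4, nat_lit 3, nat_lit 1, nat_lit 4, nat_lit 1, nat_lit 0, nat_lit 4, nat_lit 3, nat_lit 1, nat_lit 0, nat_lit 1, nat_lit 2, nat_lit 0, nat_lit 1, nat_lit 4] else (Wt_396_398 j)
def Wt_399_401 (j : ℕ) : List ℕ := bif Nat.blt j 400 then [nat_lit 63, nat_lit 0, nat_lit 2, nat_lit 1, nat_lit 0, nat_lit 2, nat_lit 3, nat_lit 0, nat_lit 2, nat_lit 1, nat_lit 0, nat_lit 2, nat_lit 3, nat_lit 0, nat_lit 2, nat_lit 1, nat_lit 0, nat_lit 2, nat_lit 3] else [nat_lit 63, nat_lit 3, nat_lit 2, nat_lit 0, nat_lit 1, nat_lit 2, nat_lit 0, nat_lit 3, nat_lit 2, nat_lit 0, nat_lit 1, nat_lit 2, nat_lit 0, nat_lit 3, nat_lit 2, nat_lit 0, nat_lit 1, nat_lit 2, nat_lit 0]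
def Wt_398_401 (j : ℕ) : List ℕ := bif Nat.blt j 399 then [nat_lit 0, nat_lit 4, nat_lit 2, nat_lit 0, nat_lit 4, nat_lit 0, nat_lit 4, nat_lit 3, nat_lit 1, nat_lit 4, nat_lit 2, nat_lit 1, nat_lit 2, nat_lit 4, nat_lit 1, nat_lit 3, nat_lit 4] else (Wt_399_401 j)
def Wt_395_401 (j : ℕ) : List ℕ := bif Nat.blt j 398 then (Wt_395_398 j) else (Wt_398_401 j)
def Wt_389_401 (j : ℕ) : List ℕ := bif Nat.blt j 395 then (Wt_389_395 j) else (Wt_395_401 j)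
def Wt_402_404 (j : ℕ) : List ℕ := bif Nat.blt j 403 then [nat_lit 3, nat_lit 1, nat_lit 3, nat_lit 1, nat_lit 3, nat_lit 1, nat_lit 3, nat_lit 4, nat_lit 2, nat_lit 1, nat_lit 4, nat_lit 3, nat_lit 4, nat_lit 1, nat_lit 2, nat_lit 4] else [nat_lit 2, nat_lit 1, nat_lit 3, nat_lit 2, nat_lit 1, nat_lit 0, nat_lit 1, nat_lit 2, nat_lit 1, nat_lit 3, nat_lit 2, nat_lit 1, nat_lit 0, nat_lit 1, nat_lit 2, nat_lit 1, nat_lit 3, nat_lit 2, nat_lit 1, nat_lit 0, nat_lit 1]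
def Wt_401_404 (j : ℕ) : List ℕ := bif Nat.blt j 402 then [nat_lit 2, nat_lit 3, nat_lit 4, nat_lit 1, nat_lit 4, nat_lit 0, nat_lit 1, nat_lit 0, nat_lit 4, nat_lit 1, nat_lit 2, nat_lit 3, nat_lit 1, nat_lit 0, nat_lit 4, nat_lit 3, nat_lit 4] else (Wt_402_404 j)
def Wt_405_407 (j : ℕ) : List ℕ := bif Nat.blt j 406 then [nat_lit 63, nat_lit 0, nat_lit 1, nat_lit 2, nat_lit 0, nat_lit 3, nat_lit 2, nat_lit 0, nat_lit 1, nat_lit 2, nat_lit 0, nat_lit 3, nat_lit 2, nat_lit 0, nat_lit 1, nat_lit 2, nat_lit 0, nat_lit 3, nat_lit 2] else [nat_lit 63, nat_lit 2, nat_lit 1, nat_lit 0, nat_lit 1, nat_lit 2, nat_lit 1, nat_lit 3, nat_lit 2, nat_lit 1, nat_lit 0, nat_lit 1, nat_lit 2, nat_lit 1, nat_lit 3, nat_lit 2, nat_lit 1, nat_lit 0, nat_lit 1, nat_lit 2, nat_lit 1, nat_lit 3]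
def Wt_404_407 (j : ℕ) : List ℕ := bif Nat.blt j 405 then [nat_lit 63, nat_lit 0, nat_lit 1, nat_lit 2, nat_lit 1, nat_lit 3, nat_lit 2, nat_lit 1, nat_lit 0, nat_lit 1, nat_lit 2, nat_lit 1, nat_lit 3, nat_lit 2, nat_lit 1, nat_lit 0, nat_lit 1, nat_lit 2, nat_lit 1, nat_lit 3, nat_lit 2, nat_lit 1] else (Wt_405_407 j)
def Wt_401_407 (j : ℕ) : List ℕ := bif Nat.blt j 404 then (Wt_401_404 j) else (Wt_404_407 j)
def Wt_408_410 (j : ℕ) : List ℕ := bif Nat.blt j 409 then [nat_lit 63, nat_lit 0, nat_lit 3, nat_lit 0, nat_lit 3, nat_lit 0, nat_lit 3, nat_lit 1, nat_lit 0, nat_lit 3, nat_lit 0, nat_lit 3, nat_lit 0, nat_lit 3, nat_lit 1, nat_lit 0, nat_lit 3, nat_lit 0, nat_lit 3, nat_lit 0, nat_lit 3, nat_lit 1] else [nat_lit 63, nat_lit 0, nat_lit 3, nat_lit 0, nat_lit 3, nat_lit 0, nat_lit 1, nat_lit 3, nat_lit 0, nat_lit 3, nat_lit 0, nat_lit 3, nat_lit 0, nat_lit 1, nat_lit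 3, nat_lit 0, nat_lit 3, nat_lit 0, nat_lit 3, nat_lit 0, nat_lit 1, nat_lit 3]
def Wt_407_410 (j : ℕ) : List ℕ := bif Nat.blt j 408 then [nat_lit 63, nat_lit 1, nat_lit 3, nat_lit 1, nat_lit 0, nat_lit 1, nat_lit 2, nat_lit 1, nat_lit 3, nat_lit 1, nat_lit 0, nat_lit 1, nat_lit 2, nat_lit 1, nat_lit 3, nat_lit 1, nat_lit 0, nat_lit 1, nat_lit 2] else (Wt_408_410 j)
def Wt_411_413 (j : ℕ) : List ℕ := bif Nat.blt j 412 then [nat_lit 2, nat_lit 5, nat_lit 3, nat_lit 5, nat_lit 3] else [nat_lit 63, nat_lit 3, nat_lit 2, nat_lit 1, nat_lit 0, nat_lit 1, nat_lit 2, nat_lit 1, nat_lit 3, nat_lit 2, nat_lit 1, nat_lit 0, nat_lit 1, nat_lit 2, nat_lit 1, nat_lit 3, nat_lit 2, nat_lit 1, nat_lit 0, nat_lit 1, nat_lit 2, nat_lit 1]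
def Wt_410_413 (j : ℕ) : List ℕ := bif Nat.blt j 411 then [nat_lit 63, nat_lit 3, nat_lit 0, nat_lit 3, nat_lit 1, nat_lit 2, nat_lit 3, nat_lit 0, nat_lit 3, nat_lit 1, nat_lit 2, nat_lit 3, nat_lit 0, nat_lit 3, nat_lit 1, nat_lit 2, nat_lit 3, nat_lit 0, nat_lit 3, nat_lit 1, nat_lit 2] else (Wt_411_413 j)
def Wt_407_413 (j : ℕ) : List ℕ := bif Nat.blt j 410 then (Wt_407_410 j) else (Wt_410_413 j)
def Wt_401_413 (j : ℕ) : List ℕ := bif Nat.blt j 407 then (Wt_401_407 j) else (Wt_407_413 j)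
def Wt_389_413 (j : ℕ) : List ℕ := bif Nat.blt j 401 then (Wt_389_401 j) else (Wt_401_413 j)
def Wt_414_416 (j : ℕ) : List ℕ := bif Nat.blt j 415 then [nat_lit 0, nat_lit 1, nat_lit 2, nat_lit 0, nat_lit 3, nat_lit 2, nat_lit 0, nat_lit 1, nat_lit 2, nat_lit 0, nat_lit 3, nat_lit 2, nat_lit 0, nat_lit 1, nat_lit 2, nat_lit 0, nat_lit 3, nat_lit 2] else [nat_lit 63, nat_lit 1, nat_lit 0, nat_lit 2, nat_lit 1, nat_lit 0, nat_lit 1, nat_lit 3, nat_lit 4, nat_lit 0, nat_lit 1, nat_lit 4, nat_lit 1, nat_lit 3, nat_lit 4, nat_lit 1, nat_lit 0, nat_lit 4]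
def Wt_413_416 (j : ℕ) : List ℕ := bif Nat.blt j 414 then [nat_lit 2, nat_lit 1, nat_lit 0, nat_lit 1, nat_lit 2, nat_lit 0, nat_lit 2, nat_lit 1, nat_lit 0, nat_lit 1, nat_lit 2, nat_lit 0, nat_lit 2, nat_lit 1, nat_lit 0, nat_lit 1, nat_lit 2, nat_lit 0] else (Wt_414_416 j)
def Wt_417_419 (j : ℕ) : List ℕ := bif Nat.blt j 418 then [nat_lit 63, nat_lit 4, nat_lit 3, nat_lit 4, nat_lit 1, nat_lit 4, nat_lit 1, nat_lit 4, nat_lit 1, nat_lit 4, nat_lit 1, nat_lit 3, nat_lit 4, nat_lit 3, nat_lit 4, nat_lit 3] else [nat_lit 63, nat_lit 1, nat_lit 4, nat_lit 3, nat_lit 4, nat_lit 3, nat_lit 4, nat_lit 3, nat_lit 4, nat_lit 3, nat_lit 1, nat_lit 4, nat_lit 1, nat_lit 4, nat_lit 1, nat_lit 4]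
def Wt_416_419 (j : ℕ) : List ℕ := bif Nat.blt j 417 then [nat_lit 63, nat_lit 4, nat_lit 1, nat_lit 0, nat_lit 4, nat_lit 3, nat_lit 1, nat_lit 0, nat_lit 1, nat_lit 2, nat_lit 0, nat_lit 1, nat_lit 4, nat_lit 0, nat_lit 1, nat_lit 4, nat_lit 3, nat_lit 1] else (Wt_417_419 j)
def Wt_413_419 (j : ℕ) : List ℕ := bif Nat.blt j 416 then (Wt_413_416 j) else (Wt_416_419 j)
def Wt_420_422 (j : ℕ) : List ℕ := bif Nat.blt j 421 then [nat_lit 63, nat_lit 3, nat_lit 4, nat_lit 3, nat_lit 1, nat_lit 4, nat_lit 1, nat_lit 4, nat_lit 1, nat_lit 4, nat_lit 1, nat_lit 4, nat_lit 3, nat_lit 4, nat_lit 3, nat_lit 4] else [nat_lit 63, nat_lit 4, nat_lit 1, nat_lit 4, nat_lit 1, nat_lit 4, nat_lit 3, nat_lit 4, nat_lit 3, nat_lit 4, nat_lit 3, nat_lit 4, nat_lit 3, nat_lit 1, nat_lit 4, nat_lit 1]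
def Wt_419_422 (j : ℕ) : List ℕ := bif Nat.blt j 420 then [nat_lit 63, nat_lit 1, nat_lit 4, nat_lit 1, nat_lit 3, nat_lit 4, nat_lit 3, nat_lit 4, nat_lit 3, nat_lit 4, nat_lit 3, nat_lit 4, nat_lit 1, nat_lit 4, nat_lit 1, nat_lit 4] else (Wt_420_422 j)
def Wt_423_425 (j : ℕ) : List ℕ := bif Nat.blt j 424 then [nat_lit 63, nat_lit 1, nat_lit 4, nat_lit 1, nat_lit 4, nat_lit 1, nat_lit 4, nat_lit 1, nat_lit 3, nat_lit 4, nat_lit 3, nat_lit 4, nat_lit 3, nat_lit 4, nat_lit 3, nat_lit 4] else [nat_lit 63, nat_lit 4, nat_lit 2, nat_lit 4, nat_lit 3, nat_lit 4, nat_lit 2, nat_lit 4, nat_lit 2, nat_lit 4, nat_lit 3, nat_lit 4, nat_lit 3, nat_lit 0, nat_lit 3, nat_lit 1, nat_lit 2, nat_lit 1]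
def Wt_422_425 (j : ℕ) : List ℕ := bif Nat.blt j 423 then [nat_lit 63, nat_lit 1, nat_lit 4, nat_lit 1, nat_lit 4, nat_lit 1, nat_lit 3, nat_lit 4, nat_lit 3, nat_lit 4, nat_lit 3, nat_lit 4, nat_lit 3, nat_lit 4, nat_lit 1, nat_lit 4] else (Wt_423_425 j)
def Wt_419_425 (j : ℕ) : List ℕ := bif Nat.blt j 422 then (Wt_419_422 j) else (Wt_422_425 j)
def Wt_413_425 (j : ℕ) : List ℕ := bif Nat.blt j 419 then (Wt_413_419 j) else (Wt_419_425 j)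
def Wt_426_428 (j : ℕ) : List ℕ := bif Nat.blt j 427 then [nat_lit 0, nat_lit 3, nat_lit 0, nat_lit 4, nat_lit 3, nat_lit 0, nat_lit 4, nat_lit 3, nat_lit 4, nat_lit 2, nat_lit 3, nat_lit 4, nat_lit 3, nat_lit 4, nat_lit 0, nat_lit 3, nat_lit 4] else [nat_lit 63, nat_lit 5, nat_lit 0, nat_lit 5, nat_lit 0]
def Wt_425_428 (j : ℕ) : List ℕ := bif Nat.blt j 426 then [nat_lit 63, nat_lit 1, nat_lit 4, nat_lit 2, nat_lit 1, nat_lit 4, nat_lit 1, nat_lit 4, nat_lit 1, nat_lit 2, nat_lit 4, nat_lit 1, nat_lit 4, nat_lit 2, nat_lit 0, nat_lit 2, nat_lit 4] else (Wt_426_428 j)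
def Wt_429_431 (j : ℕ) : List ℕ := bif Nat.blt j 430 then [nat_lit 1, nat_lit 4, nat_lit 0, nat_lit 1, nat_lit 4, nat_lit 3, nat_lit 2, nat_lit 4, nat_lit 1, nat_lit 0, nat_lit 4, nat_lit 1, nat_lit 2, nat_lit 1, nat_lit 4, nat_lit 1, nat_lit 2] else [nat_lit 4, nat_lit 2, nat_lit 3, nat_lit 4, nat_lit 2, nat_lit 4, nat_lit 1, nat_lit 4, nat_lit 2, nat_lit 4, nat_lit 3, nat_lit 2, nat_lit 4, nat_lit 3, nat_lit 0, nat_lit 3, nat_lit 1]
def Wt_428_431 (j : ℕ) : List ℕ := bif Nat.blt j 429 then [nat_lit 4, nat_lit 1, nat_lit 0, nat_lit 2, nat_lit 1, nat_lit 0, nat_lit 1, nat_lit 3, nat_lit 4, nat_lit 0, nat_lit 1, nat_lit 4, nat_lit 1, nat_lit 3, nat_lit 4, nat_lit 1, nat_lit 0] else (Wt_429_431 j)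
def Wt_425_431 (j : ℕ) : List ℕ := bif Nat.blt j 428 then (Wt_425_428 j) else (Wt_428_431 j)
def Wt_432_434 (j : ℕ) : List ℕ := bif Nat.blt j 433 then [nat_lit 1, nat_lit 4, nat_lit 3, nat_lit 1, nat_lit 4, nat_lit 1, nat_lit 0, nat_lit 4, nat_lit 3, nat_lit 1, nat_lit 0, nat_lit 1, nat_lit 2, nat_lit 0, nat_lit 1, nat_lit 4, nat_lit 0] else [nat_lit 3, nat_lit 4, nat_lit 2, nat_lit 1, nat_lit 4, nat_lit 1, nat_lit 2, nat_lit 4, nat_lit 2, nat_lit 4, nat_lit 2, nat_lit 1, nat_lit 4, nat_lit 1, nat_lit 4, nat_lit 2, nat_lit 4]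
def Wt_431_434 (j : ℕ) : List ℕ := bif Nat.blt j 432 then [nat_lit 4, nat_lit 2, nat_lit 4, nat_lit 2, nat_lit 1, nat_lit 4, nat_lit 1, nat_lit 2, nat_lit 4, nat_lit 3, nat_lit 4, nat_lit 2, nat_lit 4, nat_lit 1, nat_lit 4, nat_lit 1, nat_lit 2] else (Wt_432_434 j)
def Wt_435_437 (j : ℕ) : List ℕ := bif Nat.blt j 436 then [nat_lit 63, nat_lit 3, nat_lit 4, nat_lit 2, nat_lit 4, nat_lit 1, nat_lit 4, nat_lit 2, nat_lit 4, nat_lit 3, nat_lit 2, nat_lit 4, nat_lit 1, nat_lit 3, nat_lit 0, nat_lit 3, nat_lit 4, nat_lit 2] else [nat_lit 63, nat_lit 4, nat_lit 3, nat_lit 0, nat_lit 4, nat_lit 3, nat_lit 4, nat_lit 2, nat_lit 3, nat_lit 4, nat_lit 3, nat_lit 4, nat_lit 0, nat_lit 3, nat_lit 4, nat_lit 0, nat_lit 3, nat_lit 0]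
def Wt_434_437 (j : ℕ) : List ℕ := bif Nat.blt j 435 then [nat_lit 2, nat_lit 4, nat_lit 2, nat_lit 1, nat_lit 4, nat_lit 1, nat_lit 4, nat_lit 2, nat_lit 4, nat_lit 3, nat_lit 4, nat_lit 2, nat_lit 1, nat_lit 4, nat_lit 1, nat_lit 2, nat_lit 4] else (Wt_435_437 j)
def Wt_431_437 (j : ℕ) : List ℕ := bif Nat.blt j 434 then (Wt_431_434 j) else (Wt_434_437 j)
def Wt_425_437 (j : ℕ) : List ℕ := bif Nat.blt j 431 then (Wt_425_431 j) else (Wt_431_437 j)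
def Wt_413_437 (j : ℕ) : List ℕ := bif Nat.blt j 425 then (Wt_413_425 j) else (Wt_425_437 j)
def Wt_389_437 (j : ℕ) : List ℕ := bif Nat.blt j 413 then (Wt_389_413 j) else (Wt_413_437 j)
def Wt_438_440 (j : ℕ) : List ℕ := bif Nat.blt j 439 then [nat_lit 63, nat_lit 2, nat_lit 3, nat_lit 1, nat_lit 0, nat_lit 4, nat_lit 3, nat_lit 4, nat_lit 2, nat_lit 3, nat_lit 4, nat_lit 1, nat_lit 4, nat_lit 0, nat_lit 1, nat_lit 0, nat_lit 4, nat_lit 1] else [nat_lit 2, nat_lit 1, nat_lit 4, nat_lit 1, nat_lit 2, nat_lit 1, nat_lit 4, nat_lit 0, nat_lit 1, nat_lit 4, nat_lit 3, nat_lit 2, nat_lit 4, nat_lit 1, nat_lit 0, nat_lit 4, nat_lit 1]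
def Wt_437_440 (j : ℕ) : List ℕ := bif Nat.blt j 438 then [nat_lit 63, nat_lit 4, nat_lit 2, nat_lit 4, nat_lit 2, nat_lit 4, nat_lit 3, nat_lit 4, nat_lit 3, nat_lit 0, nat_lit 3, nat_lit 1, nat_lit 2, nat_lit 1, nat_lit 4, nat_lit 2, nat_lit 4, nat_lit 3] else (Wt_438_440 j)
def Wt_441_443 (j : ℕ) : List ℕ := bif Nat.blt j 442 then [nat_lit 63, nat_lit 0, nat_lit 1, nat_lit 2, nat_lit 1, nat_lit 0, nat_lit 2, nat_lit 0, nat_lit 1, nat_lit 2, nat_lit 1, nat_lit 0, nat_lit 2] else [nat_lit 63, nat_lit 1, nat_lit 2, nat_lit 1, nat_lit 0, nat_lit 1, nat_lit 3, nat_lit 1, nat_lit 2, nat_lit 1, nat_lit 0, nat_lit 1, nat_lit 3, nat_lit 1, nat_lit 2, nat_lit 1, nat_lit 0, nat_lit 1, nat_lit 3]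
def Wt_440_443 (j : ℕ) : List ℕ := bif Nat.blt j 441 then [nat_lit 63, nat_lit 3, nat_lit 4, nat_lit 2, nat_lit 3, nat_lit 4, nat_lit 2, nat_lit 4, nat_lit 1, nat_lit 4, nat_lit 2, nat_lit 4, nat_lit 3, nat_lit 2, nat_lit 4, nat_lit 1, nat_lit 3, nat_lit 0] else (Wt_441_443 j)
def Wt_437_443 (j : ℕ) : List ℕ := bif Nat.blt j 440 then (Wt_437_440 j) else (Wt_440_443 j)
def Wt_444_446 (j : ℕ) : List ℕ := bif Nat.blt j 445 then [nat_lit 1, nat_lit 3, nat_lit 2, nat_lit 3, nat_lit 0, nat_lit 3, nat_lit 0, nat_lit 1, nat_lit 3, nat_lit 2, nat_lit 3, nat_lit 0, nat_lit 3, nat_lit 0, nat_lit 1, nat_lit 3, nat_lit 2, nat_lit 3, nat_lit 0, nat_lit 3, nat_lit 0] else [nat_lit 63, nat_lit 1, nat_lit 0, nat_lit 1, nat_lit 3, nat_lit 1, nat_lit 2, nat_lit 1, nat_lit 0, nat_lit 1, nat_lit 3, nat_lit 1, nat_lit 2, nat_lit 1, nat_lit 0, nat_lit 1, nat_lit 3, nat_lit 1, nat_lit 2]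
def Wt_443_446 (j : ℕ) : List ℕ := bif Nat.blt j 444 then [nat_lit 3, nat_lit 2, nat_lit 3, nat_lit 1, nat_lit 0, nat_lit 3, nat_lit 0, nat_lit 3, nat_lit 2, nat_lit 3, nat_lit 1, nat_lit 0, nat_lit 3, nat_lit 0, nat_lit 3, nat_lit 2, nat_lit 3, nat_lit 1, nat_lit 0, nat_lit 3, nat_lit 0] else (Wt_444_446 j)
def Wt_447_449 (j : ℕ) : List ℕ := bif Nat.blt j 448 then [nat_lit 63, nat_lit 2, nat_lit 1, nat_lit 3, nat_lit 2, nat_lit 1, nat_lit 0, nat_lit 1, nat_lit 2, nat_lit 1, nat_lit 3, nat_lit 2, nat_lit 1, nat_lit 0, nat_lit 1, nat_lit 2, nat_lit 1, nat_lit 3, nat_lit 2, nat_lit 1, nat_lit 0, nat_lit 1] else [nat_lit 63, nat_lit 2, nat_lit 1, nat_lit 3, nat_lit 1, nat_lit 0, nat_lit 1, nat_lit 2, nat_lit 1, nat_lit 3, nat_lit 1, nat_lit 0, nat_lit 1, nat_lit 2, nat_lit 1, nat_lit 3, nat_lit 1, nat_lit 0, nat_lit 1]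
def Wt_446_449 (j : ℕ) : List ℕ := bif Nat.blt j 447 then [nat_lit 63, nat_lit 1, nat_lit 2, nat_lit 1, nat_lit 2, nat_lit 1, nat_lit 2, nat_lit 1, nat_lit 2] else (Wt_447_449 j)
def Wt_443_449 (j : ℕ) : List ℕ := bif Nat.blt j 446 then (Wt_443_446 j) else (Wt_446_449 j)
def Wt_437_449 (j : ℕ) : List ℕ := bif Nat.blt j 443 then (Wt_437_443 j) else (Wt_443_449 j)
def Wt_450_452 (j : ℕ) : List ℕ := bif Nat.blt j 451 then [nat_lit 63, nat_lit 3, nat_lit 1, nat_lit 0, nat_lit 1, nat_lit 2, nat_lit 1, nat_lit 3, nat_lit 1, nat_lit 0, nat_lit 1, nat_lit 2, nat_lit 1, nat_lit 3, nat_lit 1, nat_lit 0, nat_lit 1, nat_lit 2, nat_lit 1] else [nat_lit 3, nat_lit 0, nat_lit 1, nat_lit 3, nat_lit 0, nat_lit 3, nat_lit 0, nat_lit 3, nat_lit 0, nat_lit 1, nat_lit 3, nat_lit 0, nat_lit 3, nat_lit 0, nat_lit 3, nat_lit 0, nat_lit 1, nat_lit 3, nat_lit 0, nat_lit 3, nat_lit 0]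
def Wt_449_452 (j : ℕ) : List ℕ := bif Nat.blt j 450 then [nat_lit 63, nat_lit 2, nat_lit 1, nat_lit 0, nat_lit 2, nat_lit 0, nat_lit 1, nat_lit 2, nat_lit 1, nat_lit 0, nat_lit 2, nat_lit 0, nat_lit 1] else (Wt_450_452 j)
def Wt_453_455 (j : ℕ) : List ℕ := bif Nat.blt j 454 then [nat_lit 2, nat_lit 0, nat_lit 4, nat_lit 0, nat_lit 4, nat_lit 3, nat_lit 1, nat_lit 4, nat_lit 2, nat_lit 1, nat_lit 2, nat_lit 4, nat_lit 1, nat_lit 3, nat_lit 4, nat_lit 0, nat_lit 4] else [nat_lit 4, nat_lit 1, nat_lit 4, nat_lit 2, nat_lit 1, nat_lit 4, nat_lit 1, nat_lit 4, nat_lit 1, nat_lit 2, nat_lit 4, nat_lit 1, nat_lit 4, nat_lit 2, nat_lit 0, nat_lit 2]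
def Wt_452_455 (j : ℕ) : List ℕ := bif Nat.blt j 453 then [nat_lit 3, nat_lit 1, nat_lit 4, nat_lit 1, nat_lit 4, nat_lit 1, nat_lit 4, nat_lit 1, nat_lit 4, nat_lit 3, nat_lit 4, nat_lit 3, nat_lit 4, nat_lit 3, nat_lit 4] else (Wt_453_455 j)
def Wt_449_455 (j : ℕ) : List ℕ := bif Nat.blt j 452 then (Wt_449_452 j) else (Wt_452_455 j)
def Wt_456_458 (j : ℕ) : List ℕ := bif Nat.blt j 457 then [nat_lit 4, nat_lit 3, nat_lit 2, nat_lit 4, nat_lit 1, nat_lit 0, nat_lit 4, nat_lit 1, nat_lit 2, nat_lit 1, nat_lit 4, nat_lit 1, nat_lit 2, nat_lit 1, nat_lit 4, nat_lit 0, nat_lit 1] else [nat_lit 3, nat_lit 1, nat_lit 0, nat_lit 4, nat_lit 3, nat_lit 4, nat_lit 2, nat_lit 3, nat_lit 4, nat_lit 1, nat_lit 4, nat_lit 0, nat_lit 1, nat_lit 0, nat_lit 4, nat_lit 1, nat_lit 2]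
def Wt_455_458 (j : ℕ) : List ℕ := bif Nat.blt j 456 then [nat_lit 1, nat_lit 0, nat_lit 1, nat_lit 3, nat_lit 4, nat_lit 0, nat_lit 1, nat_lit 4, nat_lit 1, nat_lit 3, nat_lit 4, nat_lit 1, nat_lit 0, nat_lit 4, nat_lit 1, nat_lit 0, nat_lit 2] else (Wt_456_458 j)
def Wt_459_461 (j : ℕ) : List ℕ := bif Nat.blt j 460 then [nat_lit 2, nat_lit 4, nat_lit 3, nat_lit 4, nat_lit 0, nat_lit 1, nat_lit 3, nat_lit 2, nat_lit 1, nat_lit 4, nat_lit 0, nat_lit 1, nat_lit 0, nat_lit 4, nat_lit 1, nat_lit 4, nat_lit 3] else [nat_lit 0, nat_lit 4, nat_lit 1, nat_lit 0, nat_lit 2, nat_lit 1, nat_lit 0, nat_lit 1, nat_lit 3, nat_lit 4, nat_lit 0, nat_lit 1, nat_lit 4, nat_lit 1, nat_lit 3, nat_lit 4, nat_lit 1]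
def Wt_458_461 (j : ℕ) : List ℕ := bif Nat.blt j 459 then [nat_lit 63, nat_lit 0, nat_lit 1, nat_lit 3, nat_lit 2, nat_lit 1, nat_lit 4, nat_lit 0, nat_lit 1, nat_lit 0, nat_lit 4, nat_lit 1, nat_lit 4, nat_lit 3, nat_lit 2, nat_lit 4, nat_lit 3, nat_lit 4] else (Wt_459_461 j)
def Wt_455_461 (j : ℕ) : List ℕ := bif Nat.blt j 458 then (Wt_455_458 j) else (Wt_458_461 j)
def Wt_449_461 (j : ℕ) : List ℕ := bif Nat.blt j 455 then (Wt_449_455 j) else (Wt_455_461 j)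
def Wt_437_461 (j : ℕ) : List ℕ := bif Nat.blt j 449 then (Wt_437_449 j) else (Wt_449_461 j)
def Wt_462_464 (j : ℕ) : List ℕ := bif Nat.blt j 463 then [nat_lit 0, nat_lit 4, nat_lit 3, nat_lit 1, nat_lit 0, nat_lit 1, nat_lit 2, nat_lit 0, nat_lit 1, nat_lit 4, nat_lit 0, nat_lit 1, nat_lit 4, nat_lit 3, nat_lit 1, nat_lit 4, nat_lit 1] else [nat_lit 3, nat_lit 4, nat_lit 2, nat_lit 3, nat_lit 4, nat_lit 3, nat_lit 4, nat_lit 0, nat_lit 3, nat_lit 4, nat_lit 0, nat_lit 3, nat_lit 0, nat_lit 4, nat_lit 3, nat_lit 0, nat_lit 4]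
def Wt_461_464 (j : ℕ) : List ℕ := bif Nat.blt j 462 then [nat_lit 0, nat_lit 4, nat_lit 1, nat_lit 2, nat_lit 1, nat_lit 4, nat_lit 1, nat_lit 2, nat_lit 1, nat_lit 4, nat_lit 0, nat_lit 1, nat_lit 4, nat_lit 3, nat_lit 2, nat_lit 4, nat_lit 1] else (Wt_462_464 j)
def Wt_465_467 (j : ℕ) : List ℕ := bif Nat.blt j 466 then [nat_lit 0, nat_lit 1, nat_lit 3, nat_lit 4, nat_lit 0, nat_lit 1, nat_lit 4, nat_lit 1, nat_lit 3, nat_lit 4, nat_lit 1, nat_lit 0, nat_lit 4, nat_lit 1, nat_lit 0, nat_lit 2, nat_lit 1] else [nat_lit 2, nat_lit 0, nat_lit 1, nat_lit 4, nat_lit 0, nat_lit 1, nat_lit 4, nat_lit 3, nat_lit 1, nat_lit 4, nat_lit 1, nat_lit 0, nat_lit 4, nat_lit 3, nat_lit 1, nat_lit 0, nat_lit 1]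
def Wt_464_467 (j : ℕ) : List ℕ := bif Nat.blt j 465 then [nat_lit 3, nat_lit 1, nat_lit 4, nat_lit 2, nat_lit 1, nat_lit 2, nat_lit 4, nat_lit 1, nat_lit 3, nat_lit 4, nat_lit 0, nat_lit 4, nat_lit 2, nat_lit 0, nat_lit 4, nat_lit 0, nat_lit 4] else (Wt_465_467 j)
def Wt_461_467 (j : ℕ) : List ℕ := bif Nat.blt j 464 then (Wt_461_464 j) else (Wt_464_467 j)
def Wt_468_470 (j : ℕ) : List ℕ := bif Nat.blt j 469 then [nat_lit 63, nat_lit 3, nat_lit 4, nat_lit 1, nat_lit 4, nat_lit 1, nat_lit 2, nat_lit 4, nat_lit 1, nat_lit 4, nat_lit 0, nat_lit 4, nat_lit 1, nat_lit 4, nat_lit 1, nat_lit 3, nat_lit 0, nat_lit 2] else [nat_lit 63, nat_lit 4, nat_lit 3, nat_lit 4, nat_lit 2, nat_lit 4, nat_lit 3, nat_lit 0, nat_lit 3, nat_lit 1, nat_lit 2, nat_lit 1, nat_lit 4, nat_lit 3, nat_lit 4, nat_lit 2, nat_lit 4, nat_lit 2]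
def Wt_467_470 (j : ℕ) : List ℕ := bif Nat.blt j 468 then [nat_lit 3, nat_lit 2, nat_lit 4, nat_lit 1, nat_lit 0, nat_lit 4, nat_lit 1, nat_lit 2, nat_lit 1, nat_lit 4, nat_lit 1, nat_lit 2, nat_lit 1, nat_lit 4, nat_lit 0, nat_lit 1, nat_lit 4] else (Wt_468_470 j)
def Wt_471_473 (j : ℕ) : List ℕ := bif Nat.blt j 472 then [nat_lit 63, nat_lit 2, nat_lit 4, nat_lit 2, nat_lit 4, nat_lit 2, nat_lit 4, nat_lit 2, nat_lit 4, nat_lit 2, nat_lit 4, nat_lit 2, nat_lit 4] else [nat_lit 63, nat_lit 4, nat_lit 3, nat_lit 4, nat_lit 3, nat_lit 4, nat_lit 3, nat_lit 4, nat_lit 3, nat_lit 4, nat_lit 3, nat_lit 4, nat_lit 3, nat_lit 4, nat_lit 3, nat_lit 4, nat_lit 3]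
def Wt_470_473 (j : ℕ) : List ℕ := bif Nat.blt j 471 then [nat_lit 63, nat_lit 2, nat_lit 4, nat_lit 3, nat_lit 4, nat_lit 2, nat_lit 4, nat_lit 2, nat_lit 4, nat_lit 3, nat_lit 4, nat_lit 3, nat_lit 0, nat_lit 3, nat_lit 1, nat_lit 2, nat_lit 1, nat_lit 4] else (Wt_471_473 j)
def Wt_467_473 (j : ℕ) : List ℕ := bif Nat.blt j 470 then (Wt_467_470 j) else (Wt_470_473 j)
def Wt_461_473 (j : ℕ) : List ℕ := bif Nat.blt j 467 then (Wt_461_467 j) else (Wt_467_473 j)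
def Wt_474_476 (j : ℕ) : List ℕ := bif Nat.blt j 475 then [nat_lit 63, nat_lit 4, nat_lit 2, nat_lit 4, nat_lit 2, nat_lit 4, nat_lit 3, nat_lit 4, nat_lit 2, nat_lit 4, nat_lit 3, nat_lit 0, nat_lit 3, nat_lit 1, nat_lit 2, nat_lit 1, nat_lit 4, nat_lit 3] else [nat_lit 63, nat_lit 1, nat_lit 2, nat_lit 4, nat_lit 2, nat_lit 4, nat_lit 2, nat_lit 1, nat_lit 4, nat_lit 1, nat_lit 2, nat_lit 4, nat_lit 3, nat_lit 4, nat_lit 2, nat_lit 4, nat_lit 1, nat_lit 4]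
def Wt_473_476 (j : ℕ) : List ℕ := bif Nat.blt j 474 then [nat_lit 4, nat_lit 1, nat_lit 2, nat_lit 3, nat_lit 1, nat_lit 0, nat_lit 4, nat_lit 3, nat_lit 4, nat_lit 2, nat_lit 3, nat_lit 4, nat_lit 1, nat_lit 4, nat_lit 0, nat_lit 1, nat_lit 0] else (Wt_474_476 j)
def Wt_477_479 (j : ℕ) : List ℕ := bif Nat.blt j 478 then [nat_lit 0, nat_lit 2, nat_lit 1, nat_lit 0, nat_lit 1, nat_lit 3, nat_lit 4, nat_lit 0, nat_lit 1, nat_lit 4, nat_lit 1, nat_lit 3, nat_lit 4, nat_lit 1, nat_lit 0, nat_lit 4, nat_lit 1] else [nat_lit 1, nat_lit 3, nat_lit 2, nat_lit 1, nat_lit 4, nat_lit 0, nat_lit 1, nat_lit 0, nat_lit 4, nat_lit 1, nat_lit 4, nat_lit 3, nat_lit 2, nat_lit 4, nat_lit 3, nat_lit 4, nat_lit 0]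
def Wt_476_479 (j : ℕ) : List ℕ := bif Nat.blt j 477 then [nat_lit 4, nat_lit 0, nat_lit 4, nat_lit 3, nat_lit 1, nat_lit 4, nat_lit 2, nat_lit 1, nat_lit 2, nat_lit 4, nat_lit 1, nat_lit 3, nat_lit 4, nat_lit 0, nat_lit 4, nat_lit 0, nat_lit 2] else (Wt_477_479 j)
def Wt_473_479 (j : ℕ) : List ℕ := bif Nat.blt j 476 then (Wt_473_476 j) else (Wt_476_479 j)
def Wt_480_482 (j : ℕ) : List ℕ := bif Nat.blt j 481 then [nat_lit 2, nat_lit 4, nat_lit 2, nat_lit 1, nat_lit 4, nat_lit 1, nat_lit 2, nat_lit 4, nat_lit 3, nat_lit 4, nat_lit 2, nat_lit 4, nat_lit 1, nat_lit 4, nat_lit 1, nat_lit 2, nat_lit 4] else [nat_lit 4, nat_lit 1, nat_lit 2, nat_lit 4, nat_lit 1, nat_lit 4, nat_lit 2, nat_lit 0, nat_lit 2, nat_lit 4, nat_lit 1, nat_lit 4, nat_lit 2, nat_lit 1, nat_lit 4, nat_lit 1]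
def Wt_479_482 (j : ℕ) : List ℕ := bif Nat.blt j 480 then [nat_lit 3, nat_lit 4, nat_lit 2, nat_lit 4, nat_lit 1, nat_lit 4, nat_lit 1, nat_lit 2, nat_lit 4, nat_lit 2, nat_lit 4, nat_lit 2, nat_lit 1, nat_lit 4, nat_lit 1, nat_lit 2, nat_lit 4] else (Wt_480_482 j)
def Wt_482_484 (j : ℕ) : List ℕ := bif Nat.blt j 483 then [nat_lit 4, nat_lit 0, nat_lit 1, nat_lit 0, nat_lit 4, nat_lit 1, nat_lit 4, nat_lit 3, nat_lit 2, nat_lit 4, nat_lit 3, nat_lit 4, nat_lit 0, nat_lit 1, nat_lit 3, nat_lit 2, nat_lit 1] else [nat_lit 3, nat_lit 4, nat_lit 2, nat_lit 4, nat_lit 2, nat_lit 4, nat_lit 3, nat_lit 4, nat_lit 2, nat_lit 4, nat_lit 1, nat_lit 2, nat_lit 1, nat_lit 3, nat_lit 0, nat_lit 3, nat_lit 4]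
def Wt_484_486 (j : ℕ) : List ℕ := bif Nat.blt j 485 then [nat_lit 0, nat_lit 4, nat_lit 1, nat_lit 2, nat_lit 3, nat_lit 1, nat_lit 0, nat_lit 4, nat_lit 3, nat_lit 4, nat_lit 2, nat_lit 3, nat_lit 4, nat_lit 1, nat_lit 4, nat_lit 0, nat_lit 1] else [nat_lit 63, nat_lit 1, nat_lit 0, nat_lit 1, nat_lit 2, nat_lit 3, nat_lit 1, nat_lit 2, nat_lit 1, nat_lit 0, nat_lit 1, nat_lit 2, nat_lit 3, nat_lit 1, nat_lit 2, nat_lit 1, nat_lit 0, nat_lit 1, nat_lit 2, nat_lit 3, nat_lit 1, nat_lit 2]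
def Wt_482_486 (j : ℕ) : List ℕ := bif Nat.blt j 484 then (Wt_482_484 j) else (Wt_484_486 j)
def Wt_479_486 (j : ℕ) : List ℕ := bif Nat.blt j 482 then (Wt_479_482 j) else (Wt_482_486 j)
def Wt_473_486 (j : ℕ) : List ℕ := bif Nat.blt j 479 then (Wt_473_479 j) else (Wt_479_486 j)
def Wt_461_486 (j : ℕ) : List ℕ := bif Nat.blt j 473 then (Wt_461_473 j) else (Wt_473_486 j)
def Wt_437_486 (j : ℕ) : List ℕ := bif Nat.blt j 461 then (Wt_437_461 j) else (Wt_461_486 j)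
def Wt_389_486 (j : ℕ) : List ℕ := bif Nat.blt j 437 then (Wt_389_437 j) else (Wt_437_486 j)
def Wt_487_489 (j : ℕ) : List ℕ := bif Nat.blt j 488 then [nat_lit 63, nat_lit 3, nat_lit 0, nat_lit 1, nat_lit 0, nat_lit 3, nat_lit 1, nat_lit 4, nat_lit 1, nat_lit 3, nat_lit 0, nat_lit 1, nat_lit 0, nat_lit 3, nat_lit 1, nat_lit 4, nat_lit 1] else [nat_lit 2, nat_lit 4, nat_lit 2, nat_lit 4, nat_lit 2, nat_lit 1, nat_lit 4, nat_lit 1, nat_lit 2, nat_lit 4, nat_lit 3, nat_lit 4, nat_lit 2, nat_lit 4, nat_lit 1, nat_lit 4, nat_lit 1]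
def Wt_486_489 (j : ℕ) : List ℕ := bif Nat.blt j 487 then [nat_lit 63, nat_lit 4, nat_lit 1, nat_lit 4, nat_lit 0, nat_lit 4, nat_lit 1, nat_lit 4, nat_lit 2, nat_lit 1, nat_lit 4, nat_lit 1, nat_lit 4, nat_lit 3, nat_lit 2, nat_lit 0, nat_lit 3, nat_lit 1] else (Wt_487_489 j)
def Wt_490_492 (j : ℕ) : List ℕ := bif Nat.blt j 491 then [nat_lit 4, nat_lit 3, nat_lit 1, nat_lit 4, nat_lit 1, nat_lit 0, nat_lit 4, nat_lit 3, nat_lit 1, nat_lit 0, nat_lit 1, nat_lit 2, nat_lit 0, nat_lit 1, nat_lit 4, nat_lit 0, nat_lit 1] else [nat_lit 1, nat_lit 0, nat_lit 1, nat_lit 2, nat_lit 3, nat_lit 1, nat_lit 2, nat_lit 1, nat_lit 0, nat_lit 1, nat_lit 2, nat_lit 3, nat_lit 1, nat_lit 2, nat_lit 1, nat_lit 0, nat_lit 1, nat_lit 2, nat_lit 3, nat_lit 1, nat_lit 2]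
def Wt_489_492 (j : ℕ) : List ℕ := bif Nat.blt j 490 then [nat_lit 4, nat_lit 0, nat_lit 1, nat_lit 0, nat_lit 4, nat_lit 1, nat_lit 2, nat_lit 3, nat_lit 1, nat_lit 0, nat_lit 4, nat_lit 3, nat_lit 4, nat_lit 2, nat_lit 3, nat_lit 4, nat_lit 1] else (Wt_490_492 j)
def Wt_486_492 (j : ℕ) : List ℕ := bif Nat.blt j 489 then (Wt_486_489 j) else (Wt_489_492 j)
def Wt_493_495 (j : ℕ) : List ℕ := bif Nat.blt j 494 then [nat_lit 1, nat_lit 4, nat_lit 1, nat_lit 0, nat_lit 4, nat_lit 3, nat_lit 1, nat_lit 0, nat_lit 1, nat_lit 2, nat_lit 0, nat_lit 1, nat_lit 4, nat_lit 0, nat_lit 1, nat_lit 4, nat_lit 3] else [nat_lit 4, nat_lit 3, nat_lit 4, nat_lit 2, nat_lit 3, nat_lit 4, nat_lit 1, nat_lit 4, nat_lit 0, nat_lit 1, nat_lit 0, nat_lit 4, nat_lit 1, nat_lit 2, nat_lit 3, nat_lit 1, nat_lit 0]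
def Wt_492_495 (j : ℕ) : List ℕ := bif Nat.blt j 493 then [nat_lit 0, nat_lit 4, nat_lit 2, nat_lit 0, nat_lit 4, nat_lit 0, nat_lit 2, nat_lit 4, nat_lit 0, nat_lit 2, nat_lit 4, nat_lit 3, nat_lit 2, nat_lit 3, nat_lit 0, nat_lit 4, nat_lit 2] else (Wt_493_495 j)
def Wt_496_498 (j : ℕ) : List ℕ := bif Nat.blt j 497 then [nat_lit 2, nat_lit 3, nat_lit 0, nat_lit 2, nat_lit 1, nat_lit 0, nat_lit 2, nat_lit 3, nat_lit 0, nat_lit 2, nat_lit 1, nat_lit 0, nat_lit 2, nat_lit 3, nat_lit 0, nat_lit 2, nat_lit 1, nat_lit 0] else [nat_lit 1, nat_lit 4, nat_lit 1, nat_lit 4, nat_lit 1, nat_lit 4, nat_lit 1, nat_lit 4, nat_lit 1, nat_lit 4, nat_lit 1, nat_lit 4, nat_lit 1, nat_lit 4, nat_lit 1, nat_lit 4]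
def Wt_495_498 (j : ℕ) : List ℕ := bif Nat.blt j 496 then [nat_lit 3, nat_lit 0, nat_lit 3, nat_lit 0, nat_lit 3, nat_lit 1, nat_lit 0, nat_lit 3, nat_lit 0, nat_lit 3, nat_lit 0, nat_lit 3, nat_lit 1, nat_lit 0, nat_lit 3, nat_lit 0, nat_lit 3, nat_lit 0, nat_lit 3, nat_lit 1, nat_lit 0] else (Wt_496_498 j)
def Wt_492_498 (j : ℕ) : List ℕ := bif Nat.blt j 495 then (Wt_492_495 j) else (Wt_495_498 j)
def Wt_486_498 (j : ℕ) : List ℕ := bif Nat.blt j 492 then (Wt_486_492 j) else (Wt_492_498 j)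
def Wt_499_501 (j : ℕ) : List ℕ := bif Nat.blt j 500 then [nat_lit 4, nat_lit 2, nat_lit 4, nat_lit 3, nat_lit 4, nat_lit 3, nat_lit 0, nat_lit 3, nat_lit 1, nat_lit 2, nat_lit 1, nat_lit 4, nat_lit 2, nat_lit 4, nat_lit 3, nat_lit 4, nat_lit 2] else [nat_lit 1, nat_lit 4, nat_lit 1, nat_lit 4, nat_lit 0, nat_lit 4, nat_lit 1, nat_lit 4, nat_lit 2, nat_lit 1, nat_lit 4, nat_lit 1, nat_lit 4, nat_lit 3, nat_lit 2, nat_lit 0, nat_lit 3]
def Wt_498_501 (j : ℕ) : List ℕ := bif Nat.blt j 499 then [nat_lit 2, nat_lit 1, nat_lit 4, nat_lit 3, nat_lit 4, nat_lit 2, nat_lit 4, nat_lit 2, nat_lit 4, nat_lit 3, nat_lit 4, nat_lit 2, nat_lit 4, nat_lit 3, nat_lit 0, nat_lit 3, nat_lit 1] else (Wt_499_501 j)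
def Wt_502_504 (j : ℕ) : List ℕ := bif Nat.blt j 503 then [nat_lit 1, nat_lit 3, nat_lit 4, nat_lit 3, nat_lit 4, nat_lit 3, nat_lit 4, nat_lit 3, nat_lit 4, nat_lit 1, nat_lit 4, nat_lit 1, nat_lit 4, nat_lit 1, nat_lit 4] else [nat_lit 2, nat_lit 4, nat_lit 1, nat_lit 3, nat_lit 4, nat_lit 0, nat_lit 4, nat_lit 2, nat_lit 0, nat_lit 4, nat_lit 0, nat_lit 4, nat_lit 3, nat_lit 1, nat_lit 4, nat_lit 2, nat_lit 1]
def Wt_501_504 (j : ℕ) : List ℕ := bif Nat.blt j 502 then [nat_lit 3, nat_lit 4, nat_lit 2, nat_lit 4, nat_lit 1, nat_lit 4, nat_lit 2, nat_lit 4, nat_lit 3, nat_lit 2, nat_lit 4, nat_lit 1, nat_lit 3, nat_lit 0, nat_lit 3, nat_lit 4, nat_lit 2] else (Wt_502_504 j)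
def Wt_498_504 (j : ℕ) : List ℕ := bif Nat.blt j 501 then (Wt_498_501 j) else (Wt_501_504 j)
def Wt_505_507 (j : ℕ) : List ℕ := bif Nat.blt j 506 then [nat_lit 1, nat_lit 2, nat_lit 3, nat_lit 1, nat_lit 2, nat_lit 1, nat_lit 0, nat_lit 1, nat_lit 2, nat_lit 3, nat_lit 1, nat_lit 2, nat_lit 1, nat_lit 0, nat_lit 1, nat_lit 2, nat_lit 3, nat_lit 1, nat_lit 2, nat_lit 1, nat_lit 0] else [nat_lit 3, nat_lit 1, nat_lit 2, nat_lit 1, nat_lit 0, nat_lit 1, nat_lit 2, nat_lit 3, nat_lit 1, nat_lit 2, nat_lit 1, nat_lit 0, nat_lit 1, nat_lit 2, nat_lit 3, nat_lit 1, nat_lit 2, nat_lit 1, nat_lit 0, nat_lit 1, nat_lit 2]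
def Wt_504_507 (j : ℕ) : List ℕ := bif Nat.blt j 505 then [nat_lit 0, nat_lit 4, nat_lit 1, nat_lit 4, nat_lit 3, nat_lit 2, nat_lit 4, nat_lit 3, nat_lit 4, nat_lit 0, nat_lit 1, nat_lit 3, nat_lit 2, nat_lit 1, nat_lit 4, nat_lit 0, nat_lit 1] else (Wt_505_507 j)
def Wt_508_510 (j : ℕ) : List ℕ := bif Nat.blt j 509 then [nat_lit 0, nat_lit 3, nat_lit 0, nat_lit 3, nat_lit 0, nat_lit 3, nat_lit 1, nat_lit 0, nat_lit 3, nat_lit 0, nat_lit 3, nat_lit 0, nat_lit 3, nat_lit 1, nat_lit 0, nat_lit 3, nat_lit 0, nat_lit 3, nat_lit 0, nat_lit 3, nat_lit 1] else [nat_lit 2, nat_lit 1, nat_lit 4, nat_lit 3, nat_lit 4, nat_lit 1, nat_lit 2, nat_lit 4, nat_lit 3, nat_lit 1, nat_lit 3, nat_lit 1, nat_lit 3, nat_lit 1, nat_lit 3, nat_lit 4]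
def Wt_507_510 (j : ℕ) : List ℕ := bif Nat.blt j 508 then [nat_lit 1, nat_lit 0, nat_lit 3, nat_lit 0, nat_lit 3, nat_lit 2, nat_lit 3, nat_lit 1, nat_lit 0, nat_lit 3, nat_lit 0, nat_lit 3, nat_lit 2, nat_lit 3, nat_lit 1, nat_lit 0, nat_lit 3, nat_lit 0, nat_lit 3, nat_lit 2, nat_lit 3] else (Wt_508_510 j)
def Wt_504_510 (j : ℕ) : List ℕ := bif Nat.blt j 507 then (Wt_504_507 j) else (Wt_507_510 j)
def Wt_498_510 (j : ℕ) : List ℕ := bif Nat.blt j 504 then (Wt_498_504 j) else (Wt_504_510 j)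
def Wt_486_510 (j : ℕ) : List ℕ := bif Nat.blt j 498 then (Wt_486_498 j) else (Wt_498_510 j)
def Wt_511_513 (j : ℕ) : List ℕ := bif Nat.blt j 512 then [nat_lit 4, nat_lit 2, nat_lit 4, nat_lit 2, nat_lit 4, nat_lit 3, nat_lit 4, nat_lit 2, nat_lit 4, nat_lit 1, nat_lit 2, nat_lit 1, nat_lit 3, nat_lit 0, nat_lit 3, nat_lit 4, nat_lit 3] else [nat_lit 63, nat_lit 1, nat_lit 3, nat_lit 0, nat_lit 3, nat_lit 4, nat_lit 3, nat_lit 4, nat_lit 2, nat_lit 4, nat_lit 2, nat_lit 4, nat_lit 3, nat_lit 4, nat_lit 2, nat_lit 4, nat_lit 1, nat_lit 2]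
def Wt_510_513 (j : ℕ) : List ℕ := bif Nat.blt j 511 then [nat_lit 5, nat_lit 3, nat_lit 5, nat_lit 3, nat_lit 2] else (Wt_511_513 j)
def Wt_514_516 (j : ℕ) : List ℕ := bif Nat.blt j 515 then [nat_lit 63, nat_lit 1, nat_lit 2, nat_lit 0, nat_lit 3, nat_lit 2, nat_lit 0, nat_lit 1, nat_lit 2, nat_lit 0, nat_lit 3, nat_lit 2, nat_lit 0, nat_lit 1, nat_lit 2, nat_lit 0, nat_lit 3, nat_lit 2, nat_lit 0] else [nat_lit 4, nat_lit 0, nat_lit 1, nat_lit 4, nat_lit 1, nat_lit 3, nat_lit 4, nat_lit 1, nat_lit 0, nat_lit 4, nat_lit 1, nat_lit 0, nat_lit 2, nat_lit 1, nat_lit 0, nat_lit 1, nat_lit 3]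
def Wt_513_516 (j : ℕ) : List ℕ := bif Nat.blt j 514 then [nat_lit 63, nat_lit 2, nat_lit 1, nat_lit 0, nat_lit 2, nat_lit 3, nat_lit 0, nat_lit 2, nat_lit 1, nat_lit 0, nat_lit 2, nat_lit 3, nat_lit 0, nat_lit 2, nat_lit 1, nat_lit 0, nat_lit 2, nat_lit 3, nat_lit 0] else (Wt_514_516 j)
def Wt_510_516 (j : ℕ) : List ℕ := bif Nat.blt j 513 then (Wt_510_513 j) else (Wt_513_516 j)
def Wt_517_519 (j : ℕ) : List ℕ := bif Nat.blt j 518 then [nat_lit 0, nat_lit 2, nat_lit 4, nat_lit 0, nat_lit 4, nat_lit 3, nat_lit 1, nat_lit 4, nat_lit 2, nat_lit 1, nat_lit 2, nat_lit 4, nat_lit 1, nat_lit 3, nat_lit 4, nat_lit 0, nat_lit 4] else [nat_lit 4, nat_lit 3, nat_lit 4, nat_lit 0, nat_lit 3, nat_lit 4, nat_lit 0, nat_lit 3, nat_lit 0, nat_lit 4, nat_lit 3, nat_lit 0, nat_lit 4, nat_lit 3, nat_lit 4, nat_lit 2, nat_lit 3]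
def Wt_516_519 (j : ℕ) : List ℕ := bif Nat.blt j 517 then [nat_lit 0, nat_lit 1, nat_lit 2, nat_lit 0, nat_lit 1, nat_lit 4, nat_lit 0, nat_lit 1, nat_lit 4, nat_lit 3, nat_lit 1, nat_lit 4, nat_lit 1, nat_lit 0, nat_lit 4, nat_lit 3, nat_lit 1] else (Wt_517_519 j)
def Wt_520_522 (j : ℕ) : List ℕ := bif Nat.blt j 521 then [nat_lit 1, nat_lit 3, nat_lit 4, nat_lit 0, nat_lit 4, nat_lit 2, nat_lit 0, nat_lit 4, nat_lit 0, nat_lit 4, nat_lit 3, nat_lit 1, nat_lit 4, nat_lit 2, nat_lit 1, nat_lit 2, nat_lit 4] else [nat_lit 3, nat_lit 4, nat_lit 2, nat_lit 4, nat_lit 3, nat_lit 4, nat_lit 2, nat_lit 4, nat_lit 2, nat_lit 4, nat_lit 3, nat_lit 4, nat_lit 1, nat_lit 2, nat_lit 1, nat_lit 3, nat_lit 0]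
def Wt_519_522 (j : ℕ) : List ℕ := bif Nat.blt j 520 then [nat_lit 4, nat_lit 0, nat_lit 1, nat_lit 4, nat_lit 3, nat_lit 1, nat_lit 4, nat_lit 1, nat_lit 0, nat_lit 4, nat_lit 3, nat_lit 1, nat_lit 0, nat_lit 1, nat_lit 2, nat_lit 0, nat_lit 1] else (Wt_520_522 j)
def Wt_516_522 (j : ℕ) : List ℕ := bif Nat.blt j 519 then (Wt_516_519 j) else (Wt_519_522 j)
def Wt_510_522 (j : ℕ) : List ℕ := bif Nat.blt j 516 then (Wt_510_516 j) else (Wt_516_522 j)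
def Wt_523_525 (j : ℕ) : List ℕ := bif Nat.blt j 524 then [nat_lit 63, nat_lit 4, nat_lit 2, nat_lit 0, nat_lit 2, nat_lit 4, nat_lit 1, nat_lit 4, nat_lit 2, nat_lit 1, nat_lit 4, nat_lit 1, nat_lit 4, nat_lit 1, nat_lit 2, nat_lit 4, nat_lit 1] else [nat_lit 63, nat_lit 1, nat_lit 0, nat_lit 4, nat_lit 1, nat_lit 4, nat_lit 3, nat_lit 2, nat_lit 4, nat_lit 3, nat_lit 4, nat_lit 0, nat_lit 1, nat_lit 3, nat_lit 2, nat_lit 1, nat_lit 4, nat_lit 0]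
def Wt_522_525 (j : ℕ) : List ℕ := bif Nat.blt j 523 then [nat_lit 63, nat_lit 4, nat_lit 2, nat_lit 4, nat_lit 3, nat_lit 2, nat_lit 4, nat_lit 3, nat_lit 0, nat_lit 3, nat_lit 1, nat_lit 4, nat_lit 2, nat_lit 3, nat_lit 4, nat_lit 2, nat_lit 4, nat_lit 1] else (Wt_523_525 j)
def Wt_526_528 (j : ℕ) : List ℕ := bif Nat.blt j 527 then [nat_lit 63, nat_lit 3, nat_lit 4, nat_lit 3, nat_lit 4, nat_lit 3, nat_lit 1, nat_lit 4, nat_lit 1, nat_lit 4, nat_lit 1, nat_lit 4, nat_lit 1, nat_lit 4, nat_lit 3, nat_lit 4] else [nat_lit 4, nat_lit 3, nat_lit 4, nat_lit 2, nat_lit 4, nat_lit 2, nat_lit 4, nat_lit 3, nat_lit 4, nat_lit 1, nat_lit 2, nat_lit 1, nat_lit 3, nat_lit 0, nat_lit 3, nat_lit 4, nat_lit 2]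
def Wt_525_528 (j : ℕ) : List ℕ := bif Nat.blt j 526 then [nat_lit 4, nat_lit 1, nat_lit 4, nat_lit 2, nat_lit 0, nat_lit 4, nat_lit 1, nat_lit 4, nat_lit 0, nat_lit 2, nat_lit 4, nat_lit 1, nat_lit 4, nat_lit 2, nat_lit 0] else (Wt_526_528 j)
def Wt_522_528 (j : ℕ) : List ℕ := bif Nat.blt j 525 then (Wt_522_525 j) else (Wt_525_528 j)
def Wt_529_531 (j : ℕ) : List ℕ := bif Nat.blt j 530 then [nat_lit 63, nat_lit 4, nat_lit 1, nat_lit 2, nat_lit 3, nat_lit 1, nat_lit 0, nat_lit 4, nat_lit 3, nat_lit 4, nat_lit 2, nat_lit 3, nat_lit 4, nat_lit 1, nat_lit 4, nat_lit 0, nat_lit 1, nat_lit 0] else [nat_lit 63, nat_lit 4, nat_lit 3, nat_lit 4, nat_lit 2, nat_lit 3, nat_lit 4, nat_lit 3, nat_lit 4, nat_lit 0, nat_lit 3, nat_lit 4, nat_lit 0, nat_lit 3, nat_lit 0, nat_lit 4, nat_lit 3, nat_lit 0]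
def Wt_528_531 (j : ℕ) : List ℕ := bif Nat.blt j 529 then [nat_lit 3, nat_lit 2, nat_lit 4, nat_lit 3, nat_lit 0, nat_lit 3, nat_lit 1, nat_lit 4, nat_lit 2, nat_lit 3, nat_lit 4, nat_lit 2, nat_lit 4, nat_lit 1, nat_lit 4, nat_lit 2, nat_lit 4] else (Wt_529_531 j)
def Wt_531_533 (j : ℕ) : List ℕ := bif Nat.blt j 532 then [nat_lit 4, nat_lit 2, nat_lit 1, nat_lit 4, nat_lit 3, nat_lit 4, nat_lit 1, nat_lit 2, nat_lit 4, nat_lit 3, nat_lit 1, nat_lit 3, nat_lit 1, nat_lit 3, nat_lit 1, nat_lit 3] else [nat_lit 3, nat_lit 1, nat_lit 3, nat_lit 4, nat_lit 2, nat_lit 1, nat_lit 4, nat_lit 3, nat_lit 4, nat_lit 1, nat_lit 2, nat_lit 4, nat_lit 3, nat_lit 1, nat_lit 3, nat_lit 1]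
def Wt_533_535 (j : ℕ) : List ℕ := bif Nat.blt j 534 then [nat_lit 2, nat_lit 1, nat_lit 3, nat_lit 0, nat_lit 3, nat_lit 4, nat_lit 3, nat_lit 4, nat_lit 2, nat_lit 4, nat_lit 2, nat_lit 4, nat_lit 3, nat_lit 4, nat_lit 2, nat_lit 4, nat_lit 1] else [nat_lit 63, nat_lit 4, nat_lit 2, nat_lit 4, nat_lit 1, nat_lit 4, nat_lit 1, nat_lit 2, nat_lit 4, nat_lit 2, nat_lit 4, nat_lit 2, nat_lit 1, nat_lit 4, nat_lit 1, nat_lit 2, nat_lit 4, nat_lit 3]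
def Wt_531_535 (j : ℕ) : List ℕ := bif Nat.blt j 533 then (Wt_531_533 j) else (Wt_533_535 j)
def Wt_528_535 (j : ℕ) : List ℕ := bif Nat.blt j 531 then (Wt_528_531 j) else (Wt_531_535 j)
def Wt_522_535 (j : ℕ) : List ℕ := bif Nat.blt j 528 then (Wt_522_528 j) else (Wt_528_535 j)
def Wt_510_535 (j : ℕ) : List ℕ := bif Nat.blt j 522 then (Wt_510_522 j) else (Wt_522_535 j)
def Wt_486_535 (j : ℕ) : List ℕ := bif Nat.blt j 510 then (Wt_486_510 j) else (Wt_510_535 j)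
def Wt_536_538 (j : ℕ) : List ℕ := bif Nat.blt j 537 then [nat_lit 0, nat_lit 4, nat_lit 3, nat_lit 4, nat_lit 2, nat_lit 3, nat_lit 4, nat_lit 3, nat_lit 4, nat_lit 0, nat_lit 3, nat_lit 4, nat_lit 0, nat_lit 3, nat_lit 0, nat_lit 4, nat_lit 3] else [nat_lit 4, nat_lit 3, nat_lit 4, nat_lit 0, nat_lit 1, nat_lit 3, nat_lit 2, nat_lit 1, nat_lit 4, nat_lit 0, nat_lit 1, nat_lit 0, nat_lit 4, nat_lit 1, nat_lit 4, nat_lit 3, nat_lit 2]
def Wt_535_538 (j : ℕ) : List ℕ := bif Nat.blt j 536 then [nat_lit 63, nat_lit 1, nat_lit 3, nat_lit 4, nat_lit 2, nat_lit 1, nat_lit 4, nat_lit 3, nat_lit 4, nat_lit 1, nat_lit 2, nat_lit 4, nat_lit 3, nat_lit 1, nat_lit 3, nat_lit 1, nat_lit 3] else (Wt_536_538 j)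
def Wt_539_541 (j : ℕ) : List ℕ := bif Nat.blt j 540 then [nat_lit 2, nat_lit 4, nat_lit 1, nat_lit 4, nat_lit 1, nat_lit 2, nat_lit 4, nat_lit 2, nat_lit 4, nat_lit 2, nat_lit 1, nat_lit 4, nat_lit 1, nat_lit 2, nat_lit 4, nat_lit 3, nat_lit 4] else [nat_lit 63, nat_lit 3, nat_lit 0, nat_lit 4, nat_lit 3, nat_lit 4, nat_lit 2, nat_lit 3, nat_lit 4, nat_lit 3, nat_lit 4, nat_lit 0, nat_lit 3, nat_lit 4, nat_lit 0, nat_lit 3, nat_lit 0, nat_lit 4]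
def Wt_538_541 (j : ℕ) : List ℕ := bif Nat.blt j 539 then [nat_lit 4, nat_lit 2, nat_lit 4, nat_lit 1, nat_lit 4, nat_lit 2, nat_lit 4, nat_lit 3, nat_lit 2, nat_lit 4, nat_lit 3, nat_lit 0, nat_lit 3, nat_lit 1, nat_lit 4, nat_lit 2, nat_lit 3] else (Wt_539_541 j)
def Wt_535_541 (j : ℕ) : List ℕ := bif Nat.blt j 538 then (Wt_535_538 j) else (Wt_538_541 j)
def Wt_542_544 (j : ℕ) : List ℕ := bif Nat.blt j 543 then [nat_lit 63, nat_lit 63, nat_lit 63] else [nat_lit 0, nat_lit 3, nat_lit 4, nat_lit 3, nat_lit 4, nat_lit 2, nat_lit 4, nat_lit 2, nat_lit 4, nat_lit 3, nat_lit 4, nat_lit 2, nat_lit 4, nat_lit 1, nat_lit 2, nat_lit 1, nat_lit 3]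
def Wt_541_544 (j : ℕ) : List ℕ := bif Nat.blt j 542 then [nat_lit 63, nat_lit 4, nat_lit 1, nat_lit 4, nat_lit 3, nat_lit 4, nat_lit 3, nat_lit 4, nat_lit 3, nat_lit 4, nat_lit 3, nat_lit 1, nat_lit 4, nat_lit 1, nat_lit 4, nat_lit 1] else (Wt_542_544 j)
def Wt_545_547 (j : ℕ) : List ℕ := bif Nat.blt j 546 then [nat_lit 4, nat_lit 0, nat_lit 1, nat_lit 4, nat_lit 3, nat_lit 2, nat_lit 4, nat_lit 1, nat_lit 0, nat_lit 4, nat_lit 1, nat_lit 2, nat_lit 1, nat_lit 4, nat_lit 1, nat_lit 2, nat_lit 1] else [nat_lit 4, nat_lit 2, nat_lit 4, nat_lit 3, nat_lit 4, nat_lit 2, nat_lit 4, nat_lit 3, nat_lit 0, nat_lit 3, nat_lit 1, nat_lit 2, nat_lit 1, nat_lit 4, nat_lit 3, nat_lit 4, nat_lit 2]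
def Wt_544_547 (j : ℕ) : List ℕ := bif Nat.blt j 545 then [nat_lit 63, nat_lit 1, nat_lit 4, nat_lit 1, nat_lit 3, nat_lit 0, nat_lit 1, nat_lit 0, nat_lit 3, nat_lit 1, nat_lit 4, nat_lit 1, nat_lit 3, nat_lit 0, nat_lit 1, nat_lit 0, nat_lit 3] else (Wt_545_547 j)
def Wt_541_547 (j : ℕ) : List ℕ := bif Nat.blt j 544 then (Wt_541_544 j) else (Wt_544_547 j)
def Wt_535_547 (j : ℕ) : List ℕ := bif Nat.blt j 541 then (Wt_535_541 j) else (Wt_541_547 j)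
def Wt_548_550 (j : ℕ) : List ℕ := bif Nat.blt j 549 then [nat_lit 2, nat_lit 4, nat_lit 1, nat_lit 0, nat_lit 4, nat_lit 1, nat_lit 2, nat_lit 1, nat_lit 4, nat_lit 1, nat_lit 2, nat_lit 1, nat_lit 4, nat_lit 0, nat_lit 1, nat_lit 4, nat_lit 3] else [nat_lit 63, nat_lit 1, nat_lit 3, nat_lit 0, nat_lit 3, nat_lit 4, nat_lit 2, nat_lit 3, nat_lit 4, nat_lit 2, nat_lit 4, nat_lit 1, nat_lit 4, nat_lit 2, nat_lit 4, nat_lit 3, nat_lit 2, nat_lit 4]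
def Wt_547_550 (j : ℕ) : List ℕ := bif Nat.blt j 548 then [nat_lit 63, nat_lit 3, nat_lit 1, nat_lit 2, nat_lit 1, nat_lit 4, nat_lit 3, nat_lit 4, nat_lit 2, nat_lit 4, nat_lit 2, nat_lit 4, nat_lit 3, nat_lit 4, nat_lit 2, nat_lit 4, nat_lit 3, nat_lit 0] else (Wt_548_550 j)
def Wt_551_553 (j : ℕ) : List ℕ := bif Nat.blt j 552 then [nat_lit 4, nat_lit 1, nat_lit 3, nat_lit 4, nat_lit 0, nat_lit 4, nat_lit 2, nat_lit 0, nat_lit 4, nat_lit 0, nat_lit 4, nat_lit 3, nat_lit 1, nat_lit 4, nat_lit 2, nat_lit 1, nat_lit 2] else [nat_lit 63, nat_lit 4, nat_lit 0, nat_lit 1, nat_lit 3, nat_lit 2, nat_lit 1, nat_lit 4, nat_lit 0, nat_lit 1, nat_lit 0, nat_lit 4, nat_lit 1, nat_lit 4, nat_lit 3, nat_lit 2, nat_lit 4, nat_lit 3]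
def Wt_550_553 (j : ℕ) : List ℕ := bif Nat.blt j 551 then [nat_lit 63, nat_lit 1, nat_lit 4, nat_lit 2, nat_lit 0, nat_lit 4, nat_lit 1, nat_lit 4, nat_lit 0, nat_lit 2, nat_lit 4, nat_lit 1, nat_lit 4, nat_lit 2, nat_lit 0, nat_lit 4] else (Wt_551_553 j)
def Wt_547_553 (j : ℕ) : List ℕ := bif Nat.blt j 550 then (Wt_547_550 j) else (Wt_550_553 j)
def Wt_554_556 (j : ℕ) : List ℕ := bif Nat.blt j 555 then [nat_lit 63, nat_lit 1, nat_lit 4, nat_lit 2, nat_lit 4, nat_lit 3, nat_lit 2, nat_lit 4, nat_lit 3, nat_lit 0, nat_lit 3, nat_lit 1, nat_lit 4, nat_lit 2, nat_lit 3, nat_lit 4, nat_lit 2, nat_lit 4] else [nat_lit 1, nat_lit 4, nat_lit 2, nat_lit 1, nat_lit 4, nat_lit 1, nat_lit 4, nat_lit 3, nat_lit 2, nat_lit 0, nat_lit 3, nat_lit 1, nat_lit 4, nat_lit 1, nat_lit 4, nat_lit 0, nat_lit 4]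
def Wt_553_556 (j : ℕ) : List ℕ := bif Nat.blt j 554 then [nat_lit 63, nat_lit 3, nat_lit 1, nat_lit 0, nat_lit 4, nat_lit 3, nat_lit 4, nat_lit 2, nat_lit 3, nat_lit 4, nat_lit 1, nat_lit 4, nat_lit 0, nat_lit 1, nat_lit 0, nat_lit 4, nat_lit 1, nat_lit 2] else (Wt_554_556 j)
def Wt_557_559 (j : ℕ) : List ℕ := bif Nat.blt j 558 then [nat_lit 3, nat_lit 4, nat_lit 1, nat_lit 0, nat_lit 4, nat_lit 1, nat_lit 2, nat_lit 1, nat_lit 4, nat_lit 1, nat_lit 2, nat_lit 1, nat_lit 4, nat_lit 0, nat_lit 1, nat_lit 4, nat_lit 2] else [nat_lit 4, nat_lit 1, nat_lit 4, nat_lit 1, nat_lit 2, nat_lit 4, nat_lit 1, nat_lit 4, nat_lit 2, nat_lit 0, nat_lit 2, nat_lit 4, nat_lit 1, nat_lit 4, nat_lit 2, nat_lit 1]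
def Wt_556_559 (j : ℕ) : List ℕ := bif Nat.blt j 557 then [nat_lit 4, nat_lit 3, nat_lit 1, nat_lit 3, nat_lit 1, nat_lit 3, nat_lit 1, nat_lit 3, nat_lit 4, nat_lit 2, nat_lit 1, nat_lit 4, nat_lit 3, nat_lit 4, nat_lit 1, nat_lit 2] else (Wt_557_559 j)
def Wt_553_559 (j : ℕ) : List ℕ := bif Nat.blt j 556 then (Wt_553_556 j) else (Wt_556_559 j)
def Wt_547_559 (j : ℕ) : List ℕ := bif Nat.blt j 553 then (Wt_547_553 j) else (Wt_553_559 j)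
def Wt_535_559 (j : ℕ) : List ℕ := bif Nat.blt j 547 then (Wt_535_547 j) else (Wt_547_559 j)
def Wt_560_562 (j : ℕ) : List ℕ := bif Nat.blt j 561 then [nat_lit 63, nat_lit 1, nat_lit 4, nat_lit 0, nat_lit 1, nat_lit 0, nat_lit 4, nat_lit 1, nat_lit 4, nat_lit 3, nat_lit 2, nat_lit 4, nat_lit 3, nat_lit 4, nat_lit 0, nat_lit 1, nat_lit 3, nat_lit 2] else [nat_lit 1, nat_lit 3, nat_lit 4, nat_lit 0, nat_lit 1, nat_lit 4, nat_lit 1, nat_lit 3, nat_lit 4, nat_lit 1, nat_lit 0, nat_lit 4, nat_lit 1, nat_lit 0, nat_lit 2, nat_lit 1, nat_lit 0]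
def Wt_559_562 (j : ℕ) : List ℕ := bif Nat.blt j 560 then [nat_lit 63, nat_lit 4, nat_lit 3, nat_lit 4, nat_lit 3, nat_lit 1, nat_lit 4, nat_lit 1, nat_lit 4, nat_lit 1, nat_lit 4, nat_lit 1, nat_lit 4, nat_lit 3, nat_lit 4, nat_lit 3] else (Wt_560_562 j)
def Wt_563_565 (j : ℕ) : List ℕ := bif Nat.blt j 564 then [nat_lit 2, nat_lit 4, nat_lit 3, nat_lit 1, nat_lit 3, nat_lit 1, nat_lit 3, nat_lit 1, nat_lit 3, nat_lit 4, nat_lit 2, nat_lit 1, nat_lit 4, nat_lit 3, nat_lit 4, nat_lit 1] else [nat_lit 0, nat_lit 4, nat_lit 3, nat_lit 4, nat_lit 2, nat_lit 3, nat_lit 4, nat_lit 1, nat_lit 4, nat_lit 0, nat_lit 1, nat_lit 0, nat_lit 4, nat_lit 1, nat_lit 2, nat_lit 3, nat_lit 1]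
def Wt_562_565 (j : ℕ) : List ℕ := bif Nat.blt j 563 then [nat_lit 4, nat_lit 1, nat_lit 4, nat_lit 1, nat_lit 3, nat_lit 4, nat_lit 3, nat_lit 4, nat_lit 3, nat_lit 4, nat_lit 3, nat_lit 4, nat_lit 1, nat_lit 4, nat_lit 1] else (Wt_563_565 j)
def Wt_559_565 (j : ℕ) : List ℕ := bif Nat.blt j 562 then (Wt_559_562 j) else (Wt_562_565 j)
def Wt_566_568 (j : ℕ) : List ℕ := bif Nat.blt j 567 then [nat_lit 63, nat_lit 4, nat_lit 2, nat_lit 0, nat_lit 4, nat_lit 1, nat_lit 4, nat_lit 0, nat_lit 2, nat_lit 4, nat_lit 1, nat_lit 4, nat_lit 2, nat_lit 0, nat_lit 4, nat_lit 1] else [nat_lit 1, nat_lit 3, nat_lit 0, nat_lit 3, nat_lit 4, nat_lit 2, nat_lit 3, nat_lit 4, nat_lit 2, nat_lit 4, nat_lit 1, nat_lit 4, nat_lit 2, nat_lit 4, nat_lit 3, nat_lit 2, nat_lit 4]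
def Wt_565_568 (j : ℕ) : List ℕ := bif Nat.blt j 566 then [nat_lit 63, nat_lit 4, nat_lit 0, nat_lit 1, nat_lit 0, nat_lit 4, nat_lit 1, nat_lit 4, nat_lit 3, nat_lit 2, nat_lit 4, nat_lit 3, nat_lit 4, nat_lit 0, nat_lit 1, nat_lit 3, nat_lit 2, nat_lit 1] else (Wt_566_568 j)
def Wt_569_571 (j : ℕ) : List ℕ := bif Nat.blt j 570 then [nat_lit 4, nat_lit 0, nat_lit 4, nat_lit 1, nat_lit 4, nat_lit 1, nat_lit 3, nat_lit 0, nat_lit 2, nat_lit 3, nat_lit 4, nat_lit 1, nat_lit 4, nat_lit 1, nat_lit 2, nat_lit 4, nat_lit 1] else [nat_lit 2, nat_lit 1, nat_lit 4, nat_lit 0, nat_lit 1, nat_lit 0, nat_lit 4, nat_lit 1, nat_lit 4, nat_lit 3, nat_lit 2, nat_lit 4, nat_lit 3, nat_lit 4, nat_lit 0, nat_lit 1, nat_lit 3]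
def Wt_568_571 (j : ℕ) : List ℕ := bif Nat.blt j 569 then [nat_lit 63, nat_lit 2, nat_lit 4, nat_lit 1, nat_lit 4, nat_lit 2, nat_lit 4, nat_lit 3, nat_lit 2, nat_lit 4, nat_lit 1, nat_lit 3, nat_lit 0, nat_lit 3, nat_lit 4, nat_lit 2, nat_lit 3, nat_lit 4] else (Wt_569_571 j)
def Wt_565_571 (j : ℕ) : List ℕ := bif Nat.blt j 568 then (Wt_565_568 j) else (Wt_568_571 j)
def Wt_559_571 (j : ℕ) : List ℕ := bif Nat.blt j 565 then (Wt_559_565 j) else (Wt_565_571 j)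
def Wt_572_574 (j : ℕ) : List ℕ := bif Nat.blt j 573 then [nat_lit 4, nat_lit 1, nat_lit 4, nat_lit 1, nat_lit 4, nat_lit 1, nat_lit 3, nat_lit 4, nat_lit 3, nat_lit 4, nat_lit 3, nat_lit 4, nat_lit 3, nat_lit 4, nat_lit 1] else [nat_lit 63, nat_lit 1, nat_lit 2, nat_lit 0, nat_lit 1, nat_lit 4, nat_lit 0, nat_lit 1, nat_lit 4, nat_lit 3, nat_lit 1, nat_lit 4, nat_lit 1, nat_lit 0, nat_lit 4, nat_lit 3, nat_lit 1, nat_lit 0]
def Wt_571_574 (j : ℕ) : List ℕ := bif Nat.blt j 572 then [nat_lit 2, nat_lit 4, nat_lit 3, nat_lit 4, nat_lit 2, nat_lit 4, nat_lit 3, nat_lit 0, nat_lit 3, nat_lit 1, nat_lit 2, nat_lit 1, nat_lit 4, nat_lit 3, nat_lit 4, nat_lit 2, nat_lit 4] else (Wt_572_574 j)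
def Wt_575_577 (j : ℕ) : List ℕ := bif Nat.blt j 576 then [nat_lit 3, nat_lit 4, nat_lit 0, nat_lit 3, nat_lit 0, nat_lit 4, nat_lit 3, nat_lit 0, nat_lit 4, nat_lit 3, nat_lit 4, nat_lit 2, nat_lit 3, nat_lit 4, nat_lit 3, nat_lit 4, nat_lit 0] else [nat_lit 3, nat_lit 4, nat_lit 3, nat_lit 4, nat_lit 1, nat_lit 4, nat_lit 1, nat_lit 4, nat_lit 1, nat_lit 4, nat_lit 1, nat_lit 3, nat_lit 4, nat_lit 3, nat_lit 4]
def Wt_574_577 (j : ℕ) : List ℕ := bif Nat.blt j 575 then [nat_lit 1, nat_lit 0, nat_lit 4, nat_lit 1, nat_lit 2, nat_lit 3, nat_lit 1, nat_lit 0, nat_lit 4, nat_lit 3, nat_lit 4, nat_lit 2, nat_lit 3, nat_lit 4, nat_lit 1, nat_lit 4, nat_lit 0] else (Wt_575_577 j)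
def Wt_571_577 (j : ℕ) : List ℕ := bif Nat.blt j 574 then (Wt_571_574 j) else (Wt_574_577 j)
def Wt_578_580 (j : ℕ) : List ℕ := bif Nat.blt j 579 then [nat_lit 2, nat_lit 3, nat_lit 4, nat_lit 2, nat_lit 4, nat_lit 1, nat_lit 4, nat_lit 2, nat_lit 4, nat_lit 3, nat_lit 2, nat_lit 4, nat_lit 3, nat_lit 0, nat_lit 3, nat_lit 1, nat_lit 4] else [nat_lit 4, nat_lit 3, nat_lit 0, nat_lit 3, nat_lit 1, nat_lit 4, nat_lit 2, nat_lit 3, nat_lit 4, nat_lit 2, nat_lit 4, nat_lit 1, nat_lit 4, nat_lit 2, nat_lit 4, nat_lit 3, nat_lit 2]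
def Wt_577_580 (j : ℕ) : List ℕ := bif Nat.blt j 578 then [nat_lit 63, nat_lit 4, nat_lit 1, nat_lit 2, nat_lit 4, nat_lit 2, nat_lit 4, nat_lit 2, nat_lit 1, nat_lit 4, nat_lit 1, nat_lit 2, nat_lit 4, nat_lit 3, nat_lit 4, nat_lit 2, nat_lit 4, nat_lit 1] else (Wt_578_580 j)
def Wt_580_582 (j : ℕ) : List ℕ := bif Nat.blt j 581 then [nat_lit 0, nat_lit 2, nat_lit 4, nat_lit 1, nat_lit 4, nat_lit 2, nat_lit 0, nat_lit 4, nat_lit 1, nat_lit 4, nat_lit 0, nat_lit 2, nat_lit 4, nat_lit 1, nat_lit 4] else [nat_lit 4, nat_lit 1, nat_lit 4, nat_lit 1, nat_lit 4, nat_lit 1, nat_lit 4, nat_lit 1, nat_lit 4, nat_lit 1, nat_lit 4, nat_lit 1, nat_lit 4, nat_lit 1, nat_lit 4, nat_lit 1]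
def Wt_582_584 (j : ℕ) : List ℕ := bif Nat.blt j 583 then [nat_lit 2, nat_lit 3, nat_lit 4, nat_lit 3, nat_lit 4, nat_lit 0, nat_lit 3, nat_lit 4, nat_lit 0, nat_lit 3, nat_lit 0, nat_lit 4, nat_lit 3, nat_lit 0, nat_lit 4, nat_lit 3, nat_lit 4] else [nat_lit 63, nat_lit 4, nat_lit 1, nat_lit 0, nat_lit 4, nat_lit 1, nat_lit 2, nat_lit 1, nat_lit 4, nat_lit 1, nat_lit 2, nat_lit 1, nat_lit 4, nat_lit 0, nat_lit 1, nat_lit 4, nat_lit 3, nat_lit 2]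
def Wt_580_584 (j : ℕ) : List ℕ := bif Nat.blt j 582 then (Wt_580_582 j) else (Wt_582_584 j)
def Wt_577_584 (j : ℕ) : List ℕ := bif Nat.blt j 580 then (Wt_577_580 j) else (Wt_580_584 j)
def Wt_571_584 (j : ℕ) : List ℕ := bif Nat.blt j 577 then (Wt_571_577 j) else (Wt_577_584 j)
def Wt_559_584 (j : ℕ) : List ℕ := bif Nat.blt j 571 then (Wt_559_571 j) else (Wt_571_584 j)
def Wt_535_584 (j : ℕ) : List ℕ := bif Nat.blt j 559 then (Wt_535_559 j) else (Wt_559_584 j)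
def Wt_486_584 (j : ℕ) : List ℕ := bif Nat.blt j 535 then (Wt_486_535 j) else (Wt_535_584 j)
def Wt_389_584 (j : ℕ) : List ℕ := bif Nat.blt j 486 then (Wt_389_486 j) else (Wt_486_584 j)
def Wt_585_587 (j : ℕ) : List ℕ := bif Nat.blt j 586 then [nat_lit 2, nat_lit 1, nat_lit 4, nat_lit 0, nat_lit 1, nat_lit 4, nat_lit 3, nat_lit 2, nat_lit 4, nat_lit 1, nat_lit 0, nat_lit 4, nat_lit 1, nat_lit 2, nat_lit 1, nat_lit 4, nat_lit 1] else [nat_lit 0, nat_lit 3, nat_lit 0, nat_lit 3, nat_lit 1, nat_lit 0, nat_lit 3, nat_lit 0, nat_lit 3, nat_lit 0, nat_lit 3, nat_lit 1, nat_lit 0, nat_lit 3, nat_lit 0, nat_lit 3, nat_lit 0, nat_lit 3, nat_lit 1, nat_lit 0, nat_lit 3]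
def Wt_584_587 (j : ℕ) : List ℕ := bif Nat.blt j 585 then [nat_lit 4, nat_lit 5, nat_lit 4, nat_lit 5, nat_lit 4, nat_lit 5, nat_lit 4, nat_lit 5, nat_lit 4, nat_lit 5, nat_lit 4, nat_lit 5, nat_lit 4, nat_lit 5, nat_lit 4, nat_lit 5, nat_lit 4, nat_lit 5, nat_lit 4, nat_lit 5, nat_lit 4, nat_lit 5, nat_lit 4, nat_lit 5] else (Wt_585_587 j)
def Wt_588_590 (j : ℕ) : List ℕ := bif Nat.blt j 589 then [nat_lit 2, nat_lit 3, nat_lit 4, nat_lit 1, nat_lit 0, nat_lit 4, nat_lit 1, nat_lit 2, nat_lit 1, nat_lit 4, nat_lit 1, nat_lit 2, nat_lit 1, nat_lit 4, nat_lit 0, nat_lit 1, nat_lit 4] else [nat_lit 63, nat_lit 3, nat_lit 4, nat_lit 2, nat_lit 4, nat_lit 1, nat_lit 4, nat_lit 1, nat_lit 2, nat_lit 4, nat_lit 2, nat_lit 4, nat_lit 2, nat_lit 1, nat_lit 4, nat_lit 1, nat_lit 2, nat_lit 4]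
def Wt_587_590 (j : ℕ) : List ℕ := bif Nat.blt j 588 then [nat_lit 4, nat_lit 2, nat_lit 3, nat_lit 4, nat_lit 2, nat_lit 4, nat_lit 1, nat_lit 4, nat_lit 2, nat_lit 4, nat_lit 3, nat_lit 2, nat_lit 4, nat_lit 1, nat_lit 3, nat_lit 0, nat_lit 3] else (Wt_588_590 j)
def Wt_584_590 (j : ℕ) : List ℕ := bif Nat.blt j 587 then (Wt_584_587 j) else (Wt_587_590 j)
def Wt_591_593 (j : ℕ) : List ℕ := bif Nat.blt j 592 then [nat_lit 63, nat_lit 2, nat_lit 4, nat_lit 1, nat_lit 4, nat_lit 2, nat_lit 0, nat_lit 4, nat_lit 1, nat_lit 4, nat_lit 2, nat_lit 0, nat_lit 4, nat_lit 1, nat_lit 4, nat_lit 0] else [nat_lit 63, nat_lit 2, nat_lit 0, nat_lit 2, nat_lit 0]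
def Wt_590_593 (j : ℕ) : List ℕ := bif Nat.blt j 591 then [nat_lit 1, nat_lit 4, nat_lit 1, nat_lit 3, nat_lit 0, nat_lit 2, nat_lit 3, nat_lit 4, nat_lit 1, nat_lit 4, nat_lit 1, nat_lit 2, nat_lit 4, nat_lit 1, nat_lit 4, nat_lit 0, nat_lit 4] else (Wt_591_593 j)
def Wt_594_596 (j : ℕ) : List ℕ := bif Nat.blt j 595 then [nat_lit 63, nat_lit 3, nat_lit 0, nat_lit 3, nat_lit 4, nat_lit 2, nat_lit 3, nat_lit 4, nat_lit 2, nat_lit 4, nat_lit 1, nat_lit 4, nat_lit 2, nat_lit 4, nat_lit 3, nat_lit 2, nat_lit 4, nat_lit 1] else [nat_lit 2, nat_lit 3, nat_lit 0, nat_lit 3, nat_lit 1, nat_lit 2, nat_lit 3, nat_lit 0, nat_lit 3, nat_lit 1, nat_lit 2, nat_lit 3, nat_lit 0, nat_lit 3, nat_lit 1, nat_lit 2, nat_lit 3, nat_lit 0, nat_lit 3, nat_lit 1]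
def Wt_593_596 (j : ℕ) : List ℕ := bif Nat.blt j 594 then [nat_lit 63, nat_lit 4, nat_lit 1, nat_lit 4, nat_lit 1, nat_lit 2, nat_lit 4, nat_lit 1, nat_lit 4, nat_lit 2, nat_lit 0, nat_lit 2, nat_lit 4, nat_lit 1, nat_lit 4, nat_lit 2, nat_lit 1] else (Wt_594_596 j)
def Wt_590_596 (j : ℕ) : List ℕ := bif Nat.blt j 593 then (Wt_590_593 j) else (Wt_593_596 j)
def Wt_584_596 (j : ℕ) : List ℕ := bif Nat.blt j 590 then (Wt_584_590 j) else (Wt_590_596 j)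
def Wt_597_599 (j : ℕ) : List ℕ := bif Nat.blt j 598 then [nat_lit 4, nat_lit 3, nat_lit 0, nat_lit 3, nat_lit 1, nat_lit 2, nat_lit 1, nat_lit 4, nat_lit 2, nat_lit 4, nat_lit 3, nat_lit 4, nat_lit 2, nat_lit 4, nat_lit 2, nat_lit 4, nat_lit 3] else [nat_lit 63, nat_lit 4, nat_lit 1, nat_lit 4, nat_lit 1, nat_lit 4, nat_lit 1, nat_lit 4, nat_lit 3, nat_lit 4, nat_lit 3, nat_lit 4, nat_lit 3, nat_lit 4, nat_lit 3, nat_lit 1]
def Wt_596_599 (j : ℕ) : List ℕ := bif Nat.blt j 597 then [nat_lit 63, nat_lit 1, nat_lit 2, nat_lit 1, nat_lit 0, nat_lit 2, nat_lit 0, nat_lit 1, nat_lit 2, nat_lit 1, nat_lit 0, nat_lit 2, nat_lit 0] else (Wt_597_599 j)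
def Wt_600_602 (j : ℕ) : List ℕ := bif Nat.blt j 601 then [nat_lit 63, nat_lit 0, nat_lit 1, nat_lit 4, nat_lit 3, nat_lit 2, nat_lit 4, nat_lit 1, nat_lit 0, nat_lit 4, nat_lit 1, nat_lit 2, nat_lit 1, nat_lit 4, nat_lit 1, nat_lit 2, nat_lit 1, nat_lit 4] else [nat_lit 63, nat_lit 0, nat_lit 5, nat_lit 0, nat_lit 5]
def Wt_599_602 (j : ℕ) : List ℕ := bif Nat.blt j 600 then [nat_lit 63, nat_lit 4, nat_lit 3, nat_lit 4, nat_lit 0, nat_lit 1, nat_lit 3, nat_lit 2, nat_lit 1, nat_lit 4, nat_lit 0, nat_lit 1, nat_lit 0, nat_lit 4, nat_lit 1, nat_lit 4, nat_lit 3, nat_lit 2] else (Wt_600_602 j)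
def Wt_596_602 (j : ℕ) : List ℕ := bif Nat.blt j 599 then (Wt_596_599 j) else (Wt_599_602 j)
def Wt_603_605 (j : ℕ) : List ℕ := bif Nat.blt j 604 then [nat_lit 63, nat_lit 4, nat_lit 2, nat_lit 4, nat_lit 1, nat_lit 4, nat_lit 2, nat_lit 4, nat_lit 3, nat_lit 2, nat_lit 4, nat_lit 1, nat_lit 3, nat_lit 0, nat_lit 3, nat_lit 4, nat_lit 2, nat_lit 3] else [nat_lit 63, nat_lit 4, nat_lit 3, nat_lit 1, nat_lit 4, nat_lit 1, nat_lit 4, nat_lit 1, nat_lit 4, nat_lit 1, nat_lit 4, nat_lit 3, nat_lit 4, nat_lit 3, nat_lit 4, nat_lit 3]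
def Wt_602_605 (j : ℕ) : List ℕ := bif Nat.blt j 603 then [nat_lit 4, nat_lit 1, nat_lit 2, nat_lit 4, nat_lit 2, nat_lit 4, nat_lit 2, nat_lit 1, nat_lit 4, nat_lit 1, nat_lit 2, nat_lit 4, nat_lit 3, nat_lit 4, nat_lit 2, nat_lit 4, nat_lit 1] else (Wt_603_605 j)
def Wt_606_608 (j : ℕ) : List ℕ := bif Nat.blt j 607 then [nat_lit 63, nat_lit 1, nat_lit 4, nat_lit 1, nat_lit 4, nat_lit 1, nat_lit 4, nat_lit 3, nat_lit 4, nat_lit 3, nat_lit 4, nat_lit 3, nat_lit 4, nat_lit 3, nat_lit 1, nat_lit 4] else [nat_lit 63, nat_lit 3, nat_lit 4, nat_lit 0, nat_lit 3, nat_lit 0, nat_lit 4, nat_lit 3, nat_lit 0, nat_lit 4, nat_lit 3, nat_lit 4, nat_lit 2, nat_lit 3, nat_lit 4, nat_lit 3, nat_lit 4, nat_lit 0]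
def Wt_605_608 (j : ℕ) : List ℕ := bif Nat.blt j 606 then [nat_lit 63, nat_lit 3, nat_lit 4, nat_lit 3, nat_lit 4, nat_lit 3, nat_lit 4, nat_lit 1, nat_lit 4, nat_lit 1, nat_lit 4, nat_lit 1, nat_lit 4, nat_lit 1, nat_lit 3, nat_lit 4] else (Wt_606_608 j)
def Wt_602_608 (j : ℕ) : List ℕ := bif Nat.blt j 605 then (Wt_602_605 j) else (Wt_605_608 j)
def Wt_596_608 (j : ℕ) : List ℕ := bif Nat.blt j 602 then (Wt_596_602 j) else (Wt_602_608 j)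
def Wt_584_608 (j : ℕ) : List ℕ := bif Nat.blt j 596 then (Wt_584_596 j) else (Wt_596_608 j)
def Wt_609_611 (j : ℕ) : List ℕ := bif Nat.blt j 610 then [nat_lit 63, nat_lit 2, nat_lit 4, nat_lit 0, nat_lit 2, nat_lit 4, nat_lit 3, nat_lit 2, nat_lit 3, nat_lit 0, nat_lit 4, nat_lit 2, nat_lit 0, nat_lit 4, nat_lit 2, nat_lit 0, nat_lit 4, nat_lit 0] else [nat_lit 63, nat_lit 1, nat_lit 2, nat_lit 4, nat_lit 1, nat_lit 3, nat_lit 4, nat_lit 0, nat_lit 4, nat_lit 2, nat_lit 0, nat_lit 4, nat_lit 0, nat_lit 4, nat_lit 3, nat_lit 1, nat_lit 4, nat_lit 2]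
def Wt_608_611 (j : ℕ) : List ℕ := bif Nat.blt j 609 then [nat_lit 63, nat_lit 3, nat_lit 1, nat_lit 4, nat_lit 2, nat_lit 1, nat_lit 2, nat_lit 4, nat_lit 1, nat_lit 3, nat_lit 4, nat_lit 0, nat_lit 4, nat_lit 2, nat_lit 0, nat_lit 4, nat_lit 0, nat_lit 4] else (Wt_609_611 j)
def Wt_612_614 (j : ℕ) : List ℕ := bif Nat.blt j 613 then [nat_lit 63, nat_lit 3, nat_lit 4, nat_lit 2, nat_lit 3, nat_lit 4, nat_lit 1, nat_lit 4, nat_lit 0, nat_lit 1, nat_lit 0, nat_lit 4, nat_lit 1, nat_lit 2, nat_lit 3, nat_lit 1, nat_lit 0, nat_lit 4] else [nat_lit 63, nat_lit 4, nat_lit 1, nat_lit 4, nat_lit 0, nat_lit 4, nat_lit 1, nat_lit 4, nat_lit 1, nat_lit 3, nat_lit 0, nat_lit 2, nat_lit 3, nat_lit 4, nat_lit 1, nat_lit 4, nat_lit 1, nat_lit 2]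
def Wt_611_614 (j : ℕ) : List ℕ := bif Nat.blt j 612 then [nat_lit 63, nat_lit 2, nat_lit 0, nat_lit 4, nat_lit 1, nat_lit 4, nat_lit 0, nat_lit 2, nat_lit 4, nat_lit 1, nat_lit 4, nat_lit 2, nat_lit 0, nat_lit 4, nat_lit 1, nat_lit 4] else (Wt_612_614 j)
def Wt_608_614 (j : ℕ) : List ℕ := bif Nat.blt j 611 then (Wt_608_611 j) else (Wt_611_614 j)
def Wt_615_617 (j : ℕ) : List ℕ := bif Nat.blt j 616 then [nat_lit 63, nat_lit 63, nat_lit 3, nat_lit 63, nat_lit 3, nat_lit 63] else [nat_lit 63, nat_lit 3, nat_lit 63, nat_lit 3, nat_lit 63]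
def Wt_614_617 (j : ℕ) : List ℕ := bif Nat.blt j 615 then [nat_lit 63, nat_lit 2, nat_lit 4, nat_lit 3, nat_lit 4, nat_lit 2, nat_lit 4, nat_lit 1, nat_lit 2, nat_lit 1, nat_lit 3, nat_lit 0, nat_lit 3, nat_lit 4, nat_lit 3, nat_lit 4, nat_lit 2, nat_lit 4] else (Wt_615_617 j)
def Wt_618_620 (j : ℕ) : List ℕ := bif Nat.blt j 619 then [nat_lit 63, nat_lit 2, nat_lit 63, nat_lit 2, nat_lit 63] else [nat_lit 63, nat_lit 63, nat_lit 4, nat_lit 63, nat_lit 4]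
def Wt_617_620 (j : ℕ) : List ℕ := bif Nat.blt j 618 then [nat_lit 63, nat_lit 63, nat_lit 1, nat_lit 63, nat_lit 1] else (Wt_618_620 j)
def Wt_614_620 (j : ℕ) : List ℕ := bif Nat.blt j 617 then (Wt_614_617 j) else (Wt_617_620 j)
def Wt_608_620 (j : ℕ) : List ℕ := bif Nat.blt j 614 then (Wt_608_614 j) else (Wt_614_620 j)
def Wt_621_623 (j : ℕ) : List ℕ := bif Nat.blt j 622 then [nat_lit 63, nat_lit 4, nat_lit 63, nat_lit 4, nat_lit 63] else [nat_lit 1, nat_lit 63, nat_lit 1, nat_lit 63]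
def Wt_620_623 (j : ℕ) : List ℕ := bif Nat.blt j 621 then [nat_lit 63, nat_lit 63, nat_lit 2, nat_lit 63, nat_lit 2] else (Wt_621_623 j)
def Wt_624_626 (j : ℕ) : List ℕ := bif Nat.blt j 625 then [nat_lit 63, nat_lit 0, nat_lit 63, nat_lit 0, nat_lit 63] else [nat_lit 63, nat_lit 63, nat_lit 3, nat_lit 63, nat_lit 3]
def Wt_623_626 (j : ℕ) : List ℕ := bif Nat.blt j 624 then [nat_lit 63, nat_lit 1, nat_lit 63, nat_lit 1, nat_lit 63] else (Wt_624_626 j)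
def Wt_620_626 (j : ℕ) : List ℕ := bif Nat.blt j 623 then (Wt_620_623 j) else (Wt_623_626 j)
def Wt_627_629 (j : ℕ) : List ℕ := bif Nat.blt j 628 then [nat_lit 63, nat_lit 63, nat_lit 0, nat_lit 63, nat_lit 0] else [nat_lit 63, nat_lit 5, nat_lit 63, nat_lit 5, nat_lit 63]
def Wt_626_629 (j : ℕ) : List ℕ := bif Nat.blt j 627 then [nat_lit 63, nat_lit 63, nat_lit 2, nat_lit 63, nat_lit 2, nat_lit 63] else (Wt_627_629 j)
def Wt_630_632 (j : ℕ) : List ℕ := bif Nat.blt j 631 then [nat_lit 63, nat_lit 63, nat_lit 5, nat_lit 63, nat_lit 5] else [nat_lit 0, nat_lit 63, nat_lit 0, nat_lit 63]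
def Wt_629_632 (j : ℕ) : List ℕ := bif Nat.blt j 630 then [nat_lit 63, nat_lit 63, nat_lit 4, nat_lit 63, nat_lit 4, nat_lit 63] else (Wt_630_632 j)
def Wt_626_632 (j : ℕ) : List ℕ := bif Nat.blt j 629 then (Wt_626_629 j) else (Wt_629_632 j)
def Wt_620_632 (j : ℕ) : List ℕ := bif Nat.blt j 626 then (Wt_620_626 j) else (Wt_626_632 j)
def Wt_608_632 (j : ℕ) : List ℕ := bif Nat.blt j 620 then (Wt_608_620 j) else (Wt_620_632 j)
def Wt_584_632 (j : ℕ) : List ℕ := bif Nat.blt j 608 then (Wt_584_608 j) else (Wt_608_632 j)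
def Wt_633_635 (j : ℕ) : List ℕ := bif Nat.blt j 634 then [nat_lit 2, nat_lit 63, nat_lit 2, nat_lit 63] else [nat_lit 63, nat_lit 63, nat_lit 63, nat_lit 63]
def Wt_632_635 (j : ℕ) : List ℕ := bif Nat.blt j 633 then [nat_lit 3, nat_lit 63, nat_lit 3, nat_lit 63] else (Wt_633_635 j)
def Wt_636_638 (j : ℕ) : List ℕ := bif Nat.blt j 637 then [nat_lit 63, nat_lit 63, nat_lit 1, nat_lit 63, nat_lit 1, nat_lit 63] else [nat_lit 63, nat_lit 63, nat_lit 5, nat_lit 63, nat_lit 5, nat_lit 63]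
def Wt_635_638 (j : ℕ) : List ℕ := bif Nat.blt j 636 then [nat_lit 63, nat_lit 63, nat_lit 0, nat_lit 63, nat_lit 0, nat_lit 63] else (Wt_636_638 j)
def Wt_632_638 (j : ℕ) : List ℕ := bif Nat.blt j 635 then (Wt_632_635 j) else (Wt_635_638 j)
def Wt_639_641 (j : ℕ) : List ℕ := bif Nat.blt j 640 then [nat_lit 63, nat_lit 2, nat_lit 1, nat_lit 0, nat_lit 1, nat_lit 2, nat_lit 0, nat_lit 2, nat_lit 1, nat_lit 0, nat_lit 1, nat_lit 2, nat_lit 0, nat_lit 2, nat_lit 1, nat_lit 0, nat_lit 1, nat_lit 2, nat_lit 0] else [nat_lit 63, nat_lit 2, nat_lit 0, nat_lit 1, nat_lit 2, nat_lit 0, nat_lit 3, nat_lit 2, nat_lit 0, nat_lit 1, nat_lit 2, nat_lit 0, nat_lit 3, nat_lit 2, nat_lit 0, nat_lit 1, nat_lit 2, nat_lit 0, nat_lit 3]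
def Wt_638_641 (j : ℕ) : List ℕ := bif Nat.blt j 639 then [nat_lit 63, nat_lit 63, nat_lit 63, nat_lit 63, nat_lit 63] else (Wt_639_641 j)
def Wt_642_644 (j : ℕ) : List ℕ := bif Nat.blt j 643 then [nat_lit 63, nat_lit 3, nat_lit 1, nat_lit 3, nat_lit 1, nat_lit 3, nat_lit 1, nat_lit 3, nat_lit 1, nat_lit 3, nat_lit 1, nat_lit 3, nat_lit 1, nat_lit 3, nat_lit 1, nat_lit 3, nat_lit 1, nat_lit 3, nat_lit 1, nat_lit 3, nat_lit 1, nat_lit 3, nat_lit 1, nat_lit 3, nat_lit 1, nat_lit 3, nat_lit 1] else [nat_lit 63, nat_lit 5, nat_lit 0, nat_lit 1, nat_lit 0, nat_lit 1, nat_lit 4, nat_lit 1, nat_lit 5, nat_lit 0, nat_lit 1, nat_lit 0, nat_lit 1, nat_lit 4, nat_lit 1, nat_lit 5, nat_lit 0, nat_lit 1, nat_lit 0, nat_lit 1, nat_lit 4, nat_lit 1, nat_lit 5, nat_lit 0, nat_lit 1, nat_lit 0, nat_lit 1, nat_lit 4, nat_lit 1]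
def Wt_641_644 (j : ℕ) : List ℕ := bif Nat.blt j 642 then [nat_lit 63, nat_lit 2, nat_lit 0, nat_lit 1, nat_lit 2, nat_lit 0, nat_lit 1, nat_lit 2, nat_lit 0, nat_lit 1, nat_lit 2, nat_lit 0, nat_lit 1, nat_lit 2, nat_lit 0, nat_lit 1] else (Wt_642_644 j)
def Wt_638_644 (j : ℕ) : List ℕ := bif Nat.blt j 641 then (Wt_638_641 j) else (Wt_641_644 j)
def Wt_632_644 (j : ℕ) : List ℕ := bif Nat.blt j 638 then (Wt_632_638 j) else (Wt_638_644 j)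
def Wt_645_647 (j : ℕ) : List ℕ := bif Nat.blt j 646 then [nat_lit 63, nat_lit 0, nat_lit 1, nat_lit 0, nat_lit 4, nat_lit 1, nat_lit 4, nat_lit 3, nat_lit 2, nat_lit 4, nat_lit 3, nat_lit 4, nat_lit 0, nat_lit 1, nat_lit 3, nat_lit 2, nat_lit 1, nat_lit 4] else [nat_lit 63, nat_lit 1, nat_lit 2, nat_lit 0, nat_lit 1, nat_lit 2, nat_lit 0, nat_lit 1, nat_lit 2, nat_lit 0, nat_lit 1, nat_lit 2, nat_lit 0, nat_lit 1, nat_lit 2, nat_lit 0]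
def Wt_644_647 (j : ℕ) : List ℕ := bif Nat.blt j 645 then [nat_lit 63, nat_lit 0, nat_lit 1, nat_lit 4, nat_lit 1, nat_lit 3, nat_lit 4, nat_lit 1, nat_lit 0, nat_lit 4, nat_lit 1, nat_lit 0, nat_lit 2, nat_lit 1, nat_lit 0, nat_lit 1, nat_lit 3, nat_lit 4] else (Wt_645_647 j)
def Wt_648_650 (j : ℕ) : List ℕ := bif Nat.blt j 649 then [nat_lit 63, nat_lit 0, nat_lit 2, nat_lit 3, nat_lit 0, nat_lit 2, nat_lit 1, nat_lit 0, nat_lit 2, nat_lit 3, nat_lit 0, nat_lit 2, nat_lit 1, nat_lit 0, nat_lit 2, nat_lit 3, nat_lit 0, nat_lit 2, nat_lit 1] else [nat_lit 63, nat_lit 0, nat_lit 1, nat_lit 0, nat_lit 1, nat_lit 0, nat_lit 1, nat_lit 0, nat_lit 1, nat_lit 0, nat_lit 1, nat_lit 0, nat_lit 1]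
def Wt_647_650 (j : ℕ) : List ℕ := bif Nat.blt j 648 then [nat_lit 63, nat_lit 0, nat_lit 2, nat_lit 0, nat_lit 1, nat_lit 2, nat_lit 1, nat_lit 0, nat_lit 2, nat_lit 0, nat_lit 1, nat_lit 2, nat_lit 1] else (Wt_648_650 j)
def Wt_644_650 (j : ℕ) : List ℕ := bif Nat.blt j 647 then (Wt_644_647 j) else (Wt_647_650 j)
def Wt_651_653 (j : ℕ) : List ℕ := bif Nat.blt j 652 then [nat_lit 2, nat_lit 1, nat_lit 4, nat_lit 1, nat_lit 5, nat_lit 4, nat_lit 1, nat_lit 2, nat_lit 1, nat_lit 4, nat_lit 1, nat_lit 5, nat_lit 4, nat_lit 1, nat_lit 2, nat_lit 1, nat_lit 4, nat_lit 1, nat_lit 5, nat_lit 4, nat_lit 1] else [nat_lit 63, nat_lit 1, nat_lit 2, nat_lit 3, nat_lit 1, nat_lit 2, nat_lit 1, nat_lit 0, nat_lit 1, nat_lit 2, nat_lit 3, nat_lit 1, nat_lit 2, nat_lit 1, nat_lit 0, nat_lit 1, nat_lit 2, nat_lit 3, nat_lit 1, nat_lit 2, nat_lit 1, nat_lit 0]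
def Wt_650_653 (j : ℕ) : List ℕ := bif Nat.blt j 651 then [nat_lit 63, nat_lit 1, nat_lit 0, nat_lit 1, nat_lit 2, nat_lit 1, nat_lit 3, nat_lit 2, nat_lit 1, nat_lit 0, nat_lit 1, nat_lit 2, nat_lit 1, nat_lit 3, nat_lit 2, nat_lit 1, nat_lit 0, nat_lit 1, nat_lit 2, nat_lit 1, nat_lit 3, nat_lit 2] else (Wt_651_653 j)
def Wt_654_656 (j : ℕ) : List ℕ := bif Nat.blt j 655 then [nat_lit 63, nat_lit 4, nat_lit 1, nat_lit 0, nat_lit 4, nat_lit 1, nat_lit 0, nat_lit 2, nat_lit 1, nat_lit 0, nat_lit 1, nat_lit 3, nat_lit 4, nat_lit 0, nat_lit 1, nat_lit 4, nat_lit 1, nat_lit 3] else [nat_lit 63, nat_lit 1, nat_lit 3, nat_lit 4, nat_lit 1, nat_lit 0, nat_lit 4, nat_lit 1, nat_lit 0, nat_lit 2, nat_lit 1, nat_lit 0, nat_lit 1, nat_lit 3, nat_lit 4, nat_lit 0, nat_lit 1, nat_lit 4]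
def Wt_653_656 (j : ℕ) : List ℕ := bif Nat.blt j 654 then [nat_lit 63, nat_lit 1, nat_lit 2, nat_lit 4, nat_lit 3, nat_lit 1, nat_lit 3, nat_lit 1, nat_lit 3, nat_lit 1, nat_lit 3, nat_lit 4, nat_lit 2, nat_lit 1, nat_lit 4, nat_lit 3, nat_lit 4] else (Wt_654_656 j)
def Wt_650_656 (j : ℕ) : List ℕ := bif Nat.blt j 653 then (Wt_650_653 j) else (Wt_653_656 j)
def Wt_644_656 (j : ℕ) : List ℕ := bif Nat.blt j 650 then (Wt_644_650 j) else (Wt_650_656 j)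
def Wt_632_656 (j : ℕ) : List ℕ := bif Nat.blt j 644 then (Wt_632_644 j) else (Wt_644_656 j)
def Wt_657_659 (j : ℕ) : List ℕ := bif Nat.blt j 658 then [nat_lit 63, nat_lit 2, nat_lit 1, nat_lit 4, nat_lit 0, nat_lit 1, nat_lit 4, nat_lit 3, nat_lit 2, nat_lit 4, nat_lit 1, nat_lit 0, nat_lit 4, nat_lit 1, nat_lit 2, nat_lit 1, nat_lit 4, nat_lit 1] else [nat_lit 0, nat_lit 1, nat_lit 4, nat_lit 3, nat_lit 2, nat_lit 4, nat_lit 1, nat_lit 0, nat_lit 4, nat_lit 1, nat_lit 2, nat_lit 1, nat_lit 4, nat_lit 1, nat_lit 2, nat_lit 1, nat_lit 4]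
def Wt_656_659 (j : ℕ) : List ℕ := bif Nat.blt j 657 then [nat_lit 63, nat_lit 3, nat_lit 4, nat_lit 0, nat_lit 1, nat_lit 4, nat_lit 1, nat_lit 3, nat_lit 4, nat_lit 1, nat_lit 0, nat_lit 4, nat_lit 1, nat_lit 0, nat_lit 2, nat_lit 1, nat_lit 0, nat_lit 1] else (Wt_657_659 j)
def Wt_660_662 (j : ℕ) : List ℕ := bif Nat.blt j 661 then [nat_lit 63, nat_lit 4, nat_lit 2, nat_lit 1, nat_lit 4, nat_lit 1, nat_lit 4, nat_lit 3, nat_lit 2, nat_lit 0, nat_lit 3, nat_lit 1, nat_lit 4, nat_lit 1, nat_lit 4, nat_lit 0, nat_lit 4, nat_lit 1] else [nat_lit 63, nat_lit 4, nat_lit 1, nat_lit 3, nat_lit 4, nat_lit 0, nat_lit 4, nat_lit 2, nat_lit 0, nat_lit 4, nat_lit 0, nat_lit 4, nat_lit 3, nat_lit 1, nat_lit 4, nat_lit 2, nat_lit 1, nat_lit 2]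
def Wt_659_662 (j : ℕ) : List ℕ := bif Nat.blt j 660 then [nat_lit 63, nat_lit 2, nat_lit 1, nat_lit 4, nat_lit 1, nat_lit 2, nat_lit 1, nat_lit 4, nat_lit 0, nat_lit 1, nat_lit 4, nat_lit 3, nat_lit 2, nat_lit 4, nat_lit 1, nat_lit 0, nat_lit 4, nat_lit 1] else (Wt_660_662 j)
def Wt_656_662 (j : ℕ) : List ℕ := bif Nat.blt j 659 then (Wt_656_659 j) else (Wt_659_662 j)
def Wt_663_665 (j : ℕ) : List ℕ := bif Nat.blt j 664 then [nat_lit 63, nat_lit 4, nat_lit 2, nat_lit 4, nat_lit 1, nat_lit 2, nat_lit 1, nat_lit 3, nat_lit 0, nat_lit 3, nat_lit 4, nat_lit 3, nat_lit 4, nat_lit 2, nat_lit 4, nat_lit 2, nat_lit 4, nat_lit 3] else [nat_lit 63, nat_lit 1, nat_lit 2, nat_lit 1, nat_lit 3, nat_lit 0, nat_lit 3, nat_lit 4, nat_lit 2, nat_lit 4, nat_lit 3, nat_lit 4, nat_lit 2, nat_lit 4, nat_lit 2, nat_lit 4, nat_lit 3, nat_lit 4]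
def Wt_662_665 (j : ℕ) : List ℕ := bif Nat.blt j 663 then [nat_lit 63, nat_lit 4, nat_lit 2, nat_lit 4, nat_lit 3, nat_lit 2, nat_lit 4, nat_lit 1, nat_lit 3, nat_lit 0, nat_lit 3, nat_lit 4, nat_lit 2, nat_lit 3, nat_lit 4, nat_lit 2, nat_lit 4, nat_lit 1] else (Wt_663_665 j)
def Wt_666_668 (j : ℕ) : List ℕ := bif Nat.blt j 667 then [nat_lit 63, nat_lit 0, nat_lit 4, nat_lit 1, nat_lit 4, nat_lit 3, nat_lit 2, nat_lit 4, nat_lit 3, nat_lit 4, nat_lit 0, nat_lit 1, nat_lit 3, nat_lit 2, nat_lit 1, nat_lit 4, nat_lit 0, nat_lit 1] else [nat_lit 63, nat_lit 4, nat_lit 1, nat_lit 4, nat_lit 1, nat_lit 4, nat_lit 1, nat_lit 4, nat_lit 1, nat_lit 4, nat_lit 1, nat_lit 4, nat_lit 1, nat_lit 4, nat_lit 1, nat_lit 4, nat_lit 1]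
def Wt_665_668 (j : ℕ) : List ℕ := bif Nat.blt j 666 then [nat_lit 63, nat_lit 2, nat_lit 1, nat_lit 4, nat_lit 0, nat_lit 1, nat_lit 0, nat_lit 4, nat_lit 1, nat_lit 4, nat_lit 3, nat_lit 2, nat_lit 4, nat_lit 3, nat_lit 4, nat_lit 0, nat_lit 1, nat_lit 3] else (Wt_666_668 j)
def Wt_662_668 (j : ℕ) : List ℕ := bif Nat.blt j 665 then (Wt_662_665 j) else (Wt_665_668 j)
def Wt_656_668 (j : ℕ) : List ℕ := bif Nat.blt j 662 then (Wt_656_662 j) else (Wt_662_668 j)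
def Wt_669_671 (j : ℕ) : List ℕ := bif Nat.blt j 670 then [nat_lit 63, nat_lit 1, nat_lit 4, nat_lit 0, nat_lit 4, nat_lit 1, nat_lit 4, nat_lit 2, nat_lit 1, nat_lit 4, nat_lit 1, nat_lit 4, nat_lit 3, nat_lit 2, nat_lit 0, nat_lit 3, nat_lit 1, nat_lit 4] else [nat_lit 63, nat_lit 4, nat_lit 3, nat_lit 1, nat_lit 4, nat_lit 2, nat_lit 1, nat_lit 2, nat_lit 4, nat_lit 1, nat_lit 3, nat_lit 4, nat_lit 0, nat_lit 4, nat_lit 2, nat_lit 0, nat_lit 4, nat_lit 0]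
def Wt_668_671 (j : ℕ) : List ℕ := bif Nat.blt j 669 then [nat_lit 63, nat_lit 0, nat_lit 3, nat_lit 1, nat_lit 4, nat_lit 1, nat_lit 3, nat_lit 0, nat_lit 1, nat_lit 0, nat_lit 3, nat_lit 1, nat_lit 4, nat_lit 1, nat_lit 3, nat_lit 0, nat_lit 1] else (Wt_669_671 j)
def Wt_672_674 (j : ℕ) : List ℕ := bif Nat.blt j 673 then [nat_lit 63, nat_lit 1, nat_lit 2, nat_lit 1, nat_lit 3, nat_lit 1, nat_lit 0, nat_lit 1, nat_lit 2, nat_lit 1, nat_lit 3, nat_lit 1, nat_lit 0, nat_lit 1, nat_lit 2, nat_lit 1, nat_lit 3, nat_lit 1, nat_lit 0] else [nat_lit 63, nat_lit 2, nat_lit 1, nat_lit 4, nat_lit 3, nat_lit 4, nat_lit 1, nat_lit 2, nat_lit 4, nat_lit 3, nat_lit 1, nat_lit 3, nat_lit 1, nat_lit 3, nat_lit 1, nat_lit 3, nat_lit 4]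
def Wt_671_674 (j : ℕ) : List ℕ := bif Nat.blt j 672 then [nat_lit 63, nat_lit 2, nat_lit 3, nat_lit 0, nat_lit 2, nat_lit 1, nat_lit 0, nat_lit 2, nat_lit 3, nat_lit 0, nat_lit 2, nat_lit 1, nat_lit 0, nat_lit 2, nat_lit 3, nat_lit 0, nat_lit 2, nat_lit 1, nat_lit 0] else (Wt_672_674 j)
def Wt_668_674 (j : ℕ) : List ℕ := bif Nat.blt j 671 then (Wt_668_671 j) else (Wt_671_674 j)
def Wt_675_677 (j : ℕ) : List ℕ := bif Nat.blt j 676 then [nat_lit 63, nat_lit 2, nat_lit 4, nat_lit 1, nat_lit 0, nat_lit 4, nat_lit 1, nat_lit 2, nat_lit 1, nat_lit 4, nat_lit 1, nat_lit 2, nat_lit 1, nat_lit 4, nat_lit 0, nat_lit 1, nat_lit 4, nat_lit 3] else [nat_lit 63, nat_lit 4, nat_lit 2, nat_lit 0, nat_lit 4, nat_lit 0, nat_lit 2, nat_lit 4, nat_lit 0, nat_lit 2, nat_lit 4, nat_lit 0, nat_lit 3, nat_lit 2, nat_lit 3, nat_lit 4, nat_lit 2, nat_lit 0]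
def Wt_674_677 (j : ℕ) : List ℕ := bif Nat.blt j 675 then [nat_lit 63, nat_lit 1, nat_lit 4, nat_lit 1, nat_lit 0, nat_lit 4, nat_lit 3, nat_lit 1, nat_lit 0, nat_lit 1, nat_lit 2, nat_lit 0, nat_lit 1, nat_lit 4, nat_lit 0, nat_lit 1, nat_lit 4, nat_lit 3] else (Wt_675_677 j)
def Wt_677_679 (j : ℕ) : List ℕ := bif Nat.blt j 678 then [nat_lit 63, nat_lit 4, nat_lit 0, nat_lit 4, nat_lit 3, nat_lit 1, nat_lit 4, nat_lit 2, nat_lit 1, nat_lit 2, nat_lit 4, nat_lit 1, nat_lit 3, nat_lit 4, nat_lit 0, nat_lit 4, nat_lit 2, nat_lit 0] else [nat_lit 4, nat_lit 2, nat_lit 1, nat_lit 2, nat_lit 4, nat_lit 1, nat_lit 3, nat_lit 4, nat_lit 0, nat_lit 4, nat_lit 0, nat_lit 2, nat_lit 4, nat_lit 0, nat_lit 4, nat_lit 3, nat_lit 1]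
def Wt_679_681 (j : ℕ) : List ℕ := bif Nat.blt j 680 then [nat_lit 63, nat_lit 4, nat_lit 1, nat_lit 4, nat_lit 0, nat_lit 1, nat_lit 0, nat_lit 4, nat_lit 1, nat_lit 2, nat_lit 3, nat_lit 1, nat_lit 0, nat_lit 4, nat_lit 3, nat_lit 4, nat_lit 2, nat_lit 3] else [nat_lit 63, nat_lit 2, nat_lit 4, nat_lit 1, nat_lit 4, nat_lit 1, nat_lit 2, nat_lit 4, nat_lit 2, nat_lit 4, nat_lit 2, nat_lit 1, nat_lit 4, nat_lit 1, nat_lit 2, nat_lit 4, nat_lit 3, nat_lit 4]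
def Wt_677_681 (j : ℕ) : List ℕ := bif Nat.blt j 679 then (Wt_677_679 j) else (Wt_679_681 j)
def Wt_674_681 (j : ℕ) : List ℕ := bif Nat.blt j 677 then (Wt_674_677 j) else (Wt_677_681 j)
def Wt_668_681 (j : ℕ) : List ℕ := bif Nat.blt j 674 then (Wt_668_674 j) else (Wt_674_681 j)
def Wt_656_681 (j : ℕ) : List ℕ := bif Nat.blt j 668 then (Wt_656_668 j) else (Wt_668_681 j)
def Wt_632_681 (j : ℕ) : List ℕ := bif Nat.blt j 656 then (Wt_632_656 j) else (Wt_656_681 j)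
def Wt_584_681 (j : ℕ) : List ℕ := bif Nat.blt j 632 then (Wt_584_632 j) else (Wt_632_681 j)
def Wt_682_684 (j : ℕ) : List ℕ := bif Nat.blt j 683 then [nat_lit 4, nat_lit 2, nat_lit 1, nat_lit 4, nat_lit 1, nat_lit 4, nat_lit 2, nat_lit 4, nat_lit 3, nat_lit 4, nat_lit 2, nat_lit 1, nat_lit 4, nat_lit 1, nat_lit 2, nat_lit 4, nat_lit 2] else [nat_lit 63, nat_lit 4, nat_lit 2, nat_lit 1, nat_lit 5, nat_lit 2, nat_lit 4, nat_lit 3, nat_lit 4, nat_lit 0, nat_lit 4, nat_lit 2, nat_lit 1, nat_lit 5, nat_lit 2, nat_lit 4, nat_lit 3, nat_lit 4, nat_lit 0, nat_lit 4, nat_lit 2, nat_lit 1, nat_lit 5, nat_lit 2, nat_lit 4, nat_lit 3, nat_lit 4, nat_lit 0]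
def Wt_681_684 (j : ℕ) : List ℕ := bif Nat.blt j 682 then [nat_lit 63, nat_lit 4, nat_lit 3, nat_lit 4, nat_lit 2, nat_lit 1, nat_lit 4, nat_lit 1, nat_lit 2, nat_lit 4, nat_lit 2, nat_lit 4, nat_lit 2, nat_lit 1, nat_lit 4, nat_lit 1, nat_lit 4, nat_lit 2] else (Wt_682_684 j)
def Wt_685_687 (j : ℕ) : List ℕ := bif Nat.blt j 686 then [nat_lit 63, nat_lit 2, nat_lit 4, nat_lit 3, nat_lit 0, nat_lit 3, nat_lit 1, nat_lit 4, nat_lit 2, nat_lit 3, nat_lit 4, nat_lit 2, nat_lit 4, nat_lit 1, nat_lit 4, nat_lit 2, nat_lit 4, nat_lit 3] else [nat_lit 63, nat_lit 1, nat_lit 0, nat_lit 1, nat_lit 0, nat_lit 1, nat_lit 0, nat_lit 1, nat_lit 0, nat_lit 1, nat_lit 0, nat_lit 1, nat_lit 0]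
def Wt_684_687 (j : ℕ) : List ℕ := bif Nat.blt j 685 then [nat_lit 63, nat_lit 2, nat_lit 3, nat_lit 0, nat_lit 4, nat_lit 2, nat_lit 0, nat_lit 4, nat_lit 2, nat_lit 0, nat_lit 4, nat_lit 0, nat_lit 2, nat_lit 4, nat_lit 0, nat_lit 2, nat_lit 4, nat_lit 3] else (Wt_685_687 j)
def Wt_681_687 (j : ℕ) : List ℕ := bif Nat.blt j 684 then (Wt_681_684 j) else (Wt_684_687 j)
def Wt_688_690 (j : ℕ) : List ℕ := bif Nat.blt j 689 then [nat_lit 63, nat_lit 3, nat_lit 0, nat_lit 2, nat_lit 1, nat_lit 0, nat_lit 2, nat_lit 3, nat_lit 0, nat_lit 2, nat_lit 1, nat_lit 0, nat_lit 2, nat_lit 3, nat_lit 0, nat_lit 2, nat_lit 1, nat_lit 0, nat_lit 2] else [nat_lit 63, nat_lit 2, nat_lit 1, nat_lit 0, nat_lit 1, nat_lit 3, nat_lit 1, nat_lit 2, nat_lit 1, nat_lit 0, nat_lit 1, nat_lit 3, nat_lit 1, nat_lit 2, nat_lit 1, nat_lit 0, nat_lit 1, nat_lit 3, nat_lit 1]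
def Wt_687_690 (j : ℕ) : List ℕ := bif Nat.blt j 688 then [nat_lit 63, nat_lit 0, nat_lit 3, nat_lit 2, nat_lit 3, nat_lit 1, nat_lit 0, nat_lit 3, nat_lit 0, nat_lit 3, nat_lit 2, nat_lit 3, nat_lit 1, nat_lit 0, nat_lit 3, nat_lit 0, nat_lit 3, nat_lit 2, nat_lit 3, nat_lit 1, nat_lit 0, nat_lit 3] else (Wt_688_690 j)
def Wt_691_693 (j : ℕ) : List ℕ := bif Nat.blt j 692 then [nat_lit 63, nat_lit 3, nat_lit 4, nat_lit 3, nat_lit 4, nat_lit 3, nat_lit 4, nat_lit 3, nat_lit 1, nat_lit 4, nat_lit 1, nat_lit 4, nat_lit 1, nat_lit 4, nat_lit 1, nat_lit 4] else [nat_lit 63, nat_lit 3, nat_lit 1, nat_lit 4, nat_lit 1, nat_lit 4, nat_lit 1, nat_lit 4, nat_lit 1, nat_lit 4, nat_lit 3, nat_lit 4, nat_lit 3, nat_lit 4, nat_lit 3, nat_lit 4]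
def Wt_690_693 (j : ℕ) : List ℕ := bif Nat.blt j 691 then [nat_lit 63, nat_lit 3, nat_lit 0, nat_lit 3, nat_lit 0, nat_lit 3, nat_lit 0, nat_lit 1, nat_lit 3, nat_lit 0, nat_lit 3, nat_lit 0, nat_lit 3, nat_lit 0, nat_lit 1, nat_lit 3, nat_lit 0, nat_lit 3, nat_lit 0, nat_lit 3, nat_lit 0, nat_lit 1] else (Wt_691_693 j)
def Wt_687_693 (j : ℕ) : List ℕ := bif Nat.blt j 690 then (Wt_687_690 j) else (Wt_690_693 j)
def Wt_681_693 (j : ℕ) : List ℕ := bif Nat.blt j 687 then (Wt_681_687 j) else (Wt_687_693 j)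
def Wt_694_696 (j : ℕ) : List ℕ := bif Nat.blt j 695 then [nat_lit 63, nat_lit 1, nat_lit 4, nat_lit 3, nat_lit 4, nat_lit 1, nat_lit 2, nat_lit 4, nat_lit 3, nat_lit 1, nat_lit 3, nat_lit 1, nat_lit 3, nat_lit 1, nat_lit 3, nat_lit 4, nat_lit 2] else [nat_lit 63, nat_lit 4, nat_lit 3, nat_lit 1, nat_lit 3, nat_lit 1, nat_lit 3, nat_lit 1, nat_lit 3, nat_lit 4, nat_lit 2, nat_lit 1, nat_lit 4, nat_lit 3, nat_lit 4, nat_lit 1, nat_lit 2]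
def Wt_693_696 (j : ℕ) : List ℕ := bif Nat.blt j 694 then [nat_lit 63, nat_lit 2, nat_lit 0, nat_lit 2, nat_lit 4, nat_lit 1, nat_lit 4, nat_lit 2, nat_lit 1, nat_lit 4, nat_lit 1, nat_lit 4, nat_lit 1, nat_lit 2, nat_lit 4, nat_lit 1, nat_lit 4] else (Wt_694_696 j)
def Wt_697_699 (j : ℕ) : List ℕ := bif Nat.blt j 698 then [nat_lit 63, nat_lit 0, nat_lit 4, nat_lit 1, nat_lit 0, nat_lit 2, nat_lit 1, nat_lit 0, nat_lit 1, nat_lit 3, nat_lit 4, nat_lit 0, nat_lit 1, nat_lit 4, nat_lit 1, nat_lit 3, nat_lit 4, nat_lit 1] else [nat_lit 63, nat_lit 1, nat_lit 0, nat_lit 4, nat_lit 1, nat_lit 0, nat_lit 2, nat_lit 1, nat_lit 0, nat_lit 1, nat_lit 3, nat_lit 4, nat_lit 0, nat_lit 1, nat_lit 4, nat_lit 1, nat_lit 3, nat_lit 4]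
def Wt_696_699 (j : ℕ) : List ℕ := bif Nat.blt j 697 then [nat_lit 63, nat_lit 4, nat_lit 3, nat_lit 4, nat_lit 1, nat_lit 2, nat_lit 4, nat_lit 3, nat_lit 1, nat_lit 3, nat_lit 1, nat_lit 3, nat_lit 1, nat_lit 3, nat_lit 4, nat_lit 2, nat_lit 1] else (Wt_697_699 j)
def Wt_693_699 (j : ℕ) : List ℕ := bif Nat.blt j 696 then (Wt_693_696 j) else (Wt_696_699 j)
def Wt_700_702 (j : ℕ) : List ℕ := bif Nat.blt j 701 then [nat_lit 63, nat_lit 4, nat_lit 3, nat_lit 2, nat_lit 4, nat_lit 1, nat_lit 0, nat_lit 4, nat_lit 1, nat_lit 2, nat_lit 1, nat_lit 4, nat_lit 1, nat_lit 2, nat_lit 1, nat_lit 4, nat_lit 0, nat_lit 1] else [nat_lit 63, nat_lit 0, nat_lit 4, nat_lit 1, nat_lit 2, nat_lit 1, nat_lit 4, nat_lit 1, nat_lit 2, nat_lit 1, nat_lit 4, nat_lit 0, nat_lit 1, nat_lit 4, nat_lit 3, nat_lit 2, nat_lit 4, nat_lit 1]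
def Wt_699_702 (j : ℕ) : List ℕ := bif Nat.blt j 700 then [nat_lit 63, nat_lit 1, nat_lit 4, nat_lit 3, nat_lit 1, nat_lit 4, nat_lit 1, nat_lit 0, nat_lit 4, nat_lit 3, nat_lit 1, nat_lit 0, nat_lit 1, nat_lit 2, nat_lit 0, nat_lit 1, nat_lit 4, nat_lit 0] else (Wt_700_702 j)
def Wt_703_705 (j : ℕ) : List ℕ := bif Nat.blt j 704 then [nat_lit 63, nat_lit 4, nat_lit 2, nat_lit 0, nat_lit 4, nat_lit 0, nat_lit 4, nat_lit 3, nat_lit 1, nat_lit 4, nat_lit 2, nat_lit 1, nat_lit 2, nat_lit 4, nat_lit 1, nat_lit 3, nat_lit 4, nat_lit 0] else [nat_lit 63, nat_lit 1, nat_lit 4, nat_lit 2, nat_lit 1, nat_lit 2, nat_lit 4, nat_lit 1, nat_lit 3, nat_lit 4, nat_lit 0, nat_lit 4, nat_lit 2, nat_lit 0, nat_lit 4, nat_lit 0, nat_lit 4, nat_lit 3]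
def Wt_702_705 (j : ℕ) : List ℕ := bif Nat.blt j 703 then [nat_lit 63, nat_lit 1, nat_lit 4, nat_lit 3, nat_lit 2, nat_lit 4, nat_lit 1, nat_lit 0, nat_lit 4, nat_lit 1, nat_lit 2, nat_lit 1, nat_lit 4, nat_lit 1, nat_lit 2, nat_lit 1, nat_lit 4, nat_lit 0] else (Wt_703_705 j)
def Wt_699_705 (j : ℕ) : List ℕ := bif Nat.blt j 702 then (Wt_699_702 j) else (Wt_702_705 j)
def Wt_693_705 (j : ℕ) : List ℕ := bif Nat.blt j 699 then (Wt_693_699 j) else (Wt_699_705 j)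
def Wt_681_705 (j : ℕ) : List ℕ := bif Nat.blt j 693 then (Wt_681_693 j) else (Wt_693_705 j)
def Wt_706_708 (j : ℕ) : List ℕ := bif Nat.blt j 707 then [nat_lit 63, nat_lit 2, nat_lit 4, nat_lit 1, nat_lit 3, nat_lit 0, nat_lit 3, nat_lit 4, nat_lit 2, nat_lit 3, nat_lit 4, nat_lit 2, nat_lit 4, nat_lit 1, nat_lit 4, nat_lit 2, nat_lit 4, nat_lit 3] else [nat_lit 63, nat_lit 4, nat_lit 3, nat_lit 4, nat_lit 3, nat_lit 0, nat_lit 3, nat_lit 1, nat_lit 2, nat_lit 1, nat_lit 4, nat_lit 2, nat_lit 4, nat_lit 3, nat_lit 4, nat_lit 2, nat_lit 4, nat_lit 2]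
def Wt_705_708 (j : ℕ) : List ℕ := bif Nat.blt j 706 then [nat_lit 63, nat_lit 4, nat_lit 1, nat_lit 4, nat_lit 2, nat_lit 4, nat_lit 3, nat_lit 2, nat_lit 4, nat_lit 1, nat_lit 3, nat_lit 0, nat_lit 3, nat_lit 4, nat_lit 2, nat_lit 3, nat_lit 4, nat_lit 2] else (Wt_706_708 j)
def Wt_709_711 (j : ℕ) : List ℕ := bif Nat.blt j 710 then [nat_lit 63, nat_lit 3, nat_lit 4, nat_lit 0, nat_lit 1, nat_lit 3, nat_lit 2, nat_lit 1, nat_lit 4, nat_lit 0, nat_lit 1, nat_lit 0, nat_lit 4, nat_lit 1, nat_lit 4, nat_lit 3, nat_lit 2, nat_lit 4] else [nat_lit 63, nat_lit 3, nat_lit 4, nat_lit 1, nat_lit 4, nat_lit 0, nat_lit 1, nat_lit 0, nat_lit 4, nat_lit 1, nat_lit 2, nat_lit 3, nat_lit 1, nat_lit 0, nat_lit 4, nat_lit 3, nat_lit 4, nat_lit 2]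
def Wt_708_711 (j : ℕ) : List ℕ := bif Nat.blt j 709 then [nat_lit 63, nat_lit 3, nat_lit 4, nat_lit 2, nat_lit 4, nat_lit 3, nat_lit 0, nat_lit 3, nat_lit 1, nat_lit 2, nat_lit 1, nat_lit 4, nat_lit 3, nat_lit 4, nat_lit 2, nat_lit 4, nat_lit 2, nat_lit 4] else (Wt_709_711 j)
def Wt_705_711 (j : ℕ) : List ℕ := bif Nat.blt j 708 then (Wt_705_708 j) else (Wt_708_711 j)
def Wt_712_714 (j : ℕ) : List ℕ := bif Nat.blt j 713 then [nat_lit 63, nat_lit 0, nat_lit 1, nat_lit 0, nat_lit 1, nat_lit 4, nat_lit 1, nat_lit 5, nat_lit 0, nat_lit 1, nat_lit 0, nat_lit 1, nat_lit 4, nat_lit 1, nat_lit 5, nat_lit 0, nat_lit 1, nat_lit 0, nat_lit 1, nat_lit 4, nat_lit 1, nat_lit 5, nat_lit 0, nat_lit 1, nat_lit 0, nat_lit 1, nat_lit 4, nat_lit 1, nat_lit 5] else [nat_lit 63, nat_lit 3, nat_lit 2, nat_lit 3, nat_lit 1, nat_lit 0, nat_lit 3, nat_lit 0, nat_lit 3, nat_lit 2, nat_lit 3, nat_lit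 1, nat_lit 0, nat_lit 3, nat_lit 0, nat_lit 3, nat_lit 2, nat_lit 3, nat_lit 1, nat_lit 0, nat_lit 3, nat_lit 0]
def Wt_711_714 (j : ℕ) : List ℕ := bif Nat.blt j 712 then [nat_lit 63, nat_lit 2, nat_lit 1, nat_lit 4, nat_lit 1, nat_lit 5, nat_lit 4, nat_lit 1, nat_lit 2, nat_lit 1, nat_lit 4, nat_lit 1, nat_lit 5, nat_lit 4, nat_lit 1, nat_lit 2, nat_lit 1, nat_lit 4, nat_lit 1, nat_lit 5, nat_lit 4, nat_lit 1] else (Wt_712_714 j)
def Wt_715_717 (j : ℕ) : List ℕ := bif Nat.blt j 716 then [nat_lit 63, nat_lit 1, nat_lit 3, nat_lit 1, nat_lit 3, nat_lit 1, nat_lit 3, nat_lit 1, nat_lit 3, nat_lit 1, nat_lit 3, nat_lit 1, nat_lit 3, nat_lit 1, nat_lit 3, nat_lit 1, nat_lit 3, nat_lit 1, nat_lit 3, nat_lit 1, nat_lit 3, nat_lit 1, nat_lit 3, nat_lit 1, nat_lit 3, nat_lit 1, nat_lit 3] else [nat_lit 63, nat_lit 3, nat_lit 0, nat_lit 1, nat_lit 3, nat_lit 0, nat_lit 3, nat_lit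 0, nat_lit 3, nat_lit 0, nat_lit 1, nat_lit 3, nat_lit 0, nat_lit 3, nat_lit 0, nat_lit 3, nat_lit 0, nat_lit 1, nat_lit 3, nat_lit 0, nat_lit 3, nat_lit 0]
def Wt_714_717 (j : ℕ) : List ℕ := bif Nat.blt j 715 then [nat_lit 63, nat_lit 1, nat_lit 3, nat_lit 1, nat_lit 2, nat_lit 1, nat_lit 0, nat_lit 1, nat_lit 3, nat_lit 1, nat_lit 2, nat_lit 1, nat_lit 0, nat_lit 1, nat_lit 3, nat_lit 1, nat_lit 2, nat_lit 1, nat_lit 0] else (Wt_715_717 j)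
def Wt_711_717 (j : ℕ) : List ℕ := bif Nat.blt j 714 then (Wt_711_714 j) else (Wt_714_717 j)
def Wt_705_717 (j : ℕ) : List ℕ := bif Nat.blt j 711 then (Wt_705_711 j) else (Wt_711_717 j)
def Wt_718_720 (j : ℕ) : List ℕ := bif Nat.blt j 719 then [nat_lit 63, nat_lit 0, nat_lit 2, nat_lit 1, nat_lit 0, nat_lit 1, nat_lit 2, nat_lit 0, nat_lit 2, nat_lit 1, nat_lit 0, nat_lit 1, nat_lit 2, nat_lit 0, nat_lit 2, nat_lit 1, nat_lit 0, nat_lit 1, nat_lit 2] else [nat_lit 3, nat_lit 1, nat_lit 2, nat_lit 1, nat_lit 0, nat_lit 1, nat_lit 3, nat_lit 1, nat_lit 2, nat_lit 1, nat_lit 0, nat_lit 1, nat_lit 3, nat_lit 1, nat_lit 2, nat_lit 1, nat_lit 0, nat_lit 1]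
def Wt_717_720 (j : ℕ) : List ℕ := bif Nat.blt j 718 then [nat_lit 2, nat_lit 3, nat_lit 1, nat_lit 2, nat_lit 1, nat_lit 0, nat_lit 1, nat_lit 2, nat_lit 3, nat_lit 1, nat_lit 2, nat_lit 1, nat_lit 0, nat_lit 1, nat_lit 2, nat_lit 3, nat_lit 1, nat_lit 2, nat_lit 1, nat_lit 0, nat_lit 1] else (Wt_718_720 j)
def Wt_721_723 (j : ℕ) : List ℕ := bif Nat.blt j 722 then [nat_lit 63, nat_lit 1, nat_lit 3, nat_lit 4, nat_lit 3, nat_lit 4, nat_lit 3, nat_lit 4, nat_lit 3, nat_lit 4, nat_lit 1, nat_lit 4, nat_lit 1, nat_lit 4, nat_lit 1, nat_lit 4] else [nat_lit 63, nat_lit 1, nat_lit 4, nat_lit 1, nat_lit 4, nat_lit 3, nat_lit 4, nat_lit 3, nat_lit 4, nat_lit 3, nat_lit 4, nat_lit 3, nat_lit 1, nat_lit 4, nat_lit 1, nat_lit 4]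
def Wt_720_723 (j : ℕ) : List ℕ := bif Nat.blt j 721 then [nat_lit 63, nat_lit 1, nat_lit 0, nat_lit 3, nat_lit 0, nat_lit 3, nat_lit 0, nat_lit 3, nat_lit 1, nat_lit 0, nat_lit 3, nat_lit 0, nat_lit 3, nat_lit 0, nat_lit 3, nat_lit 1, nat_lit 0, nat_lit 3, nat_lit 0, nat_lit 3, nat_lit 0, nat_lit 3] else (Wt_721_723 j)
def Wt_717_723 (j : ℕ) : List ℕ := bif Nat.blt j 720 then (Wt_717_720 j) else (Wt_720_723 j)
def Wt_724_726 (j : ℕ) : List ℕ := bif Nat.blt j 725 then [nat_lit 63, nat_lit 1, nat_lit 4, nat_lit 2, nat_lit 0, nat_lit 4, nat_lit 1, nat_lit 4, nat_lit 2, nat_lit 0, nat_lit 4, nat_lit 1, nat_lit 4, nat_lit 0, nat_lit 2, nat_lit 4] else [nat_lit 63, nat_lit 1, nat_lit 4, nat_lit 1, nat_lit 4, nat_lit 1, nat_lit 4, nat_lit 1, nat_lit 4, nat_lit 3, nat_lit 4, nat_lit 3, nat_lit 4, nat_lit 3, nat_lit 4, nat_lit 3]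
def Wt_723_726 (j : ℕ) : List ℕ := bif Nat.blt j 724 then [nat_lit 63, nat_lit 3, nat_lit 1, nat_lit 4, nat_lit 1, nat_lit 3, nat_lit 0, nat_lit 1, nat_lit 0, nat_lit 3, nat_lit 1, nat_lit 4, nat_lit 1, nat_lit 3, nat_lit 0, nat_lit 1, nat_lit 0] else (Wt_724_726 j)
def Wt_726_728 (j : ℕ) : List ℕ := bif Nat.blt j 727 then [nat_lit 63, nat_lit 4, nat_lit 2, nat_lit 1, nat_lit 4, nat_lit 1, nat_lit 4, nat_lit 1, nat_lit 2, nat_lit 4, nat_lit 1, nat_lit 4, nat_lit 2, nat_lit 0, nat_lit 2, nat_lit 4, nat_lit 1] else [nat_lit 63, nat_lit 4, nat_lit 1, nat_lit 2, nat_lit 4, nat_lit 3, nat_lit 1, nat_lit 3, nat_lit 1, nat_lit 3, nat_lit 1, nat_lit 3, nat_lit 4, nat_lit 2, nat_lit 1, nat_lit 4, nat_lit 3]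
def Wt_728_730 (j : ℕ) : List ℕ := bif Nat.blt j 729 then [nat_lit 63, nat_lit 1, nat_lit 0, nat_lit 4, nat_lit 1, nat_lit 2, nat_lit 1, nat_lit 4, nat_lit 1, nat_lit 2, nat_lit 1, nat_lit 4, nat_lit 0, nat_lit 1, nat_lit 4, nat_lit 3, nat_lit 2, nat_lit 4] else [nat_lit 63, nat_lit 4, nat_lit 0, nat_lit 4, nat_lit 1, nat_lit 4, nat_lit 2, nat_lit 1, nat_lit 4, nat_lit 1, nat_lit 4, nat_lit 3, nat_lit 2, nat_lit 0, nat_lit 3, nat_lit 1, nat_lit 4, nat_lit 1]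
def Wt_726_730 (j : ℕ) : List ℕ := bif Nat.blt j 728 then (Wt_726_728 j) else (Wt_728_730 j)
def Wt_723_730 (j : ℕ) : List ℕ := bif Nat.blt j 726 then (Wt_723_726 j) else (Wt_726_730 j)
def Wt_717_730 (j : ℕ) : List ℕ := bif Nat.blt j 723 then (Wt_717_723 j) else (Wt_723_730 j)
def Wt_705_730 (j : ℕ) : List ℕ := bif Nat.blt j 717 then (Wt_705_717 j) else (Wt_717_730 j)
def Wt_681_730 (j : ℕ) : List ℕ := bif Nat.blt j 705 then (Wt_681_705 j) else (Wt_705_730 j)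
def Wt_731_733 (j : ℕ) : List ℕ := bif Nat.blt j 732 then [nat_lit 63, nat_lit 2, nat_lit 3, nat_lit 4, nat_lit 3, nat_lit 4, nat_lit 0, nat_lit 3, nat_lit 4, nat_lit 0, nat_lit 3, nat_lit 0, nat_lit 4, nat_lit 3, nat_lit 0, nat_lit 4, nat_lit 3, nat_lit 4] else [nat_lit 63, nat_lit 2, nat_lit 1, nat_lit 4, nat_lit 1, nat_lit 4, nat_lit 2, nat_lit 4, nat_lit 3, nat_lit 4, nat_lit 2, nat_lit 1, nat_lit 4, nat_lit 1, nat_lit 2, nat_lit 4, nat_lit 2, nat_lit 4]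
def Wt_730_733 (j : ℕ) : List ℕ := bif Nat.blt j 731 then [nat_lit 63, nat_lit 4, nat_lit 0, nat_lit 4, nat_lit 1, nat_lit 4, nat_lit 1, nat_lit 3, nat_lit 0, nat_lit 2, nat_lit 3, nat_lit 4, nat_lit 1, nat_lit 4, nat_lit 1, nat_lit 2, nat_lit 4, nat_lit 1] else (Wt_731_733 j)
def Wt_734_736 (j : ℕ) : List ℕ := bif Nat.blt j 735 then [nat_lit 63, nat_lit 4, nat_lit 0, nat_lit 1, nat_lit 4, nat_lit 1, nat_lit 3, nat_lit 4, nat_lit 1, nat_lit 0, nat_lit 4, nat_lit 1, nat_lit 0, nat_lit 2, nat_lit 1, nat_lit 0, nat_lit 1, nat_lit 3] else [nat_lit 63, nat_lit 4, nat_lit 3, nat_lit 4, nat_lit 3, nat_lit 4, nat_lit 3, nat_lit 4, nat_lit 1, nat_lit 4, nat_lit 1, nat_lit 4, nat_lit 1, nat_lit 4, nat_lit 1, nat_lit 3]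
def Wt_733_736 (j : ℕ) : List ℕ := bif Nat.blt j 734 then [nat_lit 63, nat_lit 2, nat_lit 5, nat_lit 4, nat_lit 1, nat_lit 4, nat_lit 2, nat_lit 5, nat_lit 4, nat_lit 1, nat_lit 4, nat_lit 2, nat_lit 5, nat_lit 4, nat_lit 1, nat_lit 4] else (Wt_734_736 j)
def Wt_730_736 (j : ℕ) : List ℕ := bif Nat.blt j 733 then (Wt_730_733 j) else (Wt_733_736 j)
def Wt_737_739 (j : ℕ) : List ℕ := bif Nat.blt j 738 then [nat_lit 63, nat_lit 3, nat_lit 1, nat_lit 3, nat_lit 4, nat_lit 2, nat_lit 1, nat_lit 4, nat_lit 3, nat_lit 4, nat_lit 1, nat_lit 2, nat_lit 4, nat_lit 3, nat_lit 1, nat_lit 3, nat_lit 1] else [nat_lit 63, nat_lit 3, nat_lit 4, nat_lit 1, nat_lit 0, nat_lit 4, nat_lit 1, nat_lit 0, nat_lit 2, nat_lit 1, nat_lit 0, nat_lit 1, nat_lit 3, nat_lit 4, nat_lit 0, nat_lit 1, nat_lit 4, nat_lit 1]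
def Wt_736_739 (j : ℕ) : List ℕ := bif Nat.blt j 737 then [nat_lit 63, nat_lit 4, nat_lit 1, nat_lit 4, nat_lit 2, nat_lit 1, nat_lit 4, nat_lit 1, nat_lit 4, nat_lit 1, nat_lit 2, nat_lit 4, nat_lit 1, nat_lit 4, nat_lit 2, nat_lit 0, nat_lit 2] else (Wt_737_739 j)
def Wt_740_742 (j : ℕ) : List ℕ := bif Nat.blt j 741 then [nat_lit 63, nat_lit 3, nat_lit 2, nat_lit 4, nat_lit 1, nat_lit 3, nat_lit 0, nat_lit 3, nat_lit 4, nat_lit 2, nat_lit 3, nat_lit 4, nat_lit 2, nat_lit 4, nat_lit 1, nat_lit 4, nat_lit 2, nat_lit 4] else [nat_lit 3, nat_lit 4, nat_lit 0, nat_lit 4, nat_lit 2, nat_lit 1, nat_lit 5, nat_lit 2, nat_lit 4, nat_lit 3, nat_lit 4, nat_lit 0, nat_lit 4, nat_lit 2, nat_lit 1, nat_lit 5, nat_lit 2, nat_lit 4, nat_lit 3, nat_lit 4, nat_lit 0, nat_lit 4, nat_lit 2, nat_lit 1, nat_lit 5, nat_lit 2, nat_lit 4]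
def Wt_739_742 (j : ℕ) : List ℕ := bif Nat.blt j 740 then [nat_lit 63, nat_lit 1, nat_lit 0, nat_lit 1, nat_lit 3, nat_lit 4, nat_lit 0, nat_lit 1, nat_lit 4, nat_lit 1, nat_lit 3, nat_lit 4, nat_lit 1, nat_lit 0, nat_lit 4, nat_lit 1, nat_lit 0, nat_lit 2] else (Wt_740_742 j)
def Wt_736_742 (j : ℕ) : List ℕ := bif Nat.blt j 739 then (Wt_736_739 j) else (Wt_739_742 j)
def Wt_730_742 (j : ℕ) : List ℕ := bif Nat.blt j 736 then (Wt_730_736 j) else (Wt_736_742 j)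
def Wt_743_745 (j : ℕ) : List ℕ := bif Nat.blt j 744 then [nat_lit 63, nat_lit 4, nat_lit 0, nat_lit 4, nat_lit 0, nat_lit 4, nat_lit 0, nat_lit 4, nat_lit 0, nat_lit 4, nat_lit 0, nat_lit 4, nat_lit 0, nat_lit 4, nat_lit 0, nat_lit 4, nat_lit 0, nat_lit 4, nat_lit 0, nat_lit 4, nat_lit 0, nat_lit 4, nat_lit 0, nat_lit 4, nat_lit 0] else [nat_lit 63, nat_lit 4, nat_lit 1, nat_lit 5, nat_lit 4, nat_lit 3, nat_lit 2, nat_lit 4, nat_lit 1, nat_lit 5, nat_lit 4, nat_lit 3, nat_lit 2, nat_lit 4, nat_lit 1, nat_lit 5, nat_lit 4, nat_lit 3, nat_lit 2, nat_lit 4, nat_lit 1, nat_lit 5, nat_lit 4, nat_lit 3, nat_lit 2]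
def Wt_742_745 (j : ℕ) : List ℕ := bif Nat.blt j 743 then [nat_lit 63, nat_lit 2, nat_lit 0, nat_lit 4, nat_lit 1, nat_lit 4, nat_lit 2, nat_lit 0, nat_lit 4, nat_lit 1, nat_lit 4, nat_lit 0, nat_lit 2, nat_lit 4, nat_lit 1, nat_lit 4] else (Wt_743_745 j)
def Wt_746_748 (j : ℕ) : List ℕ := bif Nat.blt j 747 then [nat_lit 63, nat_lit 4, nat_lit 1, nat_lit 3, nat_lit 4, nat_lit 3, nat_lit 4, nat_lit 3, nat_lit 4, nat_lit 3, nat_lit 4, nat_lit 1, nat_lit 4, nat_lit 1, nat_lit 4, nat_lit 1] else [nat_lit 63, nat_lit 1, nat_lit 2, nat_lit 4, nat_lit 1, nat_lit 4, nat_lit 2, nat_lit 0, nat_lit 2, nat_lit 4, nat_lit 1, nat_lit 4, nat_lit 2, nat_lit 1, nat_lit 4, nat_lit 1, nat_lit 4]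
def Wt_745_748 (j : ℕ) : List ℕ := bif Nat.blt j 746 then [nat_lit 3, nat_lit 4, nat_lit 2, nat_lit 5, nat_lit 1, nat_lit 2, nat_lit 4, nat_lit 0, nat_lit 4, nat_lit 3, nat_lit 4, nat_lit 2, nat_lit 5, nat_lit 1, nat_lit 2, nat_lit 4, nat_lit 0, nat_lit 4, nat_lit 3, nat_lit 4, nat_lit 2, nat_lit 5, nat_lit 1, nat_lit 2, nat_lit 4, nat_lit 0, nat_lit 4] else (Wt_746_748 j)
def Wt_742_748 (j : ℕ) : List ℕ := bif Nat.blt j 745 then (Wt_742_745 j) else (Wt_745_748 j)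
def Wt_749_751 (j : ℕ) : List ℕ := bif Nat.blt j 750 then [nat_lit 63, nat_lit 0, nat_lit 1, nat_lit 4, nat_lit 3, nat_lit 1, nat_lit 4, nat_lit 1, nat_lit 0, nat_lit 4, nat_lit 3, nat_lit 1, nat_lit 0, nat_lit 1, nat_lit 2, nat_lit 0, nat_lit 1, nat_lit 4] else [nat_lit 63, nat_lit 1, nat_lit 4, nat_lit 1, nat_lit 2, nat_lit 1, nat_lit 4, nat_lit 0, nat_lit 1, nat_lit 4, nat_lit 3, nat_lit 2, nat_lit 4, nat_lit 1, nat_lit 0, nat_lit 4, nat_lit 1, nat_lit 2]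
def Wt_748_751 (j : ℕ) : List ℕ := bif Nat.blt j 749 then [nat_lit 63, nat_lit 0, nat_lit 2, nat_lit 1, nat_lit 0, nat_lit 1, nat_lit 3, nat_lit 4, nat_lit 0, nat_lit 1, nat_lit 4, nat_lit 1, nat_lit 3, nat_lit 4, nat_lit 1, nat_lit 0, nat_lit 4, nat_lit 1] else (Wt_749_751 j)
def Wt_752_754 (j : ℕ) : List ℕ := bif Nat.blt j 753 then [nat_lit 63, nat_lit 4, nat_lit 5, nat_lit 0, nat_lit 1, nat_lit 4, nat_lit 3, nat_lit 4, nat_lit 0, nat_lit 4, nat_lit 5, nat_lit 0, nat_lit 1, nat_lit 4, nat_lit 3, nat_lit 4, nat_lit 0, nat_lit 4, nat_lit 5, nat_lit 0, nat_lit 1, nat_lit 4, nat_lit 3, nat_lit 4, nat_lit 0, nat_lit 4, nat_lit 5, nat_lit 0, nat_lit 1, nat_lit 4, nat_lit 3, nat_lit 4, nat_lit 0, nat_lit 4, nat_lit 5, nat_lit 0, nat_lit 1, nat_lit 4, nat_lit 3, nat_lit 4, nat_lit 0] else [nat_lit 63, nat_lit 4, nat_lit 0, nat_lit 5, nat_lit 4, nat_lit 1, nat_lit 4, nat_lit 0,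 nat_lit 5, nat_lit 4, nat_lit 1, nat_lit 4, nat_lit 0, nat_lit 5, nat_lit 4, nat_lit 1, nat_lit 4, nat_lit 0, nat_lit 5, nat_lit 4, nat_lit 1]
def Wt_751_754 (j : ℕ) : List ℕ := bif Nat.blt j 752 then [nat_lit 63, nat_lit 4, nat_lit 0, nat_lit 3, nat_lit 4, nat_lit 0, nat_lit 3, nat_lit 0, nat_lit 4, nat_lit 3, nat_lit 0, nat_lit 4, nat_lit 3, nat_lit 4, nat_lit 2, nat_lit 3, nat_lit 4, nat_lit 3] else (Wt_752_754 j)
def Wt_748_754 (j : ℕ) : List ℕ := bif Nat.blt j 751 then (Wt_748_751 j) else (Wt_751_754 j)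
def Wt_742_754 (j : ℕ) : List ℕ := bif Nat.blt j 748 then (Wt_742_748 j) else (Wt_748_754 j)
def Wt_730_754 (j : ℕ) : List ℕ := bif Nat.blt j 742 then (Wt_730_742 j) else (Wt_742_754 j)
def Wt_755_757 (j : ℕ) : List ℕ := bif Nat.blt j 756 then [nat_lit 63, nat_lit 0, nat_lit 1, nat_lit 0, nat_lit 5, nat_lit 1, nat_lit 4, nat_lit 1, nat_lit 0, nat_lit 1, nat_lit 0, nat_lit 5, nat_lit 1, nat_lit 4, nat_lit 1, nat_lit 0, nat_lit 1, nat_lit 0, nat_lit 5, nat_lit 1, nat_lit 4, nat_lit 1, nat_lit 0, nat_lit 1, nat_lit 0, nat_lit 5, nat_lit 1, nat_lit 4, nat_lit 1] else [nat_lit 63, nat_lit 5, nat_lit 4, nat_lit 1, nat_lit 4, nat_lit 2, nat_lit 5, nat_lit 4, nat_lit 1, nat_lit 4, nat_lit 2, nat_lit 5, nat_lit 4, nat_lit 1, nat_lit 4, nat_lit 2]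
def Wt_754_757 (j : ℕ) : List ℕ := bif Nat.blt j 755 then [nat_lit 1, nat_lit 2, nat_lit 1, nat_lit 4, nat_lit 1, nat_lit 5, nat_lit 4, nat_lit 1, nat_lit 2, nat_lit 1, nat_lit 4, nat_lit 1, nat_lit 5, nat_lit 4, nat_lit 1, nat_lit 2, nat_lit 1, nat_lit 4, nat_lit 1, nat_lit 5, nat_lit 4] else (Wt_755_757 j)
def Wt_758_760 (j : ℕ) : List ℕ := bif Nat.blt j 759 then [nat_lit 63, nat_lit 4, nat_lit 3, nat_lit 2, nat_lit 4, nat_lit 1, nat_lit 5, nat_lit 4, nat_lit 3, nat_lit 2, nat_lit 4, nat_lit 1, nat_lit 5, nat_lit 4, nat_lit 3, nat_lit 2, nat_lit 4, nat_lit 1, nat_lit 5, nat_lit 4, nat_lit 3, nat_lit 2, nat_lit 4, nat_lit 1, nat_lit 5] else [nat_lit 63, nat_lit 4, nat_lit 3, nat_lit 4, nat_lit 2, nat_lit 5, nat_lit 1, nat_lit 2, nat_lit 4, nat_lit 0, nat_lit 4, nat_lit 3, nat_lit 4, nat_lit 2, nat_lit 5, nat_lit 1, nat_lit 2, nat_lit 4, nat_lit 0, nat_lit 4, nat_lit 3,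 nat_lit 4, nat_lit 2, nat_lit 5, nat_lit 1, nat_lit 2, nat_lit 4, nat_lit 0]
def Wt_757_760 (j : ℕ) : List ℕ := bif Nat.blt j 758 then [nat_lit 63, nat_lit 2, nat_lit 4, nat_lit 1, nat_lit 4, nat_lit 5, nat_lit 2, nat_lit 4, nat_lit 1, nat_lit 4, nat_lit 5, nat_lit 2, nat_lit 4, nat_lit 1, nat_lit 4, nat_lit 5] else (Wt_758_760 j)
def Wt_754_760 (j : ℕ) : List ℕ := bif Nat.blt j 757 then (Wt_754_757 j) else (Wt_757_760 j)
def Wt_761_763 (j : ℕ) : List ℕ := bif Nat.blt j 762 then [nat_lit 63, nat_lit 4, nat_lit 0, nat_lit 4, nat_lit 2, nat_lit 0, nat_lit 4, nat_lit 0, nat_lit 4, nat_lit 3, nat_lit 1, nat_lit 4, nat_lit 2, nat_lit 1, nat_lit 2, nat_lit 4, nat_lit 1, nat_lit 3] else [nat_lit 63, nat_lit 2, nat_lit 4, nat_lit 3, nat_lit 4, nat_lit 2, nat_lit 4, nat_lit 1, nat_lit 4, nat_lit 1, nat_lit 2, nat_lit 4, nat_lit 2, nat_lit 4, nat_lit 2, nat_lit 1, nat_lit 4, nat_lit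 1]
def Wt_760_763 (j : ℕ) : List ℕ := bif Nat.blt j 761 then [nat_lit 63, nat_lit 5, nat_lit 2, nat_lit 4, nat_lit 2, nat_lit 1, nat_lit 5, nat_lit 2, nat_lit 4, nat_lit 2, nat_lit 1, nat_lit 5, nat_lit 2, nat_lit 4, nat_lit 2, nat_lit 1, nat_lit 5, nat_lit 2, nat_lit 4, nat_lit 2, nat_lit 1, nat_lit 5, nat_lit 2, nat_lit 4, nat_lit 2, nat_lit 1, nat_lit 5, nat_lit 2, nat_lit 4, nat_lit 2, nat_lit 1] else (Wt_761_763 j)
def Wt_764_766 (j : ℕ) : List ℕ := bif Nat.blt j 765 then [nat_lit 63, nat_lit 3, nat_lit 0, nat_lit 3, nat_lit 0, nat_lit 3, nat_lit 1, nat_lit 0, nat_lit 3, nat_lit 0, nat_lit 3, nat_lit 0, nat_lit 3, nat_lit 1, nat_lit 0, nat_lit 3, nat_lit 0, nat_lit 3, nat_lit 0, nat_lit 3, nat_lit 1, nat_lit 0] else [nat_lit 63, nat_lit 0, nat_lit 1, nat_lit 0, nat_lit 3, nat_lit 1, nat_lit 4, nat_lit 1, nat_lit 3, nat_lit 0, nat_lit 1, nat_lit 0, nat_lit 3, nat_lit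 1, nat_lit 4, nat_lit 1, nat_lit 3]
def Wt_763_766 (j : ℕ) : List ℕ := bif Nat.blt j 764 then [nat_lit 4, nat_lit 0, nat_lit 4, nat_lit 2, nat_lit 1, nat_lit 5, nat_lit 2, nat_lit 4, nat_lit 3, nat_lit 4, nat_lit 0, nat_lit 4, nat_lit 2, nat_lit 1, nat_lit 5, nat_lit 2, nat_lit 4, nat_lit 3, nat_lit 4, nat_lit 0, nat_lit 4, nat_lit 2, nat_lit 1, nat_lit 5, nat_lit 2, nat_lit 4, nat_lit 3] else (Wt_764_766 j)
def Wt_760_766 (j : ℕ) : List ℕ := bif Nat.blt j 763 then (Wt_760_763 j) else (Wt_763_766 j)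
def Wt_754_766 (j : ℕ) : List ℕ := bif Nat.blt j 760 then (Wt_754_760 j) else (Wt_760_766 j)
def Wt_767_769 (j : ℕ) : List ℕ := bif Nat.blt j 768 then [nat_lit 63, nat_lit 4, nat_lit 2, nat_lit 5, nat_lit 4, nat_lit 1, nat_lit 4, nat_lit 2, nat_lit 5, nat_lit 4, nat_lit 1, nat_lit 4, nat_lit 2, nat_lit 5, nat_lit 4, nat_lit 1] else [nat_lit 63, nat_lit 1, nat_lit 4, nat_lit 1, nat_lit 5, nat_lit 4, nat_lit 1, nat_lit 2, nat_lit 1, nat_lit 4, nat_lit 1, nat_lit 5, nat_lit 4, nat_lit 1, nat_lit 2, nat_lit 1, nat_lit 4, nat_lit 1, nat_lit 5, nat_lit 4, nat_lit 1, nat_lit 2]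
def Wt_766_769 (j : ℕ) : List ℕ := bif Nat.blt j 767 then [nat_lit 63, nat_lit 3, nat_lit 1, nat_lit 3, nat_lit 1, nat_lit 3, nat_lit 4, nat_lit 2, nat_lit 1, nat_lit 4, nat_lit 3, nat_lit 4, nat_lit 1, nat_lit 2, nat_lit 4, nat_lit 3, nat_lit 1] else (Wt_767_769 j)
def Wt_770_772 (j : ℕ) : List ℕ := bif Nat.blt j 771 then [nat_lit 63, nat_lit 0, nat_lit 4, nat_lit 3, nat_lit 0, nat_lit 3, nat_lit 5, nat_lit 4, nat_lit 0, nat_lit 4, nat_lit 3, nat_lit 0, nat_lit 3, nat_lit 5, nat_lit 4, nat_lit 0, nat_lit 4, nat_lit 3, nat_lit 0, nat_lit 3, nat_lit 5, nat_lit 4, nat_lit 0, nat_lit 4, nat_lit 3, nat_lit 0, nat_lit 3, nat_lit 5, nat_lit 4, nat_lit 0, nat_lit 4, nat_lit 3, nat_lit 0, nat_lit 3, nat_lit 5, nat_lit 4] else [nat_lit 63, nat_lit 1, nat_lit 3, nat_lit 0, nat_lit 1, nat_lit 0, nat_lit 3, nat_lit 1, nat_lit 4, nat_lit 1, nat_lit 3, nat_lit 0, nat_lit 1, nat_lit 0,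 nat_lit 3, nat_lit 1, nat_lit 4]
def Wt_769_772 (j : ℕ) : List ℕ := bif Nat.blt j 770 then [nat_lit 0, nat_lit 4, nat_lit 5, nat_lit 0, nat_lit 1, nat_lit 4, nat_lit 3, nat_lit 4, nat_lit 0, nat_lit 4, nat_lit 5, nat_lit 0, nat_lit 1, nat_lit 4, nat_lit 3, nat_lit 4, nat_lit 0, nat_lit 4, nat_lit 5, nat_lit 0, nat_lit 1, nat_lit 4, nat_lit 3, nat_lit 4, nat_lit 0, nat_lit 4, nat_lit 5, nat_lit 0, nat_lit 1, nat_lit 4, nat_lit 3, nat_lit 4, nat_lit 0, nat_lit 4, nat_lit 5, nat_lit 0, nat_lit 1, nat_lit 4, nat_lit 3, nat_lit 4] else (Wt_770_772 j)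
def Wt_766_772 (j : ℕ) : List ℕ := bif Nat.blt j 769 then (Wt_766_769 j) else (Wt_769_772 j)
def Wt_773_775 (j : ℕ) : List ℕ := bif Nat.blt j 774 then [nat_lit 63, nat_lit 5, nat_lit 4, nat_lit 3, nat_lit 2, nat_lit 4, nat_lit 1, nat_lit 5, nat_lit 4, nat_lit 3, nat_lit 2, nat_lit 4, nat_lit 1, nat_lit 5, nat_lit 4, nat_lit 3, nat_lit 2, nat_lit 4, nat_lit 1, nat_lit 5, nat_lit 4, nat_lit 3, nat_lit 2, nat_lit 4, nat_lit 1] else [nat_lit 4, nat_lit 1, nat_lit 5, nat_lit 4, nat_lit 3, nat_lit 2, nat_lit 4, nat_lit 1, nat_lit 5, nat_lit 4, nat_lit 3, nat_lit 2, nat_lit 4, nat_lit 1, nat_lit 5, nat_lit 4, nat_lit 3, nat_lit 2, nat_lit 4, nat_lit 1, nat_lit 5, nat_lit 4, nat_lit 3, nat_lit 2]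
def Wt_772_775 (j : ℕ) : List ℕ := bif Nat.blt j 773 then [nat_lit 63, nat_lit 1, nat_lit 5, nat_lit 4, nat_lit 1, nat_lit 2, nat_lit 1, nat_lit 4, nat_lit 1, nat_lit 5, nat_lit 4, nat_lit 1, nat_lit 2, nat_lit 1, nat_lit 4, nat_lit 1, nat_lit 5, nat_lit 4, nat_lit 1, nat_lit 2, nat_lit 1, nat_lit 4] else (Wt_773_775 j)
def Wt_775_777 (j : ℕ) : List ℕ := bif Nat.blt j 776 then [nat_lit 63, nat_lit 5, nat_lit 3, nat_lit 4, nat_lit 3, nat_lit 0, nat_lit 5, nat_lit 3, nat_lit 4, nat_lit 3, nat_lit 0, nat_lit 5, nat_lit 3, nat_lit 4, nat_lit 3, nat_lit 0, nat_lit 5, nat_lit 3, nat_lit 4, nat_lit 3, nat_lit 0, nat_lit 5, nat_lit 3, nat_lit 4, nat_lit 3, nat_lit 0] else [nat_lit 63, nat_lit 4, nat_lit 0, nat_lit 4, nat_lit 2, nat_lit 1, nat_lit 5, nat_lit 2, nat_lit 4, nat_lit 3, nat_lit 4, nat_lit 0, nat_lit 4, nat_lit 2, nat_lit 1, nat_lit 5, nat_lit 2, nat_lit 4, nat_lit 3,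 nat_lit 4, nat_lit 0, nat_lit 4, nat_lit 2, nat_lit 1, nat_lit 5, nat_lit 2, nat_lit 4, nat_lit 3]
def Wt_777_779 (j : ℕ) : List ℕ := bif Nat.blt j 778 then [nat_lit 63, nat_lit 4, nat_lit 0, nat_lit 5, nat_lit 4, nat_lit 3, nat_lit 4, nat_lit 0, nat_lit 5, nat_lit 4, nat_lit 3, nat_lit 4, nat_lit 0, nat_lit 5, nat_lit 4, nat_lit 3, nat_lit 4, nat_lit 0, nat_lit 5, nat_lit 4, nat_lit 3, nat_lit 4, nat_lit 0, nat_lit 5, nat_lit 4, nat_lit 3, nat_lit 4, nat_lit 0, nat_lit 5, nat_lit 4, nat_lit 3] else [nat_lit 63, nat_lit 5, nat_lit 0, nat_lit 1, nat_lit 4, nat_lit 3, nat_lit 4, nat_lit 0, nat_lit 4, nat_lit 5, nat_lit 0, nat_lit 1, nat_lit 4, nat_lit 3, nat_lit 4, nat_lit 0, nat_lit 4, nat_lit 5, nat_lit 0, nat_lit 1, nat_lit 4, nat_lit 3, nat_lit 4, nat_lit 0, nat_lit 4, nat_lit 5, nat_lit 0, nat_lit 1, nat_lit 4, nat_lit 3, nat_lit 4, nat_lit 0, nat_lit 4, nat_lit 5, nat_lit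 0, nat_lit 1, nat_lit 4, nat_lit 3, nat_lit 4, nat_lit 0, nat_lit 4]
def Wt_775_779 (j : ℕ) : List ℕ := bif Nat.blt j 777 then (Wt_775_777 j) else (Wt_777_779 j)
def Wt_772_779 (j : ℕ) : List ℕ := bif Nat.blt j 775 then (Wt_772_775 j) else (Wt_775_779 j)
def Wt_766_779 (j : ℕ) : List ℕ := bif Nat.blt j 772 then (Wt_766_772 j) else (Wt_772_779 j)
def Wt_754_779 (j : ℕ) : List ℕ := bif Nat.blt j 766 then (Wt_754_766 j) else (Wt_766_779 j)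
def Wt_730_779 (j : ℕ) : List ℕ := bif Nat.blt j 754 then (Wt_730_754 j) else (Wt_754_779 j)
def Wt_681_779 (j : ℕ) : List ℕ := bif Nat.blt j 730 then (Wt_681_730 j) else (Wt_730_779 j)
def Wt_584_779 (j : ℕ) : List ℕ := bif Nat.blt j 681 then (Wt_584_681 j) else (Wt_681_779 j)
def Wt_389_779 (j : ℕ) : List ℕ := bif Nat.blt j 584 then (Wt_389_584 j) else (Wt_584_779 j)
def Wt_0_779 (j : ℕ) : List ℕ := bif Nat.blt j 389 then (Wt_0_389 j) else (Wt_389_779 j)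
def Wt_780_782 (j : ℕ) : List ℕ := bif Nat.blt j 781 then [nat_lit 63, nat_lit 3, nat_lit 4, nat_lit 3, nat_lit 4, nat_lit 1, nat_lit 4, nat_lit 1, nat_lit 4, nat_lit 1, nat_lit 4, nat_lit 1, nat_lit 3, nat_lit 4, nat_lit 3, nat_lit 4] else [nat_lit 63, nat_lit 4, nat_lit 2, nat_lit 4, nat_lit 3, nat_lit 4, nat_lit 2, nat_lit 4, nat_lit 1, nat_lit 2, nat_lit 1, nat_lit 3, nat_lit 0, nat_lit 3, nat_lit 4, nat_lit 3, nat_lit 4, nat_lit 2]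
def Wt_779_782 (j : ℕ) : List ℕ := bif Nat.blt j 780 then [nat_lit 63, nat_lit 0, nat_lit 4, nat_lit 3, nat_lit 1, nat_lit 0, nat_lit 1, nat_lit 2, nat_lit 0, nat_lit 1, nat_lit 4, nat_lit 0, nat_lit 1, nat_lit 4, nat_lit 3, nat_lit 1, nat_lit 4, nat_lit 1] else (Wt_780_782 j)
def Wt_783_785 (j : ℕ) : List ℕ := bif Nat.blt j 784 then [nat_lit 63, nat_lit 3, nat_lit 1, nat_lit 0, nat_lit 1, nat_lit 2, nat_lit 0, nat_lit 1, nat_lit 4, nat_lit 0, nat_lit 1, nat_lit 4, nat_lit 3, nat_lit 1, nat_lit 4, nat_lit 1, nat_lit 0, nat_lit 4] else [nat_lit 63, nat_lit 1, nat_lit 4, nat_lit 0, nat_lit 1, nat_lit 0, nat_lit 4, nat_lit 1, nat_lit 2, nat_lit 3, nat_lit 1, nat_lit 0, nat_lit 4, nat_lit 3, nat_lit 4, nat_lit 2, nat_lit 3, nat_lit 4]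
def Wt_782_785 (j : ℕ) : List ℕ := bif Nat.blt j 783 then [nat_lit 63, nat_lit 0, nat_lit 2, nat_lit 4, nat_lit 1, nat_lit 4, nat_lit 2, nat_lit 0, nat_lit 4, nat_lit 1, nat_lit 4, nat_lit 2, nat_lit 0, nat_lit 4, nat_lit 1, nat_lit 4] else (Wt_783_785 j)
def Wt_779_785 (j : ℕ) : List ℕ := bif Nat.blt j 782 then (Wt_779_782 j) else (Wt_782_785 j)
def Wt_786_788 (j : ℕ) : List ℕ := bif Nat.blt j 787 then [nat_lit 63, nat_lit 0, nat_lit 5, nat_lit 1, nat_lit 4, nat_lit 1, nat_lit 0, nat_lit 1, nat_lit 0, nat_lit 5, nat_lit 1, nat_lit 4, nat_lit 1, nat_lit 0, nat_lit 1, nat_lit 0, nat_lit 5, nat_lit 1, nat_lit 4, nat_lit 1, nat_lit 0, nat_lit 1, nat_lit 0, nat_lit 5, nat_lit 1, nat_lit 4, nat_lit 1, nat_lit 0, nat_lit 1] else [nat_lit 63, nat_lit 4, nat_lit 1, nat_lit 4, nat_lit 2, nat_lit 5, nat_lit 4, nat_lit 1, nat_lit 4, nat_lit 2, nat_lit 5, nat_lit 4, nat_lit 1, nat_lit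 4, nat_lit 2, nat_lit 5]
def Wt_785_788 (j : ℕ) : List ℕ := bif Nat.blt j 786 then [nat_lit 63, nat_lit 5, nat_lit 1, nat_lit 4, nat_lit 2, nat_lit 3, nat_lit 4, nat_lit 5, nat_lit 1, nat_lit 4, nat_lit 2, nat_lit 3, nat_lit 4, nat_lit 5, nat_lit 1, nat_lit 4, nat_lit 2, nat_lit 3, nat_lit 4, nat_lit 5, nat_lit 1, nat_lit 4, nat_lit 2, nat_lit 3, nat_lit 4] else (Wt_786_788 j)
def Wt_789_791 (j : ℕ) : List ℕ := bif Nat.blt j 790 then [nat_lit 63, nat_lit 5, nat_lit 4, nat_lit 1, nat_lit 2, nat_lit 1, nat_lit 4, nat_lit 1, nat_lit 5, nat_lit 4, nat_lit 1, nat_lit 2, nat_lit 1, nat_lit 4, nat_lit 1, nat_lit 5, nat_lit 4, nat_lit 1, nat_lit 2, nat_lit 1, nat_lit 4, nat_lit 1] else [nat_lit 63, nat_lit 1, nat_lit 4, nat_lit 1, nat_lit 2, nat_lit 1, nat_lit 4, nat_lit 5, nat_lit 1, nat_lit 4, nat_lit 1, nat_lit 2, nat_lit 1, nat_lit 4, nat_lit 5, nat_lit 1, nat_lit 4, nat_lit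 1, nat_lit 2, nat_lit 1, nat_lit 4, nat_lit 5]
def Wt_788_791 (j : ℕ) : List ℕ := bif Nat.blt j 789 then [nat_lit 4, nat_lit 1, nat_lit 4, nat_lit 0, nat_lit 5, nat_lit 4, nat_lit 1, nat_lit 4, nat_lit 0, nat_lit 5, nat_lit 4, nat_lit 1, nat_lit 4, nat_lit 0, nat_lit 5, nat_lit 4, nat_lit 1, nat_lit 4, nat_lit 0, nat_lit 5] else (Wt_789_791 j)
def Wt_785_791 (j : ℕ) : List ℕ := bif Nat.blt j 788 then (Wt_785_788 j) else (Wt_788_791 j)
def Wt_779_791 (j : ℕ) : List ℕ := bif Nat.blt j 785 then (Wt_779_785 j) else (Wt_785_791 j)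
def Wt_792_794 (j : ℕ) : List ℕ := bif Nat.blt j 793 then [nat_lit 63, nat_lit 0, nat_lit 5, nat_lit 3, nat_lit 4, nat_lit 3, nat_lit 0, nat_lit 5, nat_lit 3, nat_lit 4, nat_lit 3, nat_lit 0, nat_lit 5, nat_lit 3, nat_lit 4, nat_lit 3, nat_lit 0, nat_lit 5, nat_lit 3, nat_lit 4, nat_lit 3, nat_lit 0, nat_lit 5, nat_lit 3, nat_lit 4, nat_lit 3] else [nat_lit 63, nat_lit 4, nat_lit 5, nat_lit 2, nat_lit 4, nat_lit 1, nat_lit 4, nat_lit 5, nat_lit 2, nat_lit 4, nat_lit 1, nat_lit 4, nat_lit 5, nat_lit 2, nat_lit 4, nat_lit 1]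
def Wt_791_794 (j : ℕ) : List ℕ := bif Nat.blt j 792 then [nat_lit 63, nat_lit 3, nat_lit 2, nat_lit 4, nat_lit 1, nat_lit 5, nat_lit 4, nat_lit 3, nat_lit 2, nat_lit 4, nat_lit 1, nat_lit 5, nat_lit 4, nat_lit 3, nat_lit 2, nat_lit 4, nat_lit 1, nat_lit 5, nat_lit 4, nat_lit 3, nat_lit 2, nat_lit 4, nat_lit 1, nat_lit 5, nat_lit 4] else (Wt_792_794 j)
def Wt_795_797 (j : ℕ) : List ℕ := bif Nat.blt j 796 then [nat_lit 63, nat_lit 3, nat_lit 4, nat_lit 5, nat_lit 1, nat_lit 4, nat_lit 2, nat_lit 3, nat_lit 4, nat_lit 5, nat_lit 1, nat_lit 4, nat_lit 2, nat_lit 3, nat_lit 4, nat_lit 5, nat_lit 1, nat_lit 4, nat_lit 2, nat_lit 3, nat_lit 4, nat_lit 5, nat_lit 1, nat_lit 4, nat_lit 2] else [nat_lit 63, nat_lit 1, nat_lit 2, nat_lit 1, nat_lit 4, nat_lit 5, nat_lit 1, nat_lit 4, nat_lit 1, nat_lit 2, nat_lit 1, nat_lit 4, nat_lit 5, nat_lit 1, nat_lit 4, nat_lit 1, nat_lit 2,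 nat_lit 1, nat_lit 4, nat_lit 5, nat_lit 1, nat_lit 4]
def Wt_794_797 (j : ℕ) : List ℕ := bif Nat.blt j 795 then [nat_lit 63, nat_lit 4, nat_lit 5, nat_lit 0, nat_lit 4, nat_lit 1, nat_lit 4, nat_lit 5, nat_lit 0, nat_lit 4, nat_lit 1, nat_lit 4, nat_lit 5, nat_lit 0, nat_lit 4, nat_lit 1, nat_lit 4, nat_lit 5, nat_lit 0, nat_lit 4, nat_lit 1] else (Wt_795_797 j)
def Wt_791_797 (j : ℕ) : List ℕ := bif Nat.blt j 794 then (Wt_791_794 j) else (Wt_794_797 j)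
def Wt_798_800 (j : ℕ) : List ℕ := bif Nat.blt j 799 then [nat_lit 0, nat_lit 4, nat_lit 0, nat_lit 2, nat_lit 4, nat_lit 0, nat_lit 2, nat_lit 4, nat_lit 0, nat_lit 3, nat_lit 2, nat_lit 3, nat_lit 4, nat_lit 2, nat_lit 0, nat_lit 4, nat_lit 2] else [nat_lit 63, nat_lit 3, nat_lit 4, nat_lit 0, nat_lit 4, nat_lit 2, nat_lit 1, nat_lit 5, nat_lit 2, nat_lit 4, nat_lit 3, nat_lit 4, nat_lit 0, nat_lit 4, nat_lit 2, nat_lit 1, nat_lit 5, nat_lit 2, nat_lit 4, nat_lit 3, nat_lit 4, nat_lit 0, nat_lit 4, nat_lit 2, nat_lit 1, nat_lit 5, nat_lit 2, nat_lit 4]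
def Wt_797_800 (j : ℕ) : List ℕ := bif Nat.blt j 798 then [nat_lit 63, nat_lit 1, nat_lit 4, nat_lit 5, nat_lit 1, nat_lit 4, nat_lit 1, nat_lit 2, nat_lit 1, nat_lit 4, nat_lit 5, nat_lit 1, nat_lit 4, nat_lit 1, nat_lit 2, nat_lit 1, nat_lit 4, nat_lit 5, nat_lit 1, nat_lit 4, nat_lit 1, nat_lit 2] else (Wt_798_800 j)
def Wt_801_803 (j : ℕ) : List ℕ := bif Nat.blt j 802 then [nat_lit 2, nat_lit 4, nat_lit 1, nat_lit 4, nat_lit 5, nat_lit 2, nat_lit 4, nat_lit 1, nat_lit 4, nat_lit 5, nat_lit 2, nat_lit 4, nat_lit 1, nat_lit 4, nat_lit 5] else [nat_lit 63, nat_lit 1, nat_lit 0, nat_lit 5, nat_lit 1, nat_lit 4, nat_lit 1, nat_lit 0, nat_lit 1, nat_lit 0, nat_lit 5, nat_lit 1, nat_lit 4, nat_lit 1, nat_lit 0, nat_lit 1, nat_lit 0, nat_lit 5, nat_lit 1, nat_lit 4, nat_lit 1, nat_lit 0, nat_lit 1, nat_lit 0, nat_lit 5, nat_lit 1, nat_lit 4, nat_lit 1, nat_lit 0]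
def Wt_800_803 (j : ℕ) : List ℕ := bif Nat.blt j 801 then [nat_lit 63, nat_lit 0, nat_lit 4, nat_lit 3, nat_lit 0, nat_lit 4, nat_lit 3, nat_lit 4, nat_lit 2, nat_lit 3, nat_lit 4, nat_lit 3, nat_lit 4, nat_lit 0, nat_lit 3, nat_lit 4, nat_lit 0, nat_lit 3] else (Wt_801_803 j)
def Wt_797_803 (j : ℕ) : List ℕ := bif Nat.blt j 800 then (Wt_797_800 j) else (Wt_800_803 j)
def Wt_791_803 (j : ℕ) : List ℕ := bif Nat.blt j 797 then (Wt_791_797 j) else (Wt_797_803 j)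
def Wt_779_803 (j : ℕ) : List ℕ := bif Nat.blt j 791 then (Wt_779_791 j) else (Wt_791_803 j)
def Wt_804_806 (j : ℕ) : List ℕ := bif Nat.blt j 805 then [nat_lit 1, nat_lit 4, nat_lit 1, nat_lit 3, nat_lit 4, nat_lit 1, nat_lit 0, nat_lit 4, nat_lit 1, nat_lit 0, nat_lit 2, nat_lit 1, nat_lit 0, nat_lit 1, nat_lit 3, nat_lit 4, nat_lit 0] else [nat_lit 63, nat_lit 2, nat_lit 1, nat_lit 5, nat_lit 2, nat_lit 4, nat_lit 3, nat_lit 4, nat_lit 0, nat_lit 4, nat_lit 2, nat_lit 1, nat_lit 5, nat_lit 2, nat_lit 4, nat_lit 3, nat_lit 4, nat_lit 0, nat_lit 4, nat_lit 2, nat_lit 1, nat_lit 5, nat_lit 2, nat_lit 4, nat_lit 3, nat_lit 4, nat_lit 0, nat_lit 4]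
def Wt_803_806 (j : ℕ) : List ℕ := bif Nat.blt j 804 then [nat_lit 63, nat_lit 1, nat_lit 2, nat_lit 4, nat_lit 2, nat_lit 5, nat_lit 1, nat_lit 2, nat_lit 4, nat_lit 2, nat_lit 5, nat_lit 1, nat_lit 2, nat_lit 4, nat_lit 2, nat_lit 5, nat_lit 1, nat_lit 2, nat_lit 4, nat_lit 2, nat_lit 5, nat_lit 1, nat_lit 2, nat_lit 4, nat_lit 2, nat_lit 5, nat_lit 1, nat_lit 2, nat_lit 4, nat_lit 2, nat_lit 5] else (Wt_804_806 j)
def Wt_807_809 (j : ℕ) : List ℕ := bif Nat.blt j 808 then [nat_lit 63, nat_lit 3, nat_lit 4, nat_lit 2, nat_lit 5, nat_lit 1, nat_lit 2, nat_lit 4, nat_lit 0, nat_lit 4, nat_lit 3, nat_lit 4, nat_lit 2, nat_lit 5, nat_lit 1, nat_lit 2, nat_lit 4, nat_lit 0, nat_lit 4, nat_lit 3, nat_lit 4, nat_lit 2, nat_lit 5, nat_lit 1, nat_lit 2, nat_lit 4, nat_lit 0, nat_lit 4] else [nat_lit 63, nat_lit 4, nat_lit 3, nat_lit 4, nat_lit 2, nat_lit 5, nat_lit 4, nat_lit 3,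 nat_lit 4, nat_lit 3, nat_lit 4, nat_lit 2, nat_lit 5, nat_lit 4, nat_lit 3, nat_lit 4, nat_lit 3, nat_lit 4, nat_lit 2, nat_lit 5, nat_lit 4, nat_lit 3, nat_lit 4, nat_lit 3, nat_lit 4, nat_lit 2, nat_lit 5, nat_lit 4, nat_lit 3, nat_lit 4, nat_lit 3, nat_lit 4, nat_lit 2, nat_lit 5, nat_lit 4, nat_lit 3]
def Wt_806_809 (j : ℕ) : List ℕ := bif Nat.blt j 807 then [nat_lit 63, nat_lit 0, nat_lit 4, nat_lit 3, nat_lit 4, nat_lit 2, nat_lit 3, nat_lit 4, nat_lit 3, nat_lit 4, nat_lit 0, nat_lit 3, nat_lit 4, nat_lit 0, nat_lit 3, nat_lit 0, nat_lit 4, nat_lit 3] else (Wt_807_809 j)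
def Wt_803_809 (j : ℕ) : List ℕ := bif Nat.blt j 806 then (Wt_803_806 j) else (Wt_806_809 j)
def Wt_810_812 (j : ℕ) : List ℕ := bif Nat.blt j 811 then [nat_lit 63, nat_lit 2, nat_lit 4, nat_lit 3, nat_lit 4, nat_lit 0, nat_lit 4, nat_lit 2, nat_lit 1, nat_lit 5, nat_lit 2, nat_lit 4, nat_lit 3, nat_lit 4, nat_lit 0, nat_lit 4, nat_lit 2, nat_lit 1, nat_lit 5, nat_lit 2, nat_lit 4, nat_lit 3, nat_lit 4, nat_lit 0, nat_lit 4, nat_lit 2, nat_lit 1, nat_lit 5] else [nat_lit 63, nat_lit 4, nat_lit 3, nat_lit 0, nat_lit 3, nat_lit 1, nat_lit 2, nat_lit 1, nat_lit 4, nat_lit 2, nat_lit 4, nat_lit 3, nat_lit 4, nat_lit 2, nat_lit 4, nat_lit 2, nat_lit 4, nat_lit 3]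
def Wt_809_812 (j : ℕ) : List ℕ := bif Nat.blt j 810 then [nat_lit 0, nat_lit 1, nat_lit 4, nat_lit 1, nat_lit 5, nat_lit 0, nat_lit 1, nat_lit 0, nat_lit 1, nat_lit 4, nat_lit 1, nat_lit 5, nat_lit 0, nat_lit 1, nat_lit 0, nat_lit 1, nat_lit 4, nat_lit 1, nat_lit 5, nat_lit 0, nat_lit 1, nat_lit 0, nat_lit 1, nat_lit 4, nat_lit 1, nat_lit 5, nat_lit 0, nat_lit 1] else (Wt_810_812 j)
def Wt_813_815 (j : ℕ) : List ℕ := bif Nat.blt j 814 then [nat_lit 63, nat_lit 4, nat_lit 5, nat_lit 4, nat_lit 2, nat_lit 4, nat_lit 5, nat_lit 4, nat_lit 2, nat_lit 4, nat_lit 5, nat_lit 4, nat_lit 2, nat_lit 4, nat_lit 5, nat_lit 4, nat_lit 2, nat_lit 4, nat_lit 5, nat_lit 4, nat_lit 2, nat_lit 4, nat_lit 5, nat_lit 4, nat_lit 2] else [nat_lit 63, nat_lit 1, nat_lit 0, nat_lit 3, nat_lit 1, nat_lit 4, nat_lit 1, nat_lit 3, nat_lit 0, nat_lit 1, nat_lit 0, nat_lit 3, nat_lit 1, nat_lit 4,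 nat_lit 1, nat_lit 3, nat_lit 0]
def Wt_812_815 (j : ℕ) : List ℕ := bif Nat.blt j 813 then [nat_lit 4, nat_lit 2, nat_lit 4, nat_lit 2, nat_lit 1, nat_lit 4, nat_lit 1, nat_lit 4, nat_lit 2, nat_lit 4, nat_lit 3, nat_lit 4, nat_lit 2, nat_lit 1, nat_lit 4, nat_lit 1, nat_lit 2] else (Wt_813_815 j)
def Wt_809_815 (j : ℕ) : List ℕ := bif Nat.blt j 812 then (Wt_809_812 j) else (Wt_812_815 j)
def Wt_803_815 (j : ℕ) : List ℕ := bif Nat.blt j 809 then (Wt_803_809 j) else (Wt_809_815 j)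
def Wt_816_818 (j : ℕ) : List ℕ := bif Nat.blt j 817 then [nat_lit 63, nat_lit 4, nat_lit 1, nat_lit 5, nat_lit 4, nat_lit 1, nat_lit 2, nat_lit 1, nat_lit 4, nat_lit 1, nat_lit 5, nat_lit 4, nat_lit 1, nat_lit 2, nat_lit 1, nat_lit 4, nat_lit 1, nat_lit 5, nat_lit 4, nat_lit 1, nat_lit 2, nat_lit 1] else [nat_lit 63, nat_lit 1, nat_lit 2, nat_lit 3, nat_lit 1, nat_lit 0, nat_lit 4, nat_lit 3, nat_lit 4, nat_lit 2, nat_lit 3, nat_lit 4, nat_lit 1, nat_lit 4, nat_lit 0, nat_lit 1, nat_lit 0, nat_lit 4]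
def Wt_815_818 (j : ℕ) : List ℕ := bif Nat.blt j 816 then [nat_lit 63, nat_lit 2, nat_lit 3, nat_lit 4, nat_lit 1, nat_lit 4, nat_lit 0, nat_lit 1, nat_lit 0, nat_lit 4, nat_lit 1, nat_lit 2, nat_lit 3, nat_lit 1, nat_lit 0, nat_lit 4, nat_lit 3, nat_lit 4] else (Wt_816_818 j)
def Wt_819_821 (j : ℕ) : List ℕ := bif Nat.blt j 820 then [nat_lit 63, nat_lit 1, nat_lit 2, nat_lit 1, nat_lit 4, nat_lit 1, nat_lit 5, nat_lit 4, nat_lit 1, nat_lit 2, nat_lit 1, nat_lit 4, nat_lit 1, nat_lit 5, nat_lit 4, nat_lit 1, nat_lit 2, nat_lit 1, nat_lit 4, nat_lit 1, nat_lit 5, nat_lit 4] else [nat_lit 4, nat_lit 0, nat_lit 5, nat_lit 4, nat_lit 1, nat_lit 4, nat_lit 0, nat_lit 5, nat_lit 4, nat_lit 1, nat_lit 4, nat_lit 0, nat_lit 5, nat_lit 4, nat_lit 1, nat_lit 4, nat_lit 0, nat_lit 5, nat_lit 4, nat_lit 1]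
def Wt_818_821 (j : ℕ) : List ℕ := bif Nat.blt j 819 then [nat_lit 63, nat_lit 3, nat_lit 0, nat_lit 3, nat_lit 5, nat_lit 4, nat_lit 0, nat_lit 4, nat_lit 3, nat_lit 0, nat_lit 3, nat_lit 5, nat_lit 4, nat_lit 0, nat_lit 4, nat_lit 3, nat_lit 0, nat_lit 3, nat_lit 5, nat_lit 4, nat_lit 0, nat_lit 4, nat_lit 3, nat_lit 0, nat_lit 3, nat_lit 5, nat_lit 4, nat_lit 0, nat_lit 4, nat_lit 3, nat_lit 0, nat_lit 3, nat_lit 5, nat_lit 4, nat_lit 0, nat_lit 4] else (Wt_819_821 j)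
def Wt_815_821 (j : ℕ) : List ℕ := bif Nat.blt j 818 then (Wt_815_818 j) else (Wt_818_821 j)
def Wt_822_824 (j : ℕ) : List ℕ := bif Nat.blt j 823 then [nat_lit 63, nat_lit 4, nat_lit 0, nat_lit 2, nat_lit 4, nat_lit 1, nat_lit 4, nat_lit 2, nat_lit 0, nat_lit 4, nat_lit 1, nat_lit 4, nat_lit 2, nat_lit 0, nat_lit 4, nat_lit 1] else [nat_lit 1, nat_lit 0, nat_lit 1, nat_lit 4, nat_lit 1, nat_lit 5, nat_lit 0, nat_lit 1, nat_lit 0, nat_lit 1, nat_lit 4, nat_lit 1, nat_lit 5, nat_lit 0, nat_lit 1, nat_lit 0, nat_lit 1, nat_lit 4, nat_lit 1, nat_lit 5, nat_lit 0, nat_lit 1, nat_lit 0, nat_lit 1, nat_lit 4, nat_lit 1, nat_lit 5, nat_lit 0]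
def Wt_821_824 (j : ℕ) : List ℕ := bif Nat.blt j 822 then [nat_lit 63, nat_lit 4, nat_lit 1, nat_lit 4, nat_lit 5, nat_lit 2, nat_lit 4, nat_lit 1, nat_lit 4, nat_lit 5, nat_lit 2, nat_lit 4, nat_lit 1, nat_lit 4, nat_lit 5, nat_lit 2] else (Wt_822_824 j)
def Wt_825_827 (j : ℕ) : List ℕ := bif Nat.blt j 826 then [nat_lit 63, nat_lit 5, nat_lit 1, nat_lit 2, nat_lit 4, nat_lit 0, nat_lit 4, nat_lit 3, nat_lit 4, nat_lit 2, nat_lit 5, nat_lit 1, nat_lit 2, nat_lit 4, nat_lit 0, nat_lit 4, nat_lit 3, nat_lit 4, nat_lit 2, nat_lit 5, nat_lit 1, nat_lit 2, nat_lit 4, nat_lit 0, nat_lit 4, nat_lit 3, nat_lit 4, nat_lit 2] else [nat_lit 63, nat_lit 0, nat_lit 4, nat_lit 1, nat_lit 2, nat_lit 3, nat_lit 1, nat_lit 0, nat_lit 4, nat_lit 3, nat_lit 4, nat_lit 2, nat_lit 3, nat_lit 4, nat_lit 1, nat_lit 4, nat_lit 0, nat_lit 1]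
def Wt_824_827 (j : ℕ) : List ℕ := bif Nat.blt j 825 then [nat_lit 63, nat_lit 4, nat_lit 1, nat_lit 3, nat_lit 4, nat_lit 1, nat_lit 0, nat_lit 4, nat_lit 1, nat_lit 0, nat_lit 2, nat_lit 1, nat_lit 0, nat_lit 1, nat_lit 3, nat_lit 4, nat_lit 0, nat_lit 1] else (Wt_825_827 j)
def Wt_821_827 (j : ℕ) : List ℕ := bif Nat.blt j 824 then (Wt_821_824 j) else (Wt_824_827 j)
def Wt_815_827 (j : ℕ) : List ℕ := bif Nat.blt j 821 then (Wt_815_821 j) else (Wt_821_827 j)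
def Wt_803_827 (j : ℕ) : List ℕ := bif Nat.blt j 815 then (Wt_803_815 j) else (Wt_815_827 j)
def Wt_779_827 (j : ℕ) : List ℕ := bif Nat.blt j 803 then (Wt_779_803 j) else (Wt_803_827 j)
def Wt_828_830 (j : ℕ) : List ℕ := bif Nat.blt j 829 then [nat_lit 63, nat_lit 3, nat_lit 2, nat_lit 4, nat_lit 3, nat_lit 4, nat_lit 0, nat_lit 3, nat_lit 4, nat_lit 0, nat_lit 3, nat_lit 0, nat_lit 4, nat_lit 3, nat_lit 0, nat_lit 4, nat_lit 3, nat_lit 4] else [nat_lit 63, nat_lit 3, nat_lit 2, nat_lit 4, nat_lit 3, nat_lit 4, nat_lit 0, nat_lit 1, nat_lit 3, nat_lit 2, nat_lit 1, nat_lit 4, nat_lit 0, nat_lit 1, nat_lit 0, nat_lit 4, nat_lit 1, nat_lit 4]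
def Wt_827_830 (j : ℕ) : List ℕ := bif Nat.blt j 828 then [nat_lit 63, nat_lit 1, nat_lit 4, nat_lit 1, nat_lit 3, nat_lit 4, nat_lit 1, nat_lit 0, nat_lit 4, nat_lit 1, nat_lit 0, nat_lit 2, nat_lit 1, nat_lit 0, nat_lit 1, nat_lit 3, nat_lit 4, nat_lit 0] else (Wt_828_830 j)
def Wt_831_833 (j : ℕ) : List ℕ := bif Nat.blt j 832 then [nat_lit 5, nat_lit 2, nat_lit 3, nat_lit 5, nat_lit 3] else [nat_lit 63, nat_lit 1, nat_lit 0, nat_lit 1, nat_lit 2, nat_lit 0, nat_lit 1, nat_lit 4, nat_lit 0, nat_lit 1, nat_lit 4, nat_lit 3, nat_lit 1, nat_lit 4, nat_lit 1, nat_lit 0, nat_lit 4, nat_lit 3]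
def Wt_830_833 (j : ℕ) : List ℕ := bif Nat.blt j 831 then [nat_lit 63, nat_lit 3, nat_lit 4, nat_lit 3, nat_lit 0, nat_lit 5, nat_lit 3, nat_lit 4, nat_lit 3, nat_lit 0, nat_lit 5, nat_lit 3, nat_lit 4, nat_lit 3, nat_lit 0, nat_lit 5, nat_lit 3, nat_lit 4, nat_lit 3, nat_lit 0, nat_lit 5, nat_lit 3, nat_lit 4, nat_lit 3, nat_lit 0, nat_lit 5] else (Wt_831_833 j)
def Wt_827_833 (j : ℕ) : List ℕ := bif Nat.blt j 830 then (Wt_827_830 j) else (Wt_830_833 j)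
def Wt_834_836 (j : ℕ) : List ℕ := bif Nat.blt j 835 then [nat_lit 63, nat_lit 3, nat_lit 0, nat_lit 4, nat_lit 3, nat_lit 0, nat_lit 4, nat_lit 3, nat_lit 4, nat_lit 2, nat_lit 3, nat_lit 4, nat_lit 3, nat_lit 4, nat_lit 0, nat_lit 3, nat_lit 4, nat_lit 0] else [nat_lit 4, nat_lit 2, nat_lit 4, nat_lit 5, nat_lit 4, nat_lit 2, nat_lit 4, nat_lit 5, nat_lit 4, nat_lit 2, nat_lit 4, nat_lit 5, nat_lit 4, nat_lit 2, nat_lit 4, nat_lit 5, nat_lit 4, nat_lit 2, nat_lit 4, nat_lit 5, nat_lit 4, nat_lit 2, nat_lit 4, nat_lit 5]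
def Wt_833_836 (j : ℕ) : List ℕ := bif Nat.blt j 834 then [nat_lit 63, nat_lit 0, nat_lit 4, nat_lit 0, nat_lit 4, nat_lit 3, nat_lit 1, nat_lit 4, nat_lit 2, nat_lit 1, nat_lit 2, nat_lit 4, nat_lit 1, nat_lit 3, nat_lit 4, nat_lit 0, nat_lit 4, nat_lit 2] else (Wt_834_836 j)
def Wt_837_839 (j : ℕ) : List ℕ := bif Nat.blt j 838 then [nat_lit 63, nat_lit 0, nat_lit 4, nat_lit 1, nat_lit 5, nat_lit 4, nat_lit 1, nat_lit 0, nat_lit 4, nat_lit 2, nat_lit 0, nat_lit 4, nat_lit 1, nat_lit 5, nat_lit 4, nat_lit 1, nat_lit 0, nat_lit 4, nat_lit 2, nat_lit 0, nat_lit 4, nat_lit 1, nat_lit 5, nat_lit 4, nat_lit 1, nat_lit 0, nat_lit 4, nat_lit 2, nat_lit 0, nat_lit 4, nat_lit 1, nat_lit 5, nat_lit 4, nat_lit 1, nat_lit 0, nat_lit 4, nat_lit 2, nat_lit 0, nat_lit 4, nat_lit 1, nat_lit 5, nat_lit 4, nat_lit 1, nat_lit 0, nat_lit 4, nat_lit 2] else [nat_lit 4, nat_lit 1, nat_lit 5,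 nat_lit 4, nat_lit 1, nat_lit 2, nat_lit 1, nat_lit 4, nat_lit 1, nat_lit 5, nat_lit 4, nat_lit 1, nat_lit 2, nat_lit 1, nat_lit 4, nat_lit 1, nat_lit 5, nat_lit 4, nat_lit 1, nat_lit 2, nat_lit 1]
def Wt_836_839 (j : ℕ) : List ℕ := bif Nat.blt j 837 then [nat_lit 63, nat_lit 4, nat_lit 3, nat_lit 4, nat_lit 3, nat_lit 4, nat_lit 2, nat_lit 5, nat_lit 4, nat_lit 3, nat_lit 4, nat_lit 3, nat_lit 4, nat_lit 2, nat_lit 5, nat_lit 4, nat_lit 3, nat_lit 4, nat_lit 3, nat_lit 4, nat_lit 2, nat_lit 5, nat_lit 4, nat_lit 3, nat_lit 4, nat_lit 3, nat_lit 4, nat_lit 2, nat_lit 5, nat_lit 4, nat_lit 3, nat_lit 4, nat_lit 3, nat_lit 4, nat_lit 2, nat_lit 5] else (Wt_837_839 j)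
def Wt_833_839 (j : ℕ) : List ℕ := bif Nat.blt j 836 then (Wt_833_836 j) else (Wt_836_839 j)
def Wt_827_839 (j : ℕ) : List ℕ := bif Nat.blt j 833 then (Wt_827_833 j) else (Wt_833_839 j)
def Wt_840_842 (j : ℕ) : List ℕ := bif Nat.blt j 841 then [nat_lit 63, nat_lit 1, nat_lit 3, nat_lit 2, nat_lit 1, nat_lit 4, nat_lit 0, nat_lit 1, nat_lit 0, nat_lit 4, nat_lit 1, nat_lit 4, nat_lit 3, nat_lit 2, nat_lit 4, nat_lit 3, nat_lit 4, nat_lit 0] else [nat_lit 4, nat_lit 0, nat_lit 4, nat_lit 3, nat_lit 1, nat_lit 4, nat_lit 2, nat_lit 1, nat_lit 2, nat_lit 4, nat_lit 1, nat_lit 3, nat_lit 4, nat_lit 0, nat_lit 4, nat_lit 2, nat_lit 0]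
def Wt_839_842 (j : ℕ) : List ℕ := bif Nat.blt j 840 then [nat_lit 63, nat_lit 2, nat_lit 4, nat_lit 1, nat_lit 5, nat_lit 4, nat_lit 3, nat_lit 2, nat_lit 4, nat_lit 1, nat_lit 5, nat_lit 4, nat_lit 3, nat_lit 2, nat_lit 4, nat_lit 1, nat_lit 5, nat_lit 4, nat_lit 3, nat_lit 2, nat_lit 4, nat_lit 1, nat_lit 5, nat_lit 4, nat_lit 3] else (Wt_840_842 j)
def Wt_843_845 (j : ℕ) : List ℕ := bif Nat.blt j 844 then [nat_lit 63, nat_lit 0, nat_lit 4, nat_lit 2, nat_lit 1, nat_lit 5, nat_lit 2, nat_lit 4, nat_lit 3, nat_lit 4, nat_lit 0, nat_lit 4, nat_lit 2, nat_lit 1, nat_lit 5, nat_lit 2, nat_lit 4, nat_lit 3, nat_lit 4, nat_lit 0, nat_lit 4, nat_lit 2, nat_lit 1, nat_lit 5, nat_lit 2, nat_lit 4, nat_lit 3, nat_lit 4] else [nat_lit 0, nat_lit 4, nat_lit 3, nat_lit 4, nat_lit 2, nat_lit 5, nat_lit 1, nat_lit 2, nat_lit 4, nat_lit 0, nat_lit 4, nat_lit 3, nat_lit 4, nat_lit 2,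 nat_lit 5, nat_lit 1, nat_lit 2, nat_lit 4, nat_lit 0, nat_lit 4, nat_lit 3, nat_lit 4, nat_lit 2, nat_lit 5, nat_lit 1, nat_lit 2, nat_lit 4]
def Wt_842_845 (j : ℕ) : List ℕ := bif Nat.blt j 843 then [nat_lit 63, nat_lit 4, nat_lit 3, nat_lit 0, nat_lit 5, nat_lit 3, nat_lit 4, nat_lit 3, nat_lit 0, nat_lit 5, nat_lit 3, nat_lit 4, nat_lit 3, nat_lit 0, nat_lit 5, nat_lit 3, nat_lit 4, nat_lit 3, nat_lit 0, nat_lit 5, nat_lit 3, nat_lit 4, nat_lit 3, nat_lit 0, nat_lit 5, nat_lit 3] else (Wt_843_845 j)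
def Wt_839_845 (j : ℕ) : List ℕ := bif Nat.blt j 842 then (Wt_839_842 j) else (Wt_842_845 j)
def Wt_846_848 (j : ℕ) : List ℕ := bif Nat.blt j 847 then [nat_lit 63, nat_lit 2, nat_lit 4, nat_lit 3, nat_lit 1, nat_lit 3, nat_lit 1, nat_lit 3, nat_lit 1, nat_lit 3, nat_lit 4, nat_lit 2, nat_lit 1, nat_lit 4, nat_lit 3, nat_lit 4, nat_lit 1] else [nat_lit 4, nat_lit 0, nat_lit 1, nat_lit 4, nat_lit 1, nat_lit 5, nat_lit 4, nat_lit 2, nat_lit 0, nat_lit 4, nat_lit 0, nat_lit 1, nat_lit 4, nat_lit 1, nat_lit 5, nat_lit 4, nat_lit 2, nat_lit 0, nat_lit 4, nat_lit 0, nat_lit 1, nat_lit 4, nat_lit 1, nat_lit 5, nat_lit 4, nat_lit 2, nat_lit 0, nat_lit 4, nat_lit 0, nat_lit 1, nat_lit 4, nat_lit 1, nat_lit 5, nat_lit 4, nat_lit 2, nat_lit 0, nat_lit 4, nat_lit 0, nat_lit 1, nat_lit 4, nat_lit 1, nat_lit 5, nat_lit 4, nat_lit 2, nat_lit 0]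
def Wt_845_848 (j : ℕ) : List ℕ := bif Nat.blt j 846 then [nat_lit 63, nat_lit 5, nat_lit 2, nat_lit 3, nat_lit 5, nat_lit 3] else (Wt_846_848 j)
def Wt_849_851 (j : ℕ) : List ℕ := bif Nat.blt j 850 then [nat_lit 63, nat_lit 1, nat_lit 4, nat_lit 2, nat_lit 5, nat_lit 4, nat_lit 1, nat_lit 4, nat_lit 2, nat_lit 5, nat_lit 4, nat_lit 1, nat_lit 4, nat_lit 2, nat_lit 5, nat_lit 4] else [nat_lit 63, nat_lit 4, nat_lit 0, nat_lit 1, nat_lit 0, nat_lit 4, nat_lit 1, nat_lit 2, nat_lit 3, nat_lit 1, nat_lit 0, nat_lit 4, nat_lit 3, nat_lit 4, nat_lit 2, nat_lit 3, nat_lit 4, nat_lit 1]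
def Wt_848_851 (j : ℕ) : List ℕ := bif Nat.blt j 849 then [nat_lit 63, nat_lit 4, nat_lit 1, nat_lit 0, nat_lit 2, nat_lit 1, nat_lit 0, nat_lit 1, nat_lit 3, nat_lit 4, nat_lit 0, nat_lit 1, nat_lit 4, nat_lit 1, nat_lit 3, nat_lit 4, nat_lit 1, nat_lit 0] else (Wt_849_851 j)
def Wt_845_851 (j : ℕ) : List ℕ := bif Nat.blt j 848 then (Wt_845_848 j) else (Wt_848_851 j)
def Wt_839_851 (j : ℕ) : List ℕ := bif Nat.blt j 845 then (Wt_839_845 j) else (Wt_845_851 j)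
def Wt_827_851 (j : ℕ) : List ℕ := bif Nat.blt j 839 then (Wt_827_839 j) else (Wt_839_851 j)
def Wt_852_854 (j : ℕ) : List ℕ := bif Nat.blt j 853 then [nat_lit 63, nat_lit 0, nat_lit 5, nat_lit 4, nat_lit 1, nat_lit 4, nat_lit 0, nat_lit 5, nat_lit 4, nat_lit 1, nat_lit 4, nat_lit 0, nat_lit 5, nat_lit 4, nat_lit 1, nat_lit 4, nat_lit 0, nat_lit 5, nat_lit 4, nat_lit 1, nat_lit 4] else [nat_lit 63, nat_lit 4, nat_lit 1, nat_lit 2, nat_lit 4, nat_lit 1, nat_lit 4, nat_lit 2, nat_lit 0, nat_lit 2, nat_lit 4, nat_lit 1, nat_lit 4, nat_lit 2, nat_lit 1, nat_lit 4, nat_lit 1]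
def Wt_851_854 (j : ℕ) : List ℕ := bif Nat.blt j 852 then [nat_lit 0, nat_lit 5, nat_lit 3, nat_lit 4, nat_lit 3, nat_lit 0, nat_lit 5, nat_lit 3, nat_lit 4, nat_lit 3, nat_lit 0, nat_lit 5, nat_lit 3, nat_lit 4, nat_lit 3, nat_lit 0, nat_lit 5, nat_lit 3, nat_lit 4, nat_lit 3, nat_lit 0, nat_lit 5, nat_lit 3, nat_lit 4, nat_lit 3] else (Wt_852_854 j)
def Wt_855_857 (j : ℕ) : List ℕ := bif Nat.blt j 856 then [nat_lit 1, nat_lit 4, nat_lit 1, nat_lit 5, nat_lit 4, nat_lit 1, nat_lit 2, nat_lit 1, nat_lit 4, nat_lit 1, nat_lit 5, nat_lit 4, nat_lit 1, nat_lit 2, nat_lit 1, nat_lit 4, nat_lit 1, nat_lit 5, nat_lit 4, nat_lit 1, nat_lit 2] else [nat_lit 63, nat_lit 3, nat_lit 5, nat_lit 4, nat_lit 0, nat_lit 4, nat_lit 3, nat_lit 0, nat_lit 3, nat_lit 5, nat_lit 4, nat_lit 0, nat_lit 4, nat_lit 3, nat_lit 0, nat_lit 3, nat_lit 5, nat_lit 4, nat_lit 0, nat_lit 4, nat_lit 3,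 nat_lit 0, nat_lit 3, nat_lit 5, nat_lit 4, nat_lit 0, nat_lit 4, nat_lit 3, nat_lit 0, nat_lit 3, nat_lit 5, nat_lit 4, nat_lit 0, nat_lit 4, nat_lit 3, nat_lit 0]
def Wt_854_857 (j : ℕ) : List ℕ := bif Nat.blt j 855 then [nat_lit 1, nat_lit 4, nat_lit 2, nat_lit 0, nat_lit 4, nat_lit 1, nat_lit 4, nat_lit 0, nat_lit 2, nat_lit 4, nat_lit 1, nat_lit 4, nat_lit 2, nat_lit 0, nat_lit 4] else (Wt_855_857 j)
def Wt_851_857 (j : ℕ) : List ℕ := bif Nat.blt j 854 then (Wt_851_854 j) else (Wt_854_857 j)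
def Wt_858_860 (j : ℕ) : List ℕ := bif Nat.blt j 859 then [nat_lit 63, nat_lit 3, nat_lit 4, nat_lit 2, nat_lit 1, nat_lit 4, nat_lit 3, nat_lit 4, nat_lit 1, nat_lit 2, nat_lit 4, nat_lit 3, nat_lit 1, nat_lit 3, nat_lit 1, nat_lit 3, nat_lit 1] else [nat_lit 63, nat_lit 3, nat_lit 4, nat_lit 0, nat_lit 4, nat_lit 2, nat_lit 0, nat_lit 4, nat_lit 0, nat_lit 4, nat_lit 3, nat_lit 1, nat_lit 4, nat_lit 2, nat_lit 1, nat_lit 2, nat_lit 4, nat_lit 1]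
def Wt_857_860 (j : ℕ) : List ℕ := bif Nat.blt j 858 then [nat_lit 63, nat_lit 2, nat_lit 5, nat_lit 1, nat_lit 2, nat_lit 4, nat_lit 2, nat_lit 5, nat_lit 1, nat_lit 2, nat_lit 4, nat_lit 2, nat_lit 5, nat_lit 1, nat_lit 2, nat_lit 4, nat_lit 2, nat_lit 5, nat_lit 1, nat_lit 2, nat_lit 4, nat_lit 2, nat_lit 5, nat_lit 1, nat_lit 2, nat_lit 4, nat_lit 2, nat_lit 5, nat_lit 1, nat_lit 2, nat_lit 4] else (Wt_858_860 j)
def Wt_861_863 (j : ℕ) : List ℕ := bif Nat.blt j 862 then [nat_lit 63, nat_lit 4, nat_lit 3, nat_lit 0, nat_lit 3, nat_lit 5, nat_lit 4, nat_lit 0, nat_lit 4, nat_lit 3, nat_lit 0, nat_lit 3, nat_lit 5, nat_lit 4, nat_lit 0, nat_lit 4, nat_lit 3, nat_lit 0, nat_lit 3, nat_lit 5, nat_lit 4, nat_lit 0, nat_lit 4, nat_lit 3, nat_lit 0, nat_lit 3, nat_lit 5, nat_lit 4, nat_lit 0, nat_lit 4, nat_lit 3, nat_lit 0, nat_lit 3, nat_lit 5, nat_lit 4, nat_lit 0] else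 [nat_lit 63, nat_lit 0, nat_lit 4, nat_lit 1, nat_lit 4, nat_lit 2, nat_lit 0, nat_lit 4, nat_lit 1, nat_lit 4, nat_lit 0, nat_lit 2, nat_lit 4, nat_lit 1, nat_lit 4, nat_lit 2]
def Wt_860_863 (j : ℕ) : List ℕ := bif Nat.blt j 861 then [nat_lit 63, nat_lit 3, nat_lit 2, nat_lit 1, nat_lit 4, nat_lit 0, nat_lit 1, nat_lit 0, nat_lit 4, nat_lit 1, nat_lit 4, nat_lit 3, nat_lit 2, nat_lit 4, nat_lit 3, nat_lit 4, nat_lit 0, nat_lit 1] else (Wt_861_863 j)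
def Wt_857_863 (j : ℕ) : List ℕ := bif Nat.blt j 860 then (Wt_857_860 j) else (Wt_860_863 j)
def Wt_851_863 (j : ℕ) : List ℕ := bif Nat.blt j 857 then (Wt_851_857 j) else (Wt_857_863 j)
def Wt_864_866 (j : ℕ) : List ℕ := bif Nat.blt j 865 then [nat_lit 4, nat_lit 3, nat_lit 4, nat_lit 2, nat_lit 5, nat_lit 1, nat_lit 2, nat_lit 4, nat_lit 0, nat_lit 4, nat_lit 3, nat_lit 4, nat_lit 2, nat_lit 5, nat_lit 1, nat_lit 2, nat_lit 4, nat_lit 0, nat_lit 4, nat_lit 3, nat_lit 4, nat_lit 2, nat_lit 5, nat_lit 1, nat_lit 2, nat_lit 4, nat_lit 0] else [nat_lit 63, nat_lit 4, nat_lit 3, nat_lit 4, nat_lit 3, nat_lit 4, nat_lit 3, nat_lit 4, nat_lit 3, nat_lit 1, nat_lit 4, nat_lit 1, nat_lit 4, nat_lit 1, nat_lit 4, nat_lit 1]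
def Wt_863_866 (j : ℕ) : List ℕ := bif Nat.blt j 864 then [nat_lit 5, nat_lit 0, nat_lit 4, nat_lit 1, nat_lit 4, nat_lit 5, nat_lit 0, nat_lit 4, nat_lit 1, nat_lit 4, nat_lit 5, nat_lit 0, nat_lit 4, nat_lit 1, nat_lit 4, nat_lit 5, nat_lit 0, nat_lit 4, nat_lit 1, nat_lit 4] else (Wt_864_866 j)
def Wt_867_869 (j : ℕ) : List ℕ := bif Nat.blt j 868 then [nat_lit 63, nat_lit 4, nat_lit 2, nat_lit 1, nat_lit 4, nat_lit 1, nat_lit 4, nat_lit 2, nat_lit 4, nat_lit 3, nat_lit 4, nat_lit 2, nat_lit 1, nat_lit 4, nat_lit 1, nat_lit 2, nat_lit 4, nat_lit 2] else [nat_lit 2, nat_lit 0, nat_lit 4, nat_lit 1, nat_lit 5, nat_lit 4, nat_lit 1, nat_lit 0, nat_lit 4, nat_lit 2, nat_lit 0, nat_lit 4, nat_lit 1, nat_lit 5, nat_lit 4, nat_lit 1, nat_lit 0, nat_lit 4, nat_lit 2, nat_lit 0, nat_lit 4, nat_lit 1, nat_lit 5, nat_lit 4, nat_lit 1, nat_lit 0, nat_lit 4, nat_lit 2, nat_lit 0,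 nat_lit 4, nat_lit 1, nat_lit 5, nat_lit 4, nat_lit 1, nat_lit 0, nat_lit 4, nat_lit 2, nat_lit 0, nat_lit 4, nat_lit 1, nat_lit 5, nat_lit 4, nat_lit 1, nat_lit 0, nat_lit 4]
def Wt_866_869 (j : ℕ) : List ℕ := bif Nat.blt j 867 then [nat_lit 63, nat_lit 3, nat_lit 4, nat_lit 3, nat_lit 0, nat_lit 3, nat_lit 1, nat_lit 2, nat_lit 1, nat_lit 4, nat_lit 2, nat_lit 4, nat_lit 3, nat_lit 4, nat_lit 2, nat_lit 4, nat_lit 2, nat_lit 4] else (Wt_867_869 j)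
def Wt_863_869 (j : ℕ) : List ℕ := bif Nat.blt j 866 then (Wt_863_866 j) else (Wt_866_869 j)
def Wt_870_872 (j : ℕ) : List ℕ := bif Nat.blt j 871 then [nat_lit 63, nat_lit 4, nat_lit 0, nat_lit 2, nat_lit 4, nat_lit 3, nat_lit 2, nat_lit 3, nat_lit 0, nat_lit 4, nat_lit 2, nat_lit 0, nat_lit 4, nat_lit 2, nat_lit 0, nat_lit 4, nat_lit 0, nat_lit 2] else [nat_lit 4, nat_lit 0, nat_lit 2, nat_lit 4, nat_lit 0, nat_lit 2, nat_lit 4, nat_lit 0, nat_lit 3, nat_lit 2, nat_lit 3, nat_lit 4, nat_lit 2, nat_lit 0, nat_lit 4, nat_lit 2, nat_lit 0]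
def Wt_869_872 (j : ℕ) : List ℕ := bif Nat.blt j 870 then [nat_lit 0, nat_lit 2, nat_lit 4, nat_lit 5, nat_lit 1, nat_lit 4, nat_lit 1, nat_lit 0, nat_lit 4, nat_lit 0, nat_lit 2, nat_lit 4, nat_lit 5, nat_lit 1, nat_lit 4, nat_lit 1, nat_lit 0, nat_lit 4, nat_lit 0, nat_lit 2, nat_lit 4, nat_lit 5, nat_lit 1, nat_lit 4, nat_lit 1, nat_lit 0, nat_lit 4, nat_lit 0, nat_lit 2, nat_lit 4, nat_lit 5, nat_lit 1, nat_lit 4, nat_lit 1, nat_lit 0, nat_lit 4, nat_lit 0, nat_lit 2, nat_lit 4, nat_lit 5, nat_lit 1, nat_lit 4, nat_lit 1, nat_lit 0, nat_lit 4] else (Wt_870_872 j)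
def Wt_872_874 (j : ℕ) : List ℕ := bif Nat.blt j 873 then [nat_lit 4, nat_lit 2, nat_lit 4, nat_lit 1, nat_lit 2, nat_lit 1, nat_lit 3, nat_lit 0, nat_lit 3, nat_lit 4, nat_lit 3, nat_lit 4, nat_lit 2, nat_lit 4, nat_lit 2, nat_lit 4, nat_lit 3] else [nat_lit 63, nat_lit 4, nat_lit 1, nat_lit 4, nat_lit 1, nat_lit 4, nat_lit 1, nat_lit 3, nat_lit 4, nat_lit 3, nat_lit 4, nat_lit 3, nat_lit 4, nat_lit 3, nat_lit 4, nat_lit 1]
def Wt_874_876 (j : ℕ) : List ℕ := bif Nat.blt j 875 then [nat_lit 63, nat_lit 2, nat_lit 0, nat_lit 4, nat_lit 0, nat_lit 4, nat_lit 3, nat_lit 1, nat_lit 4, nat_lit 2, nat_lit 1, nat_lit 2, nat_lit 4, nat_lit 1, nat_lit 3, nat_lit 4, nat_lit 0, nat_lit 4] else [nat_lit 63, nat_lit 2, nat_lit 1, nat_lit 3, nat_lit 0, nat_lit 3, nat_lit 4, nat_lit 2, nat_lit 4, nat_lit 3, nat_lit 4, nat_lit 2, nat_lit 4, nat_lit 2, nat_lit 4, nat_lit 3, nat_lit 4, nat_lit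 1]
def Wt_872_876 (j : ℕ) : List ℕ := bif Nat.blt j 874 then (Wt_872_874 j) else (Wt_874_876 j)
def Wt_869_876 (j : ℕ) : List ℕ := bif Nat.blt j 872 then (Wt_869_872 j) else (Wt_872_876 j)
def Wt_863_876 (j : ℕ) : List ℕ := bif Nat.blt j 869 then (Wt_863_869 j) else (Wt_869_876 j)
def Wt_851_876 (j : ℕ) : List ℕ := bif Nat.blt j 863 then (Wt_851_863 j) else (Wt_863_876 j)
def Wt_827_876 (j : ℕ) : List ℕ := bif Nat.blt j 851 then (Wt_827_851 j) else (Wt_851_876 j)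
def Wt_779_876 (j : ℕ) : List ℕ := bif Nat.blt j 827 then (Wt_779_827 j) else (Wt_827_876 j)
def Wt_877_879 (j : ℕ) : List ℕ := bif Nat.blt j 878 then [nat_lit 63, nat_lit 4, nat_lit 5, nat_lit 3, nat_lit 0, nat_lit 3, nat_lit 4, nat_lit 0, nat_lit 4, nat_lit 5, nat_lit 3, nat_lit 0, nat_lit 3, nat_lit 4, nat_lit 0, nat_lit 4, nat_lit 5, nat_lit 3, nat_lit 0, nat_lit 3, nat_lit 4, nat_lit 0, nat_lit 4, nat_lit 5, nat_lit 3, nat_lit 0, nat_lit 3, nat_lit 4, nat_lit 0, nat_lit 4, nat_lit 5, nat_lit 3, nat_lit 0, nat_lit 3, nat_lit 4, nat_lit 0] else [nat_lit 63, nat_lit 1, nat_lit 5, nat_lit 0, nat_lit 1, nat_lit 0, nat_lit 1, nat_lit 4, nat_lit 1, nat_lit 5, nat_lit 0, nat_lit 1, nat_lit 0, nat_lit 1, nat_lit 4, nat_lit 1, nat_lit 5, nat_lit 0, nat_lit 1, nat_lit 0, nat_lit 1, nat_lit 4, nat_lit 1, nat_lit 5, nat_lit 0, nat_lit 1, nat_lit 0, nat_lit 1, nat_lit 4]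
def Wt_876_879 (j : ℕ) : List ℕ := bif Nat.blt j 877 then [nat_lit 63, nat_lit 2, nat_lit 1, nat_lit 4, nat_lit 1, nat_lit 2, nat_lit 4, nat_lit 3, nat_lit 4, nat_lit 2, nat_lit 4, nat_lit 1, nat_lit 4, nat_lit 1, nat_lit 2, nat_lit 4, nat_lit 2, nat_lit 4] else (Wt_877_879 j)
def Wt_880_882 (j : ℕ) : List ℕ := bif Nat.blt j 881 then [nat_lit 63, nat_lit 2, nat_lit 3, nat_lit 4, nat_lit 1, nat_lit 0, nat_lit 4, nat_lit 1, nat_lit 2, nat_lit 1, nat_lit 4, nat_lit 1, nat_lit 2, nat_lit 1, nat_lit 4, nat_lit 0, nat_lit 1, nat_lit 4] else [nat_lit 63, nat_lit 1, nat_lit 2, nat_lit 4, nat_lit 0, nat_lit 4, nat_lit 3, nat_lit 4, nat_lit 2, nat_lit 5, nat_lit 1, nat_lit 2, nat_lit 4, nat_lit 0, nat_lit 4, nat_lit 3, nat_lit 4, nat_lit 2, nat_lit 5, nat_lit 1, nat_lit 2, nat_lit 4, nat_lit 0, nat_lit 4, nat_lit 3, nat_lit 4, nat_lit 2, nat_lit 5]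
def Wt_879_882 (j : ℕ) : List ℕ := bif Nat.blt j 880 then [nat_lit 63, nat_lit 1, nat_lit 3, nat_lit 4, nat_lit 0, nat_lit 4, nat_lit 2, nat_lit 0, nat_lit 4, nat_lit 0, nat_lit 4, nat_lit 3, nat_lit 1, nat_lit 4, nat_lit 2, nat_lit 1, nat_lit 2, nat_lit 4] else (Wt_880_882 j)
def Wt_876_882 (j : ℕ) : List ℕ := bif Nat.blt j 879 then (Wt_876_879 j) else (Wt_879_882 j)
def Wt_883_885 (j : ℕ) : List ℕ := bif Nat.blt j 884 then [nat_lit 0, nat_lit 1, nat_lit 0, nat_lit 5, nat_lit 1, nat_lit 4, nat_lit 1, nat_lit 0, nat_lit 1, nat_lit 0, nat_lit 5, nat_lit 1, nat_lit 4, nat_lit 1, nat_lit 0, nat_lit 1, nat_lit 0, nat_lit 5, nat_lit 1, nat_lit 4, nat_lit 1, nat_lit 0, nat_lit 1, nat_lit 0, nat_lit 5, nat_lit 1, nat_lit 4, nat_lit 1] else [nat_lit 63, nat_lit 4, nat_lit 1, nat_lit 2, nat_lit 4, nat_lit 1, nat_lit 4, nat_lit 0, nat_lit 4, nat_lit 1, nat_lit 4, nat_lit 1, nat_lit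 3, nat_lit 0, nat_lit 2, nat_lit 3, nat_lit 4, nat_lit 1]
def Wt_882_885 (j : ℕ) : List ℕ := bif Nat.blt j 883 then [nat_lit 63, nat_lit 1, nat_lit 5, nat_lit 2, nat_lit 4, nat_lit 3, nat_lit 4, nat_lit 0, nat_lit 4, nat_lit 2, nat_lit 1, nat_lit 5, nat_lit 2, nat_lit 4, nat_lit 3, nat_lit 4, nat_lit 0, nat_lit 4, nat_lit 2, nat_lit 1, nat_lit 5, nat_lit 2, nat_lit 4, nat_lit 3, nat_lit 4, nat_lit 0, nat_lit 4, nat_lit 2] else (Wt_883_885 j)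
def Wt_886_888 (j : ℕ) : List ℕ := bif Nat.blt j 887 then [nat_lit 1, nat_lit 4, nat_lit 5, nat_lit 2, nat_lit 4, nat_lit 1, nat_lit 4, nat_lit 5, nat_lit 2, nat_lit 4, nat_lit 1, nat_lit 4, nat_lit 5, nat_lit 2, nat_lit 4] else [nat_lit 63, nat_lit 1, nat_lit 4, nat_lit 0, nat_lit 5, nat_lit 4, nat_lit 1, nat_lit 4, nat_lit 0, nat_lit 5, nat_lit 4, nat_lit 1, nat_lit 4, nat_lit 0, nat_lit 5, nat_lit 4, nat_lit 1, nat_lit 4, nat_lit 0, nat_lit 5, nat_lit 4]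
def Wt_885_888 (j : ℕ) : List ℕ := bif Nat.blt j 886 then [nat_lit 63, nat_lit 2, nat_lit 4, nat_lit 2, nat_lit 1, nat_lit 4, nat_lit 1, nat_lit 2, nat_lit 4, nat_lit 3, nat_lit 4, nat_lit 2, nat_lit 4, nat_lit 1, nat_lit 4, nat_lit 1, nat_lit 2, nat_lit 4] else (Wt_886_888 j)
def Wt_882_888 (j : ℕ) : List ℕ := bif Nat.blt j 885 then (Wt_882_885 j) else (Wt_885_888 j)
def Wt_876_888 (j : ℕ) : List ℕ := bif Nat.blt j 882 then (Wt_876_882 j) else (Wt_882_888 j)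
def Wt_889_891 (j : ℕ) : List ℕ := bif Nat.blt j 890 then [nat_lit 63, nat_lit 0, nat_lit 4, nat_lit 5, nat_lit 0, nat_lit 1, nat_lit 4, nat_lit 3, nat_lit 4, nat_lit 0, nat_lit 4, nat_lit 5, nat_lit 0, nat_lit 1, nat_lit 4, nat_lit 3, nat_lit 4, nat_lit 0, nat_lit 4, nat_lit 5, nat_lit 0, nat_lit 1, nat_lit 4, nat_lit 3, nat_lit 4, nat_lit 0, nat_lit 4, nat_lit 5, nat_lit 0, nat_lit 1, nat_lit 4, nat_lit 3, nat_lit 4, nat_lit 0, nat_lit 4, nat_lit 5, nat_lit 0, nat_lit 1, nat_lit 4, nat_lit 3, nat_lit 4] else [nat_lit 63, nat_lit 4, nat_lit 2, nat_lit 5, nat_lit 1, nat_lit 2, nat_lit 4, nat_lit 0, nat_lit 4, nat_lit 3, nat_lit 4, nat_lit 2, nat_lit 5, nat_lit 1, nat_lit 2, nat_lit 4, nat_lit 0, nat_lit 4, nat_lit 3, nat_lit 4, nat_lit 2, nat_lit 5, nat_lit 1, nat_lit 2, nat_lit 4, nat_lit 0, nat_lit 4, nat_lit 3]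
def Wt_888_891 (j : ℕ) : List ℕ := bif Nat.blt j 889 then [nat_lit 4, nat_lit 3, nat_lit 2, nat_lit 4, nat_lit 1, nat_lit 5, nat_lit 4, nat_lit 3, nat_lit 2, nat_lit 4, nat_lit 1, nat_lit 5, nat_lit 4, nat_lit 3, nat_lit 2, nat_lit 4, nat_lit 1, nat_lit 5, nat_lit 4, nat_lit 3, nat_lit 2, nat_lit 4, nat_lit 1, nat_lit 5] else (Wt_889_891 j)
def Wt_892_894 (j : ℕ) : List ℕ := bif Nat.blt j 893 then [nat_lit 63, nat_lit 4, nat_lit 0, nat_lit 4, nat_lit 3, nat_lit 0, nat_lit 3, nat_lit 5, nat_lit 4, nat_lit 0, nat_lit 4, nat_lit 3, nat_lit 0, nat_lit 3, nat_lit 5, nat_lit 4, nat_lit 0, nat_lit 4, nat_lit 3, nat_lit 0, nat_lit 3, nat_lit 5, nat_lit 4, nat_lit 0, nat_lit 4, nat_lit 3, nat_lit 0, nat_lit 3, nat_lit 5, nat_lit 4, nat_lit 0, nat_lit 4, nat_lit 3, nat_lit 0, nat_lit 3, nat_lit 5] else [nat_lit 4, nat_lit 1, nat_lit 2, nat_lit 1, nat_lit 4, nat_lit 1, nat_lit 2,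 nat_lit 1, nat_lit 4, nat_lit 0, nat_lit 1, nat_lit 4, nat_lit 3, nat_lit 2, nat_lit 4, nat_lit 1, nat_lit 0]
def Wt_891_894 (j : ℕ) : List ℕ := bif Nat.blt j 892 then [nat_lit 63, nat_lit 0, nat_lit 4, nat_lit 2, nat_lit 0, nat_lit 4, nat_lit 0, nat_lit 2, nat_lit 4, nat_lit 0, nat_lit 2, nat_lit 4, nat_lit 3, nat_lit 2, nat_lit 3, nat_lit 0, nat_lit 4, nat_lit 2] else (Wt_892_894 j)
def Wt_888_894 (j : ℕ) : List ℕ := bif Nat.blt j 891 then (Wt_888_891 j) else (Wt_891_894 j)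
def Wt_895_897 (j : ℕ) : List ℕ := bif Nat.blt j 896 then [nat_lit 63, nat_lit 1, nat_lit 0, nat_lit 1, nat_lit 4, nat_lit 1, nat_lit 5, nat_lit 0, nat_lit 1, nat_lit 0, nat_lit 1, nat_lit 4, nat_lit 1, nat_lit 5, nat_lit 0, nat_lit 1, nat_lit 0, nat_lit 1, nat_lit 4, nat_lit 1, nat_lit 5, nat_lit 0, nat_lit 1, nat_lit 0, nat_lit 1, nat_lit 4, nat_lit 1, nat_lit 5, nat_lit 0] else [nat_lit 63, nat_lit 3, nat_lit 4, nat_lit 3, nat_lit 4, nat_lit 2, nat_lit 4, nat_lit 2, nat_lit 4, nat_lit 3, nat_lit 4, nat_lit 2, nat_lit 4, nat_lit 1, nat_lit 2, nat_lit 1, nat_lit 3, nat_lit 0]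
def Wt_894_897 (j : ℕ) : List ℕ := bif Nat.blt j 895 then [nat_lit 63, nat_lit 2, nat_lit 5, nat_lit 1, nat_lit 2, nat_lit 4, nat_lit 0, nat_lit 4, nat_lit 3, nat_lit 4, nat_lit 2, nat_lit 5, nat_lit 1, nat_lit 2, nat_lit 4, nat_lit 0, nat_lit 4, nat_lit 3, nat_lit 4, nat_lit 2, nat_lit 5, nat_lit 1, nat_lit 2, nat_lit 4, nat_lit 0, nat_lit 4, nat_lit 3, nat_lit 4] else (Wt_895_897 j)
def Wt_898_900 (j : ℕ) : List ℕ := bif Nat.blt j 899 then [nat_lit 0, nat_lit 5, nat_lit 4, nat_lit 1, nat_lit 4, nat_lit 0, nat_lit 5, nat_lit 4, nat_lit 1, nat_lit 4, nat_lit 0, nat_lit 5, nat_lit 4, nat_lit 1, nat_lit 4, nat_lit 0, nat_lit 5, nat_lit 4, nat_lit 1, nat_lit 4] else [nat_lit 63, nat_lit 1, nat_lit 5, nat_lit 4, nat_lit 3, nat_lit 2, nat_lit 4, nat_lit 1, nat_lit 5, nat_lit 4, nat_lit 3, nat_lit 2, nat_lit 4, nat_lit 1, nat_lit 5, nat_lit 4, nat_lit 3, nat_lit 2, nat_lit 4,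 nat_lit 1, nat_lit 5, nat_lit 4, nat_lit 3, nat_lit 2, nat_lit 4]
def Wt_897_900 (j : ℕ) : List ℕ := bif Nat.blt j 898 then [nat_lit 63, nat_lit 2, nat_lit 1, nat_lit 3, nat_lit 0, nat_lit 3, nat_lit 4, nat_lit 3, nat_lit 4, nat_lit 2, nat_lit 4, nat_lit 2, nat_lit 4, nat_lit 3, nat_lit 4, nat_lit 2, nat_lit 4, nat_lit 1] else (Wt_898_900 j)
def Wt_894_900 (j : ℕ) : List ℕ := bif Nat.blt j 897 then (Wt_894_897 j) else (Wt_897_900 j)
def Wt_888_900 (j : ℕ) : List ℕ := bif Nat.blt j 894 then (Wt_888_894 j) else (Wt_894_900 j)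
def Wt_876_900 (j : ℕ) : List ℕ := bif Nat.blt j 888 then (Wt_876_888 j) else (Wt_888_900 j)
def Wt_901_903 (j : ℕ) : List ℕ := bif Nat.blt j 902 then [nat_lit 63, nat_lit 0, nat_lit 3, nat_lit 4, nat_lit 0, nat_lit 3, nat_lit 0, nat_lit 4, nat_lit 3, nat_lit 0, nat_lit 4, nat_lit 3, nat_lit 4, nat_lit 2, nat_lit 3, nat_lit 4, nat_lit 3, nat_lit 4] else [nat_lit 5, nat_lit 0, nat_lit 3, nat_lit 4, nat_lit 3, nat_lit 5, nat_lit 0, nat_lit 3, nat_lit 4, nat_lit 3, nat_lit 5, nat_lit 0, nat_lit 3, nat_lit 4, nat_lit 3, nat_lit 5, nat_lit 0, nat_lit 3, nat_lit 4, nat_lit 3, nat_lit 5, nat_lit 0, nat_lit 3, nat_lit 4, nat_lit 3]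
def Wt_900_903 (j : ℕ) : List ℕ := bif Nat.blt j 901 then [nat_lit 63, nat_lit 4, nat_lit 1, nat_lit 0, nat_lit 1, nat_lit 0, nat_lit 5, nat_lit 1, nat_lit 4, nat_lit 1, nat_lit 0, nat_lit 1, nat_lit 0, nat_lit 5, nat_lit 1, nat_lit 4, nat_lit 1, nat_lit 0, nat_lit 1, nat_lit 0, nat_lit 5, nat_lit 1, nat_lit 4, nat_lit 1, nat_lit 0, nat_lit 1, nat_lit 0, nat_lit 5, nat_lit 1] else (Wt_901_903 j)
def Wt_904_906 (j : ℕ) : List ℕ := bif Nat.blt j 905 then [nat_lit 63, nat_lit 1, nat_lit 0, nat_lit 4, nat_lit 3, nat_lit 1, nat_lit 0, nat_lit 1, nat_lit 2, nat_lit 0, nat_lit 1, nat_lit 4, nat_lit 0, nat_lit 1, nat_lit 4, nat_lit 3, nat_lit 1, nat_lit 4] else [nat_lit 3, nat_lit 1, nat_lit 3, nat_lit 1, nat_lit 3, nat_lit 4, nat_lit 2, nat_lit 1, nat_lit 4, nat_lit 3, nat_lit 4, nat_lit 1, nat_lit 2, nat_lit 4, nat_lit 3, nat_lit 1]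
def Wt_903_906 (j : ℕ) : List ℕ := bif Nat.blt j 904 then [nat_lit 63, nat_lit 4, nat_lit 3, nat_lit 0, nat_lit 1, nat_lit 0, nat_lit 4, nat_lit 1, nat_lit 5, nat_lit 4, nat_lit 3, nat_lit 0, nat_lit 1, nat_lit 0, nat_lit 4, nat_lit 1, nat_lit 5, nat_lit 4, nat_lit 3, nat_lit 0, nat_lit 1, nat_lit 0, nat_lit 4, nat_lit 1, nat_lit 5, nat_lit 4, nat_lit 3, nat_lit 0, nat_lit 1, nat_lit 0, nat_lit 4, nat_lit 1, nat_lit 5, nat_lit 4, nat_lit 3, nat_lit 0, nat_lit 1, nat_lit 0, nat_lit 4, nat_lit 1, nat_lit 5, nat_lit 4, nat_lit 3, nat_lit 0, nat_lit 1, nat_lit 0, nat_lit 4, nat_lit 1, nat_lit 5] else (Wt_904_906 j)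
def Wt_900_906 (j : ℕ) : List ℕ := bif Nat.blt j 903 then (Wt_900_903 j) else (Wt_903_906 j)
def Wt_907_909 (j : ℕ) : List ℕ := bif Nat.blt j 908 then [nat_lit 5, nat_lit 4, nat_lit 0, nat_lit 4, nat_lit 3, nat_lit 0, nat_lit 3, nat_lit 5, nat_lit 4, nat_lit 0, nat_lit 4, nat_lit 3, nat_lit 0, nat_lit 3, nat_lit 5, nat_lit 4, nat_lit 0, nat_lit 4, nat_lit 3, nat_lit 0, nat_lit 3, nat_lit 5, nat_lit 4, nat_lit 0, nat_lit 4, nat_lit 3, nat_lit 0, nat_lit 3, nat_lit 5, nat_lit 4, nat_lit 0, nat_lit 4, nat_lit 3, nat_lit 0, nat_lit 3] else [nat_lit 63, nat_lit 4, nat_lit 0, nat_lit 3, nat_lit 0, nat_lit 4, nat_lit 3, nat_lit 0, nat_lit 4, nat_lit 3, nat_lit 4, nat_lit 2, nat_lit 3, nat_lit 4, nat_lit 3, nat_lit 4, nat_lit 0, nat_lit 3]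
def Wt_906_909 (j : ℕ) : List ℕ := bif Nat.blt j 907 then [nat_lit 4, nat_lit 1, nat_lit 4, nat_lit 2, nat_lit 5, nat_lit 4, nat_lit 1, nat_lit 4, nat_lit 2, nat_lit 5, nat_lit 4, nat_lit 1, nat_lit 4, nat_lit 2, nat_lit 5] else (Wt_907_909 j)
def Wt_910_912 (j : ℕ) : List ℕ := bif Nat.blt j 911 then [nat_lit 4, nat_lit 5, nat_lit 2, nat_lit 4, nat_lit 1, nat_lit 4, nat_lit 5, nat_lit 2, nat_lit 4, nat_lit 1, nat_lit 4, nat_lit 5, nat_lit 2, nat_lit 4, nat_lit 1] else [nat_lit 63, nat_lit 4, nat_lit 3, nat_lit 2, nat_lit 4, nat_lit 1, nat_lit 3, nat_lit 0, nat_lit 3, nat_lit 4, nat_lit 2, nat_lit 3, nat_lit 4, nat_lit 2, nat_lit 4, nat_lit 1, nat_lit 4, nat_lit 2]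
def Wt_909_912 (j : ℕ) : List ℕ := bif Nat.blt j 910 then [nat_lit 63, nat_lit 4, nat_lit 3, nat_lit 5, nat_lit 0, nat_lit 3, nat_lit 4, nat_lit 3, nat_lit 5, nat_lit 0, nat_lit 3, nat_lit 4, nat_lit 3, nat_lit 5, nat_lit 0, nat_lit 3, nat_lit 4, nat_lit 3, nat_lit 5, nat_lit 0, nat_lit 3, nat_lit 4, nat_lit 3, nat_lit 5, nat_lit 0, nat_lit 3] else (Wt_910_912 j)
def Wt_906_912 (j : ℕ) : List ℕ := bif Nat.blt j 909 then (Wt_906_909 j) else (Wt_909_912 j)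
def Wt_900_912 (j : ℕ) : List ℕ := bif Nat.blt j 906 then (Wt_900_906 j) else (Wt_906_912 j)
def Wt_913_915 (j : ℕ) : List ℕ := bif Nat.blt j 914 then [nat_lit 63, nat_lit 4, nat_lit 1, nat_lit 5, nat_lit 4, nat_lit 1, nat_lit 0, nat_lit 4, nat_lit 2, nat_lit 0, nat_lit 4, nat_lit 1, nat_lit 5, nat_lit 4, nat_lit 1, nat_lit 0, nat_lit 4, nat_lit 2, nat_lit 0, nat_lit 4, nat_lit 1, nat_lit 5, nat_lit 4, nat_lit 1, nat_lit 0, nat_lit 4, nat_lit 2, nat_lit 0, nat_lit 4, nat_lit 1, nat_lit 5, nat_lit 4, nat_lit 1, nat_lit 0, nat_lit 4, nat_lit 2, nat_lit 0, nat_lit 4, nat_lit 1, nat_lit 5, nat_lit 4, nat_lit 1, nat_lit 0, nat_lit 4, nat_lit 2, nat_lit 0] else [nat_lit 63, nat_lit 4, nat_lit 3, nat_lit 0, nat_lit 3, nat_lit 1, nat_lit 4, nat_lit 2, nat_lit 3, nat_lit 4, nat_lit 2, nat_lit 4, nat_lit 1, nat_lit 4, nat_lit 2, nat_lit 4, nat_lit 3, nat_lit 2]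
def Wt_912_915 (j : ℕ) : List ℕ := bif Nat.blt j 913 then [nat_lit 63, nat_lit 4, nat_lit 3, nat_lit 4, nat_lit 0, nat_lit 3, nat_lit 4, nat_lit 0, nat_lit 3, nat_lit 0, nat_lit 4, nat_lit 3, nat_lit 0, nat_lit 4, nat_lit 3, nat_lit 4, nat_lit 2, nat_lit 3] else (Wt_913_915 j)
def Wt_916_918 (j : ℕ) : List ℕ := bif Nat.blt j 917 then [nat_lit 63, nat_lit 4, nat_lit 1, nat_lit 2, nat_lit 1, nat_lit 4, nat_lit 0, nat_lit 1, nat_lit 4, nat_lit 3, nat_lit 2, nat_lit 4, nat_lit 1, nat_lit 0, nat_lit 4, nat_lit 1, nat_lit 2, nat_lit 1] else [nat_lit 4, nat_lit 1, nat_lit 0, nat_lit 4, nat_lit 1, nat_lit 2, nat_lit 1, nat_lit 4, nat_lit 1, nat_lit 2, nat_lit 1, nat_lit 4, nat_lit 0, nat_lit 1, nat_lit 4, nat_lit 3, nat_lit 2]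
def Wt_915_918 (j : ℕ) : List ℕ := bif Nat.blt j 916 then [nat_lit 5, nat_lit 4, nat_lit 3, nat_lit 2, nat_lit 4, nat_lit 1, nat_lit 5, nat_lit 4, nat_lit 3, nat_lit 2, nat_lit 4, nat_lit 1, nat_lit 5, nat_lit 4, nat_lit 3, nat_lit 2, nat_lit 4, nat_lit 1, nat_lit 5, nat_lit 4, nat_lit 3, nat_lit 2, nat_lit 4, nat_lit 1] else (Wt_916_918 j)
def Wt_912_918 (j : ℕ) : List ℕ := bif Nat.blt j 915 then (Wt_912_915 j) else (Wt_915_918 j)
def Wt_919_921 (j : ℕ) : List ℕ := bif Nat.blt j 920 then [nat_lit 4, nat_lit 1, nat_lit 2, nat_lit 1, nat_lit 4, nat_lit 1, nat_lit 5, nat_lit 4, nat_lit 1, nat_lit 2, nat_lit 1, nat_lit 4, nat_lit 1, nat_lit 5, nat_lit 4, nat_lit 1, nat_lit 2, nat_lit 1, nat_lit 4, nat_lit 1, nat_lit 5] else [nat_lit 63, nat_lit 3, nat_lit 4, nat_lit 2, nat_lit 5, nat_lit 4, nat_lit 3, nat_lit 4, nat_lit 3, nat_lit 4, nat_lit 2, nat_lit 5, nat_lit 4, nat_lit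 3, nat_lit 4, nat_lit 3, nat_lit 4, nat_lit 2, nat_lit 5, nat_lit 4, nat_lit 3, nat_lit 4, nat_lit 3, nat_lit 4, nat_lit 2, nat_lit 5, nat_lit 4, nat_lit 3, nat_lit 4, nat_lit 3, nat_lit 4, nat_lit 2, nat_lit 5, nat_lit 4, nat_lit 3, nat_lit 4]
def Wt_918_921 (j : ℕ) : List ℕ := bif Nat.blt j 919 then [nat_lit 63, nat_lit 5, nat_lit 4, nat_lit 1, nat_lit 4, nat_lit 0, nat_lit 5, nat_lit 4, nat_lit 1, nat_lit 4, nat_lit 0, nat_lit 5, nat_lit 4, nat_lit 1, nat_lit 4, nat_lit 0, nat_lit 5, nat_lit 4, nat_lit 1, nat_lit 4, nat_lit 0] else (Wt_919_921 j)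
def Wt_922_924 (j : ℕ) : List ℕ := bif Nat.blt j 923 then [nat_lit 1, nat_lit 0, nat_lit 5, nat_lit 1, nat_lit 4, nat_lit 1, nat_lit 0, nat_lit 1, nat_lit 0, nat_lit 5, nat_lit 1, nat_lit 4, nat_lit 1, nat_lit 0, nat_lit 1, nat_lit 0, nat_lit 5, nat_lit 1, nat_lit 4, nat_lit 1, nat_lit 0, nat_lit 1, nat_lit 0, nat_lit 5, nat_lit 1, nat_lit 4, nat_lit 1, nat_lit 0] else [nat_lit 0, nat_lit 1, nat_lit 0, nat_lit 1, nat_lit 4, nat_lit 1, nat_lit 5, nat_lit 0, nat_lit 1, nat_lit 0, nat_lit 1, nat_lit 4, nat_lit 1, nat_lit 5, nat_lit 0, nat_lit 1, nat_lit 0, nat_lit 1, nat_lit 4, nat_lit 1, nat_lit 5, nat_lit 0, nat_lit 1, nat_lit 0, nat_lit 1, nat_lit 4, nat_lit 1, nat_lit 5]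
def Wt_921_924 (j : ℕ) : List ℕ := bif Nat.blt j 922 then [nat_lit 63, nat_lit 2, nat_lit 4, nat_lit 3, nat_lit 4, nat_lit 0, nat_lit 1, nat_lit 3, nat_lit 2, nat_lit 1, nat_lit 4, nat_lit 0, nat_lit 1, nat_lit 0, nat_lit 4, nat_lit 1, nat_lit 4, nat_lit 3] else (Wt_922_924 j)
def Wt_918_924 (j : ℕ) : List ℕ := bif Nat.blt j 921 then (Wt_918_921 j) else (Wt_921_924 j)
def Wt_912_924 (j : ℕ) : List ℕ := bif Nat.blt j 918 then (Wt_912_918 j) else (Wt_918_924 j)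
def Wt_900_924 (j : ℕ) : List ℕ := bif Nat.blt j 912 then (Wt_900_912 j) else (Wt_912_924 j)
def Wt_876_924 (j : ℕ) : List ℕ := bif Nat.blt j 900 then (Wt_876_900 j) else (Wt_900_924 j)
def Wt_925_927 (j : ℕ) : List ℕ := bif Nat.blt j 926 then [nat_lit 4, nat_lit 1, nat_lit 3, nat_lit 0, nat_lit 2, nat_lit 3, nat_lit 4, nat_lit 1, nat_lit 4, nat_lit 1, nat_lit 2, nat_lit 4, nat_lit 1, nat_lit 4, nat_lit 0, nat_lit 4, nat_lit 1] else [nat_lit 63, nat_lit 4, nat_lit 0, nat_lit 2, nat_lit 4, nat_lit 0, nat_lit 2, nat_lit 4, nat_lit 0, nat_lit 3, nat_lit 2, nat_lit 3, nat_lit 4, nat_lit 2, nat_lit 0, nat_lit 4, nat_lit 2, nat_lit 0]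
def Wt_924_927 (j : ℕ) : List ℕ := bif Nat.blt j 925 then [nat_lit 4, nat_lit 1, nat_lit 3, nat_lit 4, nat_lit 3, nat_lit 4, nat_lit 3, nat_lit 4, nat_lit 3, nat_lit 4, nat_lit 1, nat_lit 4, nat_lit 1, nat_lit 4, nat_lit 1] else (Wt_925_927 j)
def Wt_928_930 (j : ℕ) : List ℕ := bif Nat.blt j 929 then [nat_lit 63, nat_lit 4, nat_lit 2, nat_lit 4, nat_lit 2, nat_lit 4, nat_lit 2, nat_lit 4, nat_lit 2, nat_lit 4, nat_lit 2, nat_lit 4, nat_lit 2] else [nat_lit 4, nat_lit 2, nat_lit 3, nat_lit 4, nat_lit 5, nat_lit 1, nat_lit 2, nat_lit 4, nat_lit 2, nat_lit 4, nat_lit 2, nat_lit 3, nat_lit 4, nat_lit 5, nat_lit 1, nat_lit 2, nat_lit 4, nat_lit 2, nat_lit 4, nat_lit 2, nat_lit 3, nat_lit 4, nat_lit 5, nat_lit 1, nat_lit 2, nat_lit 4, nat_lit 2, nat_lit 4, nat_lit 2, nat_lit 3, nat_lit 4, nat_lit 5, nat_lit 1, nat_lit 2, nat_lit 4, nat_lit 2, nat_lit 4, nat_lit 2, nat_lit 3,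 nat_lit 4, nat_lit 5, nat_lit 1, nat_lit 2, nat_lit 4, nat_lit 2, nat_lit 4, nat_lit 2, nat_lit 3, nat_lit 4, nat_lit 5, nat_lit 1, nat_lit 2, nat_lit 4, nat_lit 2]
def Wt_927_930 (j : ℕ) : List ℕ := bif Nat.blt j 928 then [nat_lit 63, nat_lit 0, nat_lit 4, nat_lit 2, nat_lit 0, nat_lit 4, nat_lit 0, nat_lit 2, nat_lit 4, nat_lit 0, nat_lit 2, nat_lit 4, nat_lit 0, nat_lit 3, nat_lit 2, nat_lit 3, nat_lit 4, nat_lit 2] else (Wt_928_930 j)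
def Wt_924_930 (j : ℕ) : List ℕ := bif Nat.blt j 927 then (Wt_924_927 j) else (Wt_927_930 j)
def Wt_931_933 (j : ℕ) : List ℕ := bif Nat.blt j 932 then [nat_lit 4, nat_lit 1, nat_lit 4, nat_lit 2, nat_lit 4, nat_lit 3, nat_lit 4, nat_lit 2, nat_lit 1, nat_lit 4, nat_lit 1, nat_lit 2, nat_lit 4, nat_lit 2, nat_lit 4, nat_lit 2, nat_lit 1] else [nat_lit 63, nat_lit 4, nat_lit 2, nat_lit 3, nat_lit 4, nat_lit 3, nat_lit 4, nat_lit 0, nat_lit 3, nat_lit 4, nat_lit 0, nat_lit 3, nat_lit 0, nat_lit 4, nat_lit 3, nat_lit 0, nat_lit 4, nat_lit 3]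
def Wt_930_933 (j : ℕ) : List ℕ := bif Nat.blt j 931 then [nat_lit 63, nat_lit 2, nat_lit 4, nat_lit 1, nat_lit 2, nat_lit 1, nat_lit 3, nat_lit 0, nat_lit 3, nat_lit 4, nat_lit 3, nat_lit 4, nat_lit 2, nat_lit 4, nat_lit 2, nat_lit 4, nat_lit 3, nat_lit 4] else (Wt_931_933 j)
def Wt_934_936 (j : ℕ) : List ℕ := bif Nat.blt j 935 then [nat_lit 63, nat_lit 2, nat_lit 4, nat_lit 1, nat_lit 3, nat_lit 4, nat_lit 0, nat_lit 4, nat_lit 2, nat_lit 0, nat_lit 4, nat_lit 0, nat_lit 4, nat_lit 3, nat_lit 1, nat_lit 4, nat_lit 2, nat_lit 1] else [nat_lit 63, nat_lit 4, nat_lit 3, nat_lit 1, nat_lit 4, nat_lit 1, nat_lit 0, nat_lit 4, nat_lit 3, nat_lit 1, nat_lit 0, nat_lit 1, nat_lit 2, nat_lit 0, nat_lit 1, nat_lit 4, nat_lit 0, nat_lit 1]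
def Wt_933_936 (j : ℕ) : List ℕ := bif Nat.blt j 934 then [nat_lit 63, nat_lit 3, nat_lit 4, nat_lit 5, nat_lit 1, nat_lit 2, nat_lit 4, nat_lit 2, nat_lit 4, nat_lit 2, nat_lit 3, nat_lit 4, nat_lit 5, nat_lit 1, nat_lit 2, nat_lit 4, nat_lit 2, nat_lit 4, nat_lit 2, nat_lit 3, nat_lit 4, nat_lit 5, nat_lit 1, nat_lit 2, nat_lit 4, nat_lit 2, nat_lit 4, nat_lit 2, nat_lit 3, nat_lit 4, nat_lit 5, nat_lit 1, nat_lit 2, nat_lit 4, nat_lit 2, nat_lit 4, nat_lit 2, nat_lit 3, nat_lit 4, nat_lit 5, nat_lit 1, nat_lit 2, nat_lit 4, nat_lit 2, nat_lit 4, nat_lit 2, nat_lit 3, nat_lit 4, nat_lit 5, nat_lit 1, nat_lit 2, nat_lit 4, nat_lit 2, nat_lit 4, nat_lit 2] else (Wt_934_936 j)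
def Wt_930_936 (j : ℕ) : List ℕ := bif Nat.blt j 933 then (Wt_930_933 j) else (Wt_933_936 j)
def Wt_924_936 (j : ℕ) : List ℕ := bif Nat.blt j 930 then (Wt_924_930 j) else (Wt_930_936 j)
def Wt_937_939 (j : ℕ) : List ℕ := bif Nat.blt j 938 then [nat_lit 63, nat_lit 1, nat_lit 4, nat_lit 2, nat_lit 0, nat_lit 2, nat_lit 4, nat_lit 1, nat_lit 4, nat_lit 2, nat_lit 1, nat_lit 4, nat_lit 1, nat_lit 4, nat_lit 1, nat_lit 2, nat_lit 4] else [nat_lit 63, nat_lit 4, nat_lit 1, nat_lit 2, nat_lit 1, nat_lit 4, nat_lit 1, nat_lit 5, nat_lit 4, nat_lit 1, nat_lit 2, nat_lit 1, nat_lit 4, nat_lit 1, nat_lit 5, nat_lit 4, nat_lit 1, nat_lit 2, nat_lit 1, nat_lit 4, nat_lit 1, nat_lit 5]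
def Wt_936_939 (j : ℕ) : List ℕ := bif Nat.blt j 937 then [nat_lit 63, nat_lit 4, nat_lit 1, nat_lit 4, nat_lit 1, nat_lit 3, nat_lit 4, nat_lit 3, nat_lit 4, nat_lit 3, nat_lit 4, nat_lit 3, nat_lit 4, nat_lit 1, nat_lit 4, nat_lit 1] else (Wt_937_939 j)
def Wt_940_942 (j : ℕ) : List ℕ := bif Nat.blt j 941 then [nat_lit 63, nat_lit 4, nat_lit 0, nat_lit 4, nat_lit 3, nat_lit 4, nat_lit 2, nat_lit 5, nat_lit 1, nat_lit 2, nat_lit 4, nat_lit 0, nat_lit 4, nat_lit 3, nat_lit 4, nat_lit 2, nat_lit 5, nat_lit 1, nat_lit 2, nat_lit 4, nat_lit 0, nat_lit 4, nat_lit 3, nat_lit 4, nat_lit 2, nat_lit 5, nat_lit 1, nat_lit 2] else [nat_lit 63, nat_lit 1, nat_lit 4, nat_lit 3, nat_lit 2, nat_lit 4, nat_lit 3, nat_lit 4, nat_lit 0, nat_lit 1, nat_lit 3, nat_lit 2, nat_lit 1, nat_lit 4, nat_lit 0, nat_lit 1, nat_lit 0, nat_lit 4]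
def Wt_939_942 (j : ℕ) : List ℕ := bif Nat.blt j 940 then [nat_lit 63, nat_lit 4, nat_lit 5, nat_lit 4, nat_lit 5, nat_lit 4, nat_lit 5, nat_lit 4, nat_lit 5, nat_lit 4, nat_lit 5, nat_lit 4, nat_lit 5, nat_lit 4, nat_lit 5, nat_lit 4, nat_lit 5, nat_lit 4, nat_lit 5, nat_lit 4, nat_lit 5, nat_lit 4, nat_lit 5, nat_lit 4, nat_lit 5] else (Wt_940_942 j)
def Wt_936_942 (j : ℕ) : List ℕ := bif Nat.blt j 939 then (Wt_936_939 j) else (Wt_939_942 j)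
def Wt_943_945 (j : ℕ) : List ℕ := bif Nat.blt j 944 then [nat_lit 63, nat_lit 0, nat_lit 4, nat_lit 1, nat_lit 4, nat_lit 0, nat_lit 2, nat_lit 4, nat_lit 1, nat_lit 4, nat_lit 2, nat_lit 0, nat_lit 4, nat_lit 1, nat_lit 4, nat_lit 2] else [nat_lit 5, nat_lit 3, nat_lit 2, nat_lit 5, nat_lit 3]
def Wt_942_945 (j : ℕ) : List ℕ := bif Nat.blt j 943 then [nat_lit 63, nat_lit 4, nat_lit 1, nat_lit 4, nat_lit 5, nat_lit 0, nat_lit 4, nat_lit 1, nat_lit 4, nat_lit 5, nat_lit 0, nat_lit 4, nat_lit 1, nat_lit 4, nat_lit 5, nat_lit 0, nat_lit 4, nat_lit 1, nat_lit 4, nat_lit 5, nat_lit 0] else (Wt_943_945 j)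
def Wt_946_948 (j : ℕ) : List ℕ := bif Nat.blt j 947 then [nat_lit 63, nat_lit 3, nat_lit 4, nat_lit 2, nat_lit 4, nat_lit 2, nat_lit 4, nat_lit 3, nat_lit 4, nat_lit 2, nat_lit 4, nat_lit 1, nat_lit 2, nat_lit 1, nat_lit 3, nat_lit 0, nat_lit 3, nat_lit 4] else [nat_lit 63, nat_lit 4, nat_lit 1, nat_lit 3, nat_lit 0, nat_lit 2, nat_lit 3, nat_lit 4, nat_lit 1, nat_lit 4, nat_lit 1, nat_lit 2, nat_lit 4, nat_lit 1, nat_lit 4, nat_lit 0, nat_lit 4, nat_lit 1]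
def Wt_945_948 (j : ℕ) : List ℕ := bif Nat.blt j 946 then [nat_lit 63, nat_lit 4, nat_lit 3, nat_lit 4, nat_lit 2, nat_lit 4, nat_lit 1, nat_lit 4, nat_lit 1, nat_lit 2, nat_lit 4, nat_lit 2, nat_lit 4, nat_lit 2, nat_lit 1, nat_lit 4, nat_lit 1, nat_lit 2] else (Wt_946_948 j)
def Wt_942_948 (j : ℕ) : List ℕ := bif Nat.blt j 945 then (Wt_942_945 j) else (Wt_945_948 j)
def Wt_936_948 (j : ℕ) : List ℕ := bif Nat.blt j 942 then (Wt_936_942 j) else (Wt_942_948 j)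
def Wt_924_948 (j : ℕ) : List ℕ := bif Nat.blt j 936 then (Wt_924_936 j) else (Wt_936_948 j)
def Wt_949_951 (j : ℕ) : List ℕ := bif Nat.blt j 950 then [nat_lit 63, nat_lit 4, nat_lit 2, nat_lit 5, nat_lit 4, nat_lit 3, nat_lit 4, nat_lit 3, nat_lit 4, nat_lit 2, nat_lit 5, nat_lit 4, nat_lit 3, nat_lit 4, nat_lit 3, nat_lit 4, nat_lit 2, nat_lit 5, nat_lit 4, nat_lit 3, nat_lit 4, nat_lit 3, nat_lit 4, nat_lit 2, nat_lit 5, nat_lit 4, nat_lit 3, nat_lit 4, nat_lit 3, nat_lit 4, nat_lit 2, nat_lit 5, nat_lit 4, nat_lit 3, nat_lit 4, nat_lit 3] else [nat_lit 5, nat_lit 4, nat_lit 1, nat_lit 4, nat_lit 0, nat_lit 5, nat_lit 4, nat_lit 1, nat_lit 4, nat_lit 0, nat_lit 5, nat_lit 4, nat_lit 1, nat_lit 4, nat_lit 0, nat_lit 5, nat_lit 4, nat_lit 1, nat_lit 4, nat_lit 0]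
def Wt_948_951 (j : ℕ) : List ℕ := bif Nat.blt j 949 then [nat_lit 63, nat_lit 2, nat_lit 4, nat_lit 2, nat_lit 1, nat_lit 4, nat_lit 1, nat_lit 4, nat_lit 2, nat_lit 4, nat_lit 3, nat_lit 4, nat_lit 2, nat_lit 1, nat_lit 4, nat_lit 1, nat_lit 2, nat_lit 4] else (Wt_949_951 j)
def Wt_952_954 (j : ℕ) : List ℕ := bif Nat.blt j 953 then [nat_lit 63, nat_lit 4, nat_lit 1, nat_lit 3, nat_lit 0, nat_lit 3, nat_lit 4, nat_lit 2, nat_lit 3, nat_lit 4, nat_lit 2, nat_lit 4, nat_lit 1, nat_lit 4, nat_lit 2, nat_lit 4, nat_lit 3, nat_lit 2] else [nat_lit 63, nat_lit 0, nat_lit 1, nat_lit 0, nat_lit 4, nat_lit 1, nat_lit 2, nat_lit 3, nat_lit 1, nat_lit 0, nat_lit 4, nat_lit 3, nat_lit 4, nat_lit 2, nat_lit 3, nat_lit 4, nat_lit 1, nat_lit 4]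
def Wt_951_954 (j : ℕ) : List ℕ := bif Nat.blt j 952 then [nat_lit 63, nat_lit 4, nat_lit 5, nat_lit 1, nat_lit 4, nat_lit 2, nat_lit 3, nat_lit 4, nat_lit 5, nat_lit 1, nat_lit 4, nat_lit 2, nat_lit 3, nat_lit 4, nat_lit 5, nat_lit 1, nat_lit 4, nat_lit 2, nat_lit 3, nat_lit 4, nat_lit 5, nat_lit 1, nat_lit 4, nat_lit 2, nat_lit 3] else (Wt_952_954 j)
def Wt_948_954 (j : ℕ) : List ℕ := bif Nat.blt j 951 then (Wt_948_951 j) else (Wt_951_954 j)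
def Wt_955_957 (j : ℕ) : List ℕ := bif Nat.blt j 956 then [nat_lit 2, nat_lit 1, nat_lit 4, nat_lit 5, nat_lit 1, nat_lit 4, nat_lit 1, nat_lit 2, nat_lit 1, nat_lit 4, nat_lit 5, nat_lit 1, nat_lit 4, nat_lit 1, nat_lit 2, nat_lit 1, nat_lit 4, nat_lit 5, nat_lit 1, nat_lit 4, nat_lit 1] else [nat_lit 2, nat_lit 4, nat_lit 1, nat_lit 5, nat_lit 4, nat_lit 3, nat_lit 2, nat_lit 4, nat_lit 1, nat_lit 5, nat_lit 4, nat_lit 3, nat_lit 2, nat_lit 4, nat_lit 1, nat_lit 5, nat_lit 4, nat_lit 3, nat_lit 2, nat_lit 4, nat_lit 1, nat_lit 5, nat_lit 4, nat_lit 3]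
def Wt_954_957 (j : ℕ) : List ℕ := bif Nat.blt j 955 then [nat_lit 63, nat_lit 4, nat_lit 2, nat_lit 1, nat_lit 2, nat_lit 4, nat_lit 1, nat_lit 3, nat_lit 4, nat_lit 0, nat_lit 4, nat_lit 2, nat_lit 0, nat_lit 4, nat_lit 0, nat_lit 4, nat_lit 3, nat_lit 1] else (Wt_955_957 j)
def Wt_958_960 (j : ℕ) : List ℕ := bif Nat.blt j 959 then [nat_lit 63, nat_lit 2, nat_lit 1, nat_lit 5, nat_lit 2, nat_lit 4, nat_lit 2, nat_lit 1, nat_lit 5, nat_lit 2, nat_lit 4, nat_lit 2, nat_lit 1, nat_lit 5, nat_lit 2, nat_lit 4, nat_lit 2, nat_lit 1, nat_lit 5, nat_lit 2, nat_lit 4, nat_lit 2, nat_lit 1, nat_lit 5, nat_lit 2, nat_lit 4, nat_lit 2, nat_lit 1, nat_lit 5, nat_lit 2, nat_lit 4] else [nat_lit 3, nat_lit 2, nat_lit 4, nat_lit 1, nat_lit 5, nat_lit 4, nat_lit 3, nat_lit 2, nat_lit 4, nat_lit 1, nat_lit 5, nat_lit 4, nat_lit 3, nat_lit 2, nat_lit 4, nat_lit 1, nat_lit 5, nat_lit 4,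 nat_lit 3, nat_lit 2, nat_lit 4, nat_lit 1, nat_lit 5, nat_lit 4]
def Wt_957_960 (j : ℕ) : List ℕ := bif Nat.blt j 958 then [nat_lit 0, nat_lit 5, nat_lit 1, nat_lit 4, nat_lit 1, nat_lit 0, nat_lit 1, nat_lit 0, nat_lit 5, nat_lit 1, nat_lit 4, nat_lit 1, nat_lit 0, nat_lit 1, nat_lit 0, nat_lit 5, nat_lit 1, nat_lit 4, nat_lit 1, nat_lit 0, nat_lit 1, nat_lit 0, nat_lit 5, nat_lit 1, nat_lit 4, nat_lit 1, nat_lit 0, nat_lit 1] else (Wt_958_960 j)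
def Wt_954_960 (j : ℕ) : List ℕ := bif Nat.blt j 957 then (Wt_954_957 j) else (Wt_957_960 j)
def Wt_948_960 (j : ℕ) : List ℕ := bif Nat.blt j 954 then (Wt_948_954 j) else (Wt_954_960 j)
def Wt_961_963 (j : ℕ) : List ℕ := bif Nat.blt j 962 then [nat_lit 63, nat_lit 2, nat_lit 1, nat_lit 4, nat_lit 5, nat_lit 1, nat_lit 4, nat_lit 1, nat_lit 2, nat_lit 1, nat_lit 4, nat_lit 5, nat_lit 1, nat_lit 4, nat_lit 1, nat_lit 2, nat_lit 1, nat_lit 4, nat_lit 5, nat_lit 1, nat_lit 4, nat_lit 1] else [nat_lit 63, nat_lit 3, nat_lit 4, nat_lit 1, nat_lit 4, nat_lit 1, nat_lit 4, nat_lit 1, nat_lit 4, nat_lit 1, nat_lit 3, nat_lit 4, nat_lit 3, nat_lit 4, nat_lit 3, nat_lit 4]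
def Wt_960_963 (j : ℕ) : List ℕ := bif Nat.blt j 961 then [nat_lit 63, nat_lit 2, nat_lit 4, nat_lit 2, nat_lit 1, nat_lit 5, nat_lit 2, nat_lit 4, nat_lit 2, nat_lit 1, nat_lit 5, nat_lit 2, nat_lit 4, nat_lit 2, nat_lit 1, nat_lit 5, nat_lit 2, nat_lit 4, nat_lit 2, nat_lit 1, nat_lit 5, nat_lit 2, nat_lit 4, nat_lit 2, nat_lit 1, nat_lit 5, nat_lit 2, nat_lit 4, nat_lit 2, nat_lit 1, nat_lit 5] else (Wt_961_963 j)
def Wt_964_966 (j : ℕ) : List ℕ := bif Nat.blt j 965 then [nat_lit 3, nat_lit 2, nat_lit 0, nat_lit 3, nat_lit 1, nat_lit 4, nat_lit 1, nat_lit 4, nat_lit 0, nat_lit 4, nat_lit 1, nat_lit 4, nat_lit 2, nat_lit 1, nat_lit 4, nat_lit 1, nat_lit 4] else [nat_lit 63, nat_lit 2, nat_lit 3, nat_lit 4, nat_lit 2, nat_lit 4, nat_lit 1, nat_lit 4, nat_lit 2, nat_lit 4, nat_lit 3, nat_lit 2, nat_lit 4, nat_lit 1, nat_lit 3, nat_lit 0, nat_lit 3, nat_lit 4]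
def Wt_963_966 (j : ℕ) : List ℕ := bif Nat.blt j 964 then [nat_lit 63, nat_lit 1, nat_lit 4, nat_lit 1, nat_lit 2, nat_lit 4, nat_lit 3, nat_lit 4, nat_lit 2, nat_lit 4, nat_lit 1, nat_lit 4, nat_lit 1, nat_lit 2, nat_lit 4, nat_lit 2, nat_lit 4, nat_lit 2] else (Wt_964_966 j)
def Wt_960_966 (j : ℕ) : List ℕ := bif Nat.blt j 963 then (Wt_960_963 j) else (Wt_963_966 j)
def Wt_967_969 (j : ℕ) : List ℕ := bif Nat.blt j 968 then [nat_lit 63, nat_lit 4, nat_lit 3, nat_lit 1, nat_lit 0, nat_lit 1, nat_lit 2, nat_lit 0, nat_lit 1, nat_lit 4, nat_lit 0, nat_lit 1, nat_lit 4, nat_lit 3, nat_lit 1, nat_lit 4, nat_lit 1, nat_lit 0] else [nat_lit 63, nat_lit 4, nat_lit 5, nat_lit 1, nat_lit 4, nat_lit 0, nat_lit 2, nat_lit 4, nat_lit 0, nat_lit 1, nat_lit 4, nat_lit 5, nat_lit 1, nat_lit 4, nat_lit 0, nat_lit 2, nat_lit 4, nat_lit 0, nat_lit 1, nat_lit 4, nat_lit 5, nat_lit 1, nat_lit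 4, nat_lit 0, nat_lit 2, nat_lit 4, nat_lit 0, nat_lit 1, nat_lit 4, nat_lit 5, nat_lit 1, nat_lit 4, nat_lit 0, nat_lit 2, nat_lit 4, nat_lit 0, nat_lit 1, nat_lit 4, nat_lit 5, nat_lit 1, nat_lit 4, nat_lit 0, nat_lit 2, nat_lit 4, nat_lit 0, nat_lit 1]
def Wt_966_969 (j : ℕ) : List ℕ := bif Nat.blt j 967 then [nat_lit 63, nat_lit 1, nat_lit 0, nat_lit 1, nat_lit 0, nat_lit 5, nat_lit 1, nat_lit 4, nat_lit 1, nat_lit 0, nat_lit 1, nat_lit 0, nat_lit 5, nat_lit 1, nat_lit 4, nat_lit 1, nat_lit 0, nat_lit 1, nat_lit 0, nat_lit 5, nat_lit 1, nat_lit 4, nat_lit 1, nat_lit 0, nat_lit 1, nat_lit 0, nat_lit 5, nat_lit 1, nat_lit 4] else (Wt_967_969 j)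
def Wt_969_971 (j : ℕ) : List ℕ := bif Nat.blt j 970 then [nat_lit 63, nat_lit 2, nat_lit 3, nat_lit 4, nat_lit 5, nat_lit 1, nat_lit 2, nat_lit 4, nat_lit 2, nat_lit 4, nat_lit 2, nat_lit 3, nat_lit 4, nat_lit 5, nat_lit 1, nat_lit 2, nat_lit 4, nat_lit 2, nat_lit 4, nat_lit 2, nat_lit 3, nat_lit 4, nat_lit 5, nat_lit 1, nat_lit 2, nat_lit 4, nat_lit 2, nat_lit 4, nat_lit 2, nat_lit 3, nat_lit 4, nat_lit 5, nat_lit 1, nat_lit 2, nat_lit 4, nat_lit 2, nat_lit 4, nat_lit 2, nat_lit 3, nat_lit 4, nat_lit 5, nat_lit 1, nat_lit 2, nat_lit 4, nat_lit 2, nat_lit 4, nat_lit 2, nat_lit 3, nat_lit 4, nat_lit 5, nat_lit 1, nat_lit 2, nat_lit 4, nat_lit 2, nat_lit 4] else [nat_lit 1, nat_lit 2, nat_lit 1, nat_lit 3, nat_lit 0, nat_lit 3, nat_lit 4, nat_lit 3, nat_lit 4, nat_lit 2, nat_lit 4, nat_lit 2, nat_lit 4, nat_lit 3, nat_lit 4, nat_lit 2, nat_lit 4]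
def Wt_971_973 (j : ℕ) : List ℕ := bif Nat.blt j 972 then [nat_lit 63, nat_lit 4, nat_lit 2, nat_lit 1, nat_lit 4, nat_lit 1, nat_lit 2, nat_lit 4, nat_lit 2, nat_lit 4, nat_lit 2, nat_lit 1, nat_lit 4, nat_lit 1, nat_lit 4, nat_lit 2, nat_lit 4, nat_lit 3] else [nat_lit 63, nat_lit 2, nat_lit 4, nat_lit 0, nat_lit 4, nat_lit 3, nat_lit 1, nat_lit 4, nat_lit 2, nat_lit 1, nat_lit 2, nat_lit 4, nat_lit 1, nat_lit 3, nat_lit 4, nat_lit 0, nat_lit 4, nat_lit 0]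
def Wt_969_973 (j : ℕ) : List ℕ := bif Nat.blt j 971 then (Wt_969_971 j) else (Wt_971_973 j)
def Wt_966_973 (j : ℕ) : List ℕ := bif Nat.blt j 969 then (Wt_966_969 j) else (Wt_969_973 j)
def Wt_960_973 (j : ℕ) : List ℕ := bif Nat.blt j 966 then (Wt_960_966 j) else (Wt_966_973 j)
def Wt_948_973 (j : ℕ) : List ℕ := bif Nat.blt j 960 then (Wt_948_960 j) else (Wt_960_973 j)
def Wt_924_973 (j : ℕ) : List ℕ := bif Nat.blt j 948 then (Wt_924_948 j) else (Wt_948_973 j)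
def Wt_876_973 (j : ℕ) : List ℕ := bif Nat.blt j 924 then (Wt_876_924 j) else (Wt_924_973 j)
def Wt_779_973 (j : ℕ) : List ℕ := bif Nat.blt j 876 then (Wt_779_876 j) else (Wt_876_973 j)
def Wt_974_976 (j : ℕ) : List ℕ := bif Nat.blt j 975 then [nat_lit 63, nat_lit 0, nat_lit 2, nat_lit 1, nat_lit 0, nat_lit 2, nat_lit 1, nat_lit 0, nat_lit 2, nat_lit 1, nat_lit 0, nat_lit 2, nat_lit 1, nat_lit 0, nat_lit 2, nat_lit 1] else [nat_lit 63, nat_lit 2, nat_lit 4, nat_lit 3, nat_lit 2, nat_lit 3, nat_lit 0, nat_lit 4, nat_lit 2, nat_lit 0, nat_lit 4, nat_lit 2, nat_lit 0, nat_lit 4, nat_lit 0, nat_lit 2, nat_lit 4, nat_lit 0]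
def Wt_973_976 (j : ℕ) : List ℕ := bif Nat.blt j 974 then [nat_lit 63, nat_lit 3, nat_lit 2, nat_lit 4, nat_lit 1, nat_lit 0, nat_lit 4, nat_lit 1, nat_lit 2, nat_lit 1, nat_lit 4, nat_lit 1, nat_lit 2, nat_lit 1, nat_lit 4, nat_lit 0, nat_lit 1, nat_lit 4] else (Wt_974_976 j)
def Wt_977_979 (j : ℕ) : List ℕ := bif Nat.blt j 978 then [nat_lit 63, nat_lit 1, nat_lit 4, nat_lit 1, nat_lit 5, nat_lit 0, nat_lit 1, nat_lit 0, nat_lit 1, nat_lit 4, nat_lit 1, nat_lit 5, nat_lit 0, nat_lit 1, nat_lit 0, nat_lit 1, nat_lit 4, nat_lit 1, nat_lit 5, nat_lit 0, nat_lit 1, nat_lit 0, nat_lit 1, nat_lit 4, nat_lit 1, nat_lit 5, nat_lit 0, nat_lit 1, nat_lit 0] else [nat_lit 63, nat_lit 1, nat_lit 2, nat_lit 1, nat_lit 4, nat_lit 1, nat_lit 2, nat_lit 1, nat_lit 4, nat_lit 0, nat_lit 1, nat_lit 4, nat_lit 3, nat_lit 2, nat_lit 4, nat_lit 1, nat_lit 0, nat_lit 4]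
def Wt_976_979 (j : ℕ) : List ℕ := bif Nat.blt j 977 then [nat_lit 63, nat_lit 4, nat_lit 0, nat_lit 1, nat_lit 4, nat_lit 3, nat_lit 1, nat_lit 4, nat_lit 1, nat_lit 0, nat_lit 4, nat_lit 3, nat_lit 1, nat_lit 0, nat_lit 1, nat_lit 2, nat_lit 0, nat_lit 1] else (Wt_977_979 j)
def Wt_973_979 (j : ℕ) : List ℕ := bif Nat.blt j 976 then (Wt_973_976 j) else (Wt_976_979 j)
def Wt_980_982 (j : ℕ) : List ℕ := bif Nat.blt j 981 then [nat_lit 5, nat_lit 1, nat_lit 4, nat_lit 2, nat_lit 3, nat_lit 4, nat_lit 5, nat_lit 1, nat_lit 4, nat_lit 2, nat_lit 3, nat_lit 4, nat_lit 5, nat_lit 1, nat_lit 4, nat_lit 2, nat_lit 3, nat_lit 4, nat_lit 5, nat_lit 1, nat_lit 4, nat_lit 2, nat_lit 3, nat_lit 4] else [nat_lit 63, nat_lit 2, nat_lit 1, nat_lit 5, nat_lit 4, nat_lit 3, nat_lit 2, nat_lit 4, nat_lit 2, nat_lit 4, nat_lit 2, nat_lit 1, nat_lit 5, nat_lit 4, nat_lit 3, nat_lit 2, nat_lit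 4, nat_lit 2, nat_lit 4, nat_lit 2, nat_lit 1, nat_lit 5, nat_lit 4, nat_lit 3, nat_lit 2, nat_lit 4, nat_lit 2, nat_lit 4, nat_lit 2, nat_lit 1, nat_lit 5, nat_lit 4, nat_lit 3, nat_lit 2, nat_lit 4, nat_lit 2, nat_lit 4, nat_lit 2, nat_lit 1, nat_lit 5, nat_lit 4, nat_lit 3, nat_lit 2, nat_lit 4, nat_lit 2, nat_lit 4, nat_lit 2, nat_lit 1, nat_lit 5, nat_lit 4, nat_lit 3, nat_lit 2, nat_lit 4, nat_lit 2, nat_lit 4]
def Wt_979_982 (j : ℕ) : List ℕ := bif Nat.blt j 980 then [nat_lit 63, nat_lit 3, nat_lit 1, nat_lit 4, nat_lit 1, nat_lit 0, nat_lit 4, nat_lit 3, nat_lit 1, nat_lit 0, nat_lit 1, nat_lit 2, nat_lit 0, nat_lit 1, nat_lit 4, nat_lit 0, nat_lit 1, nat_lit 4] else (Wt_980_982 j)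
def Wt_983_985 (j : ℕ) : List ℕ := bif Nat.blt j 984 then [nat_lit 4, nat_lit 2, nat_lit 5, nat_lit 1, nat_lit 2, nat_lit 4, nat_lit 0, nat_lit 4, nat_lit 3, nat_lit 4, nat_lit 2, nat_lit 5, nat_lit 1, nat_lit 2, nat_lit 4, nat_lit 0, nat_lit 4, nat_lit 3, nat_lit 4, nat_lit 2, nat_lit 5, nat_lit 1, nat_lit 2, nat_lit 4, nat_lit 0, nat_lit 4, nat_lit 3] else [nat_lit 63, nat_lit 2, nat_lit 5, nat_lit 4, nat_lit 3, nat_lit 4, nat_lit 3, nat_lit 4, nat_lit 2, nat_lit 5, nat_lit 4, nat_lit 3, nat_lit 4, nat_lit 3, nat_lit 4, nat_lit 2, nat_lit 5, nat_lit 4, nat_lit 3, nat_lit 4, nat_lit 3, nat_lit 4, nat_lit 2, nat_lit 5, nat_lit 4, nat_lit 3, nat_lit 4, nat_lit 3, nat_lit 4, nat_lit 2, nat_lit 5, nat_lit 4, nat_lit 3, nat_lit 4, nat_lit 3, nat_lit 4]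
def Wt_982_985 (j : ℕ) : List ℕ := bif Nat.blt j 983 then [nat_lit 1, nat_lit 2, nat_lit 1, nat_lit 3, nat_lit 0, nat_lit 3, nat_lit 4, nat_lit 2, nat_lit 4, nat_lit 3, nat_lit 4, nat_lit 2, nat_lit 4, nat_lit 2, nat_lit 4, nat_lit 3, nat_lit 4] else (Wt_983_985 j)
def Wt_979_985 (j : ℕ) : List ℕ := bif Nat.blt j 982 then (Wt_979_982 j) else (Wt_982_985 j)
def Wt_973_985 (j : ℕ) : List ℕ := bif Nat.blt j 979 then (Wt_973_979 j) else (Wt_979_985 j)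
def Wt_986_988 (j : ℕ) : List ℕ := bif Nat.blt j 987 then [nat_lit 63, nat_lit 5, nat_lit 4, nat_lit 1, nat_lit 0, nat_lit 4, nat_lit 2, nat_lit 0, nat_lit 4, nat_lit 1, nat_lit 5, nat_lit 4, nat_lit 1, nat_lit 0, nat_lit 4, nat_lit 2, nat_lit 0, nat_lit 4, nat_lit 1, nat_lit 5, nat_lit 4, nat_lit 1, nat_lit 0, nat_lit 4, nat_lit 2, nat_lit 0, nat_lit 4, nat_lit 1, nat_lit 5, nat_lit 4, nat_lit 1, nat_lit 0, nat_lit 4, nat_lit 2, nat_lit 0, nat_lit 4, nat_lit 1, nat_lit 5, nat_lit 4, nat_lit 1, nat_lit 0, nat_lit 4, nat_lit 2, nat_lit 0, nat_lit 4, nat_lit 1] else [nat_lit 63, nat_lit 1, nat_lit 4, nat_lit 2, nat_lit 1, nat_lit 4, nat_lit 1, nat_lit 4, nat_lit 3, nat_lit 2, nat_lit 0, nat_lit 3, nat_lit 1, nat_lit 4, nat_lit 1, nat_lit 4, nat_lit 0, nat_lit 4]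
def Wt_985_988 (j : ℕ) : List ℕ := bif Nat.blt j 986 then [nat_lit 63, nat_lit 2, nat_lit 1, nat_lit 4, nat_lit 1, nat_lit 2, nat_lit 1, nat_lit 4, nat_lit 0, nat_lit 1, nat_lit 4, nat_lit 2, nat_lit 3, nat_lit 4, nat_lit 1, nat_lit 0, nat_lit 4, nat_lit 1] else (Wt_986_988 j)
def Wt_989_991 (j : ℕ) : List ℕ := bif Nat.blt j 990 then [nat_lit 63, nat_lit 3, nat_lit 4, nat_lit 0, nat_lit 3, nat_lit 4, nat_lit 0, nat_lit 3, nat_lit 0, nat_lit 4, nat_lit 3, nat_lit 0, nat_lit 4, nat_lit 3, nat_lit 4, nat_lit 2, nat_lit 3, nat_lit 4] else [nat_lit 1, nat_lit 4, nat_lit 1, nat_lit 2, nat_lit 4, nat_lit 2, nat_lit 4, nat_lit 2, nat_lit 1, nat_lit 4, nat_lit 1, nat_lit 4, nat_lit 2, nat_lit 4, nat_lit 3, nat_lit 4, nat_lit 2]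
def Wt_988_991 (j : ℕ) : List ℕ := bif Nat.blt j 989 then [nat_lit 63, nat_lit 2, nat_lit 4, nat_lit 3, nat_lit 4, nat_lit 1, nat_lit 2, nat_lit 1, nat_lit 3, nat_lit 0, nat_lit 3, nat_lit 4, nat_lit 2, nat_lit 4, nat_lit 3, nat_lit 4, nat_lit 2, nat_lit 4] else (Wt_989_991 j)
def Wt_985_991 (j : ℕ) : List ℕ := bif Nat.blt j 988 then (Wt_985_988 j) else (Wt_988_991 j)
def Wt_992_994 (j : ℕ) : List ℕ := bif Nat.blt j 993 then [nat_lit 63, nat_lit 1, nat_lit 3, nat_lit 1, nat_lit 3, nat_lit 1, nat_lit 3, nat_lit 4, nat_lit 2, nat_lit 1, nat_lit 4, nat_lit 3, nat_lit 4, nat_lit 1, nat_lit 2, nat_lit 4, nat_lit 3] else [nat_lit 63, nat_lit 3, nat_lit 4, nat_lit 1, nat_lit 0, nat_lit 4, nat_lit 1, nat_lit 2, nat_lit 1, nat_lit 4, nat_lit 1, nat_lit 2, nat_lit 1, nat_lit 4, nat_lit 0, nat_lit 1, nat_lit 4, nat_lit 2]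
def Wt_991_994 (j : ℕ) : List ℕ := bif Nat.blt j 992 then [nat_lit 63, nat_lit 1, nat_lit 5, nat_lit 2, nat_lit 4, nat_lit 2, nat_lit 1, nat_lit 5, nat_lit 2, nat_lit 4, nat_lit 2, nat_lit 1, nat_lit 5, nat_lit 2, nat_lit 4, nat_lit 2, nat_lit 1, nat_lit 5, nat_lit 2, nat_lit 4, nat_lit 2, nat_lit 1, nat_lit 5, nat_lit 2, nat_lit 4, nat_lit 2, nat_lit 1, nat_lit 5, nat_lit 2, nat_lit 4, nat_lit 2] else (Wt_992_994 j)
def Wt_995_997 (j : ℕ) : List ℕ := bif Nat.blt j 996 then [nat_lit 0, nat_lit 5, nat_lit 4, nat_lit 3, nat_lit 4, nat_lit 0, nat_lit 5, nat_lit 4, nat_lit 3, nat_lit 4, nat_lit 0, nat_lit 5, nat_lit 4, nat_lit 3, nat_lit 4, nat_lit 0, nat_lit 5, nat_lit 4, nat_lit 3, nat_lit 4, nat_lit 0, nat_lit 5, nat_lit 4, nat_lit 3, nat_lit 4, nat_lit 0, nat_lit 5, nat_lit 4, nat_lit 3, nat_lit 4] else [nat_lit 5, nat_lit 0, nat_lit 4, nat_lit 3, nat_lit 4, nat_lit 5,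 nat_lit 0, nat_lit 4, nat_lit 3, nat_lit 4, nat_lit 5, nat_lit 0, nat_lit 4, nat_lit 3, nat_lit 4, nat_lit 5, nat_lit 0, nat_lit 4, nat_lit 3, nat_lit 4, nat_lit 5, nat_lit 0, nat_lit 4, nat_lit 3, nat_lit 4, nat_lit 5, nat_lit 0, nat_lit 4, nat_lit 3, nat_lit 4]
def Wt_994_997 (j : ℕ) : List ℕ := bif Nat.blt j 995 then [nat_lit 63, nat_lit 4, nat_lit 2, nat_lit 3, nat_lit 4, nat_lit 1, nat_lit 4, nat_lit 0, nat_lit 1, nat_lit 0, nat_lit 4, nat_lit 1, nat_lit 2, nat_lit 3, nat_lit 1, nat_lit 0, nat_lit 4, nat_lit 3] else (Wt_995_997 j)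
def Wt_991_997 (j : ℕ) : List ℕ := bif Nat.blt j 994 then (Wt_991_994 j) else (Wt_994_997 j)
def Wt_985_997 (j : ℕ) : List ℕ := bif Nat.blt j 991 then (Wt_985_991 j) else (Wt_991_997 j)
def Wt_973_997 (j : ℕ) : List ℕ := bif Nat.blt j 985 then (Wt_973_985 j) else (Wt_985_997 j)
def Wt_998_1000 (j : ℕ) : List ℕ := bif Nat.blt j 999 then [nat_lit 63, nat_lit 1, nat_lit 4, nat_lit 1, nat_lit 2, nat_lit 4, nat_lit 2, nat_lit 4, nat_lit 2, nat_lit 1, nat_lit 4, nat_lit 1, nat_lit 2, nat_lit 4, nat_lit 3, nat_lit 4, nat_lit 2, nat_lit 4] else [nat_lit 63, nat_lit 1, nat_lit 4, nat_lit 2, nat_lit 4, nat_lit 3, nat_lit 4, nat_lit 2, nat_lit 1, nat_lit 4, nat_lit 1, nat_lit 2, nat_lit 4, nat_lit 2, nat_lit 4, nat_lit 2, nat_lit 1, nat_lit 4]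
def Wt_997_1000 (j : ℕ) : List ℕ := bif Nat.blt j 998 then [nat_lit 63, nat_lit 4, nat_lit 3, nat_lit 4, nat_lit 2, nat_lit 3, nat_lit 4, nat_lit 1, nat_lit 4, nat_lit 0, nat_lit 1, nat_lit 0, nat_lit 4, nat_lit 1, nat_lit 2, nat_lit 3, nat_lit 1, nat_lit 0] else (Wt_998_1000 j)
def Wt_1001_1003 (j : ℕ) : List ℕ := bif Nat.blt j 1002 then [nat_lit 3, nat_lit 4, nat_lit 3, nat_lit 0, nat_lit 3, nat_lit 1, nat_lit 2, nat_lit 1, nat_lit 4, nat_lit 2, nat_lit 4, nat_lit 3, nat_lit 4, nat_lit 2, nat_lit 4, nat_lit 2, nat_lit 4] else [nat_lit 63, nat_lit 3, nat_lit 4, nat_lit 3, nat_lit 4, nat_lit 3, nat_lit 4, nat_lit 3, nat_lit 4, nat_lit 3, nat_lit 4, nat_lit 3, nat_lit 4, nat_lit 3, nat_lit 4, nat_lit 3, nat_lit 4]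
def Wt_1000_1003 (j : ℕ) : List ℕ := bif Nat.blt j 1001 then [nat_lit 63, nat_lit 2, nat_lit 1, nat_lit 2, nat_lit 1, nat_lit 2, nat_lit 1, nat_lit 2, nat_lit 1] else (Wt_1001_1003 j)
def Wt_997_1003 (j : ℕ) : List ℕ := bif Nat.blt j 1000 then (Wt_997_1000 j) else (Wt_1000_1003 j)
def Wt_1004_1006 (j : ℕ) : List ℕ := bif Nat.blt j 1005 then [nat_lit 1, nat_lit 2, nat_lit 1, nat_lit 4, nat_lit 5, nat_lit 1, nat_lit 4, nat_lit 1, nat_lit 2, nat_lit 1, nat_lit 4, nat_lit 5, nat_lit 1, nat_lit 4, nat_lit 1, nat_lit 2, nat_lit 1, nat_lit 4, nat_lit 5, nat_lit 1, nat_lit 4] else [nat_lit 63, nat_lit 4, nat_lit 1, nat_lit 2, nat_lit 1, nat_lit 3, nat_lit 0, nat_lit 3, nat_lit 4, nat_lit 3, nat_lit 4, nat_lit 2, nat_lit 4, nat_lit 2, nat_lit 4, nat_lit 3, nat_lit 4, nat_lit 2]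
def Wt_1003_1006 (j : ℕ) : List ℕ := bif Nat.blt j 1004 then [nat_lit 3, nat_lit 5, nat_lit 4, nat_lit 0, nat_lit 4, nat_lit 3, nat_lit 0, nat_lit 3, nat_lit 5, nat_lit 4, nat_lit 0, nat_lit 4, nat_lit 3, nat_lit 0, nat_lit 3, nat_lit 5, nat_lit 4, nat_lit 0, nat_lit 4, nat_lit 3, nat_lit 0, nat_lit 3, nat_lit 5, nat_lit 4, nat_lit 0, nat_lit 4, nat_lit 3, nat_lit 0, nat_lit 3, nat_lit 5, nat_lit 4, nat_lit 0, nat_lit 4, nat_lit 3, nat_lit 0] else (Wt_1004_1006 j)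
def Wt_1007_1009 (j : ℕ) : List ℕ := bif Nat.blt j 1008 then [nat_lit 63, nat_lit 5, nat_lit 2, nat_lit 4, nat_lit 1, nat_lit 4, nat_lit 5, nat_lit 2, nat_lit 4, nat_lit 1, nat_lit 4, nat_lit 5, nat_lit 2, nat_lit 4, nat_lit 1, nat_lit 4] else [nat_lit 63, nat_lit 5, nat_lit 1, nat_lit 4, nat_lit 1, nat_lit 0, nat_lit 4, nat_lit 0, nat_lit 2, nat_lit 4, nat_lit 5, nat_lit 1, nat_lit 4, nat_lit 1, nat_lit 0, nat_lit 4, nat_lit 0, nat_lit 2, nat_lit 4, nat_lit 5, nat_lit 1, nat_lit 4, nat_lit 1, nat_lit 0, nat_lit 4, nat_lit 0, nat_lit 2, nat_lit 4, nat_lit 5, nat_lit 1, nat_lit 4, nat_lit 1, nat_lit 0, nat_lit 4, nat_lit 0, nat_lit 2, nat_lit 4, nat_lit 5, nat_lit 1, nat_lit 4, nat_lit 1, nat_lit 0, nat_lit 4, nat_lit 0, nat_lit 2, nat_lit 4]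
def Wt_1006_1009 (j : ℕ) : List ℕ := bif Nat.blt j 1007 then [nat_lit 63, nat_lit 4, nat_lit 2, nat_lit 1, nat_lit 4, nat_lit 1, nat_lit 2, nat_lit 4, nat_lit 3, nat_lit 4, nat_lit 2, nat_lit 4, nat_lit 1, nat_lit 4, nat_lit 1, nat_lit 2, nat_lit 4, nat_lit 2] else (Wt_1007_1009 j)
def Wt_1003_1009 (j : ℕ) : List ℕ := bif Nat.blt j 1006 then (Wt_1003_1006 j) else (Wt_1006_1009 j)
def Wt_997_1009 (j : ℕ) : List ℕ := bif Nat.blt j 1003 then (Wt_997_1003 j) else (Wt_1003_1009 j)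
def Wt_1010_1012 (j : ℕ) : List ℕ := bif Nat.blt j 1011 then [nat_lit 63, nat_lit 4, nat_lit 5, nat_lit 0, nat_lit 4, nat_lit 3, nat_lit 4, nat_lit 5, nat_lit 0, nat_lit 4, nat_lit 3, nat_lit 4, nat_lit 5, nat_lit 0, nat_lit 4, nat_lit 3, nat_lit 4, nat_lit 5, nat_lit 0, nat_lit 4, nat_lit 3, nat_lit 4, nat_lit 5, nat_lit 0, nat_lit 4, nat_lit 3, nat_lit 4, nat_lit 5, nat_lit 0, nat_lit 4, nat_lit 3] else [nat_lit 63, nat_lit 1, nat_lit 4, nat_lit 2, nat_lit 3, nat_lit 4, nat_lit 1, nat_lit 0, nat_lit 4, nat_lit 1, nat_lit 2, nat_lit 1, nat_lit 4, nat_lit 1, nat_lit 2, nat_lit 1, nat_lit 4, nat_lit 0]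
def Wt_1009_1012 (j : ℕ) : List ℕ := bif Nat.blt j 1010 then [nat_lit 63, nat_lit 2, nat_lit 4, nat_lit 3, nat_lit 4, nat_lit 2, nat_lit 1, nat_lit 4, nat_lit 1, nat_lit 2, nat_lit 4, nat_lit 2, nat_lit 4, nat_lit 2, nat_lit 1, nat_lit 4, nat_lit 1, nat_lit 4] else (Wt_1010_1012 j)
def Wt_1013_1015 (j : ℕ) : List ℕ := bif Nat.blt j 1014 then [nat_lit 63, nat_lit 1, nat_lit 2, nat_lit 4, nat_lit 2, nat_lit 4, nat_lit 2, nat_lit 1, nat_lit 4, nat_lit 1, nat_lit 4, nat_lit 2, nat_lit 4, nat_lit 3, nat_lit 4, nat_lit 2, nat_lit 1, nat_lit 4] else [nat_lit 0, nat_lit 4, nat_lit 3, nat_lit 0, nat_lit 4, nat_lit 3, nat_lit 4, nat_lit 3, nat_lit 2, nat_lit 4, nat_lit 3, nat_lit 4, nat_lit 0, nat_lit 3, nat_lit 4, nat_lit 0, nat_lit 3]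
def Wt_1012_1015 (j : ℕ) : List ℕ := bif Nat.blt j 1013 then [nat_lit 63, nat_lit 0, nat_lit 4, nat_lit 3, nat_lit 4, nat_lit 2, nat_lit 3, nat_lit 4, nat_lit 1, nat_lit 4, nat_lit 0, nat_lit 1, nat_lit 0, nat_lit 4, nat_lit 1, nat_lit 2, nat_lit 3, nat_lit 1] else (Wt_1013_1015 j)
def Wt_1009_1015 (j : ℕ) : List ℕ := bif Nat.blt j 1012 then (Wt_1009_1012 j) else (Wt_1012_1015 j)
def Wt_1016_1018 (j : ℕ) : List ℕ := bif Nat.blt j 1017 then [nat_lit 63, nat_lit 2, nat_lit 4, nat_lit 3, nat_lit 4, nat_lit 0, nat_lit 3, nat_lit 4, nat_lit 0, nat_lit 3, nat_lit 0, nat_lit 4, nat_lit 3, nat_lit 0, nat_lit 4, nat_lit 3, nat_lit 4, nat_lit 3] else [nat_lit 63, nat_lit 4, nat_lit 3, nat_lit 2, nat_lit 4, nat_lit 3, nat_lit 4, nat_lit 0, nat_lit 1, nat_lit 3, nat_lit 2, nat_lit 1, nat_lit 4, nat_lit 0, nat_lit 1, nat_lit 0, nat_lit 4, nat_lit 1]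
def Wt_1015_1018 (j : ℕ) : List ℕ := bif Nat.blt j 1016 then [nat_lit 63, nat_lit 1, nat_lit 4, nat_lit 1, nat_lit 4, nat_lit 2, nat_lit 4, nat_lit 3, nat_lit 4, nat_lit 2, nat_lit 1, nat_lit 4, nat_lit 1, nat_lit 2, nat_lit 4, nat_lit 2, nat_lit 4, nat_lit 2] else (Wt_1016_1018 j)
def Wt_1019_1021 (j : ℕ) : List ℕ := bif Nat.blt j 1020 then [nat_lit 1, nat_lit 5, nat_lit 4, nat_lit 3, nat_lit 2, nat_lit 4, nat_lit 1, nat_lit 5, nat_lit 4, nat_lit 3, nat_lit 2, nat_lit 4, nat_lit 1, nat_lit 5, nat_lit 4, nat_lit 3, nat_lit 2, nat_lit 4, nat_lit 1, nat_lit 5, nat_lit 4, nat_lit 3, nat_lit 2, nat_lit 4] else [nat_lit 63, nat_lit 2, nat_lit 4, nat_lit 2, nat_lit 4, nat_lit 2, nat_lit 1, nat_lit 5, nat_lit 4, nat_lit 3, nat_lit 2, nat_lit 4, nat_lit 2, nat_lit 4, nat_lit 2, nat_lit 1, nat_lit 5, nat_lit 4, nat_lit 3, nat_lit 2, nat_lit 4, nat_lit 2, nat_lit 4, nat_lit 2, nat_lit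 1, nat_lit 5, nat_lit 4, nat_lit 3, nat_lit 2, nat_lit 4, nat_lit 2, nat_lit 4, nat_lit 2, nat_lit 1, nat_lit 5, nat_lit 4, nat_lit 3, nat_lit 2, nat_lit 4, nat_lit 2, nat_lit 4, nat_lit 2, nat_lit 1, nat_lit 5, nat_lit 4, nat_lit 3, nat_lit 2, nat_lit 4, nat_lit 2, nat_lit 4, nat_lit 2, nat_lit 1, nat_lit 5, nat_lit 4, nat_lit 3]
def Wt_1018_1021 (j : ℕ) : List ℕ := bif Nat.blt j 1019 then [nat_lit 63, nat_lit 2, nat_lit 4, nat_lit 5, nat_lit 4, nat_lit 2, nat_lit 4, nat_lit 5, nat_lit 4, nat_lit 2, nat_lit 4, nat_lit 5, nat_lit 4, nat_lit 2, nat_lit 4, nat_lit 5, nat_lit 4, nat_lit 2, nat_lit 4, nat_lit 5, nat_lit 4, nat_lit 2, nat_lit 4, nat_lit 5, nat_lit 4] else (Wt_1019_1021 j)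
def Wt_1015_1021 (j : ℕ) : List ℕ := bif Nat.blt j 1018 then (Wt_1015_1018 j) else (Wt_1018_1021 j)
def Wt_1009_1021 (j : ℕ) : List ℕ := bif Nat.blt j 1015 then (Wt_1009_1015 j) else (Wt_1015_1021 j)
def Wt_997_1021 (j : ℕ) : List ℕ := bif Nat.blt j 1009 then (Wt_997_1009 j) else (Wt_1009_1021 j)
def Wt_973_1021 (j : ℕ) : List ℕ := bif Nat.blt j 997 then (Wt_973_997 j) else (Wt_997_1021 j)
def Wt_1022_1024 (j : ℕ) : List ℕ := bif Nat.blt j 1023 then [nat_lit 63, nat_lit 0, nat_lit 2, nat_lit 4, nat_lit 1, nat_lit 4, nat_lit 2, nat_lit 1, nat_lit 4, nat_lit 1, nat_lit 4, nat_lit 1, nat_lit 2, nat_lit 4, nat_lit 1, nat_lit 4, nat_lit 2] else [nat_lit 63, nat_lit 1, nat_lit 4, nat_lit 1, nat_lit 4, nat_lit 1, nat_lit 4, nat_lit 1, nat_lit 4, nat_lit 1, nat_lit 4, nat_lit 1, nat_lit 4, nat_lit 1, nat_lit 4, nat_lit 1, nat_lit 4]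
def Wt_1021_1024 (j : ℕ) : List ℕ := bif Nat.blt j 1022 then [nat_lit 63, nat_lit 0, nat_lit 4, nat_lit 0, nat_lit 2, nat_lit 4, nat_lit 0, nat_lit 2, nat_lit 4, nat_lit 3, nat_lit 2, nat_lit 3, nat_lit 0, nat_lit 4, nat_lit 2, nat_lit 0, nat_lit 4, nat_lit 2] else (Wt_1022_1024 j)
def Wt_1025_1027 (j : ℕ) : List ℕ := bif Nat.blt j 1026 then [nat_lit 63, nat_lit 3, nat_lit 5, nat_lit 0, nat_lit 3, nat_lit 4, nat_lit 3, nat_lit 5, nat_lit 0, nat_lit 3, nat_lit 4, nat_lit 3, nat_lit 5, nat_lit 0, nat_lit 3, nat_lit 4, nat_lit 3, nat_lit 5, nat_lit 0, nat_lit 3, nat_lit 4, nat_lit 3, nat_lit 5, nat_lit 0, nat_lit 3, nat_lit 4] else [nat_lit 5, nat_lit 4, nat_lit 5, nat_lit 4, nat_lit 5, nat_lit 4, nat_lit 5, nat_lit 4, nat_lit 5, nat_lit 4, nat_lit 5, nat_lit 4, nat_lit 5, nat_lit 4, nat_lit 5, nat_lit 4, nat_lit 5, nat_lit 4, nat_lit 5, nat_lit 4, nat_lit 5, nat_lit 4, nat_lit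 5, nat_lit 4]
def Wt_1024_1027 (j : ℕ) : List ℕ := bif Nat.blt j 1025 then [nat_lit 1, nat_lit 4, nat_lit 2, nat_lit 4, nat_lit 3, nat_lit 4, nat_lit 2, nat_lit 4, nat_lit 2, nat_lit 4, nat_lit 3, nat_lit 4, nat_lit 3, nat_lit 0, nat_lit 3, nat_lit 1, nat_lit 2] else (Wt_1025_1027 j)
def Wt_1021_1027 (j : ℕ) : List ℕ := bif Nat.blt j 1024 then (Wt_1021_1024 j) else (Wt_1024_1027 j)
def Wt_1028_1030 (j : ℕ) : List ℕ := bif Nat.blt j 1029 then [nat_lit 63, nat_lit 4, nat_lit 2, nat_lit 4, nat_lit 2, nat_lit 1, nat_lit 4, nat_lit 1, nat_lit 4, nat_lit 2, nat_lit 4, nat_lit 3, nat_lit 4, nat_lit 2, nat_lit 1, nat_lit 4, nat_lit 1, nat_lit 2] else [nat_lit 63, nat_lit 2, nat_lit 3, nat_lit 5, nat_lit 3, nat_lit 5]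
def Wt_1027_1030 (j : ℕ) : List ℕ := bif Nat.blt j 1028 then [nat_lit 63, nat_lit 5, nat_lit 0, nat_lit 4, nat_lit 1, nat_lit 4, nat_lit 5, nat_lit 0, nat_lit 4, nat_lit 1, nat_lit 4, nat_lit 5, nat_lit 0, nat_lit 4, nat_lit 1, nat_lit 4, nat_lit 5, nat_lit 0, nat_lit 4, nat_lit 1, nat_lit 4] else (Wt_1028_1030 j)
def Wt_1031_1033 (j : ℕ) : List ℕ := bif Nat.blt j 1032 then [nat_lit 63, nat_lit 0, nat_lit 3, nat_lit 1, nat_lit 2, nat_lit 1, nat_lit 4, nat_lit 2, nat_lit 4, nat_lit 3, nat_lit 4, nat_lit 2, nat_lit 4, nat_lit 2, nat_lit 4, nat_lit 3, nat_lit 4, nat_lit 3] else [nat_lit 63, nat_lit 4, nat_lit 2, nat_lit 4, nat_lit 3, nat_lit 4, nat_lit 2, nat_lit 4, nat_lit 2, nat_lit 4, nat_lit 3, nat_lit 4, nat_lit 1, nat_lit 2, nat_lit 1, nat_lit 3, nat_lit 0, nat_lit 3]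
def Wt_1030_1033 (j : ℕ) : List ℕ := bif Nat.blt j 1031 then [nat_lit 4, nat_lit 5, nat_lit 1, nat_lit 4, nat_lit 1, nat_lit 2, nat_lit 1, nat_lit 4, nat_lit 5, nat_lit 1, nat_lit 4, nat_lit 1, nat_lit 2, nat_lit 1, nat_lit 4, nat_lit 5, nat_lit 1, nat_lit 4, nat_lit 1, nat_lit 2, nat_lit 1] else (Wt_1031_1033 j)
def Wt_1027_1033 (j : ℕ) : List ℕ := bif Nat.blt j 1030 then (Wt_1027_1030 j) else (Wt_1030_1033 j)
def Wt_1021_1033 (j : ℕ) : List ℕ := bif Nat.blt j 1027 then (Wt_1021_1027 j) else (Wt_1027_1033 j)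
def Wt_1034_1036 (j : ℕ) : List ℕ := bif Nat.blt j 1035 then [nat_lit 63, nat_lit 3, nat_lit 4, nat_lit 0, nat_lit 5, nat_lit 4, nat_lit 3, nat_lit 4, nat_lit 0, nat_lit 5, nat_lit 4, nat_lit 3, nat_lit 4, nat_lit 0, nat_lit 5, nat_lit 4, nat_lit 3, nat_lit 4, nat_lit 0, nat_lit 5, nat_lit 4, nat_lit 3, nat_lit 4, nat_lit 0, nat_lit 5, nat_lit 4, nat_lit 3, nat_lit 4, nat_lit 0, nat_lit 5, nat_lit 4] else [nat_lit 1, nat_lit 4, nat_lit 2, nat_lit 3, nat_lit 4, nat_lit 5, nat_lit 1, nat_lit 4, nat_lit 2, nat_lit 3, nat_lit 4, nat_lit 5, nat_lit 1, nat_lit 4, nat_lit 2, nat_lit 3, nat_lit 4, nat_lit 5, nat_lit 1, nat_lit 4, nat_lit 2, nat_lit 3, nat_lit 4, nat_lit 5]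
def Wt_1033_1036 (j : ℕ) : List ℕ := bif Nat.blt j 1034 then [nat_lit 63, nat_lit 0, nat_lit 3, nat_lit 5, nat_lit 4, nat_lit 0, nat_lit 4, nat_lit 3, nat_lit 0, nat_lit 3, nat_lit 5, nat_lit 4, nat_lit 0, nat_lit 4, nat_lit 3, nat_lit 0, nat_lit 3, nat_lit 5, nat_lit 4, nat_lit 0, nat_lit 4, nat_lit 3, nat_lit 0, nat_lit 3, nat_lit 5, nat_lit 4, nat_lit 0, nat_lit 4, nat_lit 3, nat_lit 0, nat_lit 3, nat_lit 5, nat_lit 4, nat_lit 0, nat_lit 4, nat_lit 3] else (Wt_1034_1036 j)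
def Wt_1037_1039 (j : ℕ) : List ℕ := bif Nat.blt j 1038 then [nat_lit 2, nat_lit 4, nat_lit 1, nat_lit 2, nat_lit 1, nat_lit 3, nat_lit 0, nat_lit 3, nat_lit 4, nat_lit 3, nat_lit 4, nat_lit 2, nat_lit 4, nat_lit 2, nat_lit 4, nat_lit 3, nat_lit 4] else [nat_lit 63, nat_lit 4, nat_lit 1, nat_lit 2, nat_lit 4, nat_lit 3, nat_lit 4, nat_lit 2, nat_lit 4, nat_lit 1, nat_lit 4, nat_lit 1, nat_lit 2, nat_lit 4, nat_lit 2, nat_lit 4, nat_lit 2, nat_lit 1]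
def Wt_1036_1039 (j : ℕ) : List ℕ := bif Nat.blt j 1037 then [nat_lit 2, nat_lit 0, nat_lit 4, nat_lit 1, nat_lit 4, nat_lit 0, nat_lit 2, nat_lit 4, nat_lit 1, nat_lit 4, nat_lit 2, nat_lit 0, nat_lit 4, nat_lit 1, nat_lit 4] else (Wt_1037_1039 j)
def Wt_1033_1039 (j : ℕ) : List ℕ := bif Nat.blt j 1036 then (Wt_1033_1036 j) else (Wt_1036_1039 j)
def Wt_1040_1042 (j : ℕ) : List ℕ := bif Nat.blt j 1041 then [nat_lit 1, nat_lit 4, nat_lit 1, nat_lit 2, nat_lit 1, nat_lit 4, nat_lit 5, nat_lit 1, nat_lit 4, nat_lit 1, nat_lit 2, nat_lit 1, nat_lit 4, nat_lit 5, nat_lit 1, nat_lit 4, nat_lit 1, nat_lit 2, nat_lit 1, nat_lit 4, nat_lit 5] else [nat_lit 0, nat_lit 1, nat_lit 3, nat_lit 1, nat_lit 2, nat_lit 1, nat_lit 0, nat_lit 1, nat_lit 3, nat_lit 1, nat_lit 2, nat_lit 1, nat_lit 0, nat_lit 1, nat_lit 3, nat_lit 1, nat_lit 2, nat_lit 1]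
def Wt_1039_1042 (j : ℕ) : List ℕ := bif Nat.blt j 1040 then [nat_lit 63, nat_lit 1, nat_lit 4, nat_lit 0, nat_lit 1, nat_lit 4, nat_lit 3, nat_lit 2, nat_lit 4, nat_lit 1, nat_lit 0, nat_lit 4, nat_lit 1, nat_lit 2, nat_lit 1, nat_lit 4, nat_lit 1, nat_lit 2] else (Wt_1040_1042 j)
def Wt_1043_1045 (j : ℕ) : List ℕ := bif Nat.blt j 1044 then [nat_lit 4, nat_lit 0, nat_lit 2, nat_lit 4, nat_lit 0, nat_lit 2, nat_lit 4, nat_lit 3, nat_lit 2, nat_lit 3, nat_lit 0, nat_lit 4, nat_lit 2, nat_lit 0, nat_lit 4, nat_lit 2, nat_lit 0] else [nat_lit 2, nat_lit 0, nat_lit 4, nat_lit 0, nat_lit 2, nat_lit 4, nat_lit 0, nat_lit 2, nat_lit 4, nat_lit 0, nat_lit 3, nat_lit 2, nat_lit 3, nat_lit 4, nat_lit 2, nat_lit 0, nat_lit 4]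
def Wt_1042_1045 (j : ℕ) : List ℕ := bif Nat.blt j 1043 then [nat_lit 63, nat_lit 4, nat_lit 1, nat_lit 2, nat_lit 1, nat_lit 4, nat_lit 1, nat_lit 2, nat_lit 1, nat_lit 4, nat_lit 0, nat_lit 1, nat_lit 4, nat_lit 3, nat_lit 2, nat_lit 4, nat_lit 1, nat_lit 0] else (Wt_1043_1045 j)
def Wt_1039_1045 (j : ℕ) : List ℕ := bif Nat.blt j 1042 then (Wt_1039_1042 j) else (Wt_1042_1045 j)
def Wt_1033_1045 (j : ℕ) : List ℕ := bif Nat.blt j 1039 then (Wt_1033_1039 j) else (Wt_1039_1045 j)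
def Wt_1021_1045 (j : ℕ) : List ℕ := bif Nat.blt j 1033 then (Wt_1021_1033 j) else (Wt_1033_1045 j)
def Wt_1046_1048 (j : ℕ) : List ℕ := bif Nat.blt j 1047 then [nat_lit 63, nat_lit 4, nat_lit 0, nat_lit 1, nat_lit 4, nat_lit 5, nat_lit 1, nat_lit 4, nat_lit 0, nat_lit 2, nat_lit 4, nat_lit 0, nat_lit 1, nat_lit 4, nat_lit 5, nat_lit 1, nat_lit 4, nat_lit 0, nat_lit 2, nat_lit 4, nat_lit 0, nat_lit 1, nat_lit 4, nat_lit 5, nat_lit 1, nat_lit 4, nat_lit 0, nat_lit 2, nat_lit 4, nat_lit 0, nat_lit 1, nat_lit 4, nat_lit 5, nat_lit 1, nat_lit 4, nat_lit 0, nat_lit 2, nat_lit 4, nat_lit 0, nat_lit 1, nat_lit 4, nat_lit 5, nat_lit 1, nat_lit 4, nat_lit 0, nat_lit 2] else [nat_lit 0, nat_lit 1, nat_lit 0, nat_lit 4, nat_lit 1, nat_lit 5, nat_lit 4, nat_lit 3, nat_lit 0, nat_lit 1, nat_lit 0, nat_lit 4, nat_lit 1, nat_lit 5, nat_lit 4, nat_lit 3, nat_lit 0, nat_lit 1, nat_lit 0,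 nat_lit 4, nat_lit 1, nat_lit 5, nat_lit 4, nat_lit 3, nat_lit 0, nat_lit 1, nat_lit 0, nat_lit 4, nat_lit 1, nat_lit 5, nat_lit 4, nat_lit 3, nat_lit 0, nat_lit 1, nat_lit 0, nat_lit 4, nat_lit 1, nat_lit 5, nat_lit 4, nat_lit 3, nat_lit 0, nat_lit 1, nat_lit 0, nat_lit 4, nat_lit 1, nat_lit 5, nat_lit 4, nat_lit 3]
def Wt_1045_1048 (j : ℕ) : List ℕ := bif Nat.blt j 1046 then [nat_lit 0, nat_lit 5, nat_lit 4, nat_lit 0, nat_lit 4, nat_lit 3, nat_lit 4, nat_lit 1, nat_lit 0, nat_lit 5, nat_lit 4, nat_lit 0, nat_lit 4, nat_lit 3, nat_lit 4, nat_lit 1, nat_lit 0, nat_lit 5, nat_lit 4, nat_lit 0, nat_lit 4, nat_lit 3, nat_lit 4, nat_lit 1, nat_lit 0, nat_lit 5, nat_lit 4, nat_lit 0, nat_lit 4, nat_lit 3, nat_lit 4, nat_lit 1, nat_lit 0, nat_lit 5, nat_lit 4, nat_lit 0, nat_lit 4, nat_lit 3, nat_lit 4, nat_lit 1] else (Wt_1046_1048 j)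
def Wt_1049_1051 (j : ℕ) : List ℕ := bif Nat.blt j 1050 then [nat_lit 63, nat_lit 4, nat_lit 1, nat_lit 4, nat_lit 3, nat_lit 2, nat_lit 0, nat_lit 3, nat_lit 1, nat_lit 4, nat_lit 1, nat_lit 4, nat_lit 0, nat_lit 4, nat_lit 1, nat_lit 4, nat_lit 2, nat_lit 1] else [nat_lit 63, nat_lit 0, nat_lit 1, nat_lit 3, nat_lit 4, nat_lit 0, nat_lit 1, nat_lit 4, nat_lit 1, nat_lit 3, nat_lit 4, nat_lit 1, nat_lit 0, nat_lit 4, nat_lit 1, nat_lit 0, nat_lit 2, nat_lit 1]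
def Wt_1048_1051 (j : ℕ) : List ℕ := bif Nat.blt j 1049 then [nat_lit 1, nat_lit 0, nat_lit 4, nat_lit 1, nat_lit 5, nat_lit 4, nat_lit 3, nat_lit 0, nat_lit 1, nat_lit 0, nat_lit 4, nat_lit 1, nat_lit 5, nat_lit 4, nat_lit 3, nat_lit 0, nat_lit 1, nat_lit 0, nat_lit 4, nat_lit 1, nat_lit 5, nat_lit 4, nat_lit 3, nat_lit 0, nat_lit 1, nat_lit 0, nat_lit 4, nat_lit 1, nat_lit 5, nat_lit 4, nat_lit 3, nat_lit 0, nat_lit 1, nat_lit 0, nat_lit 4, nat_lit 1, nat_lit 5, nat_lit 4, nat_lit 3, nat_lit 0, nat_lit 1, nat_lit 0, nat_lit 4, nat_lit 1, nat_lit 5, nat_lit 4, nat_lit 3, nat_lit 0] else (Wt_1049_1051 j)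
def Wt_1045_1051 (j : ℕ) : List ℕ := bif Nat.blt j 1048 then (Wt_1045_1048 j) else (Wt_1048_1051 j)
def Wt_1052_1054 (j : ℕ) : List ℕ := bif Nat.blt j 1053 then [nat_lit 1, nat_lit 3, nat_lit 0, nat_lit 2, nat_lit 3, nat_lit 4, nat_lit 1, nat_lit 4, nat_lit 1, nat_lit 2, nat_lit 4, nat_lit 1, nat_lit 4, nat_lit 0, nat_lit 4, nat_lit 1, nat_lit 4] else [nat_lit 63, nat_lit 0, nat_lit 4, nat_lit 3, nat_lit 4, nat_lit 2, nat_lit 5, nat_lit 1, nat_lit 2, nat_lit 4, nat_lit 0, nat_lit 4, nat_lit 3, nat_lit 4, nat_lit 2, nat_lit 5, nat_lit 1, nat_lit 2, nat_lit 4, nat_lit 0, nat_lit 4, nat_lit 3, nat_lit 4, nat_lit 2, nat_lit 5, nat_lit 1, nat_lit 2, nat_lit 4]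
def Wt_1051_1054 (j : ℕ) : List ℕ := bif Nat.blt j 1052 then [nat_lit 2, nat_lit 1, nat_lit 4, nat_lit 1, nat_lit 4, nat_lit 3, nat_lit 2, nat_lit 0, nat_lit 3, nat_lit 1, nat_lit 4, nat_lit 1, nat_lit 4, nat_lit 0, nat_lit 4, nat_lit 1, nat_lit 4] else (Wt_1052_1054 j)
def Wt_1055_1057 (j : ℕ) : List ℕ := bif Nat.blt j 1056 then [nat_lit 0, nat_lit 3, nat_lit 4, nat_lit 3, nat_lit 5, nat_lit 0, nat_lit 3, nat_lit 4, nat_lit 3, nat_lit 5, nat_lit 0, nat_lit 3, nat_lit 4, nat_lit 3, nat_lit 5, nat_lit 0, nat_lit 3, nat_lit 4, nat_lit 3, nat_lit 5, nat_lit 0, nat_lit 3, nat_lit 4, nat_lit 3, nat_lit 5] else [nat_lit 63, nat_lit 4, nat_lit 2, nat_lit 3, nat_lit 4, nat_lit 5, nat_lit 1, nat_lit 4, nat_lit 2, nat_lit 3, nat_lit 4, nat_lit 5, nat_lit 1, nat_lit 4, nat_lit 2, nat_lit 3, nat_lit 4, nat_lit 5, nat_lit 1, nat_lit 4, nat_lit 2, nat_lit 3, nat_lit 4, nat_lit 5, nat_lit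 1]
def Wt_1054_1057 (j : ℕ) : List ℕ := bif Nat.blt j 1055 then [nat_lit 63, nat_lit 4, nat_lit 0, nat_lit 3, nat_lit 0, nat_lit 4, nat_lit 3, nat_lit 0, nat_lit 4, nat_lit 3, nat_lit 4, nat_lit 3, nat_lit 2, nat_lit 4, nat_lit 3, nat_lit 4, nat_lit 0, nat_lit 3] else (Wt_1055_1057 j)
def Wt_1051_1057 (j : ℕ) : List ℕ := bif Nat.blt j 1054 then (Wt_1051_1054 j) else (Wt_1054_1057 j)
def Wt_1045_1057 (j : ℕ) : List ℕ := bif Nat.blt j 1051 then (Wt_1045_1051 j) else (Wt_1051_1057 j)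
def Wt_1058_1060 (j : ℕ) : List ℕ := bif Nat.blt j 1059 then [nat_lit 63, nat_lit 4, nat_lit 5, nat_lit 1, nat_lit 4, nat_lit 1, nat_lit 0, nat_lit 4, nat_lit 0, nat_lit 2, nat_lit 4, nat_lit 5, nat_lit 1, nat_lit 4, nat_lit 1, nat_lit 0, nat_lit 4, nat_lit 0, nat_lit 2, nat_lit 4, nat_lit 5, nat_lit 1, nat_lit 4, nat_lit 1, nat_lit 0, nat_lit 4, nat_lit 0, nat_lit 2, nat_lit 4, nat_lit 5, nat_lit 1, nat_lit 4, nat_lit 1, nat_lit 0, nat_lit 4, nat_lit 0, nat_lit 2, nat_lit 4, nat_lit 5, nat_lit 1, nat_lit 4, nat_lit 1, nat_lit 0, nat_lit 4, nat_lit 0, nat_lit 2] else [nat_lit 4, nat_lit 2, nat_lit 0, nat_lit 4, nat_lit 2, nat_lit 0, nat_lit 4, nat_lit 0, nat_lit 2, nat_lit 4, nat_lit 0, nat_lit 2, nat_lit 4, nat_lit 3, nat_lit 2, nat_lit 3, nat_lit 0]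
def Wt_1057_1060 (j : ℕ) : List ℕ := bif Nat.blt j 1058 then [nat_lit 1, nat_lit 2, nat_lit 4, nat_lit 2, nat_lit 5, nat_lit 1, nat_lit 2, nat_lit 4, nat_lit 2, nat_lit 5, nat_lit 1, nat_lit 2, nat_lit 4, nat_lit 2, nat_lit 5, nat_lit 1, nat_lit 2, nat_lit 4, nat_lit 2, nat_lit 5, nat_lit 1, nat_lit 2, nat_lit 4, nat_lit 2, nat_lit 5, nat_lit 1, nat_lit 2, nat_lit 4, nat_lit 2, nat_lit 5] else (Wt_1058_1060 j)
def Wt_1061_1063 (j : ℕ) : List ℕ := bif Nat.blt j 1062 then [nat_lit 63, nat_lit 2, nat_lit 1, nat_lit 2, nat_lit 4, nat_lit 1, nat_lit 3, nat_lit 4, nat_lit 0, nat_lit 4, nat_lit 0, nat_lit 2, nat_lit 4, nat_lit 0, nat_lit 4, nat_lit 3, nat_lit 1, nat_lit 4] else [nat_lit 63, nat_lit 1, nat_lit 4, nat_lit 5, nat_lit 1, nat_lit 4, nat_lit 0, nat_lit 2, nat_lit 4, nat_lit 0, nat_lit 1, nat_lit 4, nat_lit 5, nat_lit 1, nat_lit 4, nat_lit 0, nat_lit 2, nat_lit 4, nat_lit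 0, nat_lit 1, nat_lit 4, nat_lit 5, nat_lit 1, nat_lit 4, nat_lit 0, nat_lit 2, nat_lit 4, nat_lit 0, nat_lit 1, nat_lit 4, nat_lit 5, nat_lit 1, nat_lit 4, nat_lit 0, nat_lit 2, nat_lit 4, nat_lit 0, nat_lit 1, nat_lit 4, nat_lit 5, nat_lit 1, nat_lit 4, nat_lit 0, nat_lit 2, nat_lit 4, nat_lit 0]
def Wt_1060_1063 (j : ℕ) : List ℕ := bif Nat.blt j 1061 then [nat_lit 63, nat_lit 2, nat_lit 0, nat_lit 4, nat_lit 2, nat_lit 0, nat_lit 4, nat_lit 0, nat_lit 2, nat_lit 4, nat_lit 0, nat_lit 2, nat_lit 4, nat_lit 0, nat_lit 3, nat_lit 2, nat_lit 3, nat_lit 4] else (Wt_1061_1063 j)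
def Wt_1057_1063 (j : ℕ) : List ℕ := bif Nat.blt j 1060 then (Wt_1057_1060 j) else (Wt_1060_1063 j)
def Wt_1064_1066 (j : ℕ) : List ℕ := bif Nat.blt j 1065 then [nat_lit 5, nat_lit 63, nat_lit 5, nat_lit 63] else [nat_lit 4, nat_lit 0, nat_lit 3, nat_lit 0, nat_lit 4, nat_lit 3, nat_lit 0, nat_lit 4, nat_lit 3, nat_lit 4, nat_lit 3, nat_lit 2, nat_lit 4, nat_lit 3, nat_lit 4, nat_lit 0, nat_lit 3]
def Wt_1063_1066 (j : ℕ) : List ℕ := bif Nat.blt j 1064 then [nat_lit 2, nat_lit 4, nat_lit 2, nat_lit 4, nat_lit 2, nat_lit 1, nat_lit 5, nat_lit 4, nat_lit 3, nat_lit 2, nat_lit 4, nat_lit 2, nat_lit 4, nat_lit 2, nat_lit 1, nat_lit 5, nat_lit 4, nat_lit 3, nat_lit 2, nat_lit 4, nat_lit 2, nat_lit 4, nat_lit 2, nat_lit 1, nat_lit 5, nat_lit 4, nat_lit 3, nat_lit 2, nat_lit 4, nat_lit 2, nat_lit 4, nat_lit 2, nat_lit 1, nat_lit 5, nat_lit 4, nat_lit 3, nat_lit 2, nat_lit 4, nat_lit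 2, nat_lit 4, nat_lit 2, nat_lit 1, nat_lit 5, nat_lit 4, nat_lit 3, nat_lit 2, nat_lit 4, nat_lit 2, nat_lit 4, nat_lit 2, nat_lit 1, nat_lit 5, nat_lit 4, nat_lit 3] else (Wt_1064_1066 j)
def Wt_1066_1068 (j : ℕ) : List ℕ := bif Nat.blt j 1067 then [nat_lit 63, nat_lit 3, nat_lit 5, nat_lit 3, nat_lit 2, nat_lit 5] else [nat_lit 1, nat_lit 2, nat_lit 4, nat_lit 1, nat_lit 4, nat_lit 0, nat_lit 4, nat_lit 1, nat_lit 4, nat_lit 1, nat_lit 3, nat_lit 0, nat_lit 2, nat_lit 3, nat_lit 4, nat_lit 1, nat_lit 4]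
def Wt_1068_1070 (j : ℕ) : List ℕ := bif Nat.blt j 1069 then [nat_lit 63, nat_lit 4, nat_lit 3, nat_lit 4, nat_lit 1, nat_lit 2, nat_lit 1, nat_lit 3, nat_lit 0, nat_lit 3, nat_lit 4, nat_lit 2, nat_lit 4, nat_lit 3, nat_lit 4, nat_lit 2, nat_lit 4, nat_lit 2] else [nat_lit 63, nat_lit 5, nat_lit 3, nat_lit 5, nat_lit 3, nat_lit 5, nat_lit 3, nat_lit 5, nat_lit 3]
def Wt_1066_1070 (j : ℕ) : List ℕ := bif Nat.blt j 1068 then (Wt_1066_1068 j) else (Wt_1068_1070 j)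
def Wt_1063_1070 (j : ℕ) : List ℕ := bif Nat.blt j 1066 then (Wt_1063_1066 j) else (Wt_1066_1070 j)
def Wt_1057_1070 (j : ℕ) : List ℕ := bif Nat.blt j 1063 then (Wt_1057_1063 j) else (Wt_1063_1070 j)
def Wt_1045_1070 (j : ℕ) : List ℕ := bif Nat.blt j 1057 then (Wt_1045_1057 j) else (Wt_1057_1070 j)
def Wt_1021_1070 (j : ℕ) : List ℕ := bif Nat.blt j 1045 then (Wt_1021_1045 j) else (Wt_1045_1070 j)
def Wt_973_1070 (j : ℕ) : List ℕ := bif Nat.blt j 1021 then (Wt_973_1021 j) else (Wt_1021_1070 j)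
def Wt_1071_1073 (j : ℕ) : List ℕ := bif Nat.blt j 1072 then [nat_lit 63, nat_lit 1, nat_lit 0, nat_lit 2, nat_lit 1, nat_lit 0, nat_lit 2, nat_lit 1, nat_lit 0, nat_lit 2, nat_lit 1, nat_lit 0, nat_lit 2, nat_lit 1, nat_lit 0, nat_lit 2] else [nat_lit 0, nat_lit 4, nat_lit 0, nat_lit 2, nat_lit 4, nat_lit 0, nat_lit 4, nat_lit 3, nat_lit 1, nat_lit 4, nat_lit 2, nat_lit 1, nat_lit 2, nat_lit 4, nat_lit 1, nat_lit 3, nat_lit 4]
def Wt_1070_1073 (j : ℕ) : List ℕ := bif Nat.blt j 1071 then [nat_lit 63, nat_lit 3, nat_lit 5, nat_lit 3, nat_lit 5, nat_lit 2] else (Wt_1071_1073 j)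
def Wt_1074_1076 (j : ℕ) : List ℕ := bif Nat.blt j 1075 then [nat_lit 63, nat_lit 5, nat_lit 4, nat_lit 2, nat_lit 4, nat_lit 5, nat_lit 4, nat_lit 2, nat_lit 4, nat_lit 5, nat_lit 4, nat_lit 2, nat_lit 4, nat_lit 5, nat_lit 4, nat_lit 2, nat_lit 4, nat_lit 5, nat_lit 4, nat_lit 2, nat_lit 4, nat_lit 5, nat_lit 4, nat_lit 2, nat_lit 4] else [nat_lit 1, nat_lit 4, nat_lit 1, nat_lit 4, nat_lit 3, nat_lit 2, nat_lit 0, nat_lit 3, nat_lit 1, nat_lit 4, nat_lit 1, nat_lit 4, nat_lit 0, nat_lit 4, nat_lit 1, nat_lit 4, nat_lit 2]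
def Wt_1073_1076 (j : ℕ) : List ℕ := bif Nat.blt j 1074 then [nat_lit 63, nat_lit 0, nat_lit 3, nat_lit 1, nat_lit 2, nat_lit 1, nat_lit 4, nat_lit 3, nat_lit 4, nat_lit 2, nat_lit 4, nat_lit 2, nat_lit 4, nat_lit 3, nat_lit 4, nat_lit 2, nat_lit 4, nat_lit 3] else (Wt_1074_1076 j)
def Wt_1070_1076 (j : ℕ) : List ℕ := bif Nat.blt j 1073 then (Wt_1070_1073 j) else (Wt_1073_1076 j)
def Wt_1077_1079 (j : ℕ) : List ℕ := bif Nat.blt j 1078 then [nat_lit 63, nat_lit 1, nat_lit 0, nat_lit 4, nat_lit 1, nat_lit 2, nat_lit 1, nat_lit 4, nat_lit 1, nat_lit 2, nat_lit 1, nat_lit 4, nat_lit 0, nat_lit 1, nat_lit 4, nat_lit 2, nat_lit 3, nat_lit 4] else [nat_lit 63, nat_lit 3, nat_lit 4, nat_lit 3, nat_lit 4, nat_lit 2, nat_lit 5, nat_lit 4, nat_lit 3, nat_lit 4, nat_lit 3, nat_lit 4, nat_lit 2, nat_lit 5, nat_lit 4, nat_lit 3, nat_lit 4, nat_lit 3, nat_lit 4, nat_lit 2, nat_lit 5,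 nat_lit 4, nat_lit 3, nat_lit 4, nat_lit 3, nat_lit 4, nat_lit 2, nat_lit 5, nat_lit 4, nat_lit 3, nat_lit 4, nat_lit 3, nat_lit 4, nat_lit 2, nat_lit 5, nat_lit 4]
def Wt_1076_1079 (j : ℕ) : List ℕ := bif Nat.blt j 1077 then [nat_lit 63, nat_lit 0, nat_lit 4, nat_lit 3, nat_lit 1, nat_lit 4, nat_lit 2, nat_lit 1, nat_lit 2, nat_lit 4, nat_lit 1, nat_lit 3, nat_lit 4, nat_lit 0, nat_lit 4, nat_lit 2, nat_lit 0, nat_lit 4] else (Wt_1077_1079 j)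
def Wt_1080_1082 (j : ℕ) : List ℕ := bif Nat.blt j 1081 then [nat_lit 4, nat_lit 2, nat_lit 0, nat_lit 4, nat_lit 1, nat_lit 4, nat_lit 0, nat_lit 2, nat_lit 4, nat_lit 1, nat_lit 4, nat_lit 2, nat_lit 0, nat_lit 4, nat_lit 1] else [nat_lit 2, nat_lit 4, nat_lit 0, nat_lit 4, nat_lit 3, nat_lit 4, nat_lit 2, nat_lit 5, nat_lit 1, nat_lit 2, nat_lit 4, nat_lit 0, nat_lit 4, nat_lit 3, nat_lit 4, nat_lit 2, nat_lit 5, nat_lit 1, nat_lit 2, nat_lit 4, nat_lit 0, nat_lit 4, nat_lit 3, nat_lit 4, nat_lit 2, nat_lit 5, nat_lit 1]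
def Wt_1079_1082 (j : ℕ) : List ℕ := bif Nat.blt j 1080 then [nat_lit 2, nat_lit 1, nat_lit 4, nat_lit 1, nat_lit 4, nat_lit 2, nat_lit 4, nat_lit 3, nat_lit 4, nat_lit 2, nat_lit 1, nat_lit 4, nat_lit 1, nat_lit 2, nat_lit 4, nat_lit 2, nat_lit 4] else (Wt_1080_1082 j)
def Wt_1076_1082 (j : ℕ) : List ℕ := bif Nat.blt j 1079 then (Wt_1076_1079 j) else (Wt_1079_1082 j)
def Wt_1070_1082 (j : ℕ) : List ℕ := bif Nat.blt j 1076 then (Wt_1070_1076 j) else (Wt_1076_1082 j)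
def Wt_1083_1085 (j : ℕ) : List ℕ := bif Nat.blt j 1084 then [nat_lit 63, nat_lit 3, nat_lit 4, nat_lit 3, nat_lit 4, nat_lit 0, nat_lit 3, nat_lit 4, nat_lit 0, nat_lit 3, nat_lit 0, nat_lit 4, nat_lit 3, nat_lit 0, nat_lit 4, nat_lit 3, nat_lit 4, nat_lit 2] else [nat_lit 63, nat_lit 4, nat_lit 1, nat_lit 4, nat_lit 3, nat_lit 2, nat_lit 4, nat_lit 3, nat_lit 4, nat_lit 0, nat_lit 1, nat_lit 3, nat_lit 2, nat_lit 1, nat_lit 4, nat_lit 0, nat_lit 1, nat_lit 0]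
def Wt_1082_1085 (j : ℕ) : List ℕ := bif Nat.blt j 1083 then [nat_lit 63, nat_lit 2, nat_lit 4, nat_lit 2, nat_lit 4, nat_lit 3, nat_lit 4, nat_lit 3, nat_lit 0, nat_lit 3, nat_lit 1, nat_lit 2, nat_lit 1, nat_lit 4, nat_lit 2, nat_lit 4, nat_lit 3, nat_lit 4] else (Wt_1083_1085 j)
def Wt_1086_1088 (j : ℕ) : List ℕ := bif Nat.blt j 1087 then [nat_lit 63, nat_lit 1, nat_lit 4, nat_lit 0, nat_lit 1, nat_lit 4, nat_lit 2, nat_lit 3, nat_lit 4, nat_lit 1, nat_lit 0, nat_lit 4, nat_lit 1, nat_lit 2, nat_lit 1, nat_lit 4, nat_lit 1, nat_lit 2] else [nat_lit 3, nat_lit 4, nat_lit 3, nat_lit 4, nat_lit 2, nat_lit 5, nat_lit 4, nat_lit 3, nat_lit 4, nat_lit 3, nat_lit 4, nat_lit 2, nat_lit 5, nat_lit 4, nat_lit 3, nat_lit 4, nat_lit 3, nat_lit 4, nat_lit 2, nat_lit 5, nat_lit 4, nat_lit 3, nat_lit 4, nat_lit 3, nat_lit 4, nat_lit 2, nat_lit 5, nat_lit 4, nat_lit 3, nat_lit 4, nat_lit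 3, nat_lit 4, nat_lit 2, nat_lit 5, nat_lit 4]
def Wt_1085_1088 (j : ℕ) : List ℕ := bif Nat.blt j 1086 then [nat_lit 63, nat_lit 2, nat_lit 4, nat_lit 1, nat_lit 4, nat_lit 2, nat_lit 4, nat_lit 3, nat_lit 2, nat_lit 4, nat_lit 3, nat_lit 0, nat_lit 3, nat_lit 1, nat_lit 4, nat_lit 2, nat_lit 3, nat_lit 4] else (Wt_1086_1088 j)
def Wt_1082_1088 (j : ℕ) : List ℕ := bif Nat.blt j 1085 then (Wt_1082_1085 j) else (Wt_1085_1088 j)
def Wt_1089_1091 (j : ℕ) : List ℕ := bif Nat.blt j 1090 then [nat_lit 5, nat_lit 1, nat_lit 2, nat_lit 4, nat_lit 0, nat_lit 4, nat_lit 3, nat_lit 4, nat_lit 2, nat_lit 5, nat_lit 1, nat_lit 2, nat_lit 4, nat_lit 0, nat_lit 4, nat_lit 3, nat_lit 4, nat_lit 2, nat_lit 5, nat_lit 1, nat_lit 2, nat_lit 4, nat_lit 0, nat_lit 4, nat_lit 3, nat_lit 4, nat_lit 2] else [nat_lit 63, nat_lit 4, nat_lit 1, nat_lit 4, nat_lit 0, nat_lit 5, nat_lit 4, nat_lit 1,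 nat_lit 4, nat_lit 0, nat_lit 5, nat_lit 4, nat_lit 1, nat_lit 4, nat_lit 0, nat_lit 5, nat_lit 4, nat_lit 1, nat_lit 4, nat_lit 0, nat_lit 5]
def Wt_1088_1091 (j : ℕ) : List ℕ := bif Nat.blt j 1089 then [nat_lit 63, nat_lit 2, nat_lit 1, nat_lit 4, nat_lit 0, nat_lit 1, nat_lit 4, nat_lit 2, nat_lit 3, nat_lit 4, nat_lit 1, nat_lit 0, nat_lit 4, nat_lit 1, nat_lit 2, nat_lit 1, nat_lit 4, nat_lit 1] else (Wt_1089_1091 j)
def Wt_1092_1094 (j : ℕ) : List ℕ := bif Nat.blt j 1093 then [nat_lit 63, nat_lit 2, nat_lit 5, nat_lit 3, nat_lit 5, nat_lit 3] else [nat_lit 63, nat_lit 2, nat_lit 0, nat_lit 4, nat_lit 0, nat_lit 2, nat_lit 4, nat_lit 0, nat_lit 2, nat_lit 4, nat_lit 3, nat_lit 2, nat_lit 3, nat_lit 0, nat_lit 4, nat_lit 2, nat_lit 0, nat_lit 4]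
def Wt_1091_1094 (j : ℕ) : List ℕ := bif Nat.blt j 1092 then [nat_lit 63, nat_lit 3, nat_lit 5, nat_lit 2, nat_lit 3, nat_lit 5] else (Wt_1092_1094 j)
def Wt_1088_1094 (j : ℕ) : List ℕ := bif Nat.blt j 1091 then (Wt_1088_1091 j) else (Wt_1091_1094 j)
def Wt_1082_1094 (j : ℕ) : List ℕ := bif Nat.blt j 1088 then (Wt_1082_1088 j) else (Wt_1088_1094 j)
def Wt_1070_1094 (j : ℕ) : List ℕ := bif Nat.blt j 1082 then (Wt_1070_1082 j) else (Wt_1082_1094 j)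
def Wt_1095_1097 (j : ℕ) : List ℕ := bif Nat.blt j 1096 then [nat_lit 5, nat_lit 4, nat_lit 2, nat_lit 4, nat_lit 5, nat_lit 4, nat_lit 2, nat_lit 4, nat_lit 5, nat_lit 4, nat_lit 2, nat_lit 4, nat_lit 5, nat_lit 4, nat_lit 2, nat_lit 4, nat_lit 5, nat_lit 4, nat_lit 2, nat_lit 4, nat_lit 5, nat_lit 4, nat_lit 2, nat_lit 4] else [nat_lit 63, nat_lit 0, nat_lit 2, nat_lit 4, nat_lit 0, nat_lit 4, nat_lit 3, nat_lit 1, nat_lit 4, nat_lit 2, nat_lit 1, nat_lit 2, nat_lit 4, nat_lit 1, nat_lit 3, nat_lit 4, nat_lit 0, nat_lit 4]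
def Wt_1094_1097 (j : ℕ) : List ℕ := bif Nat.blt j 1095 then [nat_lit 63, nat_lit 4, nat_lit 2, nat_lit 4, nat_lit 2, nat_lit 1, nat_lit 4, nat_lit 1, nat_lit 2, nat_lit 4, nat_lit 3, nat_lit 4, nat_lit 2, nat_lit 4, nat_lit 1, nat_lit 4, nat_lit 1, nat_lit 2] else (Wt_1095_1097 j)
def Wt_1098_1100 (j : ℕ) : List ℕ := bif Nat.blt j 1099 then [nat_lit 4, nat_lit 1, nat_lit 4, nat_lit 0, nat_lit 4, nat_lit 1, nat_lit 4, nat_lit 2, nat_lit 1, nat_lit 4, nat_lit 1, nat_lit 4, nat_lit 3, nat_lit 2, nat_lit 0, nat_lit 3, nat_lit 1] else [nat_lit 63, nat_lit 0, nat_lit 2, nat_lit 4, nat_lit 0, nat_lit 2, nat_lit 4, nat_lit 0, nat_lit 3, nat_lit 2, nat_lit 3, nat_lit 4, nat_lit 2, nat_lit 0, nat_lit 4, nat_lit 2, nat_lit 0, nat_lit 4]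
def Wt_1097_1100 (j : ℕ) : List ℕ := bif Nat.blt j 1098 then [nat_lit 63, nat_lit 3, nat_lit 4, nat_lit 1, nat_lit 0, nat_lit 5, nat_lit 4, nat_lit 0, nat_lit 4, nat_lit 3, nat_lit 4, nat_lit 1, nat_lit 0, nat_lit 5, nat_lit 4, nat_lit 0, nat_lit 4, nat_lit 3, nat_lit 4, nat_lit 1, nat_lit 0, nat_lit 5, nat_lit 4, nat_lit 0, nat_lit 4, nat_lit 3, nat_lit 4, nat_lit 1, nat_lit 0, nat_lit 5, nat_lit 4, nat_lit 0, nat_lit 4, nat_lit 3, nat_lit 4, nat_lit 1, nat_lit 0, nat_lit 5, nat_lit 4, nat_lit 0, nat_lit 4] else (Wt_1098_1100 j)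
def Wt_1094_1100 (j : ℕ) : List ℕ := bif Nat.blt j 1097 then (Wt_1094_1097 j) else (Wt_1097_1100 j)
def Wt_1101_1103 (j : ℕ) : List ℕ := bif Nat.blt j 1102 then [nat_lit 63, nat_lit 3, nat_lit 0, nat_lit 3, nat_lit 4, nat_lit 0, nat_lit 4, nat_lit 5, nat_lit 3, nat_lit 0, nat_lit 3, nat_lit 4, nat_lit 0, nat_lit 4, nat_lit 5, nat_lit 3, nat_lit 0, nat_lit 3, nat_lit 4, nat_lit 0, nat_lit 4, nat_lit 5, nat_lit 3, nat_lit 0, nat_lit 3, nat_lit 4, nat_lit 0, nat_lit 4, nat_lit 5, nat_lit 3, nat_lit 0, nat_lit 3, nat_lit 4, nat_lit 0, nat_lit 4, nat_lit 5] else [nat_lit 63, nat_lit 4, nat_lit 0, nat_lit 1, nat_lit 4, nat_lit 2, nat_lit 3, nat_lit 4, nat_lit 1, nat_lit 0, nat_lit 4, nat_lit 1, nat_lit 2, nat_lit 1, nat_lit 4, nat_lit 1, nat_lit 2, nat_lit 1]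
def Wt_1100_1103 (j : ℕ) : List ℕ := bif Nat.blt j 1101 then [nat_lit 4, nat_lit 3, nat_lit 4, nat_lit 3, nat_lit 4, nat_lit 3, nat_lit 4, nat_lit 3, nat_lit 4, nat_lit 3, nat_lit 4, nat_lit 3, nat_lit 4, nat_lit 3, nat_lit 4, nat_lit 3] else (Wt_1101_1103 j)
def Wt_1104_1106 (j : ℕ) : List ℕ := bif Nat.blt j 1105 then [nat_lit 2, nat_lit 4, nat_lit 2, nat_lit 4, nat_lit 3, nat_lit 4, nat_lit 2, nat_lit 4, nat_lit 3, nat_lit 0, nat_lit 3, nat_lit 1, nat_lit 2, nat_lit 1, nat_lit 4, nat_lit 3, nat_lit 4] else [nat_lit 0, nat_lit 4, nat_lit 2, nat_lit 1, nat_lit 5, nat_lit 2, nat_lit 4, nat_lit 3, nat_lit 4, nat_lit 0, nat_lit 4, nat_lit 2, nat_lit 1, nat_lit 5, nat_lit 2, nat_lit 4, nat_lit 3, nat_lit 4, nat_lit 0, nat_lit 4, nat_lit 2, nat_lit 1, nat_lit 5, nat_lit 2, nat_lit 4, nat_lit 3, nat_lit 4]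
def Wt_1103_1106 (j : ℕ) : List ℕ := bif Nat.blt j 1104 then [nat_lit 63, nat_lit 1, nat_lit 4, nat_lit 3, nat_lit 2, nat_lit 0, nat_lit 3, nat_lit 1, nat_lit 4, nat_lit 1, nat_lit 4, nat_lit 0, nat_lit 4, nat_lit 1, nat_lit 4, nat_lit 2, nat_lit 1, nat_lit 4] else (Wt_1104_1106 j)
def Wt_1100_1106 (j : ℕ) : List ℕ := bif Nat.blt j 1103 then (Wt_1100_1103 j) else (Wt_1103_1106 j)
def Wt_1094_1106 (j : ℕ) : List ℕ := bif Nat.blt j 1100 then (Wt_1094_1100 j) else (Wt_1100_1106 j)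
def Wt_1107_1109 (j : ℕ) : List ℕ := bif Nat.blt j 1108 then [nat_lit 63, nat_lit 5, nat_lit 0, nat_lit 4, nat_lit 3, nat_lit 4, nat_lit 5, nat_lit 0, nat_lit 4, nat_lit 3, nat_lit 4, nat_lit 5, nat_lit 0, nat_lit 4, nat_lit 3, nat_lit 4, nat_lit 5, nat_lit 0, nat_lit 4, nat_lit 3, nat_lit 4, nat_lit 5, nat_lit 0, nat_lit 4, nat_lit 3, nat_lit 4, nat_lit 5, nat_lit 0, nat_lit 4, nat_lit 3, nat_lit 4] else [nat_lit 63, nat_lit 4, nat_lit 1, nat_lit 4, nat_lit 2, nat_lit 4, nat_lit 3, nat_lit 2, nat_lit 4, nat_lit 3, nat_lit 0, nat_lit 3, nat_lit 1, nat_lit 4, nat_lit 2, nat_lit 3, nat_lit 4, nat_lit 2]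
def Wt_1106_1109 (j : ℕ) : List ℕ := bif Nat.blt j 1107 then [nat_lit 63, nat_lit 0, nat_lit 1, nat_lit 4, nat_lit 1, nat_lit 5, nat_lit 0, nat_lit 1, nat_lit 0, nat_lit 1, nat_lit 4, nat_lit 1, nat_lit 5, nat_lit 0, nat_lit 1, nat_lit 0, nat_lit 1, nat_lit 4, nat_lit 1, nat_lit 5, nat_lit 0, nat_lit 1, nat_lit 0, nat_lit 1, nat_lit 4, nat_lit 1, nat_lit 5, nat_lit 0, nat_lit 1] else (Wt_1107_1109 j)
def Wt_1110_1112 (j : ℕ) : List ℕ := bif Nat.blt j 1111 then [nat_lit 63, nat_lit 4, nat_lit 2, nat_lit 0, nat_lit 4, nat_lit 2, nat_lit 0, nat_lit 4, nat_lit 0, nat_lit 2, nat_lit 4, nat_lit 0, nat_lit 2, nat_lit 4, nat_lit 3, nat_lit 2, nat_lit 3, nat_lit 0] else [nat_lit 63, nat_lit 3, nat_lit 4, nat_lit 2, nat_lit 4, nat_lit 3, nat_lit 4, nat_lit 2, nat_lit 4, nat_lit 2, nat_lit 4, nat_lit 3, nat_lit 4, nat_lit 1, nat_lit 2, nat_lit 1, nat_lit 3, nat_lit 0]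
def Wt_1109_1112 (j : ℕ) : List ℕ := bif Nat.blt j 1110 then [nat_lit 63, nat_lit 4, nat_lit 2, nat_lit 4, nat_lit 3, nat_lit 0, nat_lit 3, nat_lit 1, nat_lit 2, nat_lit 1, nat_lit 4, nat_lit 3, nat_lit 4, nat_lit 2, nat_lit 4, nat_lit 2, nat_lit 4, nat_lit 3] else (Wt_1110_1112 j)
def Wt_1106_1112 (j : ℕ) : List ℕ := bif Nat.blt j 1109 then (Wt_1106_1109 j) else (Wt_1109_1112 j)
def Wt_1113_1115 (j : ℕ) : List ℕ := bif Nat.blt j 1114 then [nat_lit 63, nat_lit 4, nat_lit 1, nat_lit 4, nat_lit 2, nat_lit 0, nat_lit 4, nat_lit 1, nat_lit 4, nat_lit 2, nat_lit 0, nat_lit 4, nat_lit 1, nat_lit 4, nat_lit 0, nat_lit 2] else [nat_lit 63, nat_lit 4, nat_lit 1, nat_lit 4, nat_lit 1, nat_lit 4, nat_lit 1, nat_lit 4, nat_lit 1, nat_lit 3, nat_lit 4, nat_lit 3, nat_lit 4, nat_lit 3, nat_lit 4, nat_lit 3]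
def Wt_1112_1115 (j : ℕ) : List ℕ := bif Nat.blt j 1113 then [nat_lit 63, nat_lit 5, nat_lit 4, nat_lit 3, nat_lit 4, nat_lit 3, nat_lit 4, nat_lit 2, nat_lit 5, nat_lit 4, nat_lit 3, nat_lit 4, nat_lit 3, nat_lit 4, nat_lit 2, nat_lit 5, nat_lit 4, nat_lit 3, nat_lit 4, nat_lit 3, nat_lit 4, nat_lit 2, nat_lit 5, nat_lit 4, nat_lit 3, nat_lit 4, nat_lit 3, nat_lit 4, nat_lit 2, nat_lit 5, nat_lit 4, nat_lit 3, nat_lit 4, nat_lit 3, nat_lit 4, nat_lit 2] else (Wt_1113_1115 j)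
def Wt_1115_1117 (j : ℕ) : List ℕ := bif Nat.blt j 1116 then [nat_lit 5, nat_lit 2, nat_lit 4, nat_lit 3, nat_lit 4, nat_lit 3, nat_lit 4, nat_lit 5, nat_lit 2, nat_lit 4, nat_lit 3, nat_lit 4, nat_lit 3, nat_lit 4, nat_lit 5, nat_lit 2, nat_lit 4, nat_lit 3, nat_lit 4, nat_lit 3, nat_lit 4, nat_lit 5, nat_lit 2, nat_lit 4, nat_lit 3, nat_lit 4, nat_lit 3, nat_lit 4, nat_lit 5, nat_lit 2, nat_lit 4, nat_lit 3, nat_lit 4, nat_lit 3, nat_lit 4] else [nat_lit 63, nat_lit 3, nat_lit 2, nat_lit 4, nat_lit 3, nat_lit 0, nat_lit 3, nat_lit 1, nat_lit 4, nat_lit 2, nat_lit 3, nat_lit 4, nat_lit 2, nat_lit 4, nat_lit 1, nat_lit 4, nat_lit 2, nat_lit 4]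
def Wt_1117_1119 (j : ℕ) : List ℕ := bif Nat.blt j 1118 then [nat_lit 63, nat_lit 0, nat_lit 2, nat_lit 4, nat_lit 1, nat_lit 4, nat_lit 2, nat_lit 0, nat_lit 4, nat_lit 1, nat_lit 4, nat_lit 0, nat_lit 2, nat_lit 4, nat_lit 1, nat_lit 4] else [nat_lit 63, nat_lit 4, nat_lit 0, nat_lit 2, nat_lit 4, nat_lit 0, nat_lit 2, nat_lit 4, nat_lit 3, nat_lit 2, nat_lit 3, nat_lit 0, nat_lit 4, nat_lit 2, nat_lit 0, nat_lit 4, nat_lit 2, nat_lit 0]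
def Wt_1115_1119 (j : ℕ) : List ℕ := bif Nat.blt j 1117 then (Wt_1115_1117 j) else (Wt_1117_1119 j)
def Wt_1112_1119 (j : ℕ) : List ℕ := bif Nat.blt j 1115 then (Wt_1112_1115 j) else (Wt_1115_1119 j)
def Wt_1106_1119 (j : ℕ) : List ℕ := bif Nat.blt j 1112 then (Wt_1106_1112 j) else (Wt_1112_1119 j)
def Wt_1094_1119 (j : ℕ) : List ℕ := bif Nat.blt j 1106 then (Wt_1094_1106 j) else (Wt_1106_1119 j)
def Wt_1070_1119 (j : ℕ) : List ℕ := bif Nat.blt j 1094 then (Wt_1070_1094 j) else (Wt_1094_1119 j)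
def Wt_1120_1122 (j : ℕ) : List ℕ := bif Nat.blt j 1121 then [nat_lit 4, nat_lit 3, nat_lit 4, nat_lit 2, nat_lit 1, nat_lit 4, nat_lit 1, nat_lit 2, nat_lit 4, nat_lit 2, nat_lit 4, nat_lit 2, nat_lit 1, nat_lit 4, nat_lit 1, nat_lit 4, nat_lit 2] else [nat_lit 63, nat_lit 3, nat_lit 4, nat_lit 2, nat_lit 4, nat_lit 1, nat_lit 4, nat_lit 2, nat_lit 4, nat_lit 3, nat_lit 2, nat_lit 4, nat_lit 3, nat_lit 0, nat_lit 3, nat_lit 1, nat_lit 4, nat_lit 2]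
def Wt_1119_1122 (j : ℕ) : List ℕ := bif Nat.blt j 1120 then [nat_lit 63, nat_lit 1, nat_lit 4, nat_lit 2, nat_lit 1, nat_lit 2, nat_lit 4, nat_lit 1, nat_lit 3, nat_lit 4, nat_lit 0, nat_lit 4, nat_lit 0, nat_lit 2, nat_lit 4, nat_lit 0, nat_lit 4, nat_lit 3] else (Wt_1120_1122 j)
def Wt_1123_1125 (j : ℕ) : List ℕ := bif Nat.blt j 1124 then [nat_lit 3, nat_lit 4, nat_lit 3, nat_lit 4, nat_lit 2, nat_lit 4, nat_lit 2, nat_lit 4, nat_lit 3, nat_lit 4, nat_lit 2, nat_lit 4, nat_lit 1, nat_lit 2, nat_lit 1, nat_lit 3, nat_lit 0] else [nat_lit 63, nat_lit 1, nat_lit 2, nat_lit 4, nat_lit 3, nat_lit 4, nat_lit 2, nat_lit 4, nat_lit 1, nat_lit 4, nat_lit 1, nat_lit 2, nat_lit 4, nat_lit 2, nat_lit 4, nat_lit 2, nat_lit 1, nat_lit 4]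
def Wt_1122_1125 (j : ℕ) : List ℕ := bif Nat.blt j 1123 then [nat_lit 63, nat_lit 4, nat_lit 3, nat_lit 2, nat_lit 0, nat_lit 3, nat_lit 1, nat_lit 4, nat_lit 1, nat_lit 4, nat_lit 0, nat_lit 4, nat_lit 1, nat_lit 4, nat_lit 2, nat_lit 1, nat_lit 4, nat_lit 1] else (Wt_1123_1125 j)
def Wt_1119_1125 (j : ℕ) : List ℕ := bif Nat.blt j 1122 then (Wt_1119_1122 j) else (Wt_1122_1125 j)
def Wt_1126_1128 (j : ℕ) : List ℕ := bif Nat.blt j 1127 then [nat_lit 63, nat_lit 5, nat_lit 4, nat_lit 2, nat_lit 0, nat_lit 4, nat_lit 0, nat_lit 1, nat_lit 4, nat_lit 1, nat_lit 5, nat_lit 4, nat_lit 2, nat_lit 0, nat_lit 4, nat_lit 0, nat_lit 1, nat_lit 4, nat_lit 1, nat_lit 5, nat_lit 4, nat_lit 2, nat_lit 0, nat_lit 4, nat_lit 0, nat_lit 1, nat_lit 4, nat_lit 1, nat_lit 5, nat_lit 4, nat_lit 2, nat_lit 0, nat_lit 4, nat_lit 0, nat_lit 1, nat_lit 4, nat_lit 1, nat_lit 5, nat_lit 4, nat_lit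 2, nat_lit 0, nat_lit 4, nat_lit 0, nat_lit 1, nat_lit 4, nat_lit 1] else [nat_lit 63, nat_lit 5, nat_lit 3, nat_lit 5, nat_lit 3, nat_lit 2]
def Wt_1125_1128 (j : ℕ) : List ℕ := bif Nat.blt j 1126 then [nat_lit 63, nat_lit 1, nat_lit 4, nat_lit 0, nat_lit 2, nat_lit 4, nat_lit 0, nat_lit 1, nat_lit 4, nat_lit 5, nat_lit 1, nat_lit 4, nat_lit 0, nat_lit 2, nat_lit 4, nat_lit 0, nat_lit 1, nat_lit 4, nat_lit 5, nat_lit 1, nat_lit 4, nat_lit 0, nat_lit 2, nat_lit 4, nat_lit 0, nat_lit 1, nat_lit 4, nat_lit 5, nat_lit 1, nat_lit 4, nat_lit 0, nat_lit 2, nat_lit 4, nat_lit 0, nat_lit 1, nat_lit 4, nat_lit 5, nat_lit 1, nat_lit 4, nat_lit 0, nat_lit 2, nat_lit 4, nat_lit 0, nat_lit 1, nat_lit 4, nat_lit 5] else (Wt_1126_1128 j)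
def Wt_1129_1131 (j : ℕ) : List ℕ := bif Nat.blt j 1130 then [nat_lit 63, nat_lit 0, nat_lit 4, nat_lit 1, nat_lit 2, nat_lit 1, nat_lit 4, nat_lit 1, nat_lit 2, nat_lit 1, nat_lit 4, nat_lit 0, nat_lit 1, nat_lit 4, nat_lit 2, nat_lit 3, nat_lit 4, nat_lit 1] else [nat_lit 63, nat_lit 2, nat_lit 0, nat_lit 4, nat_lit 2, nat_lit 0, nat_lit 4, nat_lit 0, nat_lit 2, nat_lit 4, nat_lit 0, nat_lit 2, nat_lit 4, nat_lit 3, nat_lit 2, nat_lit 3, nat_lit 0, nat_lit 4]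
def Wt_1128_1131 (j : ℕ) : List ℕ := bif Nat.blt j 1129 then [nat_lit 63, nat_lit 5, nat_lit 1, nat_lit 2, nat_lit 4, nat_lit 2, nat_lit 5, nat_lit 1, nat_lit 2, nat_lit 4, nat_lit 2, nat_lit 5, nat_lit 1, nat_lit 2, nat_lit 4, nat_lit 2, nat_lit 5, nat_lit 1, nat_lit 2, nat_lit 4, nat_lit 2, nat_lit 5, nat_lit 1, nat_lit 2, nat_lit 4, nat_lit 2, nat_lit 5, nat_lit 1, nat_lit 2, nat_lit 4, nat_lit 2] else (Wt_1129_1131 j)
def Wt_1125_1131 (j : ℕ) : List ℕ := bif Nat.blt j 1128 then (Wt_1125_1128 j) else (Wt_1128_1131 j)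
def Wt_1119_1131 (j : ℕ) : List ℕ := bif Nat.blt j 1125 then (Wt_1119_1125 j) else (Wt_1125_1131 j)
def Wt_1132_1134 (j : ℕ) : List ℕ := bif Nat.blt j 1133 then [nat_lit 63, nat_lit 4, nat_lit 3, nat_lit 4, nat_lit 0, nat_lit 4, nat_lit 2, nat_lit 1, nat_lit 5, nat_lit 2, nat_lit 4, nat_lit 3, nat_lit 4, nat_lit 0, nat_lit 4, nat_lit 2, nat_lit 1, nat_lit 5, nat_lit 2, nat_lit 4, nat_lit 3, nat_lit 4, nat_lit 0, nat_lit 4, nat_lit 2, nat_lit 1, nat_lit 5, nat_lit 2] else [nat_lit 4, nat_lit 0, nat_lit 4, nat_lit 3, nat_lit 4, nat_lit 1, nat_lit 0, nat_lit 5, nat_lit 4, nat_lit 0, nat_lit 4, nat_lit 3, nat_lit 4, nat_lit 1, nat_lit 0, nat_lit 5, nat_lit 4, nat_lit 0, nat_lit 4, nat_lit 3, nat_lit 4, nat_lit 1, nat_lit 0, nat_lit 5, nat_lit 4, nat_lit 0, nat_lit 4, nat_lit 3, nat_lit 4, nat_lit 1, nat_lit 0, nat_lit 5, nat_lit 4, nat_lit 0, nat_lit 4, nat_lit 3, nat_lit 4,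 nat_lit 1, nat_lit 0, nat_lit 5]
def Wt_1131_1134 (j : ℕ) : List ℕ := bif Nat.blt j 1132 then [nat_lit 63, nat_lit 0, nat_lit 4, nat_lit 0, nat_lit 4, nat_lit 0, nat_lit 4, nat_lit 0, nat_lit 4, nat_lit 0, nat_lit 4, nat_lit 0, nat_lit 4, nat_lit 0, nat_lit 4, nat_lit 0, nat_lit 4, nat_lit 0, nat_lit 4, nat_lit 0, nat_lit 4, nat_lit 0, nat_lit 4, nat_lit 0, nat_lit 4] else (Wt_1132_1134 j)
def Wt_1135_1137 (j : ℕ) : List ℕ := bif Nat.blt j 1136 then [nat_lit 63, nat_lit 0, nat_lit 3, nat_lit 4, nat_lit 2, nat_lit 3, nat_lit 4, nat_lit 2, nat_lit 4, nat_lit 1, nat_lit 4, nat_lit 2, nat_lit 4, nat_lit 3, nat_lit 2, nat_lit 4, nat_lit 1, nat_lit 3] else [nat_lit 63, nat_lit 3, nat_lit 4, nat_lit 1, nat_lit 2, nat_lit 1, nat_lit 3, nat_lit 0, nat_lit 3, nat_lit 4, nat_lit 2, nat_lit 4, nat_lit 3, nat_lit 4, nat_lit 2, nat_lit 4, nat_lit 2, nat_lit 4]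
def Wt_1134_1137 (j : ℕ) : List ℕ := bif Nat.blt j 1135 then [nat_lit 63, nat_lit 2, nat_lit 1, nat_lit 2, nat_lit 4, nat_lit 1, nat_lit 3, nat_lit 4, nat_lit 0, nat_lit 4, nat_lit 2, nat_lit 0, nat_lit 4, nat_lit 0, nat_lit 4, nat_lit 3, nat_lit 1, nat_lit 4] else (Wt_1135_1137 j)
def Wt_1131_1137 (j : ℕ) : List ℕ := bif Nat.blt j 1134 then (Wt_1131_1134 j) else (Wt_1134_1137 j)
def Wt_1138_1140 (j : ℕ) : List ℕ := bif Nat.blt j 1139 then [nat_lit 63, nat_lit 4, nat_lit 5, nat_lit 1, nat_lit 2, nat_lit 4, nat_lit 2, nat_lit 4, nat_lit 2, nat_lit 3, nat_lit 4, nat_lit 5, nat_lit 1, nat_lit 2, nat_lit 4, nat_lit 2, nat_lit 4, nat_lit 2, nat_lit 3, nat_lit 4, nat_lit 5, nat_lit 1, nat_lit 2, nat_lit 4, nat_lit 2, nat_lit 4, nat_lit 2, nat_lit 3, nat_lit 4, nat_lit 5, nat_lit 1, nat_lit 2, nat_lit 4, nat_lit 2, nat_lit 4, nat_lit 2, nat_lit 3, nat_lit 4, nat_lit 5, nat_lit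 1, nat_lit 2, nat_lit 4, nat_lit 2, nat_lit 4, nat_lit 2, nat_lit 3, nat_lit 4, nat_lit 5, nat_lit 1, nat_lit 2, nat_lit 4, nat_lit 2, nat_lit 4, nat_lit 2, nat_lit 3] else [nat_lit 63, nat_lit 4, nat_lit 2, nat_lit 4, nat_lit 2, nat_lit 1, nat_lit 5, nat_lit 4, nat_lit 3, nat_lit 2, nat_lit 4, nat_lit 2, nat_lit 4, nat_lit 2, nat_lit 1, nat_lit 5, nat_lit 4, nat_lit 3, nat_lit 2, nat_lit 4, nat_lit 2, nat_lit 4, nat_lit 2, nat_lit 1, nat_lit 5, nat_lit 4, nat_lit 3, nat_lit 2, nat_lit 4, nat_lit 2, nat_lit 4, nat_lit 2, nat_lit 1, nat_lit 5, nat_lit 4, nat_lit 3, nat_lit 2, nat_lit 4, nat_lit 2, nat_lit 4, nat_lit 2, nat_lit 1, nat_lit 5, nat_lit 4, nat_lit 3, nat_lit 2, nat_lit 4, nat_lit 2, nat_lit 4, nat_lit 2, nat_lit 1, nat_lit 5, nat_lit 4, nat_lit 3, nat_lit 2]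
def Wt_1137_1140 (j : ℕ) : List ℕ := bif Nat.blt j 1138 then [nat_lit 63, nat_lit 5, nat_lit 2, nat_lit 4, nat_lit 3, nat_lit 4, nat_lit 0, nat_lit 4, nat_lit 2, nat_lit 1, nat_lit 5, nat_lit 2, nat_lit 4, nat_lit 3, nat_lit 4, nat_lit 0, nat_lit 4, nat_lit 2, nat_lit 1, nat_lit 5, nat_lit 2, nat_lit 4, nat_lit 3, nat_lit 4, nat_lit 0, nat_lit 4, nat_lit 2, nat_lit 1] else (Wt_1138_1140 j)
def Wt_1141_1143 (j : ℕ) : List ℕ := bif Nat.blt j 1142 then [nat_lit 2, nat_lit 4, nat_lit 3, nat_lit 2, nat_lit 3, nat_lit 0, nat_lit 4, nat_lit 2, nat_lit 0, nat_lit 4, nat_lit 2, nat_lit 0, nat_lit 4, nat_lit 0, nat_lit 2, nat_lit 4, nat_lit 0] else [nat_lit 63, nat_lit 1, nat_lit 4, nat_lit 1, nat_lit 2, nat_lit 4, nat_lit 2, nat_lit 4, nat_lit 2, nat_lit 1, nat_lit 4, nat_lit 1, nat_lit 4, nat_lit 2, nat_lit 4, nat_lit 3, nat_lit 4, nat_lit 2]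
def Wt_1140_1143 (j : ℕ) : List ℕ := bif Nat.blt j 1141 then [nat_lit 63, nat_lit 2, nat_lit 4, nat_lit 3, nat_lit 4, nat_lit 2, nat_lit 4, nat_lit 2, nat_lit 4, nat_lit 3, nat_lit 4, nat_lit 1, nat_lit 2, nat_lit 1, nat_lit 3, nat_lit 0, nat_lit 3, nat_lit 4] else (Wt_1141_1143 j)
def Wt_1137_1143 (j : ℕ) : List ℕ := bif Nat.blt j 1140 then (Wt_1137_1140 j) else (Wt_1140_1143 j)
def Wt_1131_1143 (j : ℕ) : List ℕ := bif Nat.blt j 1137 then (Wt_1131_1137 j) else (Wt_1137_1143 j)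
def Wt_1119_1143 (j : ℕ) : List ℕ := bif Nat.blt j 1131 then (Wt_1119_1131 j) else (Wt_1131_1143 j)
def Wt_1144_1146 (j : ℕ) : List ℕ := bif Nat.blt j 1145 then [nat_lit 63, nat_lit 1, nat_lit 2, nat_lit 1, nat_lit 4, nat_lit 0, nat_lit 1, nat_lit 4, nat_lit 3, nat_lit 2, nat_lit 4, nat_lit 1, nat_lit 0, nat_lit 4, nat_lit 1, nat_lit 2, nat_lit 1, nat_lit 4] else [nat_lit 63, nat_lit 4, nat_lit 2, nat_lit 4, nat_lit 2, nat_lit 4, nat_lit 3, nat_lit 4, nat_lit 2, nat_lit 4, nat_lit 1, nat_lit 2, nat_lit 1, nat_lit 3, nat_lit 0, nat_lit 3, nat_lit 4, nat_lit 3]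
def Wt_1143_1146 (j : ℕ) : List ℕ := bif Nat.blt j 1144 then [nat_lit 63, nat_lit 0, nat_lit 4, nat_lit 1, nat_lit 4, nat_lit 5, nat_lit 0, nat_lit 4, nat_lit 1, nat_lit 4, nat_lit 5, nat_lit 0, nat_lit 4, nat_lit 1, nat_lit 4, nat_lit 5, nat_lit 0, nat_lit 4, nat_lit 1, nat_lit 4, nat_lit 5] else (Wt_1144_1146 j)
def Wt_1147_1149 (j : ℕ) : List ℕ := bif Nat.blt j 1148 then [nat_lit 63, nat_lit 4, nat_lit 2, nat_lit 1, nat_lit 5, nat_lit 2, nat_lit 4, nat_lit 2, nat_lit 1, nat_lit 5, nat_lit 2, nat_lit 4, nat_lit 2, nat_lit 1, nat_lit 5, nat_lit 2, nat_lit 4, nat_lit 2, nat_lit 1, nat_lit 5, nat_lit 2, nat_lit 4, nat_lit 2, nat_lit 1, nat_lit 5, nat_lit 2, nat_lit 4, nat_lit 2, nat_lit 1, nat_lit 5, nat_lit 2] else [nat_lit 3, nat_lit 4, nat_lit 1, nat_lit 0, nat_lit 5, nat_lit 4, nat_lit 0, nat_lit 4, nat_lit 3, nat_lit 4, nat_lit 1, nat_lit 0, nat_lit 5, nat_lit 4, nat_lit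 0, nat_lit 4, nat_lit 3, nat_lit 4, nat_lit 1, nat_lit 0, nat_lit 5, nat_lit 4, nat_lit 0, nat_lit 4, nat_lit 3, nat_lit 4, nat_lit 1, nat_lit 0, nat_lit 5, nat_lit 4, nat_lit 0, nat_lit 4, nat_lit 3, nat_lit 4, nat_lit 1, nat_lit 0, nat_lit 5, nat_lit 4, nat_lit 0, nat_lit 4]
def Wt_1146_1149 (j : ℕ) : List ℕ := bif Nat.blt j 1147 then [nat_lit 1, nat_lit 0, nat_lit 1, nat_lit 0, nat_lit 5, nat_lit 1, nat_lit 4, nat_lit 1, nat_lit 0, nat_lit 1, nat_lit 0, nat_lit 5, nat_lit 1, nat_lit 4, nat_lit 1, nat_lit 0, nat_lit 1, nat_lit 0, nat_lit 5, nat_lit 1, nat_lit 4, nat_lit 1, nat_lit 0, nat_lit 1, nat_lit 0, nat_lit 5, nat_lit 1, nat_lit 4] else (Wt_1147_1149 j)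
def Wt_1143_1149 (j : ℕ) : List ℕ := bif Nat.blt j 1146 then (Wt_1143_1146 j) else (Wt_1146_1149 j)
def Wt_1150_1152 (j : ℕ) : List ℕ := bif Nat.blt j 1151 then [nat_lit 1, nat_lit 5, nat_lit 2, nat_lit 4, nat_lit 2, nat_lit 1, nat_lit 5, nat_lit 2, nat_lit 4, nat_lit 2, nat_lit 1, nat_lit 5, nat_lit 2, nat_lit 4, nat_lit 2, nat_lit 1, nat_lit 5, nat_lit 2, nat_lit 4, nat_lit 2, nat_lit 1, nat_lit 5, nat_lit 2, nat_lit 4, nat_lit 2, nat_lit 1, nat_lit 5, nat_lit 2, nat_lit 4, nat_lit 2] else [nat_lit 5, nat_lit 1, nat_lit 2, nat_lit 4, nat_lit 2, nat_lit 5, nat_lit 1, nat_lit 2, nat_lit 4, nat_lit 2, nat_lit 5, nat_lit 1, nat_lit 2, nat_lit 4, nat_lit 2, nat_lit 5, nat_lit 1, nat_lit 2, nat_lit 4, nat_lit 2, nat_lit 5, nat_lit 1, nat_lit 2, nat_lit 4, nat_lit 2, nat_lit 5, nat_lit 1, nat_lit 2, nat_lit 4, nat_lit 2]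
def Wt_1149_1152 (j : ℕ) : List ℕ := bif Nat.blt j 1150 then [nat_lit 63, nat_lit 1, nat_lit 4, nat_lit 2, nat_lit 4, nat_lit 3, nat_lit 2, nat_lit 4, nat_lit 1, nat_lit 3, nat_lit 0, nat_lit 3, nat_lit 4, nat_lit 2, nat_lit 3, nat_lit 4, nat_lit 2, nat_lit 4] else (Wt_1150_1152 j)
def Wt_1153_1155 (j : ℕ) : List ℕ := bif Nat.blt j 1154 then [nat_lit 3, nat_lit 4, nat_lit 1, nat_lit 2, nat_lit 1, nat_lit 3, nat_lit 0, nat_lit 3, nat_lit 4, nat_lit 2, nat_lit 4, nat_lit 3, nat_lit 4, nat_lit 2, nat_lit 4, nat_lit 2, nat_lit 4] else [nat_lit 63, nat_lit 4, nat_lit 1, nat_lit 3, nat_lit 0, nat_lit 1, nat_lit 0, nat_lit 3, nat_lit 1, nat_lit 4, nat_lit 1, nat_lit 3, nat_lit 0, nat_lit 1, nat_lit 0, nat_lit 3, nat_lit 1]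
def Wt_1152_1155 (j : ℕ) : List ℕ := bif Nat.blt j 1153 then [nat_lit 63, nat_lit 2, nat_lit 4, nat_lit 1, nat_lit 4, nat_lit 2, nat_lit 1, nat_lit 4, nat_lit 1, nat_lit 4, nat_lit 1, nat_lit 2, nat_lit 4, nat_lit 1, nat_lit 4, nat_lit 2, nat_lit 0] else (Wt_1153_1155 j)
def Wt_1149_1155 (j : ℕ) : List ℕ := bif Nat.blt j 1152 then (Wt_1149_1152 j) else (Wt_1152_1155 j)
def Wt_1143_1155 (j : ℕ) : List ℕ := bif Nat.blt j 1149 then (Wt_1143_1149 j) else (Wt_1149_1155 j)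
def Wt_1156_1158 (j : ℕ) : List ℕ := bif Nat.blt j 1157 then [nat_lit 63, nat_lit 1, nat_lit 4, nat_lit 3, nat_lit 4, nat_lit 0, nat_lit 4, nat_lit 5, nat_lit 0, nat_lit 1, nat_lit 4, nat_lit 3, nat_lit 4, nat_lit 0, nat_lit 4, nat_lit 5, nat_lit 0, nat_lit 1, nat_lit 4, nat_lit 3, nat_lit 4, nat_lit 0, nat_lit 4, nat_lit 5, nat_lit 0, nat_lit 1, nat_lit 4, nat_lit 3, nat_lit 4, nat_lit 0, nat_lit 4, nat_lit 5, nat_lit 0, nat_lit 1, nat_lit 4, nat_lit 3, nat_lit 4, nat_lit 0, nat_lit 4, nat_lit 5, nat_lit 0] else [nat_lit 63, nat_lit 3, nat_lit 2, nat_lit 3, nat_lit 0, nat_lit 3, nat_lit 0, nat_lit 1, nat_lit 3, nat_lit 2, nat_lit 3, nat_lit 0, nat_lit 3, nat_lit 0, nat_lit 1, nat_lit 3, nat_lit 2, nat_lit 3, nat_lit 0, nat_lit 3, nat_lit 0, nat_lit 1]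
def Wt_1155_1158 (j : ℕ) : List ℕ := bif Nat.blt j 1156 then [nat_lit 63, nat_lit 2, nat_lit 4, nat_lit 1, nat_lit 4, nat_lit 0, nat_lit 4, nat_lit 1, nat_lit 4, nat_lit 1, nat_lit 3, nat_lit 0, nat_lit 2, nat_lit 3, nat_lit 4, nat_lit 1, nat_lit 4, nat_lit 1] else (Wt_1156_1158 j)
def Wt_1159_1161 (j : ℕ) : List ℕ := bif Nat.blt j 1160 then [nat_lit 63, nat_lit 4, nat_lit 2, nat_lit 4, nat_lit 2, nat_lit 4, nat_lit 3, nat_lit 4, nat_lit 1, nat_lit 2, nat_lit 1, nat_lit 3, nat_lit 0, nat_lit 3, nat_lit 4, nat_lit 2, nat_lit 4, nat_lit 3] else [nat_lit 63, nat_lit 0, nat_lit 3, nat_lit 2, nat_lit 3, nat_lit 4, nat_lit 2, nat_lit 0, nat_lit 4, nat_lit 2, nat_lit 0, nat_lit 4, nat_lit 0, nat_lit 2, nat_lit 4, nat_lit 0, nat_lit 2, nat_lit 4]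
def Wt_1158_1161 (j : ℕ) : List ℕ := bif Nat.blt j 1159 then [nat_lit 2, nat_lit 4, nat_lit 3, nat_lit 4, nat_lit 2, nat_lit 4, nat_lit 2, nat_lit 4, nat_lit 3, nat_lit 4, nat_lit 3, nat_lit 0, nat_lit 3, nat_lit 1, nat_lit 2, nat_lit 1, nat_lit 4] else (Wt_1159_1161 j)
def Wt_1155_1161 (j : ℕ) : List ℕ := bif Nat.blt j 1158 then (Wt_1155_1158 j) else (Wt_1158_1161 j)
def Wt_1162_1164 (j : ℕ) : List ℕ := bif Nat.blt j 1163 then [nat_lit 63, nat_lit 4, nat_lit 2, nat_lit 4, nat_lit 3, nat_lit 4, nat_lit 3, nat_lit 0, nat_lit 3, nat_lit 1, nat_lit 2, nat_lit 1, nat_lit 4, nat_lit 2, nat_lit 4, nat_lit 3, nat_lit 4, nat_lit 2] else [nat_lit 4, nat_lit 2, nat_lit 4, nat_lit 2, nat_lit 4, nat_lit 3, nat_lit 4, nat_lit 1, nat_lit 2, nat_lit 1, nat_lit 3, nat_lit 0, nat_lit 3, nat_lit 4, nat_lit 2, nat_lit 4, nat_lit 3]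
def Wt_1161_1164 (j : ℕ) : List ℕ := bif Nat.blt j 1162 then [nat_lit 63, nat_lit 2, nat_lit 4, nat_lit 2, nat_lit 4, nat_lit 3, nat_lit 4, nat_lit 2, nat_lit 4, nat_lit 1, nat_lit 2, nat_lit 1, nat_lit 3, nat_lit 0, nat_lit 3, nat_lit 4, nat_lit 3, nat_lit 4] else (Wt_1162_1164 j)
def Wt_1164_1166 (j : ℕ) : List ℕ := bif Nat.blt j 1165 then [nat_lit 63, nat_lit 1, nat_lit 4, nat_lit 1, nat_lit 2, nat_lit 1, nat_lit 4, nat_lit 0, nat_lit 1, nat_lit 4, nat_lit 2, nat_lit 3, nat_lit 4, nat_lit 1, nat_lit 0, nat_lit 4, nat_lit 1, nat_lit 2] else [nat_lit 0, nat_lit 3, nat_lit 2, nat_lit 3, nat_lit 4, nat_lit 2, nat_lit 0, nat_lit 4, nat_lit 2, nat_lit 0, nat_lit 4, nat_lit 0, nat_lit 2, nat_lit 4, nat_lit 0, nat_lit 2, nat_lit 4]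
def Wt_1166_1168 (j : ℕ) : List ℕ := bif Nat.blt j 1167 then [nat_lit 1, nat_lit 3, nat_lit 1, nat_lit 3, nat_lit 1, nat_lit 3, nat_lit 1, nat_lit 3, nat_lit 1, nat_lit 3, nat_lit 1, nat_lit 3, nat_lit 1, nat_lit 3, nat_lit 1, nat_lit 3, nat_lit 1, nat_lit 3, nat_lit 1, nat_lit 3, nat_lit 1, nat_lit 3, nat_lit 1, nat_lit 3, nat_lit 1, nat_lit 3] else [nat_lit 2, nat_lit 4, nat_lit 0, nat_lit 3, nat_lit 2, nat_lit 3, nat_lit 4, nat_lit 2, nat_lit 0, nat_lit 4, nat_lit 2, nat_lit 0, nat_lit 4, nat_lit 0, nat_lit 2, nat_lit 4, nat_lit 0]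
def Wt_1164_1168 (j : ℕ) : List ℕ := bif Nat.blt j 1166 then (Wt_1164_1166 j) else (Wt_1166_1168 j)
def Wt_1161_1168 (j : ℕ) : List ℕ := bif Nat.blt j 1164 then (Wt_1161_1164 j) else (Wt_1164_1168 j)
def Wt_1155_1168 (j : ℕ) : List ℕ := bif Nat.blt j 1161 then (Wt_1155_1161 j) else (Wt_1161_1168 j)
def Wt_1143_1168 (j : ℕ) : List ℕ := bif Nat.blt j 1155 then (Wt_1143_1155 j) else (Wt_1155_1168 j)
def Wt_1119_1168 (j : ℕ) : List ℕ := bif Nat.blt j 1143 then (Wt_1119_1143 j) else (Wt_1143_1168 j)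
def Wt_1070_1168 (j : ℕ) : List ℕ := bif Nat.blt j 1119 then (Wt_1070_1119 j) else (Wt_1119_1168 j)
def Wt_973_1168 (j : ℕ) : List ℕ := bif Nat.blt j 1070 then (Wt_973_1070 j) else (Wt_1070_1168 j)
def Wt_779_1168 (j : ℕ) : List ℕ := bif Nat.blt j 973 then (Wt_779_973 j) else (Wt_973_1168 j)
def Wt_1169_1171 (j : ℕ) : List ℕ := bif Nat.blt j 1170 then [nat_lit 1, nat_lit 4, nat_lit 0, nat_lit 5, nat_lit 4, nat_lit 1, nat_lit 4, nat_lit 0, nat_lit 5, nat_lit 4, nat_lit 1, nat_lit 4, nat_lit 0, nat_lit 5, nat_lit 4, nat_lit 1, nat_lit 4, nat_lit 0, nat_lit 5, nat_lit 4] else [nat_lit 1, nat_lit 5, nat_lit 4, nat_lit 1, nat_lit 2, nat_lit 1, nat_lit 4, nat_lit 1, nat_lit 5, nat_lit 4, nat_lit 1, nat_lit 2, nat_lit 1, nat_lit 4, nat_lit 1, nat_lit 5, nat_lit 4, nat_lit 1, nat_lit 2, nat_lit 1, nat_lit 4]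
def Wt_1168_1171 (j : ℕ) : List ℕ := bif Nat.blt j 1169 then [nat_lit 63, nat_lit 3, nat_lit 4, nat_lit 2, nat_lit 3, nat_lit 4, nat_lit 3, nat_lit 4, nat_lit 0, nat_lit 3, nat_lit 4, nat_lit 0, nat_lit 3, nat_lit 0, nat_lit 4, nat_lit 3, nat_lit 0, nat_lit 4] else (Wt_1169_1171 j)
def Wt_1172_1174 (j : ℕ) : List ℕ := bif Nat.blt j 1173 then [nat_lit 2, nat_lit 4, nat_lit 5, nat_lit 4, nat_lit 2, nat_lit 4, nat_lit 5, nat_lit 4, nat_lit 2, nat_lit 4, nat_lit 5, nat_lit 4, nat_lit 2, nat_lit 4, nat_lit 5, nat_lit 4, nat_lit 2, nat_lit 4, nat_lit 5, nat_lit 4, nat_lit 2, nat_lit 4, nat_lit 5, nat_lit 4] else [nat_lit 63, nat_lit 2, nat_lit 1, nat_lit 0, nat_lit 1, nat_lit 3, nat_lit 4, nat_lit 0, nat_lit 1, nat_lit 4, nat_lit 1, nat_lit 3, nat_lit 4, nat_lit 1, nat_lit 0, nat_lit 4, nat_lit 1, nat_lit 0]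
def Wt_1171_1174 (j : ℕ) : List ℕ := bif Nat.blt j 1172 then [nat_lit 5, nat_lit 1, nat_lit 4, nat_lit 1, nat_lit 2, nat_lit 1, nat_lit 4, nat_lit 5, nat_lit 1, nat_lit 4, nat_lit 1, nat_lit 2, nat_lit 1, nat_lit 4, nat_lit 5, nat_lit 1, nat_lit 4, nat_lit 1, nat_lit 2, nat_lit 1, nat_lit 4] else (Wt_1172_1174 j)
def Wt_1168_1174 (j : ℕ) : List ℕ := bif Nat.blt j 1171 then (Wt_1168_1171 j) else (Wt_1171_1174 j)
def Wt_1175_1177 (j : ℕ) : List ℕ := bif Nat.blt j 1176 then [nat_lit 2, nat_lit 1, nat_lit 4, nat_lit 1, nat_lit 2, nat_lit 4, nat_lit 2, nat_lit 4, nat_lit 2, nat_lit 1, nat_lit 4, nat_lit 1, nat_lit 4, nat_lit 2, nat_lit 4, nat_lit 3, nat_lit 4] else [nat_lit 0, nat_lit 1, nat_lit 2, nat_lit 1, nat_lit 3, nat_lit 2, nat_lit 1, nat_lit 0, nat_lit 1, nat_lit 2, nat_lit 1, nat_lit 3, nat_lit 2, nat_lit 1, nat_lit 0, nat_lit 1, nat_lit 2, nat_lit 1, nat_lit 3, nat_lit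 2, nat_lit 1]
def Wt_1174_1177 (j : ℕ) : List ℕ := bif Nat.blt j 1175 then [nat_lit 4, nat_lit 2, nat_lit 3, nat_lit 4, nat_lit 1, nat_lit 0, nat_lit 4, nat_lit 1, nat_lit 2, nat_lit 1, nat_lit 4, nat_lit 1, nat_lit 2, nat_lit 1, nat_lit 4, nat_lit 0, nat_lit 1] else (Wt_1175_1177 j)
def Wt_1178_1180 (j : ℕ) : List ℕ := bif Nat.blt j 1179 then [nat_lit 4, nat_lit 2, nat_lit 5, nat_lit 1, nat_lit 2, nat_lit 4, nat_lit 2, nat_lit 5, nat_lit 1, nat_lit 2, nat_lit 4, nat_lit 2, nat_lit 5, nat_lit 1, nat_lit 2, nat_lit 4, nat_lit 2, nat_lit 5, nat_lit 1, nat_lit 2, nat_lit 4, nat_lit 2, nat_lit 5, nat_lit 1, nat_lit 2, nat_lit 4, nat_lit 2, nat_lit 5, nat_lit 1, nat_lit 2] else [nat_lit 63, nat_lit 3, nat_lit 0, nat_lit 5, nat_lit 3, nat_lit 4, nat_lit 3, nat_lit 0, nat_lit 5, nat_lit 3, nat_lit 4, nat_lit 3, nat_lit 0, nat_lit 5, nat_lit 3, nat_lit 4, nat_lit 3, nat_lit 0,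 nat_lit 5, nat_lit 3, nat_lit 4, nat_lit 3, nat_lit 0, nat_lit 5, nat_lit 3, nat_lit 4]
def Wt_1177_1180 (j : ℕ) : List ℕ := bif Nat.blt j 1178 then [nat_lit 63, nat_lit 5, nat_lit 1, nat_lit 4, nat_lit 1, nat_lit 0, nat_lit 1, nat_lit 0, nat_lit 5, nat_lit 1, nat_lit 4, nat_lit 1, nat_lit 0, nat_lit 1, nat_lit 0, nat_lit 5, nat_lit 1, nat_lit 4, nat_lit 1, nat_lit 0, nat_lit 1, nat_lit 0, nat_lit 5, nat_lit 1, nat_lit 4, nat_lit 1, nat_lit 0, nat_lit 1, nat_lit 0] else (Wt_1178_1180 j)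
def Wt_1174_1180 (j : ℕ) : List ℕ := bif Nat.blt j 1177 then (Wt_1174_1177 j) else (Wt_1177_1180 j)
def Wt_1168_1180 (j : ℕ) : List ℕ := bif Nat.blt j 1174 then (Wt_1168_1174 j) else (Wt_1174_1180 j)
def Wt_1181_1183 (j : ℕ) : List ℕ := bif Nat.blt j 1182 then [nat_lit 63, nat_lit 4, nat_lit 3, nat_lit 4, nat_lit 3, nat_lit 2, nat_lit 4, nat_lit 3, nat_lit 4, nat_lit 0, nat_lit 3, nat_lit 4, nat_lit 0, nat_lit 3, nat_lit 0, nat_lit 4, nat_lit 3, nat_lit 0] else [nat_lit 0, nat_lit 4, nat_lit 1, nat_lit 4, nat_lit 5, nat_lit 0, nat_lit 4, nat_lit 1, nat_lit 4, nat_lit 5, nat_lit 0, nat_lit 4, nat_lit 1, nat_lit 4, nat_lit 5, nat_lit 0, nat_lit 4, nat_lit 1, nat_lit 4, nat_lit 5]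
def Wt_1180_1183 (j : ℕ) : List ℕ := bif Nat.blt j 1181 then [nat_lit 3, nat_lit 4, nat_lit 0, nat_lit 3, nat_lit 4, nat_lit 0, nat_lit 3, nat_lit 0, nat_lit 4, nat_lit 3, nat_lit 0, nat_lit 4, nat_lit 3, nat_lit 4, nat_lit 2, nat_lit 3, nat_lit 4] else (Wt_1181_1183 j)
def Wt_1184_1186 (j : ℕ) : List ℕ := bif Nat.blt j 1185 then [nat_lit 2, nat_lit 1, nat_lit 5, nat_lit 2, nat_lit 4, nat_lit 2, nat_lit 1, nat_lit 5, nat_lit 2, nat_lit 4, nat_lit 2, nat_lit 1, nat_lit 5, nat_lit 2, nat_lit 4, nat_lit 2, nat_lit 1, nat_lit 5, nat_lit 2, nat_lit 4, nat_lit 2, nat_lit 1, nat_lit 5, nat_lit 2, nat_lit 4, nat_lit 2, nat_lit 1, nat_lit 5, nat_lit 2, nat_lit 4] else [nat_lit 63, nat_lit 0, nat_lit 1, nat_lit 4, nat_lit 1, nat_lit 5, nat_lit 4, nat_lit 2, nat_lit 0, nat_lit 4, nat_lit 0, nat_lit 1, nat_lit 4, nat_lit 1, nat_lit 5, nat_lit 4, nat_lit 2, nat_lit 0, nat_lit 4, nat_lit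 0, nat_lit 1, nat_lit 4, nat_lit 1, nat_lit 5, nat_lit 4, nat_lit 2, nat_lit 0, nat_lit 4, nat_lit 0, nat_lit 1, nat_lit 4, nat_lit 1, nat_lit 5, nat_lit 4, nat_lit 2, nat_lit 0, nat_lit 4, nat_lit 0, nat_lit 1, nat_lit 4, nat_lit 1, nat_lit 5, nat_lit 4, nat_lit 2, nat_lit 0, nat_lit 4]
def Wt_1183_1186 (j : ℕ) : List ℕ := bif Nat.blt j 1184 then [nat_lit 63, nat_lit 3, nat_lit 4, nat_lit 3, nat_lit 5, nat_lit 0, nat_lit 3, nat_lit 4, nat_lit 3, nat_lit 5, nat_lit 0, nat_lit 3, nat_lit 4, nat_lit 3, nat_lit 5, nat_lit 0, nat_lit 3, nat_lit 4, nat_lit 3, nat_lit 5, nat_lit 0, nat_lit 3, nat_lit 4, nat_lit 3, nat_lit 5, nat_lit 0] else (Wt_1184_1186 j)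
def Wt_1180_1186 (j : ℕ) : List ℕ := bif Nat.blt j 1183 then (Wt_1180_1183 j) else (Wt_1183_1186 j)
def Wt_1187_1189 (j : ℕ) : List ℕ := bif Nat.blt j 1188 then [nat_lit 63, nat_lit 2, nat_lit 3, nat_lit 0, nat_lit 3, nat_lit 1, nat_lit 2, nat_lit 3, nat_lit 0, nat_lit 3, nat_lit 1, nat_lit 2, nat_lit 3, nat_lit 0, nat_lit 3, nat_lit 1, nat_lit 2, nat_lit 3, nat_lit 0, nat_lit 3, nat_lit 1] else [nat_lit 63, nat_lit 0, nat_lit 2, nat_lit 4, nat_lit 1, nat_lit 4, nat_lit 0, nat_lit 2, nat_lit 4, nat_lit 1, nat_lit 4, nat_lit 2, nat_lit 0, nat_lit 4, nat_lit 1, nat_lit 4]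
def Wt_1186_1189 (j : ℕ) : List ℕ := bif Nat.blt j 1187 then [nat_lit 0, nat_lit 4, nat_lit 1, nat_lit 5, nat_lit 4, nat_lit 1, nat_lit 0, nat_lit 4, nat_lit 2, nat_lit 0, nat_lit 4, nat_lit 1, nat_lit 5, nat_lit 4, nat_lit 1, nat_lit 0, nat_lit 4, nat_lit 2, nat_lit 0, nat_lit 4, nat_lit 1, nat_lit 5, nat_lit 4, nat_lit 1, nat_lit 0, nat_lit 4, nat_lit 2, nat_lit 0, nat_lit 4, nat_lit 1, nat_lit 5, nat_lit 4, nat_lit 1, nat_lit 0, nat_lit 4, nat_lit 2, nat_lit 0, nat_lit 4, nat_lit 1, nat_lit 5, nat_lit 4, nat_lit 1, nat_lit 0, nat_lit 4, nat_lit 2] else (Wt_1187_1189 j)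
def Wt_1190_1192 (j : ℕ) : List ℕ := bif Nat.blt j 1191 then [nat_lit 63, nat_lit 0, nat_lit 1, nat_lit 2, nat_lit 0, nat_lit 1, nat_lit 4, nat_lit 0, nat_lit 1, nat_lit 4, nat_lit 3, nat_lit 1, nat_lit 4, nat_lit 1, nat_lit 0, nat_lit 4, nat_lit 3, nat_lit 1] else [nat_lit 2, nat_lit 4, nat_lit 0, nat_lit 2, nat_lit 4, nat_lit 0, nat_lit 3, nat_lit 2, nat_lit 3, nat_lit 4, nat_lit 2, nat_lit 0, nat_lit 4, nat_lit 2, nat_lit 0, nat_lit 4, nat_lit 0]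
def Wt_1189_1192 (j : ℕ) : List ℕ := bif Nat.blt j 1190 then [nat_lit 2, nat_lit 0, nat_lit 4, nat_lit 1, nat_lit 4, nat_lit 0, nat_lit 2, nat_lit 4, nat_lit 1, nat_lit 4, nat_lit 0, nat_lit 2, nat_lit 4, nat_lit 1, nat_lit 4] else (Wt_1190_1192 j)
def Wt_1186_1192 (j : ℕ) : List ℕ := bif Nat.blt j 1189 then (Wt_1186_1189 j) else (Wt_1189_1192 j)
def Wt_1180_1192 (j : ℕ) : List ℕ := bif Nat.blt j 1186 then (Wt_1180_1186 j) else (Wt_1186_1192 j)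
def Wt_1168_1192 (j : ℕ) : List ℕ := bif Nat.blt j 1180 then (Wt_1168_1180 j) else (Wt_1180_1192 j)
def Wt_1193_1195 (j : ℕ) : List ℕ := bif Nat.blt j 1194 then [nat_lit 5, nat_lit 2, nat_lit 4, nat_lit 2, nat_lit 1, nat_lit 5, nat_lit 2, nat_lit 4, nat_lit 2, nat_lit 1, nat_lit 5, nat_lit 2, nat_lit 4, nat_lit 2, nat_lit 1, nat_lit 5, nat_lit 2, nat_lit 4, nat_lit 2, nat_lit 1, nat_lit 5, nat_lit 2, nat_lit 4, nat_lit 2, nat_lit 1, nat_lit 5, nat_lit 2, nat_lit 4, nat_lit 2, nat_lit 1] else [nat_lit 63, nat_lit 3, nat_lit 2, nat_lit 5, nat_lit 3, nat_lit 5]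
def Wt_1192_1195 (j : ℕ) : List ℕ := bif Nat.blt j 1193 then [nat_lit 63, nat_lit 2, nat_lit 4, nat_lit 3, nat_lit 0, nat_lit 3, nat_lit 1, nat_lit 2, nat_lit 1, nat_lit 4, nat_lit 3, nat_lit 4, nat_lit 2, nat_lit 4, nat_lit 2, nat_lit 4, nat_lit 3, nat_lit 4] else (Wt_1193_1195 j)
def Wt_1196_1198 (j : ℕ) : List ℕ := bif Nat.blt j 1197 then [nat_lit 63, nat_lit 0, nat_lit 1, nat_lit 3, nat_lit 0, nat_lit 3, nat_lit 0, nat_lit 3, nat_lit 0, nat_lit 1, nat_lit 3, nat_lit 0, nat_lit 3, nat_lit 0, nat_lit 3, nat_lit 0, nat_lit 1, nat_lit 3, nat_lit 0, nat_lit 3, nat_lit 0, nat_lit 3] else [nat_lit 63, nat_lit 4, nat_lit 2, nat_lit 4, nat_lit 3, nat_lit 4, nat_lit 2, nat_lit 4, nat_lit 3, nat_lit 0, nat_lit 3, nat_lit 1, nat_lit 2, nat_lit 1, nat_lit 4, nat_lit 3, nat_lit 4, nat_lit 2]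
def Wt_1195_1198 (j : ℕ) : List ℕ := bif Nat.blt j 1196 then [nat_lit 63, nat_lit 5, nat_lit 0, nat_lit 3, nat_lit 4, nat_lit 3, nat_lit 5, nat_lit 0, nat_lit 3, nat_lit 4, nat_lit 3, nat_lit 5, nat_lit 0, nat_lit 3, nat_lit 4, nat_lit 3, nat_lit 5, nat_lit 0, nat_lit 3, nat_lit 4, nat_lit 3, nat_lit 5, nat_lit 0, nat_lit 3, nat_lit 4, nat_lit 3] else (Wt_1196_1198 j)
def Wt_1192_1198 (j : ℕ) : List ℕ := bif Nat.blt j 1195 then (Wt_1192_1195 j) else (Wt_1195_1198 j)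
def Wt_1199_1201 (j : ℕ) : List ℕ := bif Nat.blt j 1200 then [nat_lit 63, nat_lit 0, nat_lit 1, nat_lit 2, nat_lit 1, nat_lit 0, nat_lit 1, nat_lit 2, nat_lit 1, nat_lit 0, nat_lit 1, nat_lit 2, nat_lit 1] else [nat_lit 63, nat_lit 0, nat_lit 3, nat_lit 0, nat_lit 3, nat_lit 2, nat_lit 3, nat_lit 1, nat_lit 0, nat_lit 3, nat_lit 0, nat_lit 3, nat_lit 2, nat_lit 3, nat_lit 1, nat_lit 0, nat_lit 3, nat_lit 0, nat_lit 3, nat_lit 2, nat_lit 3, nat_lit 1]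
def Wt_1198_1201 (j : ℕ) : List ℕ := bif Nat.blt j 1199 then [nat_lit 63, nat_lit 1, nat_lit 0, nat_lit 1, nat_lit 2, nat_lit 0, nat_lit 2, nat_lit 1, nat_lit 0, nat_lit 1, nat_lit 2, nat_lit 0, nat_lit 2, nat_lit 1, nat_lit 0, nat_lit 1, nat_lit 2, nat_lit 0, nat_lit 2] else (Wt_1199_1201 j)
def Wt_1202_1204 (j : ℕ) : List ℕ := bif Nat.blt j 1203 then [nat_lit 63, nat_lit 0, nat_lit 2, nat_lit 4, nat_lit 0, nat_lit 2, nat_lit 4, nat_lit 3, nat_lit 2, nat_lit 3, nat_lit 0, nat_lit 4, nat_lit 2, nat_lit 0, nat_lit 4, nat_lit 2, nat_lit 0, nat_lit 4] else [nat_lit 63, nat_lit 5, nat_lit 3, nat_lit 0, nat_lit 3, nat_lit 4, nat_lit 0, nat_lit 4, nat_lit 5, nat_lit 3, nat_lit 0, nat_lit 3, nat_lit 4, nat_lit 0, nat_lit 4, nat_lit 5, nat_lit 3, nat_lit 0, nat_lit 3, nat_lit 4, nat_lit 0, nat_lit 4, nat_lit 5, nat_lit 3, nat_lit 0, nat_lit 3, nat_lit 4, nat_lit 0, nat_lit 4, nat_lit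 5, nat_lit 3, nat_lit 0, nat_lit 3, nat_lit 4, nat_lit 0, nat_lit 4]
def Wt_1201_1204 (j : ℕ) : List ℕ := bif Nat.blt j 1202 then [nat_lit 63, nat_lit 1, nat_lit 4, nat_lit 0, nat_lit 1, nat_lit 4, nat_lit 3, nat_lit 1, nat_lit 4, nat_lit 1, nat_lit 0, nat_lit 4, nat_lit 3, nat_lit 1, nat_lit 0, nat_lit 1, nat_lit 2, nat_lit 0] else (Wt_1202_1204 j)
def Wt_1198_1204 (j : ℕ) : List ℕ := bif Nat.blt j 1201 then (Wt_1198_1201 j) else (Wt_1201_1204 j)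
def Wt_1192_1204 (j : ℕ) : List ℕ := bif Nat.blt j 1198 then (Wt_1192_1198 j) else (Wt_1198_1204 j)
def Wt_1205_1207 (j : ℕ) : List ℕ := bif Nat.blt j 1206 then [nat_lit 63, nat_lit 1, nat_lit 4, nat_lit 0, nat_lit 2, nat_lit 4, nat_lit 1, nat_lit 4, nat_lit 2, nat_lit 0, nat_lit 4, nat_lit 1, nat_lit 4, nat_lit 2, nat_lit 0, nat_lit 4] else [nat_lit 63, nat_lit 4, nat_lit 1, nat_lit 4, nat_lit 0, nat_lit 2, nat_lit 4, nat_lit 1, nat_lit 4, nat_lit 2, nat_lit 0, nat_lit 4, nat_lit 1, nat_lit 4, nat_lit 2, nat_lit 0]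
def Wt_1204_1207 (j : ℕ) : List ℕ := bif Nat.blt j 1205 then [nat_lit 63, nat_lit 4, nat_lit 0, nat_lit 4, nat_lit 5, nat_lit 0, nat_lit 1, nat_lit 4, nat_lit 3, nat_lit 4, nat_lit 0, nat_lit 4, nat_lit 5, nat_lit 0, nat_lit 1, nat_lit 4, nat_lit 3, nat_lit 4, nat_lit 0, nat_lit 4, nat_lit 5, nat_lit 0, nat_lit 1, nat_lit 4, nat_lit 3, nat_lit 4, nat_lit 0, nat_lit 4, nat_lit 5, nat_lit 0, nat_lit 1, nat_lit 4, nat_lit 3, nat_lit 4, nat_lit 0, nat_lit 4, nat_lit 5, nat_lit 0, nat_lit 1, nat_lit 4, nat_lit 3] else (Wt_1205_1207 j)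
def Wt_1208_1210 (j : ℕ) : List ℕ := bif Nat.blt j 1209 then [nat_lit 4, nat_lit 2, nat_lit 4, nat_lit 2, nat_lit 1, nat_lit 5, nat_lit 4, nat_lit 3, nat_lit 2, nat_lit 4, nat_lit 2, nat_lit 4, nat_lit 2, nat_lit 1, nat_lit 5, nat_lit 4, nat_lit 3, nat_lit 2, nat_lit 4, nat_lit 2, nat_lit 4, nat_lit 2, nat_lit 1, nat_lit 5, nat_lit 4, nat_lit 3, nat_lit 2, nat_lit 4, nat_lit 2, nat_lit 4, nat_lit 2, nat_lit 1, nat_lit 5, nat_lit 4, nat_lit 3, nat_lit 2, nat_lit 4, nat_lit 2, nat_lit 4, nat_lit 2, nat_lit 1, nat_lit 5, nat_lit 4, nat_lit 3, nat_lit 2, nat_lit 4, nat_lit 2, nat_lit 4, nat_lit 2, nat_lit 1, nat_lit 5, nat_lit 4, nat_lit 3, nat_lit 2] else [nat_lit 63, nat_lit 3, nat_lit 0, nat_lit 3, nat_lit 1, nat_lit 4, nat_lit 2, nat_lit 3, nat_lit 4, nat_lit 2, nat_lit 4, nat_lit 1, nat_lit 4, nat_lit 2, nat_lit 4, nat_lit 3, nat_lit 2, nat_lit 4]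
def Wt_1207_1210 (j : ℕ) : List ℕ := bif Nat.blt j 1208 then [nat_lit 2, nat_lit 4, nat_lit 2, nat_lit 1, nat_lit 5, nat_lit 2, nat_lit 4, nat_lit 2, nat_lit 1, nat_lit 5, nat_lit 2, nat_lit 4, nat_lit 2, nat_lit 1, nat_lit 5, nat_lit 2, nat_lit 4, nat_lit 2, nat_lit 1, nat_lit 5, nat_lit 2, nat_lit 4, nat_lit 2, nat_lit 1, nat_lit 5, nat_lit 2, nat_lit 4, nat_lit 2, nat_lit 1, nat_lit 5] else (Wt_1208_1210 j)
def Wt_1204_1210 (j : ℕ) : List ℕ := bif Nat.blt j 1207 then (Wt_1204_1207 j) else (Wt_1207_1210 j)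
def Wt_1211_1213 (j : ℕ) : List ℕ := bif Nat.blt j 1212 then [nat_lit 63, nat_lit 0, nat_lit 4, nat_lit 2, nat_lit 0, nat_lit 4, nat_lit 0, nat_lit 4, nat_lit 3, nat_lit 1, nat_lit 4, nat_lit 2, nat_lit 1, nat_lit 2, nat_lit 4, nat_lit 1, nat_lit 3, nat_lit 4] else [nat_lit 63, nat_lit 4, nat_lit 2, nat_lit 3, nat_lit 4, nat_lit 2, nat_lit 4, nat_lit 1, nat_lit 4, nat_lit 2, nat_lit 4, nat_lit 3, nat_lit 2, nat_lit 4, nat_lit 1, nat_lit 3, nat_lit 0, nat_lit 3]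
def Wt_1210_1213 (j : ℕ) : List ℕ := bif Nat.blt j 1211 then [nat_lit 63, nat_lit 2, nat_lit 0, nat_lit 1, nat_lit 4, nat_lit 0, nat_lit 1, nat_lit 4, nat_lit 3, nat_lit 1, nat_lit 4, nat_lit 1, nat_lit 0, nat_lit 4, nat_lit 3, nat_lit 1, nat_lit 0, nat_lit 1] else (Wt_1211_1213 j)
def Wt_1214_1216 (j : ℕ) : List ℕ := bif Nat.blt j 1215 then [nat_lit 63, nat_lit 3, nat_lit 2, nat_lit 3, nat_lit 4, nat_lit 2, nat_lit 0, nat_lit 4, nat_lit 2, nat_lit 0, nat_lit 4, nat_lit 0, nat_lit 2, nat_lit 4, nat_lit 0, nat_lit 2, nat_lit 4, nat_lit 0] else [nat_lit 63, nat_lit 4, nat_lit 3, nat_lit 2, nat_lit 4, nat_lit 3, nat_lit 0, nat_lit 3, nat_lit 1, nat_lit 4, nat_lit 2, nat_lit 3, nat_lit 4, nat_lit 2, nat_lit 4, nat_lit 1, nat_lit 4, nat_lit 2]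
def Wt_1213_1216 (j : ℕ) : List ℕ := bif Nat.blt j 1214 then [nat_lit 4, nat_lit 0, nat_lit 1, nat_lit 4, nat_lit 5, nat_lit 1, nat_lit 4, nat_lit 0, nat_lit 2, nat_lit 4, nat_lit 0, nat_lit 1, nat_lit 4, nat_lit 5, nat_lit 1, nat_lit 4, nat_lit 0, nat_lit 2, nat_lit 4, nat_lit 0, nat_lit 1, nat_lit 4, nat_lit 5, nat_lit 1, nat_lit 4, nat_lit 0, nat_lit 2, nat_lit 4, nat_lit 0, nat_lit 1, nat_lit 4, nat_lit 5, nat_lit 1, nat_lit 4, nat_lit 0, nat_lit 2, nat_lit 4, nat_lit 0, nat_lit 1, nat_lit 4, nat_lit 5, nat_lit 1, nat_lit 4, nat_lit 0, nat_lit 2] else (Wt_1214_1216 j)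
def Wt_1210_1216 (j : ℕ) : List ℕ := bif Nat.blt j 1213 then (Wt_1210_1213 j) else (Wt_1213_1216 j)
def Wt_1204_1216 (j : ℕ) : List ℕ := bif Nat.blt j 1210 then (Wt_1204_1210 j) else (Wt_1210_1216 j)
def Wt_1192_1216 (j : ℕ) : List ℕ := bif Nat.blt j 1204 then (Wt_1192_1204 j) else (Wt_1204_1216 j)
def Wt_1168_1216 (j : ℕ) : List ℕ := bif Nat.blt j 1192 then (Wt_1168_1192 j) else (Wt_1192_1216 j)
def Wt_1217_1219 (j : ℕ) : List ℕ := bif Nat.blt j 1218 then [nat_lit 63, nat_lit 4, nat_lit 2, nat_lit 1, nat_lit 4, nat_lit 3, nat_lit 4, nat_lit 1, nat_lit 2, nat_lit 4, nat_lit 3, nat_lit 1, nat_lit 3, nat_lit 1, nat_lit 3, nat_lit 1, nat_lit 3] else [nat_lit 63, nat_lit 5, nat_lit 4, nat_lit 3, nat_lit 4, nat_lit 0, nat_lit 5, nat_lit 4, nat_lit 3, nat_lit 4, nat_lit 0, nat_lit 5, nat_lit 4, nat_lit 3, nat_lit 4, nat_lit 0, nat_lit 5, nat_lit 4, nat_lit 3, nat_lit 4, nat_lit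 0, nat_lit 5, nat_lit 4, nat_lit 3, nat_lit 4, nat_lit 0, nat_lit 5, nat_lit 4, nat_lit 3, nat_lit 4, nat_lit 0]
def Wt_1216_1219 (j : ℕ) : List ℕ := bif Nat.blt j 1217 then [nat_lit 4, nat_lit 3, nat_lit 0, nat_lit 5, nat_lit 3, nat_lit 4, nat_lit 3, nat_lit 0, nat_lit 5, nat_lit 3, nat_lit 4, nat_lit 3, nat_lit 0, nat_lit 5, nat_lit 3, nat_lit 4, nat_lit 3, nat_lit 0, nat_lit 5, nat_lit 3, nat_lit 4, nat_lit 3, nat_lit 0, nat_lit 5, nat_lit 3] else (Wt_1217_1219 j)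
def Wt_1220_1222 (j : ℕ) : List ℕ := bif Nat.blt j 1221 then [nat_lit 63, nat_lit 5, nat_lit 3, nat_lit 5, nat_lit 2, nat_lit 3] else [nat_lit 4, nat_lit 5, nat_lit 0, nat_lit 4, nat_lit 3, nat_lit 4, nat_lit 5, nat_lit 0, nat_lit 4, nat_lit 3, nat_lit 4, nat_lit 5, nat_lit 0, nat_lit 4, nat_lit 3, nat_lit 4, nat_lit 5, nat_lit 0, nat_lit 4, nat_lit 3, nat_lit 4, nat_lit 5, nat_lit 0, nat_lit 4, nat_lit 3, nat_lit 4, nat_lit 5, nat_lit 0, nat_lit 4, nat_lit 3]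
def Wt_1219_1222 (j : ℕ) : List ℕ := bif Nat.blt j 1220 then [nat_lit 63, nat_lit 2, nat_lit 5, nat_lit 2, nat_lit 5] else (Wt_1220_1222 j)
def Wt_1216_1222 (j : ℕ) : List ℕ := bif Nat.blt j 1219 then (Wt_1216_1219 j) else (Wt_1219_1222 j)
def Wt_1223_1225 (j : ℕ) : List ℕ := bif Nat.blt j 1224 then [nat_lit 63, nat_lit 4, nat_lit 1, nat_lit 2, nat_lit 1, nat_lit 4, nat_lit 0, nat_lit 1, nat_lit 4, nat_lit 2, nat_lit 3, nat_lit 4, nat_lit 1, nat_lit 0, nat_lit 4, nat_lit 1, nat_lit 2, nat_lit 1] else [nat_lit 63, nat_lit 4, nat_lit 3, nat_lit 2, nat_lit 3, nat_lit 0, nat_lit 4, nat_lit 2, nat_lit 0, nat_lit 4, nat_lit 2, nat_lit 0, nat_lit 4, nat_lit 0, nat_lit 2, nat_lit 4, nat_lit 0, nat_lit 2]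
def Wt_1222_1225 (j : ℕ) : List ℕ := bif Nat.blt j 1223 then [nat_lit 1, nat_lit 4, nat_lit 0, nat_lit 1, nat_lit 4, nat_lit 3, nat_lit 1, nat_lit 4, nat_lit 1, nat_lit 0, nat_lit 4, nat_lit 3, nat_lit 1, nat_lit 0, nat_lit 1, nat_lit 2, nat_lit 0] else (Wt_1223_1225 j)
def Wt_1226_1228 (j : ℕ) : List ℕ := bif Nat.blt j 1227 then [nat_lit 63, nat_lit 4, nat_lit 2, nat_lit 0, nat_lit 4, nat_lit 0, nat_lit 2, nat_lit 4, nat_lit 0, nat_lit 2, nat_lit 4, nat_lit 3, nat_lit 2, nat_lit 3, nat_lit 0, nat_lit 4, nat_lit 2, nat_lit 0] else [nat_lit 1, nat_lit 2, nat_lit 0, nat_lit 2, nat_lit 1, nat_lit 0, nat_lit 1, nat_lit 2, nat_lit 0, nat_lit 2, nat_lit 1, nat_lit 0, nat_lit 1, nat_lit 2, nat_lit 0, nat_lit 2, nat_lit 1, nat_lit 0]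
def Wt_1225_1228 (j : ℕ) : List ℕ := bif Nat.blt j 1226 then [nat_lit 3, nat_lit 0, nat_lit 4, nat_lit 2, nat_lit 0, nat_lit 4, nat_lit 2, nat_lit 0, nat_lit 4, nat_lit 0, nat_lit 2, nat_lit 4, nat_lit 0, nat_lit 2, nat_lit 4, nat_lit 3, nat_lit 2] else (Wt_1226_1228 j)
def Wt_1222_1228 (j : ℕ) : List ℕ := bif Nat.blt j 1225 then (Wt_1222_1225 j) else (Wt_1225_1228 j)
def Wt_1216_1228 (j : ℕ) : List ℕ := bif Nat.blt j 1222 then (Wt_1216_1222 j) else (Wt_1222_1228 j)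
def Wt_1229_1231 (j : ℕ) : List ℕ := bif Nat.blt j 1230 then [nat_lit 63, nat_lit 4, nat_lit 5, nat_lit 1, nat_lit 4, nat_lit 1, nat_lit 2, nat_lit 1, nat_lit 4, nat_lit 5, nat_lit 1, nat_lit 4, nat_lit 1, nat_lit 2, nat_lit 1, nat_lit 4, nat_lit 5, nat_lit 1, nat_lit 4, nat_lit 1, nat_lit 2, nat_lit 1] else [nat_lit 1, nat_lit 5, nat_lit 2, nat_lit 4, nat_lit 3, nat_lit 4, nat_lit 0, nat_lit 4, nat_lit 2, nat_lit 1, nat_lit 5, nat_lit 2, nat_lit 4, nat_lit 3, nat_lit 4, nat_lit 0, nat_lit 4, nat_lit 2, nat_lit 1, nat_lit 5, nat_lit 2, nat_lit 4, nat_lit 3, nat_lit 4, nat_lit 0, nat_lit 4, nat_lit 2]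
def Wt_1228_1231 (j : ℕ) : List ℕ := bif Nat.blt j 1229 then [nat_lit 0, nat_lit 3, nat_lit 0, nat_lit 1, nat_lit 3, nat_lit 2, nat_lit 3, nat_lit 0, nat_lit 3, nat_lit 0, nat_lit 1, nat_lit 3, nat_lit 2, nat_lit 3, nat_lit 0, nat_lit 3, nat_lit 0, nat_lit 1, nat_lit 3, nat_lit 2, nat_lit 3] else (Wt_1229_1231 j)
def Wt_1232_1234 (j : ℕ) : List ℕ := bif Nat.blt j 1233 then [nat_lit 63, nat_lit 1, nat_lit 3, nat_lit 0, nat_lit 3, nat_lit 0, nat_lit 3, nat_lit 0, nat_lit 1, nat_lit 3, nat_lit 0, nat_lit 3, nat_lit 0, nat_lit 3, nat_lit 0, nat_lit 1, nat_lit 3, nat_lit 0, nat_lit 3, nat_lit 0, nat_lit 3, nat_lit 0] else [nat_lit 63, nat_lit 0, nat_lit 1, nat_lit 2, nat_lit 1, nat_lit 3, nat_lit 1, nat_lit 0, nat_lit 1, nat_lit 2, nat_lit 1, nat_lit 3, nat_lit 1, nat_lit 0, nat_lit 1, nat_lit 2, nat_lit 1, nat_lit 3, nat_lit 1]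
def Wt_1231_1234 (j : ℕ) : List ℕ := bif Nat.blt j 1232 then [nat_lit 63, nat_lit 3, nat_lit 0, nat_lit 3, nat_lit 1, nat_lit 0, nat_lit 3, nat_lit 0, nat_lit 3, nat_lit 0, nat_lit 3, nat_lit 1, nat_lit 0, nat_lit 3, nat_lit 0, nat_lit 3, nat_lit 0, nat_lit 3, nat_lit 1, nat_lit 0, nat_lit 3, nat_lit 0] else (Wt_1232_1234 j)
def Wt_1228_1234 (j : ℕ) : List ℕ := bif Nat.blt j 1231 then (Wt_1228_1231 j) else (Wt_1231_1234 j)
def Wt_1235_1237 (j : ℕ) : List ℕ := bif Nat.blt j 1236 then [nat_lit 3, nat_lit 4, nat_lit 2, nat_lit 4, nat_lit 2, nat_lit 4, nat_lit 3, nat_lit 4, nat_lit 1, nat_lit 2, nat_lit 1, nat_lit 3, nat_lit 0, nat_lit 3, nat_lit 4, nat_lit 2, nat_lit 4] else [nat_lit 3, nat_lit 4, nat_lit 3, nat_lit 0, nat_lit 5, nat_lit 3, nat_lit 4, nat_lit 3, nat_lit 0, nat_lit 5, nat_lit 3, nat_lit 4, nat_lit 3, nat_lit 0, nat_lit 5, nat_lit 3, nat_lit 4, nat_lit 3, nat_lit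 0, nat_lit 5, nat_lit 3, nat_lit 4, nat_lit 3, nat_lit 0, nat_lit 5]
def Wt_1234_1237 (j : ℕ) : List ℕ := bif Nat.blt j 1235 then [nat_lit 63, nat_lit 1, nat_lit 4, nat_lit 1, nat_lit 3, nat_lit 0, nat_lit 2, nat_lit 3, nat_lit 4, nat_lit 1, nat_lit 4, nat_lit 1, nat_lit 2, nat_lit 4, nat_lit 1, nat_lit 4, nat_lit 0, nat_lit 4] else (Wt_1235_1237 j)
def Wt_1238_1240 (j : ℕ) : List ℕ := bif Nat.blt j 1239 then [nat_lit 63, nat_lit 3, nat_lit 4, nat_lit 3, nat_lit 2, nat_lit 4, nat_lit 3, nat_lit 4, nat_lit 0, nat_lit 3, nat_lit 4, nat_lit 0, nat_lit 3, nat_lit 0, nat_lit 4, nat_lit 3, nat_lit 0, nat_lit 4] else [nat_lit 63, nat_lit 2, nat_lit 4, nat_lit 1, nat_lit 4, nat_lit 2, nat_lit 0, nat_lit 4, nat_lit 1, nat_lit 4, nat_lit 0, nat_lit 2, nat_lit 4, nat_lit 1, nat_lit 4, nat_lit 0]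
def Wt_1237_1240 (j : ℕ) : List ℕ := bif Nat.blt j 1238 then [nat_lit 1, nat_lit 4, nat_lit 2, nat_lit 3, nat_lit 4, nat_lit 1, nat_lit 0, nat_lit 4, nat_lit 1, nat_lit 2, nat_lit 1, nat_lit 4, nat_lit 1, nat_lit 2, nat_lit 1, nat_lit 4, nat_lit 0] else (Wt_1238_1240 j)
def Wt_1234_1240 (j : ℕ) : List ℕ := bif Nat.blt j 1237 then (Wt_1234_1237 j) else (Wt_1237_1240 j)
def Wt_1228_1240 (j : ℕ) : List ℕ := bif Nat.blt j 1234 then (Wt_1228_1234 j) else (Wt_1234_1240 j)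
def Wt_1216_1240 (j : ℕ) : List ℕ := bif Nat.blt j 1228 then (Wt_1216_1228 j) else (Wt_1228_1240 j)
def Wt_1241_1243 (j : ℕ) : List ℕ := bif Nat.blt j 1242 then [nat_lit 63, nat_lit 3, nat_lit 4, nat_lit 2, nat_lit 4, nat_lit 2, nat_lit 4, nat_lit 3, nat_lit 4, nat_lit 3, nat_lit 0, nat_lit 3, nat_lit 1, nat_lit 2, nat_lit 1, nat_lit 4, nat_lit 2, nat_lit 4] else [nat_lit 63, nat_lit 3, nat_lit 0, nat_lit 3, nat_lit 1, nat_lit 2, nat_lit 1, nat_lit 4, nat_lit 3, nat_lit 4, nat_lit 2, nat_lit 4, nat_lit 2, nat_lit 4, nat_lit 3, nat_lit 4, nat_lit 2, nat_lit 4]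
def Wt_1240_1243 (j : ℕ) : List ℕ := bif Nat.blt j 1241 then [nat_lit 4, nat_lit 1, nat_lit 2, nat_lit 1, nat_lit 3, nat_lit 0, nat_lit 3, nat_lit 4, nat_lit 3, nat_lit 4, nat_lit 2, nat_lit 4, nat_lit 2, nat_lit 4, nat_lit 3, nat_lit 4, nat_lit 2] else (Wt_1241_1243 j)
def Wt_1244_1246 (j : ℕ) : List ℕ := bif Nat.blt j 1245 then [nat_lit 63, nat_lit 4, nat_lit 3, nat_lit 0, nat_lit 3, nat_lit 1, nat_lit 2, nat_lit 1, nat_lit 4, nat_lit 3, nat_lit 4, nat_lit 2, nat_lit 4, nat_lit 2, nat_lit 4, nat_lit 3, nat_lit 4, nat_lit 2] else [nat_lit 1, nat_lit 4, nat_lit 0, nat_lit 1, nat_lit 0, nat_lit 4, nat_lit 1, nat_lit 4, nat_lit 3, nat_lit 2, nat_lit 4, nat_lit 3, nat_lit 4, nat_lit 0, nat_lit 1, nat_lit 3, nat_lit 2]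
def Wt_1243_1246 (j : ℕ) : List ℕ := bif Nat.blt j 1244 then [nat_lit 63, nat_lit 4, nat_lit 2, nat_lit 0, nat_lit 4, nat_lit 2, nat_lit 0, nat_lit 4, nat_lit 0, nat_lit 2, nat_lit 4, nat_lit 0, nat_lit 2, nat_lit 4, nat_lit 0, nat_lit 3, nat_lit 2, nat_lit 3] else (Wt_1244_1246 j)
def Wt_1240_1246 (j : ℕ) : List ℕ := bif Nat.blt j 1243 then (Wt_1240_1243 j) else (Wt_1243_1246 j)
def Wt_1247_1249 (j : ℕ) : List ℕ := bif Nat.blt j 1248 then [nat_lit 63, nat_lit 4, nat_lit 3, nat_lit 2, nat_lit 4, nat_lit 2, nat_lit 4, nat_lit 2, nat_lit 1, nat_lit 5, nat_lit 4, nat_lit 3, nat_lit 2, nat_lit 4, nat_lit 2, nat_lit 4, nat_lit 2, nat_lit 1, nat_lit 5, nat_lit 4, nat_lit 3, nat_lit 2, nat_lit 4, nat_lit 2, nat_lit 4, nat_lit 2, nat_lit 1, nat_lit 5, nat_lit 4, nat_lit 3, nat_lit 2, nat_lit 4, nat_lit 2, nat_lit 4, nat_lit 2, nat_lit 1, nat_lit 5, nat_lit 4, nat_lit 3, nat_lit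 2, nat_lit 4, nat_lit 2, nat_lit 4, nat_lit 2, nat_lit 1, nat_lit 5, nat_lit 4, nat_lit 3, nat_lit 2, nat_lit 4, nat_lit 2, nat_lit 4, nat_lit 2, nat_lit 1, nat_lit 5] else [nat_lit 3, nat_lit 4, nat_lit 2, nat_lit 0, nat_lit 4, nat_lit 2, nat_lit 0, nat_lit 4, nat_lit 0, nat_lit 2, nat_lit 4, nat_lit 0, nat_lit 2, nat_lit 4, nat_lit 0, nat_lit 3, nat_lit 2]
def Wt_1246_1249 (j : ℕ) : List ℕ := bif Nat.blt j 1247 then [nat_lit 63, nat_lit 0, nat_lit 3, nat_lit 4, nat_lit 3, nat_lit 5, nat_lit 0, nat_lit 3, nat_lit 4, nat_lit 3, nat_lit 5, nat_lit 0, nat_lit 3, nat_lit 4, nat_lit 3, nat_lit 5, nat_lit 0, nat_lit 3, nat_lit 4, nat_lit 3, nat_lit 5, nat_lit 0, nat_lit 3, nat_lit 4, nat_lit 3, nat_lit 5] else (Wt_1247_1249 j)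
def Wt_1250_1252 (j : ℕ) : List ℕ := bif Nat.blt j 1251 then [nat_lit 4, nat_lit 0, nat_lit 3, nat_lit 4, nat_lit 0, nat_lit 3, nat_lit 0, nat_lit 4, nat_lit 3, nat_lit 0, nat_lit 4, nat_lit 3, nat_lit 4, nat_lit 3, nat_lit 2, nat_lit 4, nat_lit 3] else [nat_lit 63, nat_lit 4, nat_lit 2, nat_lit 4, nat_lit 1, nat_lit 4, nat_lit 2, nat_lit 4, nat_lit 3, nat_lit 2, nat_lit 4, nat_lit 3, nat_lit 0, nat_lit 3, nat_lit 1, nat_lit 4, nat_lit 2, nat_lit 3]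
def Wt_1249_1252 (j : ℕ) : List ℕ := bif Nat.blt j 1250 then [nat_lit 63, nat_lit 4, nat_lit 0, nat_lit 4, nat_lit 3, nat_lit 1, nat_lit 4, nat_lit 2, nat_lit 1, nat_lit 2, nat_lit 4, nat_lit 1, nat_lit 3, nat_lit 4, nat_lit 0, nat_lit 4, nat_lit 0, nat_lit 2] else (Wt_1250_1252 j)
def Wt_1246_1252 (j : ℕ) : List ℕ := bif Nat.blt j 1249 then (Wt_1246_1249 j) else (Wt_1249_1252 j)
def Wt_1240_1252 (j : ℕ) : List ℕ := bif Nat.blt j 1246 then (Wt_1240_1246 j) else (Wt_1246_1252 j)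
def Wt_1253_1255 (j : ℕ) : List ℕ := bif Nat.blt j 1254 then [nat_lit 63, nat_lit 1, nat_lit 3, nat_lit 0, nat_lit 2, nat_lit 3, nat_lit 4, nat_lit 1, nat_lit 4, nat_lit 1, nat_lit 2, nat_lit 4, nat_lit 1, nat_lit 4, nat_lit 0, nat_lit 4, nat_lit 1, nat_lit 4] else [nat_lit 1, nat_lit 4, nat_lit 2, nat_lit 4, nat_lit 3, nat_lit 2, nat_lit 4, nat_lit 3, nat_lit 0, nat_lit 3, nat_lit 1, nat_lit 4, nat_lit 2, nat_lit 3, nat_lit 4, nat_lit 2, nat_lit 4]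
def Wt_1252_1255 (j : ℕ) : List ℕ := bif Nat.blt j 1253 then [nat_lit 63, nat_lit 0, nat_lit 3, nat_lit 1, nat_lit 2, nat_lit 3, nat_lit 0, nat_lit 3, nat_lit 1, nat_lit 2, nat_lit 3, nat_lit 0, nat_lit 3, nat_lit 1, nat_lit 2, nat_lit 3, nat_lit 0, nat_lit 3, nat_lit 1, nat_lit 2, nat_lit 3] else (Wt_1253_1255 j)
def Wt_1256_1258 (j : ℕ) : List ℕ := bif Nat.blt j 1257 then [nat_lit 5, nat_lit 4, nat_lit 0, nat_lit 4, nat_lit 3, nat_lit 4, nat_lit 1, nat_lit 0, nat_lit 5, nat_lit 4, nat_lit 0, nat_lit 4, nat_lit 3, nat_lit 4, nat_lit 1, nat_lit 0, nat_lit 5, nat_lit 4, nat_lit 0, nat_lit 4, nat_lit 3, nat_lit 4, nat_lit 1, nat_lit 0, nat_lit 5, nat_lit 4, nat_lit 0, nat_lit 4, nat_lit 3, nat_lit 4, nat_lit 1, nat_lit 0, nat_lit 5, nat_lit 4, nat_lit 0, nat_lit 4, nat_lit 3, nat_lit 4, nat_lit 1, nat_lit 0] else [nat_lit 0, nat_lit 1, nat_lit 4, nat_lit 1, nat_lit 5, nat_lit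 4, nat_lit 2, nat_lit 0, nat_lit 4, nat_lit 0, nat_lit 1, nat_lit 4, nat_lit 1, nat_lit 5, nat_lit 4, nat_lit 2, nat_lit 0, nat_lit 4, nat_lit 0, nat_lit 1, nat_lit 4, nat_lit 1, nat_lit 5, nat_lit 4, nat_lit 2, nat_lit 0, nat_lit 4, nat_lit 0, nat_lit 1, nat_lit 4, nat_lit 1, nat_lit 5, nat_lit 4, nat_lit 2, nat_lit 0, nat_lit 4, nat_lit 0, nat_lit 1, nat_lit 4, nat_lit 1, nat_lit 5, nat_lit 4, nat_lit 2, nat_lit 0, nat_lit 4]
def Wt_1255_1258 (j : ℕ) : List ℕ := bif Nat.blt j 1256 then [nat_lit 1, nat_lit 4, nat_lit 5, nat_lit 0, nat_lit 4, nat_lit 1, nat_lit 4, nat_lit 5, nat_lit 0, nat_lit 4, nat_lit 1, nat_lit 4, nat_lit 5, nat_lit 0, nat_lit 4, nat_lit 1, nat_lit 4, nat_lit 5, nat_lit 0, nat_lit 4] else (Wt_1256_1258 j)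
def Wt_1252_1258 (j : ℕ) : List ℕ := bif Nat.blt j 1255 then (Wt_1252_1255 j) else (Wt_1255_1258 j)
def Wt_1259_1261 (j : ℕ) : List ℕ := bif Nat.blt j 1260 then [nat_lit 1, nat_lit 2, nat_lit 4, nat_lit 1, nat_lit 3, nat_lit 4, nat_lit 0, nat_lit 4, nat_lit 0, nat_lit 2, nat_lit 4, nat_lit 0, nat_lit 4, nat_lit 3, nat_lit 1, nat_lit 4, nat_lit 2] else [nat_lit 63, nat_lit 5, nat_lit 4, nat_lit 5, nat_lit 4, nat_lit 5, nat_lit 4, nat_lit 5, nat_lit 4, nat_lit 5, nat_lit 4, nat_lit 5, nat_lit 4, nat_lit 5, nat_lit 4, nat_lit 5, nat_lit 4, nat_lit 5, nat_lit 4, nat_lit 5, nat_lit 4, nat_lit 5, nat_lit 4, nat_lit 5, nat_lit 4]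
def Wt_1258_1261 (j : ℕ) : List ℕ := bif Nat.blt j 1259 then [nat_lit 4, nat_lit 1, nat_lit 4, nat_lit 0, nat_lit 2, nat_lit 4, nat_lit 1, nat_lit 4, nat_lit 2, nat_lit 0, nat_lit 4, nat_lit 1, nat_lit 4, nat_lit 2, nat_lit 0] else (Wt_1259_1261 j)
def Wt_1261_1263 (j : ℕ) : List ℕ := bif Nat.blt j 1262 then [nat_lit 4, nat_lit 3, nat_lit 4, nat_lit 2, nat_lit 5, nat_lit 4, nat_lit 3, nat_lit 4, nat_lit 3, nat_lit 4, nat_lit 2, nat_lit 5, nat_lit 4, nat_lit 3, nat_lit 4, nat_lit 3, nat_lit 4, nat_lit 2, nat_lit 5, nat_lit 4, nat_lit 3, nat_lit 4, nat_lit 3, nat_lit 4, nat_lit 2, nat_lit 5, nat_lit 4, nat_lit 3, nat_lit 4, nat_lit 3, nat_lit 4, nat_lit 2, nat_lit 5, nat_lit 4, nat_lit 3] else [nat_lit 4, nat_lit 3, nat_lit 5, nat_lit 0, nat_lit 3, nat_lit 4, nat_lit 3, nat_lit 5, nat_lit 0, nat_lit 3, nat_lit 4, nat_lit 3, nat_lit 5, nat_lit 0, nat_lit 3, nat_lit 4, nat_lit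 3, nat_lit 5, nat_lit 0, nat_lit 3, nat_lit 4, nat_lit 3, nat_lit 5, nat_lit 0, nat_lit 3]
def Wt_1263_1265 (j : ℕ) : List ℕ := bif Nat.blt j 1264 then [nat_lit 0, nat_lit 4, nat_lit 1, nat_lit 2, nat_lit 1, nat_lit 4, nat_lit 1, nat_lit 2, nat_lit 1, nat_lit 4, nat_lit 0, nat_lit 1, nat_lit 4, nat_lit 2, nat_lit 3, nat_lit 4, nat_lit 1] else [nat_lit 2, nat_lit 4, nat_lit 1, nat_lit 3, nat_lit 4, nat_lit 0, nat_lit 4, nat_lit 0, nat_lit 2, nat_lit 4, nat_lit 0, nat_lit 4, nat_lit 3, nat_lit 1, nat_lit 4, nat_lit 2, nat_lit 1]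
def Wt_1261_1265 (j : ℕ) : List ℕ := bif Nat.blt j 1263 then (Wt_1261_1263 j) else (Wt_1263_1265 j)
def Wt_1258_1265 (j : ℕ) : List ℕ := bif Nat.blt j 1261 then (Wt_1258_1261 j) else (Wt_1261_1265 j)
def Wt_1252_1265 (j : ℕ) : List ℕ := bif Nat.blt j 1258 then (Wt_1252_1258 j) else (Wt_1258_1265 j)
def Wt_1240_1265 (j : ℕ) : List ℕ := bif Nat.blt j 1252 then (Wt_1240_1252 j) else (Wt_1252_1265 j)
def Wt_1216_1265 (j : ℕ) : List ℕ := bif Nat.blt j 1240 then (Wt_1216_1240 j) else (Wt_1240_1265 j)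
def Wt_1168_1265 (j : ℕ) : List ℕ := bif Nat.blt j 1216 then (Wt_1168_1216 j) else (Wt_1216_1265 j)
def Wt_1266_1268 (j : ℕ) : List ℕ := bif Nat.blt j 1267 then [nat_lit 1, nat_lit 0, nat_lit 4, nat_lit 1, nat_lit 2, nat_lit 1, nat_lit 4, nat_lit 1, nat_lit 2, nat_lit 1, nat_lit 4, nat_lit 0, nat_lit 1, nat_lit 4, nat_lit 2, nat_lit 3, nat_lit 4] else [nat_lit 3, nat_lit 2, nat_lit 4, nat_lit 2, nat_lit 4, nat_lit 2, nat_lit 1, nat_lit 5, nat_lit 4, nat_lit 3, nat_lit 2, nat_lit 4, nat_lit 2, nat_lit 4, nat_lit 2, nat_lit 1, nat_lit 5, nat_lit 4, nat_lit 3, nat_lit 2, nat_lit 4, nat_lit 2, nat_lit 4, nat_lit 2, nat_lit 1, nat_lit 5, nat_lit 4, nat_lit 3, nat_lit 2, nat_lit 4, nat_lit 2, nat_lit 4, nat_lit 2, nat_lit 1, nat_lit 5, nat_lit 4, nat_lit 3, nat_lit 2, nat_lit 4, nat_lit 2, nat_lit 4, nat_lit 2, nat_lit 1, nat_lit 5, nat_lit 4, nat_lit 3, nat_lit 2, nat_lit 4,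 nat_lit 2, nat_lit 4, nat_lit 2, nat_lit 1, nat_lit 5, nat_lit 4]
def Wt_1265_1268 (j : ℕ) : List ℕ := bif Nat.blt j 1266 then [nat_lit 63, nat_lit 0, nat_lit 1, nat_lit 2, nat_lit 0, nat_lit 2, nat_lit 1, nat_lit 0, nat_lit 1, nat_lit 2, nat_lit 0, nat_lit 2, nat_lit 1, nat_lit 0, nat_lit 1, nat_lit 2, nat_lit 0, nat_lit 2, nat_lit 1] else (Wt_1266_1268 j)
def Wt_1269_1271 (j : ℕ) : List ℕ := bif Nat.blt j 1270 then [nat_lit 63, nat_lit 1, nat_lit 5, nat_lit 1, nat_lit 5] else [nat_lit 63, nat_lit 1, nat_lit 4, nat_lit 1, nat_lit 5, nat_lit 4, nat_lit 2, nat_lit 0, nat_lit 4, nat_lit 0, nat_lit 1, nat_lit 4, nat_lit 1, nat_lit 5, nat_lit 4, nat_lit 2, nat_lit 0, nat_lit 4, nat_lit 0, nat_lit 1, nat_lit 4, nat_lit 1, nat_lit 5, nat_lit 4, nat_lit 2, nat_lit 0, nat_lit 4, nat_lit 0, nat_lit 1, nat_lit 4, nat_lit 1, nat_lit 5, nat_lit 4, nat_lit 2, nat_lit 0, nat_lit 4, nat_lit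 0, nat_lit 1, nat_lit 4, nat_lit 1, nat_lit 5, nat_lit 4, nat_lit 2, nat_lit 0, nat_lit 4, nat_lit 0]
def Wt_1268_1271 (j : ℕ) : List ℕ := bif Nat.blt j 1269 then [nat_lit 0, nat_lit 4, nat_lit 2, nat_lit 0, nat_lit 4, nat_lit 2, nat_lit 0, nat_lit 4, nat_lit 0, nat_lit 2, nat_lit 4, nat_lit 0, nat_lit 2, nat_lit 4, nat_lit 3, nat_lit 2, nat_lit 3] else (Wt_1269_1271 j)
def Wt_1265_1271 (j : ℕ) : List ℕ := bif Nat.blt j 1268 then (Wt_1265_1268 j) else (Wt_1268_1271 j)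
def Wt_1272_1274 (j : ℕ) : List ℕ := bif Nat.blt j 1273 then [nat_lit 63, nat_lit 1, nat_lit 3, nat_lit 4, nat_lit 0, nat_lit 1, nat_lit 4, nat_lit 1, nat_lit 3, nat_lit 4, nat_lit 1, nat_lit 0, nat_lit 4, nat_lit 1, nat_lit 0, nat_lit 2, nat_lit 1, nat_lit 0] else [nat_lit 4, nat_lit 5, nat_lit 2, nat_lit 4, nat_lit 3, nat_lit 4, nat_lit 3, nat_lit 4, nat_lit 5, nat_lit 2, nat_lit 4, nat_lit 3, nat_lit 4, nat_lit 3, nat_lit 4, nat_lit 5, nat_lit 2, nat_lit 4, nat_lit 3, nat_lit 4, nat_lit 3, nat_lit 4, nat_lit 5, nat_lit 2, nat_lit 4, nat_lit 3, nat_lit 4, nat_lit 3, nat_lit 4, nat_lit 5, nat_lit 2, nat_lit 4, nat_lit 3, nat_lit 4, nat_lit 3]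
def Wt_1271_1274 (j : ℕ) : List ℕ := bif Nat.blt j 1272 then [nat_lit 63, nat_lit 0, nat_lit 4, nat_lit 0, nat_lit 2, nat_lit 4, nat_lit 5, nat_lit 1, nat_lit 4, nat_lit 1, nat_lit 0, nat_lit 4, nat_lit 0, nat_lit 2, nat_lit 4, nat_lit 5, nat_lit 1, nat_lit 4, nat_lit 1, nat_lit 0, nat_lit 4, nat_lit 0, nat_lit 2, nat_lit 4, nat_lit 5, nat_lit 1, nat_lit 4, nat_lit 1, nat_lit 0, nat_lit 4, nat_lit 0, nat_lit 2, nat_lit 4, nat_lit 5, nat_lit 1, nat_lit 4, nat_lit 1, nat_lit 0, nat_lit 4, nat_lit 0, nat_lit 2, nat_lit 4, nat_lit 5, nat_lit 1, nat_lit 4, nat_lit 1] else (Wt_1272_1274 j)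
def Wt_1275_1277 (j : ℕ) : List ℕ := bif Nat.blt j 1276 then [nat_lit 63, nat_lit 2, nat_lit 3, nat_lit 0, nat_lit 3, nat_lit 0, nat_lit 1, nat_lit 3, nat_lit 2, nat_lit 3, nat_lit 0, nat_lit 3, nat_lit 0, nat_lit 1, nat_lit 3, nat_lit 2, nat_lit 3, nat_lit 0, nat_lit 3, nat_lit 0, nat_lit 1, nat_lit 3] else [nat_lit 63, nat_lit 3, nat_lit 2, nat_lit 0, nat_lit 3, nat_lit 1, nat_lit 4, nat_lit 1, nat_lit 4, nat_lit 0, nat_lit 4, nat_lit 1, nat_lit 4, nat_lit 2, nat_lit 1, nat_lit 4, nat_lit 1, nat_lit 4]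
def Wt_1274_1277 (j : ℕ) : List ℕ := bif Nat.blt j 1275 then [nat_lit 2, nat_lit 4, nat_lit 3, nat_lit 4, nat_lit 3, nat_lit 4, nat_lit 5, nat_lit 2, nat_lit 4, nat_lit 3, nat_lit 4, nat_lit 3, nat_lit 4, nat_lit 5, nat_lit 2, nat_lit 4, nat_lit 3, nat_lit 4, nat_lit 3, nat_lit 4, nat_lit 5, nat_lit 2, nat_lit 4, nat_lit 3, nat_lit 4, nat_lit 3, nat_lit 4, nat_lit 5, nat_lit 2, nat_lit 4, nat_lit 3, nat_lit 4, nat_lit 3, nat_lit 4, nat_lit 5] else (Wt_1275_1277 j)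
def Wt_1271_1277 (j : ℕ) : List ℕ := bif Nat.blt j 1274 then (Wt_1271_1274 j) else (Wt_1274_1277 j)
def Wt_1265_1277 (j : ℕ) : List ℕ := bif Nat.blt j 1271 then (Wt_1265_1271 j) else (Wt_1271_1277 j)
def Wt_1278_1280 (j : ℕ) : List ℕ := bif Nat.blt j 1279 then [nat_lit 3, nat_lit 5, nat_lit 0, nat_lit 3, nat_lit 4, nat_lit 3, nat_lit 5, nat_lit 0, nat_lit 3, nat_lit 4, nat_lit 3, nat_lit 5, nat_lit 0, nat_lit 3, nat_lit 4, nat_lit 3, nat_lit 5, nat_lit 0, nat_lit 3, nat_lit 4, nat_lit 3, nat_lit 5, nat_lit 0, nat_lit 3, nat_lit 4] else [nat_lit 4, nat_lit 5, nat_lit 0, nat_lit 1, nat_lit 4, nat_lit 3, nat_lit 4, nat_lit 0, nat_lit 4, nat_lit 5, nat_lit 0, nat_lit 1, nat_lit 4, nat_lit 3, nat_lit 4, nat_lit 0, nat_lit 4, nat_lit 5, nat_lit 0, nat_lit 1, nat_lit 4, nat_lit 3, nat_lit 4, nat_lit 0, nat_lit 4, nat_lit 5, nat_lit 0, nat_lit 1, nat_lit 4, nat_lit 3, nat_lit 4,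 nat_lit 0, nat_lit 4, nat_lit 5, nat_lit 0, nat_lit 1, nat_lit 4, nat_lit 3, nat_lit 4, nat_lit 0]
def Wt_1277_1280 (j : ℕ) : List ℕ := bif Nat.blt j 1278 then [nat_lit 63, nat_lit 4, nat_lit 1, nat_lit 2, nat_lit 1, nat_lit 4, nat_lit 5, nat_lit 1, nat_lit 4, nat_lit 1, nat_lit 2, nat_lit 1, nat_lit 4, nat_lit 5, nat_lit 1, nat_lit 4, nat_lit 1, nat_lit 2, nat_lit 1, nat_lit 4, nat_lit 5, nat_lit 1] else (Wt_1278_1280 j)
def Wt_1281_1283 (j : ℕ) : List ℕ := bif Nat.blt j 1282 then [nat_lit 1, nat_lit 4, nat_lit 0, nat_lit 4, nat_lit 1, nat_lit 4, nat_lit 2, nat_lit 1, nat_lit 4, nat_lit 1, nat_lit 4, nat_lit 3, nat_lit 2, nat_lit 0, nat_lit 3, nat_lit 1, nat_lit 4] else [nat_lit 63, nat_lit 0, nat_lit 1, nat_lit 4, nat_lit 0, nat_lit 1, nat_lit 4, nat_lit 3, nat_lit 1, nat_lit 4, nat_lit 1, nat_lit 0, nat_lit 4, nat_lit 3, nat_lit 1, nat_lit 0, nat_lit 1, nat_lit 2]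
def Wt_1280_1283 (j : ℕ) : List ℕ := bif Nat.blt j 1281 then [nat_lit 63, nat_lit 3, nat_lit 4, nat_lit 0, nat_lit 4, nat_lit 5, nat_lit 0, nat_lit 1, nat_lit 4, nat_lit 3, nat_lit 4, nat_lit 0, nat_lit 4, nat_lit 5, nat_lit 0, nat_lit 1, nat_lit 4, nat_lit 3, nat_lit 4, nat_lit 0, nat_lit 4, nat_lit 5, nat_lit 0, nat_lit 1, nat_lit 4, nat_lit 3, nat_lit 4, nat_lit 0, nat_lit 4, nat_lit 5, nat_lit 0, nat_lit 1, nat_lit 4, nat_lit 3, nat_lit 4, nat_lit 0, nat_lit 4, nat_lit 5, nat_lit 0, nat_lit 1, nat_lit 4] else (Wt_1281_1283 j)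
def Wt_1277_1283 (j : ℕ) : List ℕ := bif Nat.blt j 1280 then (Wt_1277_1280 j) else (Wt_1280_1283 j)
def Wt_1284_1286 (j : ℕ) : List ℕ := bif Nat.blt j 1285 then [nat_lit 63, nat_lit 2, nat_lit 4, nat_lit 3, nat_lit 4, nat_lit 3, nat_lit 0, nat_lit 3, nat_lit 1, nat_lit 2, nat_lit 1, nat_lit 4, nat_lit 2, nat_lit 4, nat_lit 3, nat_lit 4, nat_lit 2, nat_lit 4] else [nat_lit 0, nat_lit 3, nat_lit 0, nat_lit 3, nat_lit 0, nat_lit 3, nat_lit 0, nat_lit 3, nat_lit 0, nat_lit 3, nat_lit 0, nat_lit 3, nat_lit 0, nat_lit 3, nat_lit 0, nat_lit 3, nat_lit 0, nat_lit 3, nat_lit 0, nat_lit 3, nat_lit 0, nat_lit 3, nat_lit 0, nat_lit 3]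
def Wt_1283_1286 (j : ℕ) : List ℕ := bif Nat.blt j 1284 then [nat_lit 63, nat_lit 2, nat_lit 1, nat_lit 4, nat_lit 1, nat_lit 4, nat_lit 3, nat_lit 2, nat_lit 0, nat_lit 3, nat_lit 1, nat_lit 4, nat_lit 1, nat_lit 4, nat_lit 0, nat_lit 4, nat_lit 1, nat_lit 4] else (Wt_1284_1286 j)
def Wt_1287_1289 (j : ℕ) : List ℕ := bif Nat.blt j 1288 then [nat_lit 4, nat_lit 3, nat_lit 2, nat_lit 3, nat_lit 0, nat_lit 4, nat_lit 2, nat_lit 0, nat_lit 4, nat_lit 2, nat_lit 0, nat_lit 4, nat_lit 0, nat_lit 2, nat_lit 4, nat_lit 0, nat_lit 2] else [nat_lit 63, nat_lit 2, nat_lit 0, nat_lit 4, nat_lit 0, nat_lit 2, nat_lit 4, nat_lit 0, nat_lit 2, nat_lit 4, nat_lit 0, nat_lit 3, nat_lit 2, nat_lit 3, nat_lit 4, nat_lit 2, nat_lit 0, nat_lit 4]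
def Wt_1286_1289 (j : ℕ) : List ℕ := bif Nat.blt j 1287 then [nat_lit 4, nat_lit 1, nat_lit 0, nat_lit 4, nat_lit 0, nat_lit 2, nat_lit 4, nat_lit 5, nat_lit 1, nat_lit 4, nat_lit 1, nat_lit 0, nat_lit 4, nat_lit 0, nat_lit 2, nat_lit 4, nat_lit 5, nat_lit 1, nat_lit 4, nat_lit 1, nat_lit 0, nat_lit 4, nat_lit 0, nat_lit 2, nat_lit 4, nat_lit 5, nat_lit 1, nat_lit 4, nat_lit 1, nat_lit 0, nat_lit 4, nat_lit 0, nat_lit 2, nat_lit 4, nat_lit 5, nat_lit 1, nat_lit 4, nat_lit 1, nat_lit 0, nat_lit 4, nat_lit 0, nat_lit 2, nat_lit 4, nat_lit 5, nat_lit 1] else (Wt_1287_1289 j)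
def Wt_1283_1289 (j : ℕ) : List ℕ := bif Nat.blt j 1286 then (Wt_1283_1286 j) else (Wt_1286_1289 j)
def Wt_1277_1289 (j : ℕ) : List ℕ := bif Nat.blt j 1283 then (Wt_1277_1283 j) else (Wt_1283_1289 j)
def Wt_1265_1289 (j : ℕ) : List ℕ := bif Nat.blt j 1277 then (Wt_1265_1277 j) else (Wt_1277_1289 j)
def Wt_1290_1292 (j : ℕ) : List ℕ := bif Nat.blt j 1291 then [nat_lit 3, nat_lit 2, nat_lit 3, nat_lit 4, nat_lit 2, nat_lit 0, nat_lit 4, nat_lit 2, nat_lit 0, nat_lit 4, nat_lit 0, nat_lit 2, nat_lit 4, nat_lit 0, nat_lit 2, nat_lit 4, nat_lit 0] else [nat_lit 63, nat_lit 3, nat_lit 4, nat_lit 5, nat_lit 2, nat_lit 4, nat_lit 3, nat_lit 4, nat_lit 3, nat_lit 4, nat_lit 5, nat_lit 2, nat_lit 4, nat_lit 3, nat_lit 4, nat_lit 3, nat_lit 4, nat_lit 5, nat_lit 2, nat_lit 4, nat_lit 3, nat_lit 4, nat_lit 3, nat_lit 4, nat_lit 5, nat_lit 2, nat_lit 4, nat_lit 3, nat_lit 4, nat_lit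 3, nat_lit 4, nat_lit 5, nat_lit 2, nat_lit 4, nat_lit 3, nat_lit 4]
def Wt_1289_1292 (j : ℕ) : List ℕ := bif Nat.blt j 1290 then [nat_lit 63, nat_lit 1, nat_lit 2, nat_lit 4, nat_lit 2, nat_lit 4, nat_lit 2, nat_lit 3, nat_lit 4, nat_lit 5, nat_lit 1, nat_lit 2, nat_lit 4, nat_lit 2, nat_lit 4, nat_lit 2, nat_lit 3, nat_lit 4, nat_lit 5, nat_lit 1, nat_lit 2, nat_lit 4, nat_lit 2, nat_lit 4, nat_lit 2, nat_lit 3, nat_lit 4, nat_lit 5, nat_lit 1, nat_lit 2, nat_lit 4, nat_lit 2, nat_lit 4, nat_lit 2, nat_lit 3, nat_lit 4, nat_lit 5, nat_lit 1, nat_lit 2, nat_lit 4, nat_lit 2, nat_lit 4, nat_lit 2, nat_lit 3, nat_lit 4, nat_lit 5, nat_lit 1, nat_lit 2, nat_lit 4, nat_lit 2, nat_lit 4, nat_lit 2, nat_lit 3, nat_lit 4, nat_lit 5] else (Wt_1290_1292 j)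
def Wt_1293_1295 (j : ℕ) : List ℕ := bif Nat.blt j 1294 then [nat_lit 3, nat_lit 4, nat_lit 1, nat_lit 4, nat_lit 1, nat_lit 2, nat_lit 4, nat_lit 1, nat_lit 4, nat_lit 0, nat_lit 4, nat_lit 1, nat_lit 4, nat_lit 1, nat_lit 3, nat_lit 0, nat_lit 2] else [nat_lit 63, nat_lit 4, nat_lit 3, nat_lit 4, nat_lit 1, nat_lit 0, nat_lit 5, nat_lit 4, nat_lit 0, nat_lit 4, nat_lit 3, nat_lit 4, nat_lit 1, nat_lit 0, nat_lit 5, nat_lit 4, nat_lit 0, nat_lit 4, nat_lit 3, nat_lit 4, nat_lit 1, nat_lit 0, nat_lit 5, nat_lit 4, nat_lit 0, nat_lit 4, nat_lit 3, nat_lit 4, nat_lit 1, nat_lit 0, nat_lit 5, nat_lit 4, nat_lit 0, nat_lit 4, nat_lit 3, nat_lit 4, nat_lit 1, nat_lit 0, nat_lit 5, nat_lit 4, nat_lit 0]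
def Wt_1292_1295 (j : ℕ) : List ℕ := bif Nat.blt j 1293 then [nat_lit 4, nat_lit 2, nat_lit 1, nat_lit 5, nat_lit 2, nat_lit 4, nat_lit 3, nat_lit 4, nat_lit 0, nat_lit 4, nat_lit 2, nat_lit 1, nat_lit 5, nat_lit 2, nat_lit 4, nat_lit 3, nat_lit 4, nat_lit 0, nat_lit 4, nat_lit 2, nat_lit 1, nat_lit 5, nat_lit 2, nat_lit 4, nat_lit 3, nat_lit 4, nat_lit 0] else (Wt_1293_1295 j)
def Wt_1289_1295 (j : ℕ) : List ℕ := bif Nat.blt j 1292 then (Wt_1289_1292 j) else (Wt_1292_1295 j)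
def Wt_1296_1298 (j : ℕ) : List ℕ := bif Nat.blt j 1297 then [nat_lit 63, nat_lit 5, nat_lit 1, nat_lit 4, nat_lit 0, nat_lit 2, nat_lit 4, nat_lit 0, nat_lit 1, nat_lit 4, nat_lit 5, nat_lit 1, nat_lit 4, nat_lit 0, nat_lit 2, nat_lit 4, nat_lit 0, nat_lit 1, nat_lit 4, nat_lit 5, nat_lit 1, nat_lit 4, nat_lit 0, nat_lit 2, nat_lit 4, nat_lit 0, nat_lit 1, nat_lit 4, nat_lit 5, nat_lit 1, nat_lit 4, nat_lit 0, nat_lit 2, nat_lit 4, nat_lit 0, nat_lit 1, nat_lit 4, nat_lit 5, nat_lit 1, nat_lit 4, nat_lit 0, nat_lit 2, nat_lit 4, nat_lit 0, nat_lit 1, nat_lit 4] else [nat_lit 63, nat_lit 0, nat_lit 4, nat_lit 0, nat_lit 1, nat_lit 4, nat_lit 1, nat_lit 5, nat_lit 4, nat_lit 2, nat_lit 0, nat_lit 4, nat_lit 0, nat_lit 1, nat_lit 4, nat_lit 1, nat_lit 5, nat_lit 4, nat_lit 2, nat_lit 0, nat_lit 4, nat_lit 0, nat_lit 1, nat_lit 4, nat_lit 1, nat_lit 5, nat_lit 4, nat_lit 2,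 nat_lit 0, nat_lit 4, nat_lit 0, nat_lit 1, nat_lit 4, nat_lit 1, nat_lit 5, nat_lit 4, nat_lit 2, nat_lit 0, nat_lit 4, nat_lit 0, nat_lit 1, nat_lit 4, nat_lit 1, nat_lit 5, nat_lit 4, nat_lit 2]
def Wt_1295_1298 (j : ℕ) : List ℕ := bif Nat.blt j 1296 then [nat_lit 63, nat_lit 0, nat_lit 1, nat_lit 4, nat_lit 3, nat_lit 4, nat_lit 0, nat_lit 4, nat_lit 5, nat_lit 0, nat_lit 1, nat_lit 4, nat_lit 3, nat_lit 4, nat_lit 0, nat_lit 4, nat_lit 5, nat_lit 0, nat_lit 1, nat_lit 4, nat_lit 3, nat_lit 4, nat_lit 0, nat_lit 4, nat_lit 5, nat_lit 0, nat_lit 1, nat_lit 4, nat_lit 3, nat_lit 4, nat_lit 0, nat_lit 4, nat_lit 5, nat_lit 0, nat_lit 1, nat_lit 4, nat_lit 3, nat_lit 4, nat_lit 0, nat_lit 4, nat_lit 5] else (Wt_1296_1298 j)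
def Wt_1299_1301 (j : ℕ) : List ℕ := bif Nat.blt j 1300 then [nat_lit 63, nat_lit 1, nat_lit 4, nat_lit 0, nat_lit 1, nat_lit 0, nat_lit 3, nat_lit 4, nat_lit 5, nat_lit 1, nat_lit 4, nat_lit 0, nat_lit 1, nat_lit 0, nat_lit 3, nat_lit 4, nat_lit 5, nat_lit 1, nat_lit 4, nat_lit 0, nat_lit 1, nat_lit 0, nat_lit 3, nat_lit 4, nat_lit 5, nat_lit 1, nat_lit 4, nat_lit 0, nat_lit 1, nat_lit 0, nat_lit 3, nat_lit 4, nat_lit 5, nat_lit 1, nat_lit 4, nat_lit 0, nat_lit 1, nat_lit 0, nat_lit 3, nat_lit 4, nat_lit 5, nat_lit 1, nat_lit 4, nat_lit 0, nat_lit 1, nat_lit 0, nat_lit 3, nat_lit 4, nat_lit 5] else [nat_lit 63, nat_lit 0, nat_lit 2, nat_lit 4, nat_lit 3, nat_lit 2, nat_lit 3, nat_lit 0, nat_lit 4, nat_lit 2, nat_lit 0, nat_lit 4, nat_lit 2, nat_lit 0, nat_lit 4, nat_lit 0, nat_lit 2, nat_lit 4]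
def Wt_1298_1301 (j : ℕ) : List ℕ := bif Nat.blt j 1299 then [nat_lit 63, nat_lit 2, nat_lit 4, nat_lit 5, nat_lit 1, nat_lit 4, nat_lit 1, nat_lit 0, nat_lit 4, nat_lit 0, nat_lit 2, nat_lit 4, nat_lit 5, nat_lit 1, nat_lit 4, nat_lit 1, nat_lit 0, nat_lit 4, nat_lit 0, nat_lit 2, nat_lit 4, nat_lit 5, nat_lit 1, nat_lit 4, nat_lit 1, nat_lit 0, nat_lit 4, nat_lit 0, nat_lit 2, nat_lit 4, nat_lit 5, nat_lit 1, nat_lit 4, nat_lit 1, nat_lit 0, nat_lit 4, nat_lit 0, nat_lit 2, nat_lit 4, nat_lit 5, nat_lit 1, nat_lit 4, nat_lit 1, nat_lit 0, nat_lit 4, nat_lit 0] else (Wt_1299_1301 j)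
def Wt_1295_1301 (j : ℕ) : List ℕ := bif Nat.blt j 1298 then (Wt_1295_1298 j) else (Wt_1298_1301 j)
def Wt_1289_1301 (j : ℕ) : List ℕ := bif Nat.blt j 1295 then (Wt_1289_1295 j) else (Wt_1295_1301 j)
def Wt_1302_1304 (j : ℕ) : List ℕ := bif Nat.blt j 1303 then [nat_lit 63, nat_lit 3, nat_lit 0, nat_lit 3, nat_lit 1, nat_lit 2, nat_lit 1, nat_lit 4, nat_lit 2, nat_lit 4, nat_lit 3, nat_lit 4, nat_lit 2, nat_lit 4, nat_lit 2, nat_lit 4, nat_lit 3, nat_lit 4] else [nat_lit 63, nat_lit 5, nat_lit 1, nat_lit 4, nat_lit 1, nat_lit 2, nat_lit 1, nat_lit 4, nat_lit 5, nat_lit 1, nat_lit 4, nat_lit 1, nat_lit 2, nat_lit 1, nat_lit 4, nat_lit 5, nat_lit 1, nat_lit 4, nat_lit 1, nat_lit 2, nat_lit 1, nat_lit 4]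
def Wt_1301_1304 (j : ℕ) : List ℕ := bif Nat.blt j 1302 then [nat_lit 2, nat_lit 5, nat_lit 1, nat_lit 2, nat_lit 4, nat_lit 0, nat_lit 4, nat_lit 3, nat_lit 4, nat_lit 2, nat_lit 5, nat_lit 1, nat_lit 2, nat_lit 4, nat_lit 0, nat_lit 4, nat_lit 3, nat_lit 4, nat_lit 2, nat_lit 5, nat_lit 1, nat_lit 2, nat_lit 4, nat_lit 0, nat_lit 4, nat_lit 3, nat_lit 4] else (Wt_1302_1304 j)
def Wt_1305_1307 (j : ℕ) : List ℕ := bif Nat.blt j 1306 then [nat_lit 2, nat_lit 1, nat_lit 0, nat_lit 1, nat_lit 3, nat_lit 4, nat_lit 0, nat_lit 1, nat_lit 4, nat_lit 1, nat_lit 3, nat_lit 4, nat_lit 1, nat_lit 0, nat_lit 4, nat_lit 1, nat_lit 0] else [nat_lit 0, nat_lit 4, nat_lit 0, nat_lit 4, nat_lit 0, nat_lit 4, nat_lit 0, nat_lit 4, nat_lit 0, nat_lit 4, nat_lit 0, nat_lit 4, nat_lit 0, nat_lit 4, nat_lit 0, nat_lit 4, nat_lit 0, nat_lit 4, nat_lit 0, nat_lit 4, nat_lit 0, nat_lit 4, nat_lit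 0, nat_lit 4]
def Wt_1304_1307 (j : ℕ) : List ℕ := bif Nat.blt j 1305 then [nat_lit 2, nat_lit 4, nat_lit 5, nat_lit 1, nat_lit 4, nat_lit 1, nat_lit 0, nat_lit 4, nat_lit 0, nat_lit 2, nat_lit 4, nat_lit 5, nat_lit 1, nat_lit 4, nat_lit 1, nat_lit 0, nat_lit 4, nat_lit 0, nat_lit 2, nat_lit 4, nat_lit 5, nat_lit 1, nat_lit 4, nat_lit 1, nat_lit 0, nat_lit 4, nat_lit 0, nat_lit 2, nat_lit 4, nat_lit 5, nat_lit 1, nat_lit 4, nat_lit 1, nat_lit 0, nat_lit 4, nat_lit 0, nat_lit 2, nat_lit 4, nat_lit 5, nat_lit 1, nat_lit 4, nat_lit 1, nat_lit 0, nat_lit 4, nat_lit 0] else (Wt_1305_1307 j)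
def Wt_1301_1307 (j : ℕ) : List ℕ := bif Nat.blt j 1304 then (Wt_1301_1304 j) else (Wt_1304_1307 j)
def Wt_1308_1310 (j : ℕ) : List ℕ := bif Nat.blt j 1309 then [nat_lit 63, nat_lit 2, nat_lit 4, nat_lit 2, nat_lit 5, nat_lit 1, nat_lit 2, nat_lit 4, nat_lit 2, nat_lit 5, nat_lit 1, nat_lit 2, nat_lit 4, nat_lit 2, nat_lit 5, nat_lit 1, nat_lit 2, nat_lit 4, nat_lit 2, nat_lit 5, nat_lit 1, nat_lit 2, nat_lit 4, nat_lit 2, nat_lit 5, nat_lit 1, nat_lit 2, nat_lit 4, nat_lit 2, nat_lit 5, nat_lit 1] else [nat_lit 63, nat_lit 3, nat_lit 4, nat_lit 3, nat_lit 4, nat_lit 5, nat_lit 2, nat_lit 4, nat_lit 3, nat_lit 4, nat_lit 3, nat_lit 4, nat_lit 5, nat_lit 2, nat_lit 4, nat_lit 3, nat_lit 4, nat_lit 3, nat_lit 4, nat_lit 5, nat_lit 2, nat_lit 4, nat_lit 3, nat_lit 4, nat_lit 3, nat_lit 4, nat_lit 5, nat_lit 2, nat_lit 4, nat_lit 3, nat_lit 4, nat_lit 3, nat_lit 4, nat_lit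 5, nat_lit 2, nat_lit 4]
def Wt_1307_1310 (j : ℕ) : List ℕ := bif Nat.blt j 1308 then [nat_lit 63, nat_lit 1, nat_lit 4, nat_lit 5, nat_lit 2, nat_lit 4, nat_lit 1, nat_lit 4, nat_lit 5, nat_lit 2, nat_lit 4, nat_lit 1, nat_lit 4, nat_lit 5, nat_lit 2, nat_lit 4] else (Wt_1308_1310 j)
def Wt_1310_1312 (j : ℕ) : List ℕ := bif Nat.blt j 1311 then [nat_lit 63, nat_lit 4, nat_lit 3, nat_lit 4, nat_lit 5, nat_lit 0, nat_lit 4, nat_lit 3, nat_lit 4, nat_lit 5, nat_lit 0, nat_lit 4, nat_lit 3, nat_lit 4, nat_lit 5, nat_lit 0, nat_lit 4, nat_lit 3, nat_lit 4, nat_lit 5, nat_lit 0, nat_lit 4, nat_lit 3, nat_lit 4, nat_lit 5, nat_lit 0, nat_lit 4, nat_lit 3, nat_lit 4, nat_lit 5, nat_lit 0] else [nat_lit 63, nat_lit 0, nat_lit 4, nat_lit 0, nat_lit 2, nat_lit 4, nat_lit 0, nat_lit 4, nat_lit 3, nat_lit 1, nat_lit 4, nat_lit 2, nat_lit 1, nat_lit 2, nat_lit 4, nat_lit 1, nat_lit 3,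 nat_lit 4]
def Wt_1312_1314 (j : ℕ) : List ℕ := bif Nat.blt j 1313 then [nat_lit 3, nat_lit 0, nat_lit 3, nat_lit 4, nat_lit 0, nat_lit 4, nat_lit 5, nat_lit 3, nat_lit 0, nat_lit 3, nat_lit 4, nat_lit 0, nat_lit 4, nat_lit 5, nat_lit 3, nat_lit 0, nat_lit 3, nat_lit 4, nat_lit 0, nat_lit 4, nat_lit 5, nat_lit 3, nat_lit 0, nat_lit 3, nat_lit 4, nat_lit 0, nat_lit 4, nat_lit 5, nat_lit 3, nat_lit 0, nat_lit 3, nat_lit 4, nat_lit 0, nat_lit 4, nat_lit 5] else [nat_lit 63, nat_lit 4, nat_lit 0, nat_lit 3, nat_lit 4, nat_lit 0, nat_lit 3, nat_lit 0, nat_lit 4, nat_lit 3, nat_lit 0, nat_lit 4, nat_lit 3, nat_lit 4, nat_lit 3, nat_lit 2, nat_lit 4, nat_lit 3]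
def Wt_1310_1314 (j : ℕ) : List ℕ := bif Nat.blt j 1312 then (Wt_1310_1312 j) else (Wt_1312_1314 j)
def Wt_1307_1314 (j : ℕ) : List ℕ := bif Nat.blt j 1310 then (Wt_1307_1310 j) else (Wt_1310_1314 j)
def Wt_1301_1314 (j : ℕ) : List ℕ := bif Nat.blt j 1307 then (Wt_1301_1307 j) else (Wt_1307_1314 j)
def Wt_1289_1314 (j : ℕ) : List ℕ := bif Nat.blt j 1301 then (Wt_1289_1301 j) else (Wt_1301_1314 j)
def Wt_1265_1314 (j : ℕ) : List ℕ := bif Nat.blt j 1289 then (Wt_1265_1289 j) else (Wt_1289_1314 j)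
def Wt_1315_1317 (j : ℕ) : List ℕ := bif Nat.blt j 1316 then [nat_lit 63, nat_lit 5, nat_lit 2, nat_lit 4, nat_lit 3, nat_lit 4, nat_lit 3, nat_lit 4, nat_lit 5, nat_lit 2, nat_lit 4, nat_lit 3, nat_lit 4, nat_lit 3, nat_lit 4, nat_lit 5, nat_lit 2, nat_lit 4, nat_lit 3, nat_lit 4, nat_lit 3, nat_lit 4, nat_lit 5, nat_lit 2, nat_lit 4, nat_lit 3, nat_lit 4, nat_lit 3, nat_lit 4, nat_lit 5, nat_lit 2, nat_lit 4, nat_lit 3, nat_lit 4, nat_lit 3, nat_lit 4] else [nat_lit 63, nat_lit 1, nat_lit 0, nat_lit 4, nat_lit 1, nat_lit 2, nat_lit 3, nat_lit 1, nat_lit 0, nat_lit 4, nat_lit 3, nat_lit 4, nat_lit 2, nat_lit 3, nat_lit 4, nat_lit 1, nat_lit 4, nat_lit 0]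
def Wt_1314_1317 (j : ℕ) : List ℕ := bif Nat.blt j 1315 then [nat_lit 63, nat_lit 4, nat_lit 3, nat_lit 4, nat_lit 3, nat_lit 4, nat_lit 5, nat_lit 2, nat_lit 4, nat_lit 3, nat_lit 4, nat_lit 3, nat_lit 4, nat_lit 5, nat_lit 2, nat_lit 4, nat_lit 3, nat_lit 4, nat_lit 3, nat_lit 4, nat_lit 5, nat_lit 2, nat_lit 4, nat_lit 3, nat_lit 4, nat_lit 3, nat_lit 4, nat_lit 5, nat_lit 2, nat_lit 4, nat_lit 3, nat_lit 4, nat_lit 3, nat_lit 4, nat_lit 5, nat_lit 2] else (Wt_1315_1317 j)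
def Wt_1318_1320 (j : ℕ) : List ℕ := bif Nat.blt j 1319 then [nat_lit 63, nat_lit 1, nat_lit 2, nat_lit 1, nat_lit 4, nat_lit 0, nat_lit 1, nat_lit 4, nat_lit 2, nat_lit 3, nat_lit 4, nat_lit 1, nat_lit 0, nat_lit 4, nat_lit 1, nat_lit 2, nat_lit 1, nat_lit 4] else [nat_lit 63, nat_lit 1, nat_lit 0, nat_lit 3, nat_lit 4, nat_lit 5, nat_lit 1, nat_lit 4, nat_lit 0, nat_lit 1, nat_lit 0, nat_lit 3, nat_lit 4, nat_lit 5, nat_lit 1, nat_lit 4, nat_lit 0, nat_lit 1, nat_lit 0, nat_lit 3, nat_lit 4, nat_lit 5, nat_lit 1, nat_lit 4, nat_lit 0, nat_lit 1, nat_lit 0, nat_lit 3, nat_lit 4, nat_lit 5, nat_lit 1, nat_lit 4, nat_lit 0, nat_lit 1, nat_lit 0, nat_lit 3, nat_lit 4, nat_lit 5, nat_lit 1, nat_lit 4, nat_lit 0, nat_lit 1, nat_lit 0, nat_lit 3, nat_lit 4, nat_lit 5, nat_lit 1, nat_lit 4, nat_lit 0]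
def Wt_1317_1320 (j : ℕ) : List ℕ := bif Nat.blt j 1318 then [nat_lit 63, nat_lit 4, nat_lit 3, nat_lit 4, nat_lit 0, nat_lit 5, nat_lit 4, nat_lit 3, nat_lit 4, nat_lit 0, nat_lit 5, nat_lit 4, nat_lit 3, nat_lit 4, nat_lit 0, nat_lit 5, nat_lit 4, nat_lit 3, nat_lit 4, nat_lit 0, nat_lit 5, nat_lit 4, nat_lit 3, nat_lit 4, nat_lit 0, nat_lit 5, nat_lit 4, nat_lit 3, nat_lit 4, nat_lit 0, nat_lit 5] else (Wt_1318_1320 j)
def Wt_1314_1320 (j : ℕ) : List ℕ := bif Nat.blt j 1317 then (Wt_1314_1317 j) else (Wt_1317_1320 j)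
def Wt_1321_1323 (j : ℕ) : List ℕ := bif Nat.blt j 1322 then [nat_lit 63, nat_lit 4, nat_lit 2, nat_lit 0, nat_lit 4, nat_lit 1, nat_lit 5, nat_lit 4, nat_lit 1, nat_lit 0, nat_lit 4, nat_lit 2, nat_lit 0, nat_lit 4, nat_lit 1, nat_lit 5, nat_lit 4, nat_lit 1, nat_lit 0, nat_lit 4, nat_lit 2, nat_lit 0, nat_lit 4, nat_lit 1, nat_lit 5, nat_lit 4, nat_lit 1, nat_lit 0, nat_lit 4, nat_lit 2, nat_lit 0, nat_lit 4, nat_lit 1, nat_lit 5, nat_lit 4, nat_lit 1, nat_lit 0, nat_lit 4, nat_lit 2, nat_lit 0, nat_lit 4, nat_lit 1, nat_lit 5, nat_lit 4, nat_lit 1, nat_lit 0] else [nat_lit 63, nat_lit 2, nat_lit 4, nat_lit 1, nat_lit 4, nat_lit 0, nat_lit 2, nat_lit 4, nat_lit 1, nat_lit 4, nat_lit 2, nat_lit 0, nat_lit 4, nat_lit 1, nat_lit 4, nat_lit 0]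
def Wt_1320_1323 (j : ℕ) : List ℕ := bif Nat.blt j 1321 then [nat_lit 1, nat_lit 4, nat_lit 3, nat_lit 4, nat_lit 2, nat_lit 4, nat_lit 2, nat_lit 4, nat_lit 3, nat_lit 4, nat_lit 2, nat_lit 4, nat_lit 3, nat_lit 0, nat_lit 3, nat_lit 1, nat_lit 2] else (Wt_1321_1323 j)
def Wt_1324_1326 (j : ℕ) : List ℕ := bif Nat.blt j 1325 then [nat_lit 63, nat_lit 3, nat_lit 0, nat_lit 3, nat_lit 0, nat_lit 3, nat_lit 0, nat_lit 3, nat_lit 0, nat_lit 3, nat_lit 0, nat_lit 3, nat_lit 0, nat_lit 3, nat_lit 0, nat_lit 3, nat_lit 0, nat_lit 3, nat_lit 0, nat_lit 3, nat_lit 0, nat_lit 3, nat_lit 0, nat_lit 3, nat_lit 0] else [nat_lit 63, nat_lit 1, nat_lit 0, nat_lit 3, nat_lit 0, nat_lit 3, nat_lit 2, nat_lit 3, nat_lit 1, nat_lit 0, nat_lit 3, nat_lit 0, nat_lit 3, nat_lit 2, nat_lit 3, nat_lit 1, nat_lit 0, nat_lit 3, nat_lit 0, nat_lit 3, nat_lit 2, nat_lit 3]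
def Wt_1323_1326 (j : ℕ) : List ℕ := bif Nat.blt j 1324 then [nat_lit 63, nat_lit 0, nat_lit 2, nat_lit 4, nat_lit 0, nat_lit 3, nat_lit 2, nat_lit 3, nat_lit 4, nat_lit 2, nat_lit 0, nat_lit 4, nat_lit 2, nat_lit 0, nat_lit 4, nat_lit 0, nat_lit 2, nat_lit 4] else (Wt_1324_1326 j)
def Wt_1320_1326 (j : ℕ) : List ℕ := bif Nat.blt j 1323 then (Wt_1320_1323 j) else (Wt_1323_1326 j)
def Wt_1314_1326 (j : ℕ) : List ℕ := bif Nat.blt j 1320 then (Wt_1314_1320 j) else (Wt_1320_1326 j)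
def Wt_1327_1329 (j : ℕ) : List ℕ := bif Nat.blt j 1328 then [nat_lit 0, nat_lit 4, nat_lit 0, nat_lit 2, nat_lit 4, nat_lit 0, nat_lit 2, nat_lit 4, nat_lit 3, nat_lit 2, nat_lit 3, nat_lit 0, nat_lit 4, nat_lit 2, nat_lit 0, nat_lit 4, nat_lit 2] else [nat_lit 2, nat_lit 4, nat_lit 0, nat_lit 2, nat_lit 4, nat_lit 3, nat_lit 2, nat_lit 3, nat_lit 0, nat_lit 4, nat_lit 2, nat_lit 0, nat_lit 4, nat_lit 2, nat_lit 0, nat_lit 4, nat_lit 0]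
def Wt_1326_1329 (j : ℕ) : List ℕ := bif Nat.blt j 1327 then [nat_lit 63, nat_lit 3, nat_lit 1, nat_lit 2, nat_lit 1, nat_lit 0, nat_lit 1, nat_lit 3, nat_lit 1, nat_lit 2, nat_lit 1, nat_lit 0, nat_lit 1, nat_lit 3, nat_lit 1, nat_lit 2, nat_lit 1, nat_lit 0, nat_lit 1] else (Wt_1327_1329 j)
def Wt_1330_1332 (j : ℕ) : List ℕ := bif Nat.blt j 1331 then [nat_lit 2, nat_lit 4, nat_lit 1, nat_lit 4, nat_lit 0, nat_lit 4, nat_lit 1, nat_lit 4, nat_lit 1, nat_lit 3, nat_lit 0, nat_lit 2, nat_lit 3, nat_lit 4, nat_lit 1, nat_lit 4, nat_lit 1] else [nat_lit 63, nat_lit 1, nat_lit 4, nat_lit 1, nat_lit 4, nat_lit 3, nat_lit 2, nat_lit 0, nat_lit 3, nat_lit 1, nat_lit 4, nat_lit 1, nat_lit 4, nat_lit 0, nat_lit 4, nat_lit 1, nat_lit 4, nat_lit 2]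
def Wt_1329_1332 (j : ℕ) : List ℕ := bif Nat.blt j 1330 then [nat_lit 4, nat_lit 2, nat_lit 1, nat_lit 4, nat_lit 1, nat_lit 4, nat_lit 3, nat_lit 2, nat_lit 0, nat_lit 3, nat_lit 1, nat_lit 4, nat_lit 1, nat_lit 4, nat_lit 0, nat_lit 4, nat_lit 1] else (Wt_1330_1332 j)
def Wt_1326_1332 (j : ℕ) : List ℕ := bif Nat.blt j 1329 then (Wt_1326_1329 j) else (Wt_1329_1332 j)
def Wt_1333_1335 (j : ℕ) : List ℕ := bif Nat.blt j 1334 then [nat_lit 3, nat_lit 4, nat_lit 5, nat_lit 2, nat_lit 4, nat_lit 3, nat_lit 4, nat_lit 3, nat_lit 4, nat_lit 5, nat_lit 2, nat_lit 4, nat_lit 3, nat_lit 4, nat_lit 3, nat_lit 4, nat_lit 5, nat_lit 2, nat_lit 4, nat_lit 3, nat_lit 4, nat_lit 3, nat_lit 4, nat_lit 5, nat_lit 2, nat_lit 4, nat_lit 3, nat_lit 4, nat_lit 3, nat_lit 4, nat_lit 5, nat_lit 2, nat_lit 4, nat_lit 3, nat_lit 4] else [nat_lit 4, nat_lit 3, nat_lit 4, nat_lit 0, nat_lit 4, nat_lit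 5, nat_lit 0, nat_lit 1, nat_lit 4, nat_lit 3, nat_lit 4, nat_lit 0, nat_lit 4, nat_lit 5, nat_lit 0, nat_lit 1, nat_lit 4, nat_lit 3, nat_lit 4, nat_lit 0, nat_lit 4, nat_lit 5, nat_lit 0, nat_lit 1, nat_lit 4, nat_lit 3, nat_lit 4, nat_lit 0, nat_lit 4, nat_lit 5, nat_lit 0, nat_lit 1, nat_lit 4, nat_lit 3, nat_lit 4, nat_lit 0, nat_lit 4, nat_lit 5, nat_lit 0, nat_lit 1]
def Wt_1332_1335 (j : ℕ) : List ℕ := bif Nat.blt j 1333 then [nat_lit 4, nat_lit 0, nat_lit 5, nat_lit 4, nat_lit 3, nat_lit 4, nat_lit 0, nat_lit 5, nat_lit 4, nat_lit 3, nat_lit 4, nat_lit 0, nat_lit 5, nat_lit 4, nat_lit 3, nat_lit 4, nat_lit 0, nat_lit 5, nat_lit 4, nat_lit 3, nat_lit 4, nat_lit 0, nat_lit 5, nat_lit 4, nat_lit 3, nat_lit 4, nat_lit 0, nat_lit 5, nat_lit 4, nat_lit 3] else (Wt_1333_1335 j)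
def Wt_1336_1338 (j : ℕ) : List ℕ := bif Nat.blt j 1337 then [nat_lit 63, nat_lit 4, nat_lit 1, nat_lit 4, nat_lit 0, nat_lit 2, nat_lit 4, nat_lit 1, nat_lit 4, nat_lit 2, nat_lit 0, nat_lit 4, nat_lit 1, nat_lit 4, nat_lit 0, nat_lit 2] else [nat_lit 4, nat_lit 0, nat_lit 4, nat_lit 0, nat_lit 4, nat_lit 0, nat_lit 4, nat_lit 0, nat_lit 4, nat_lit 0, nat_lit 4, nat_lit 0, nat_lit 4, nat_lit 0, nat_lit 4, nat_lit 0, nat_lit 4, nat_lit 0, nat_lit 4, nat_lit 0, nat_lit 4, nat_lit 0, nat_lit 4, nat_lit 0]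
def Wt_1335_1338 (j : ℕ) : List ℕ := bif Nat.blt j 1336 then [nat_lit 3, nat_lit 4, nat_lit 2, nat_lit 5, nat_lit 4, nat_lit 3, nat_lit 4, nat_lit 3, nat_lit 4, nat_lit 2, nat_lit 5, nat_lit 4, nat_lit 3, nat_lit 4, nat_lit 3, nat_lit 4, nat_lit 2, nat_lit 5, nat_lit 4, nat_lit 3, nat_lit 4, nat_lit 3, nat_lit 4, nat_lit 2, nat_lit 5, nat_lit 4, nat_lit 3, nat_lit 4, nat_lit 3, nat_lit 4, nat_lit 2, nat_lit 5, nat_lit 4, nat_lit 3, nat_lit 4] else (Wt_1336_1338 j)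
def Wt_1332_1338 (j : ℕ) : List ℕ := bif Nat.blt j 1335 then (Wt_1332_1335 j) else (Wt_1335_1338 j)
def Wt_1326_1338 (j : ℕ) : List ℕ := bif Nat.blt j 1332 then (Wt_1326_1332 j) else (Wt_1332_1338 j)
def Wt_1314_1338 (j : ℕ) : List ℕ := bif Nat.blt j 1326 then (Wt_1314_1326 j) else (Wt_1326_1338 j)
def Wt_1339_1341 (j : ℕ) : List ℕ := bif Nat.blt j 1340 then [nat_lit 3, nat_lit 4, nat_lit 0, nat_lit 5, nat_lit 4, nat_lit 3, nat_lit 4, nat_lit 0, nat_lit 5, nat_lit 4, nat_lit 3, nat_lit 4, nat_lit 0, nat_lit 5, nat_lit 4, nat_lit 3, nat_lit 4, nat_lit 0, nat_lit 5, nat_lit 4, nat_lit 3, nat_lit 4, nat_lit 0, nat_lit 5, nat_lit 4, nat_lit 3, nat_lit 4, nat_lit 0, nat_lit 5, nat_lit 4] else [nat_lit 5, nat_lit 3, nat_lit 0, nat_lit 3, nat_lit 4, nat_lit 0, nat_lit 4, nat_lit 5, nat_lit 3, nat_lit 0, nat_lit 3, nat_lit 4, nat_lit 0, nat_lit 4, nat_lit 5, nat_lit 3, nat_lit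 0, nat_lit 3, nat_lit 4, nat_lit 0, nat_lit 4, nat_lit 5, nat_lit 3, nat_lit 0, nat_lit 3, nat_lit 4, nat_lit 0, nat_lit 4, nat_lit 5, nat_lit 3, nat_lit 0, nat_lit 3, nat_lit 4, nat_lit 0, nat_lit 4]
def Wt_1338_1341 (j : ℕ) : List ℕ := bif Nat.blt j 1339 then [nat_lit 63, nat_lit 4, nat_lit 2, nat_lit 4, nat_lit 5, nat_lit 4, nat_lit 2, nat_lit 4, nat_lit 5, nat_lit 4, nat_lit 2, nat_lit 4, nat_lit 5, nat_lit 4, nat_lit 2, nat_lit 4, nat_lit 5, nat_lit 4, nat_lit 2, nat_lit 4, nat_lit 5, nat_lit 4, nat_lit 2, nat_lit 4, nat_lit 5] else (Wt_1339_1341 j)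
def Wt_1342_1344 (j : ℕ) : List ℕ := bif Nat.blt j 1343 then [nat_lit 63, nat_lit 1, nat_lit 5, nat_lit 4, nat_lit 1, nat_lit 0, nat_lit 4, nat_lit 2, nat_lit 0, nat_lit 4, nat_lit 1, nat_lit 5, nat_lit 4, nat_lit 1, nat_lit 0, nat_lit 4, nat_lit 2, nat_lit 0, nat_lit 4, nat_lit 1, nat_lit 5, nat_lit 4, nat_lit 1, nat_lit 0, nat_lit 4, nat_lit 2, nat_lit 0, nat_lit 4, nat_lit 1, nat_lit 5, nat_lit 4, nat_lit 1, nat_lit 0, nat_lit 4, nat_lit 2, nat_lit 0, nat_lit 4, nat_lit 1, nat_lit 5, nat_lit 4, nat_lit 1, nat_lit 0, nat_lit 4, nat_lit 2, nat_lit 0, nat_lit 4] else [nat_lit 4, nat_lit 1, nat_lit 4, nat_lit 1, nat_lit 2, nat_lit 4, nat_lit 1, nat_lit 4, nat_lit 0, nat_lit 4, nat_lit 1, nat_lit 4, nat_lit 1, nat_lit 3, nat_lit 0, nat_lit 2, nat_lit 3]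
def Wt_1341_1344 (j : ℕ) : List ℕ := bif Nat.blt j 1342 then [nat_lit 63, nat_lit 4, nat_lit 1, nat_lit 0, nat_lit 4, nat_lit 2, nat_lit 0, nat_lit 4, nat_lit 1, nat_lit 5, nat_lit 4, nat_lit 1, nat_lit 0, nat_lit 4, nat_lit 2, nat_lit 0, nat_lit 4, nat_lit 1, nat_lit 5, nat_lit 4, nat_lit 1, nat_lit 0, nat_lit 4, nat_lit 2, nat_lit 0, nat_lit 4, nat_lit 1, nat_lit 5, nat_lit 4, nat_lit 1, nat_lit 0, nat_lit 4, nat_lit 2, nat_lit 0, nat_lit 4, nat_lit 1, nat_lit 5, nat_lit 4, nat_lit 1, nat_lit 0, nat_lit 4, nat_lit 2, nat_lit 0, nat_lit 4, nat_lit 1, nat_lit 5] else (Wt_1342_1344 j)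
def Wt_1338_1344 (j : ℕ) : List ℕ := bif Nat.blt j 1341 then (Wt_1338_1341 j) else (Wt_1341_1344 j)
def Wt_1345_1347 (j : ℕ) : List ℕ := bif Nat.blt j 1346 then [nat_lit 63, nat_lit 4, nat_lit 2, nat_lit 3, nat_lit 4, nat_lit 5, nat_lit 1, nat_lit 2, nat_lit 4, nat_lit 2, nat_lit 4, nat_lit 2, nat_lit 3, nat_lit 4, nat_lit 5, nat_lit 1, nat_lit 2, nat_lit 4, nat_lit 2, nat_lit 4, nat_lit 2, nat_lit 3, nat_lit 4, nat_lit 5, nat_lit 1, nat_lit 2, nat_lit 4, nat_lit 2, nat_lit 4, nat_lit 2, nat_lit 3, nat_lit 4, nat_lit 5, nat_lit 1, nat_lit 2, nat_lit 4, nat_lit 2, nat_lit 4, nat_lit 2, nat_lit 3, nat_lit 4, nat_lit 5, nat_lit 1, nat_lit 2, nat_lit 4, nat_lit 2, nat_lit 4, nat_lit 2, nat_lit 3, nat_lit 4, nat_lit 5, nat_lit 1, nat_lit 2, nat_lit 4, nat_lit 2] else [nat_lit 4, nat_lit 5, nat_lit 0, nat_lit 4, nat_lit 1, nat_lit 4, nat_lit 5, nat_lit 0, nat_lit 4, nat_lit 1,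 nat_lit 4, nat_lit 5, nat_lit 0, nat_lit 4, nat_lit 1, nat_lit 4, nat_lit 5, nat_lit 0, nat_lit 4, nat_lit 1]
def Wt_1344_1347 (j : ℕ) : List ℕ := bif Nat.blt j 1345 then [nat_lit 0, nat_lit 2, nat_lit 4, nat_lit 3, nat_lit 2, nat_lit 3, nat_lit 0, nat_lit 4, nat_lit 2, nat_lit 0, nat_lit 4, nat_lit 2, nat_lit 0, nat_lit 4, nat_lit 0, nat_lit 2, nat_lit 4] else (Wt_1345_1347 j)
def Wt_1348_1350 (j : ℕ) : List ℕ := bif Nat.blt j 1349 then [nat_lit 63, nat_lit 1, nat_lit 4, nat_lit 5, nat_lit 0, nat_lit 4, nat_lit 1, nat_lit 4, nat_lit 5, nat_lit 0, nat_lit 4, nat_lit 1, nat_lit 4, nat_lit 5, nat_lit 0, nat_lit 4, nat_lit 1, nat_lit 4, nat_lit 5, nat_lit 0, nat_lit 4] else [nat_lit 63, nat_lit 3, nat_lit 4, nat_lit 5, nat_lit 0, nat_lit 4, nat_lit 3, nat_lit 4, nat_lit 5, nat_lit 0, nat_lit 4, nat_lit 3, nat_lit 4, nat_lit 5, nat_lit 0, nat_lit 4, nat_lit 3, nat_lit 4, nat_lit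 5, nat_lit 0, nat_lit 4, nat_lit 3, nat_lit 4, nat_lit 5, nat_lit 0, nat_lit 4, nat_lit 3, nat_lit 4, nat_lit 5, nat_lit 0, nat_lit 4]
def Wt_1347_1350 (j : ℕ) : List ℕ := bif Nat.blt j 1348 then [nat_lit 4, nat_lit 3, nat_lit 4, nat_lit 1, nat_lit 0, nat_lit 5, nat_lit 4, nat_lit 0, nat_lit 4, nat_lit 3, nat_lit 4, nat_lit 1, nat_lit 0, nat_lit 5, nat_lit 4, nat_lit 0, nat_lit 4, nat_lit 3, nat_lit 4, nat_lit 1, nat_lit 0, nat_lit 5, nat_lit 4, nat_lit 0, nat_lit 4, nat_lit 3, nat_lit 4, nat_lit 1, nat_lit 0, nat_lit 5, nat_lit 4, nat_lit 0, nat_lit 4, nat_lit 3, nat_lit 4, nat_lit 1, nat_lit 0, nat_lit 5, nat_lit 4, nat_lit 0] else (Wt_1348_1350 j)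
def Wt_1344_1350 (j : ℕ) : List ℕ := bif Nat.blt j 1347 then (Wt_1344_1347 j) else (Wt_1347_1350 j)
def Wt_1338_1350 (j : ℕ) : List ℕ := bif Nat.blt j 1344 then (Wt_1338_1344 j) else (Wt_1344_1350 j)
def Wt_1351_1353 (j : ℕ) : List ℕ := bif Nat.blt j 1352 then [nat_lit 63, nat_lit 3, nat_lit 2, nat_lit 3, nat_lit 0, nat_lit 4, nat_lit 2, nat_lit 0, nat_lit 4, nat_lit 2, nat_lit 0, nat_lit 4, nat_lit 0, nat_lit 2, nat_lit 4, nat_lit 0, nat_lit 2, nat_lit 4] else [nat_lit 63, nat_lit 0, nat_lit 5, nat_lit 4, nat_lit 3, nat_lit 4, nat_lit 0, nat_lit 5, nat_lit 4, nat_lit 3, nat_lit 4, nat_lit 0, nat_lit 5, nat_lit 4, nat_lit 3, nat_lit 4, nat_lit 0, nat_lit 5, nat_lit 4, nat_lit 3, nat_lit 4, nat_lit 0, nat_lit 5, nat_lit 4, nat_lit 3, nat_lit 4, nat_lit 0, nat_lit 5, nat_lit 4, nat_lit 3, nat_lit 4]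
def Wt_1350_1353 (j : ℕ) : List ℕ := bif Nat.blt j 1351 then [nat_lit 63, nat_lit 1, nat_lit 5, nat_lit 4, nat_lit 2, nat_lit 0, nat_lit 4, nat_lit 0, nat_lit 1, nat_lit 4, nat_lit 1, nat_lit 5, nat_lit 4, nat_lit 2, nat_lit 0, nat_lit 4, nat_lit 0, nat_lit 1, nat_lit 4, nat_lit 1, nat_lit 5, nat_lit 4, nat_lit 2, nat_lit 0, nat_lit 4, nat_lit 0, nat_lit 1, nat_lit 4, nat_lit 1, nat_lit 5, nat_lit 4, nat_lit 2, nat_lit 0, nat_lit 4, nat_lit 0, nat_lit 1, nat_lit 4, nat_lit 1, nat_lit 5, nat_lit 4, nat_lit 2, nat_lit 0, nat_lit 4, nat_lit 0, nat_lit 1, nat_lit 4] else (Wt_1351_1353 j)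
def Wt_1354_1356 (j : ℕ) : List ℕ := bif Nat.blt j 1355 then [nat_lit 63, nat_lit 0, nat_lit 4, nat_lit 2, nat_lit 0, nat_lit 4, nat_lit 1, nat_lit 5, nat_lit 4, nat_lit 1, nat_lit 0, nat_lit 4, nat_lit 2, nat_lit 0, nat_lit 4, nat_lit 1, nat_lit 5, nat_lit 4, nat_lit 1, nat_lit 0, nat_lit 4, nat_lit 2, nat_lit 0, nat_lit 4, nat_lit 1, nat_lit 5, nat_lit 4, nat_lit 1, nat_lit 0, nat_lit 4, nat_lit 2, nat_lit 0, nat_lit 4, nat_lit 1, nat_lit 5, nat_lit 4, nat_lit 1, nat_lit 0, nat_lit 4, nat_lit 2, nat_lit 0, nat_lit 4, nat_lit 1, nat_lit 5, nat_lit 4, nat_lit 1] else [nat_lit 4, nat_lit 1, nat_lit 5, nat_lit 4, nat_lit 2, nat_lit 0, nat_lit 4, nat_lit 0, nat_lit 1, nat_lit 4, nat_lit 1, nat_lit 5, nat_lit 4, nat_lit 2, nat_lit 0, nat_lit 4, nat_lit 0, nat_lit 1, nat_lit 4, nat_lit 1, nat_lit 5, nat_lit 4, nat_lit 2, nat_lit 0, nat_lit 4, nat_lit 0, nat_lit 1, nat_lit 4,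 nat_lit 1, nat_lit 5, nat_lit 4, nat_lit 2, nat_lit 0, nat_lit 4, nat_lit 0, nat_lit 1, nat_lit 4, nat_lit 1, nat_lit 5, nat_lit 4, nat_lit 2, nat_lit 0, nat_lit 4, nat_lit 0, nat_lit 1]
def Wt_1353_1356 (j : ℕ) : List ℕ := bif Nat.blt j 1354 then [nat_lit 63, nat_lit 2, nat_lit 4, nat_lit 3, nat_lit 4, nat_lit 3, nat_lit 4, nat_lit 5, nat_lit 2, nat_lit 4, nat_lit 3, nat_lit 4, nat_lit 3, nat_lit 4, nat_lit 5, nat_lit 2, nat_lit 4, nat_lit 3, nat_lit 4, nat_lit 3, nat_lit 4, nat_lit 5, nat_lit 2, nat_lit 4, nat_lit 3, nat_lit 4, nat_lit 3, nat_lit 4, nat_lit 5, nat_lit 2, nat_lit 4, nat_lit 3, nat_lit 4, nat_lit 3, nat_lit 4, nat_lit 5] else (Wt_1354_1356 j)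
def Wt_1350_1356 (j : ℕ) : List ℕ := bif Nat.blt j 1353 then (Wt_1350_1353 j) else (Wt_1353_1356 j)
def Wt_1357_1359 (j : ℕ) : List ℕ := bif Nat.blt j 1358 then [nat_lit 3, nat_lit 0, nat_lit 5, nat_lit 3, nat_lit 4, nat_lit 3, nat_lit 0, nat_lit 5, nat_lit 3, nat_lit 4, nat_lit 3, nat_lit 0, nat_lit 5, nat_lit 3, nat_lit 4, nat_lit 3, nat_lit 0, nat_lit 5, nat_lit 3, nat_lit 4, nat_lit 3, nat_lit 0, nat_lit 5, nat_lit 3, nat_lit 4] else [nat_lit 1, nat_lit 4, nat_lit 5, nat_lit 1, nat_lit 4, nat_lit 0, nat_lit 2, nat_lit 4, nat_lit 0, nat_lit 1, nat_lit 4, nat_lit 5, nat_lit 1, nat_lit 4, nat_lit 0, nat_lit 2, nat_lit 4, nat_lit 0, nat_lit 1, nat_lit 4, nat_lit 5, nat_lit 1, nat_lit 4, nat_lit 0, nat_lit 2, nat_lit 4, nat_lit 0, nat_lit 1, nat_lit 4, nat_lit 5, nat_lit 1, nat_lit 4, nat_lit 0, nat_lit 2, nat_lit 4, nat_lit 0, nat_lit 1, nat_lit 4, nat_lit 5, nat_lit 1,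 nat_lit 4, nat_lit 0, nat_lit 2, nat_lit 4, nat_lit 0]
def Wt_1356_1359 (j : ℕ) : List ℕ := bif Nat.blt j 1357 then [nat_lit 63, nat_lit 1, nat_lit 4, nat_lit 0, nat_lit 4, nat_lit 1, nat_lit 4, nat_lit 1, nat_lit 3, nat_lit 0, nat_lit 2, nat_lit 3, nat_lit 4, nat_lit 1, nat_lit 4, nat_lit 1, nat_lit 2, nat_lit 4] else (Wt_1357_1359 j)
def Wt_1359_1361 (j : ℕ) : List ℕ := bif Nat.blt j 1360 then [nat_lit 1, nat_lit 0, nat_lit 3, nat_lit 4, nat_lit 5, nat_lit 1, nat_lit 4, nat_lit 0, nat_lit 1, nat_lit 0, nat_lit 3, nat_lit 4, nat_lit 5, nat_lit 1, nat_lit 4, nat_lit 0, nat_lit 1, nat_lit 0, nat_lit 3, nat_lit 4, nat_lit 5, nat_lit 1, nat_lit 4, nat_lit 0, nat_lit 1, nat_lit 0, nat_lit 3, nat_lit 4, nat_lit 5, nat_lit 1, nat_lit 4, nat_lit 0, nat_lit 1, nat_lit 0, nat_lit 3, nat_lit 4, nat_lit 5, nat_lit 1, nat_lit 4, nat_lit 0, nat_lit 1, nat_lit 0, nat_lit 3, nat_lit 4,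 nat_lit 5, nat_lit 1, nat_lit 4, nat_lit 0] else [nat_lit 63, nat_lit 4, nat_lit 0, nat_lit 1, nat_lit 0, nat_lit 3, nat_lit 4, nat_lit 1, nat_lit 5, nat_lit 4, nat_lit 0, nat_lit 1, nat_lit 0, nat_lit 3, nat_lit 4, nat_lit 1, nat_lit 5, nat_lit 4, nat_lit 0, nat_lit 1, nat_lit 0, nat_lit 3, nat_lit 4, nat_lit 1, nat_lit 5, nat_lit 4, nat_lit 0, nat_lit 1, nat_lit 0, nat_lit 3, nat_lit 4, nat_lit 1, nat_lit 5, nat_lit 4, nat_lit 0, nat_lit 1, nat_lit 0, nat_lit 3, nat_lit 4, nat_lit 1, nat_lit 5, nat_lit 4, nat_lit 0, nat_lit 1, nat_lit 0, nat_lit 3, nat_lit 4, nat_lit 1, nat_lit 5]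
def Wt_1361_1363 (j : ℕ) : List ℕ := bif Nat.blt j 1362 then [nat_lit 4, nat_lit 3, nat_lit 4, nat_lit 3, nat_lit 4, nat_lit 2, nat_lit 5, nat_lit 4, nat_lit 3, nat_lit 4, nat_lit 3, nat_lit 4, nat_lit 2, nat_lit 5, nat_lit 4, nat_lit 3, nat_lit 4, nat_lit 3, nat_lit 4, nat_lit 2, nat_lit 5, nat_lit 4, nat_lit 3, nat_lit 4, nat_lit 3, nat_lit 4, nat_lit 2, nat_lit 5, nat_lit 4, nat_lit 3, nat_lit 4, nat_lit 3, nat_lit 4, nat_lit 2, nat_lit 5] else [nat_lit 2, nat_lit 4, nat_lit 2, nat_lit 4, nat_lit 2, nat_lit 1, nat_lit 4, nat_lit 1, nat_lit 4, nat_lit 2, nat_lit 4, nat_lit 3, nat_lit 4, nat_lit 2, nat_lit 1, nat_lit 4, nat_lit 1]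
def Wt_1359_1363 (j : ℕ) : List ℕ := bif Nat.blt j 1361 then (Wt_1359_1361 j) else (Wt_1361_1363 j)
def Wt_1356_1363 (j : ℕ) : List ℕ := bif Nat.blt j 1359 then (Wt_1356_1359 j) else (Wt_1359_1363 j)
def Wt_1350_1363 (j : ℕ) : List ℕ := bif Nat.blt j 1356 then (Wt_1350_1356 j) else (Wt_1356_1363 j)
def Wt_1338_1363 (j : ℕ) : List ℕ := bif Nat.blt j 1350 then (Wt_1338_1350 j) else (Wt_1350_1363 j)
def Wt_1314_1363 (j : ℕ) : List ℕ := bif Nat.blt j 1338 then (Wt_1314_1338 j) else (Wt_1338_1363 j)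
def Wt_1265_1363 (j : ℕ) : List ℕ := bif Nat.blt j 1314 then (Wt_1265_1314 j) else (Wt_1314_1363 j)
def Wt_1168_1363 (j : ℕ) : List ℕ := bif Nat.blt j 1265 then (Wt_1168_1265 j) else (Wt_1265_1363 j)
def Wt_1364_1366 (j : ℕ) : List ℕ := bif Nat.blt j 1365 then [nat_lit 1, nat_lit 3, nat_lit 0, nat_lit 3, nat_lit 2, nat_lit 1, nat_lit 3, nat_lit 0, nat_lit 3, nat_lit 2, nat_lit 1, nat_lit 3, nat_lit 0, nat_lit 3, nat_lit 2, nat_lit 1, nat_lit 3, nat_lit 0, nat_lit 3, nat_lit 2] else [nat_lit 63, nat_lit 2, nat_lit 0, nat_lit 3, nat_lit 2, nat_lit 0, nat_lit 1, nat_lit 2, nat_lit 0, nat_lit 3, nat_lit 2, nat_lit 0, nat_lit 1, nat_lit 2, nat_lit 0, nat_lit 3, nat_lit 2, nat_lit 0, nat_lit 1]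
def Wt_1363_1366 (j : ℕ) : List ℕ := bif Nat.blt j 1364 then [nat_lit 63, nat_lit 4, nat_lit 1, nat_lit 0, nat_lit 5, nat_lit 4, nat_lit 0, nat_lit 4, nat_lit 3, nat_lit 4, nat_lit 1, nat_lit 0, nat_lit 5, nat_lit 4, nat_lit 0, nat_lit 4, nat_lit 3, nat_lit 4, nat_lit 1, nat_lit 0, nat_lit 5, nat_lit 4, nat_lit 0, nat_lit 4, nat_lit 3, nat_lit 4, nat_lit 1, nat_lit 0, nat_lit 5, nat_lit 4, nat_lit 0, nat_lit 4, nat_lit 3, nat_lit 4, nat_lit 1, nat_lit 0, nat_lit 5, nat_lit 4, nat_lit 0, nat_lit 4, nat_lit 3] else (Wt_1364_1366 j)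
def Wt_1367_1369 (j : ℕ) : List ℕ := bif Nat.blt j 1368 then [nat_lit 4, nat_lit 0, nat_lit 1, nat_lit 3, nat_lit 2, nat_lit 1, nat_lit 4, nat_lit 0, nat_lit 1, nat_lit 0, nat_lit 4, nat_lit 1, nat_lit 4, nat_lit 3, nat_lit 2, nat_lit 4, nat_lit 3] else [nat_lit 1, nat_lit 4, nat_lit 1, nat_lit 2, nat_lit 4, nat_lit 2, nat_lit 4, nat_lit 2, nat_lit 1, nat_lit 4, nat_lit 1, nat_lit 2, nat_lit 4, nat_lit 3, nat_lit 4, nat_lit 2, nat_lit 4]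
def Wt_1366_1369 (j : ℕ) : List ℕ := bif Nat.blt j 1367 then [nat_lit 4, nat_lit 3, nat_lit 1, nat_lit 0, nat_lit 1, nat_lit 2, nat_lit 0, nat_lit 1, nat_lit 4, nat_lit 0, nat_lit 1, nat_lit 4, nat_lit 3, nat_lit 1, nat_lit 4, nat_lit 1, nat_lit 0] else (Wt_1367_1369 j)
def Wt_1363_1369 (j : ℕ) : List ℕ := bif Nat.blt j 1366 then (Wt_1363_1366 j) else (Wt_1366_1369 j)
def Wt_1370_1372 (j : ℕ) : List ℕ := bif Nat.blt j 1371 then [nat_lit 0, nat_lit 3, nat_lit 4, nat_lit 0, nat_lit 4, nat_lit 5, nat_lit 3, nat_lit 0, nat_lit 3, nat_lit 4, nat_lit 0, nat_lit 4, nat_lit 5, nat_lit 3, nat_lit 0, nat_lit 3, nat_lit 4, nat_lit 0, nat_lit 4, nat_lit 5, nat_lit 3, nat_lit 0, nat_lit 3, nat_lit 4, nat_lit 0, nat_lit 4, nat_lit 5, nat_lit 3, nat_lit 0, nat_lit 3, nat_lit 4, nat_lit 0, nat_lit 4, nat_lit 5, nat_lit 3] else [nat_lit 63, nat_lit 1, nat_lit 0, nat_lit 4, nat_lit 1, nat_lit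 5, nat_lit 4, nat_lit 3, nat_lit 0, nat_lit 1, nat_lit 0, nat_lit 4, nat_lit 1, nat_lit 5, nat_lit 4, nat_lit 3, nat_lit 0, nat_lit 1, nat_lit 0, nat_lit 4, nat_lit 1, nat_lit 5, nat_lit 4, nat_lit 3, nat_lit 0, nat_lit 1, nat_lit 0, nat_lit 4, nat_lit 1, nat_lit 5, nat_lit 4, nat_lit 3, nat_lit 0, nat_lit 1, nat_lit 0, nat_lit 4, nat_lit 1, nat_lit 5, nat_lit 4, nat_lit 3, nat_lit 0, nat_lit 1, nat_lit 0, nat_lit 4, nat_lit 1, nat_lit 5, nat_lit 4, nat_lit 3, nat_lit 0]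
def Wt_1369_1372 (j : ℕ) : List ℕ := bif Nat.blt j 1370 then [nat_lit 4, nat_lit 3, nat_lit 4, nat_lit 0, nat_lit 4, nat_lit 2, nat_lit 1, nat_lit 5, nat_lit 2, nat_lit 4, nat_lit 3, nat_lit 4, nat_lit 0, nat_lit 4, nat_lit 2, nat_lit 1, nat_lit 5, nat_lit 2, nat_lit 4, nat_lit 3, nat_lit 4, nat_lit 0, nat_lit 4, nat_lit 2, nat_lit 1, nat_lit 5, nat_lit 2] else (Wt_1370_1372 j)
def Wt_1373_1375 (j : ℕ) : List ℕ := bif Nat.blt j 1374 then [nat_lit 4, nat_lit 5, nat_lit 1, nat_lit 2, nat_lit 4, nat_lit 2, nat_lit 4, nat_lit 2, nat_lit 3, nat_lit 4, nat_lit 5, nat_lit 1, nat_lit 2, nat_lit 4, nat_lit 2, nat_lit 4, nat_lit 2, nat_lit 3, nat_lit 4, nat_lit 5, nat_lit 1, nat_lit 2, nat_lit 4, nat_lit 2, nat_lit 4, nat_lit 2, nat_lit 3, nat_lit 4, nat_lit 5, nat_lit 1, nat_lit 2, nat_lit 4, nat_lit 2, nat_lit 4, nat_lit 2, nat_lit 3, nat_lit 4, nat_lit 5, nat_lit 1, nat_lit 2,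 nat_lit 4, nat_lit 2, nat_lit 4, nat_lit 2, nat_lit 3, nat_lit 4, nat_lit 5, nat_lit 1, nat_lit 2, nat_lit 4, nat_lit 2, nat_lit 4, nat_lit 2, nat_lit 3] else [nat_lit 63, nat_lit 0, nat_lit 4, nat_lit 3, nat_lit 4, nat_lit 5, nat_lit 0, nat_lit 4, nat_lit 3, nat_lit 4, nat_lit 5, nat_lit 0, nat_lit 4, nat_lit 3, nat_lit 4, nat_lit 5, nat_lit 0, nat_lit 4, nat_lit 3, nat_lit 4, nat_lit 5, nat_lit 0, nat_lit 4, nat_lit 3, nat_lit 4, nat_lit 5, nat_lit 0, nat_lit 4, nat_lit 3, nat_lit 4, nat_lit 5]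
def Wt_1372_1375 (j : ℕ) : List ℕ := bif Nat.blt j 1373 then [nat_lit 3, nat_lit 4, nat_lit 5, nat_lit 1, nat_lit 2, nat_lit 4, nat_lit 2, nat_lit 4, nat_lit 2, nat_lit 3, nat_lit 4, nat_lit 5, nat_lit 1, nat_lit 2, nat_lit 4, nat_lit 2, nat_lit 4, nat_lit 2, nat_lit 3, nat_lit 4, nat_lit 5, nat_lit 1, nat_lit 2, nat_lit 4, nat_lit 2, nat_lit 4, nat_lit 2, nat_lit 3, nat_lit 4, nat_lit 5, nat_lit 1, nat_lit 2, nat_lit 4, nat_lit 2, nat_lit 4, nat_lit 2, nat_lit 3, nat_lit 4, nat_lit 5, nat_lit 1, nat_lit 2, nat_lit 4, nat_lit 2, nat_lit 4, nat_lit 2, nat_lit 3, nat_lit 4, nat_lit 5, nat_lit 1, nat_lit 2, nat_lit 4, nat_lit 2, nat_lit 4, nat_lit 2] else (Wt_1373_1375 j)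
def Wt_1369_1375 (j : ℕ) : List ℕ := bif Nat.blt j 1372 then (Wt_1369_1372 j) else (Wt_1372_1375 j)
def Wt_1363_1375 (j : ℕ) : List ℕ := bif Nat.blt j 1369 then (Wt_1363_1369 j) else (Wt_1369_1375 j)
def Wt_1376_1378 (j : ℕ) : List ℕ := bif Nat.blt j 1377 then [nat_lit 63, nat_lit 2, nat_lit 0, nat_lit 4, nat_lit 0, nat_lit 1, nat_lit 4, nat_lit 1, nat_lit 5, nat_lit 4, nat_lit 2, nat_lit 0, nat_lit 4, nat_lit 0, nat_lit 1, nat_lit 4, nat_lit 1, nat_lit 5, nat_lit 4, nat_lit 2, nat_lit 0, nat_lit 4, nat_lit 0, nat_lit 1, nat_lit 4, nat_lit 1, nat_lit 5, nat_lit 4, nat_lit 2, nat_lit 0, nat_lit 4, nat_lit 0, nat_lit 1, nat_lit 4, nat_lit 1, nat_lit 5, nat_lit 4, nat_lit 2, nat_lit 0, nat_lit 4, nat_lit 0, nat_lit 1, nat_lit 4, nat_lit 1, nat_lit 5, nat_lit 4] else [nat_lit 0, nat_lit 1, nat_lit 0, nat_lit 3, nat_lit 4, nat_lit 5, nat_lit 1, nat_lit 4, nat_lit 0, nat_lit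 1, nat_lit 0, nat_lit 3, nat_lit 4, nat_lit 5, nat_lit 1, nat_lit 4, nat_lit 0, nat_lit 1, nat_lit 0, nat_lit 3, nat_lit 4, nat_lit 5, nat_lit 1, nat_lit 4, nat_lit 0, nat_lit 1, nat_lit 0, nat_lit 3, nat_lit 4, nat_lit 5, nat_lit 1, nat_lit 4, nat_lit 0, nat_lit 1, nat_lit 0, nat_lit 3, nat_lit 4, nat_lit 5, nat_lit 1, nat_lit 4, nat_lit 0, nat_lit 1, nat_lit 0, nat_lit 3, nat_lit 4, nat_lit 5, nat_lit 1, nat_lit 4]
def Wt_1375_1378 (j : ℕ) : List ℕ := bif Nat.blt j 1376 then [nat_lit 1, nat_lit 4, nat_lit 3, nat_lit 4, nat_lit 0, nat_lit 4, nat_lit 5, nat_lit 0, nat_lit 1, nat_lit 4, nat_lit 3, nat_lit 4, nat_lit 0, nat_lit 4, nat_lit 5, nat_lit 0, nat_lit 1, nat_lit 4, nat_lit 3, nat_lit 4, nat_lit 0, nat_lit 4, nat_lit 5, nat_lit 0, nat_lit 1, nat_lit 4, nat_lit 3, nat_lit 4, nat_lit 0, nat_lit 4, nat_lit 5, nat_lit 0, nat_lit 1, nat_lit 4, nat_lit 3, nat_lit 4, nat_lit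 0, nat_lit 4, nat_lit 5, nat_lit 0] else (Wt_1376_1378 j)
def Wt_1379_1381 (j : ℕ) : List ℕ := bif Nat.blt j 1380 then [nat_lit 63, nat_lit 4, nat_lit 2, nat_lit 3, nat_lit 4, nat_lit 1, nat_lit 0, nat_lit 4, nat_lit 1, nat_lit 2, nat_lit 1, nat_lit 4, nat_lit 1, nat_lit 2, nat_lit 1, nat_lit 4, nat_lit 0, nat_lit 1] else [nat_lit 63, nat_lit 2, nat_lit 4, nat_lit 2, nat_lit 4, nat_lit 2, nat_lit 3, nat_lit 4, nat_lit 5, nat_lit 1, nat_lit 2, nat_lit 4, nat_lit 2, nat_lit 4, nat_lit 2, nat_lit 3, nat_lit 4, nat_lit 5, nat_lit 1, nat_lit 2, nat_lit 4, nat_lit 2, nat_lit 4, nat_lit 2, nat_lit 3, nat_lit 4, nat_lit 5, nat_lit 1, nat_lit 2, nat_lit 4, nat_lit 2, nat_lit 4, nat_lit 2, nat_lit 3, nat_lit 4, nat_lit 5, nat_lit 1, nat_lit 2, nat_lit 4, nat_lit 2, nat_lit 4, nat_lit 2, nat_lit 3, nat_lit 4, nat_lit 5, nat_lit 1, nat_lit 2, nat_lit 4, nat_lit 2, nat_lit 4, nat_lit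 2, nat_lit 3, nat_lit 4, nat_lit 5, nat_lit 1]
def Wt_1378_1381 (j : ℕ) : List ℕ := bif Nat.blt j 1379 then [nat_lit 3, nat_lit 4, nat_lit 1, nat_lit 5, nat_lit 4, nat_lit 0, nat_lit 1, nat_lit 0, nat_lit 3, nat_lit 4, nat_lit 1, nat_lit 5, nat_lit 4, nat_lit 0, nat_lit 1, nat_lit 0, nat_lit 3, nat_lit 4, nat_lit 1, nat_lit 5, nat_lit 4, nat_lit 0, nat_lit 1, nat_lit 0, nat_lit 3, nat_lit 4, nat_lit 1, nat_lit 5, nat_lit 4, nat_lit 0, nat_lit 1, nat_lit 0, nat_lit 3, nat_lit 4, nat_lit 1, nat_lit 5, nat_lit 4, nat_lit 0, nat_lit 1, nat_lit 0, nat_lit 3, nat_lit 4, nat_lit 1, nat_lit 5, nat_lit 4, nat_lit 0, nat_lit 1, nat_lit 0] else (Wt_1379_1381 j)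
def Wt_1375_1381 (j : ℕ) : List ℕ := bif Nat.blt j 1378 then (Wt_1375_1378 j) else (Wt_1378_1381 j)
def Wt_1382_1384 (j : ℕ) : List ℕ := bif Nat.blt j 1383 then [nat_lit 4, nat_lit 3, nat_lit 4, nat_lit 3, nat_lit 2, nat_lit 4, nat_lit 3, nat_lit 4, nat_lit 0, nat_lit 3, nat_lit 4, nat_lit 0, nat_lit 3, nat_lit 0, nat_lit 4, nat_lit 3, nat_lit 0] else [nat_lit 5, nat_lit 0, nat_lit 1, nat_lit 0, nat_lit 1, nat_lit 4, nat_lit 1, nat_lit 5, nat_lit 0, nat_lit 1, nat_lit 0, nat_lit 1, nat_lit 4, nat_lit 1, nat_lit 5, nat_lit 0, nat_lit 1, nat_lit 0, nat_lit 1, nat_lit 4, nat_lit 1, nat_lit 5, nat_lit 0, nat_lit 1, nat_lit 0, nat_lit 1, nat_lit 4, nat_lit 1]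
def Wt_1381_1384 (j : ℕ) : List ℕ := bif Nat.blt j 1382 then [nat_lit 1, nat_lit 4, nat_lit 0, nat_lit 1, nat_lit 4, nat_lit 2, nat_lit 3, nat_lit 4, nat_lit 1, nat_lit 0, nat_lit 4, nat_lit 1, nat_lit 2, nat_lit 1, nat_lit 4, nat_lit 1, nat_lit 2] else (Wt_1382_1384 j)
def Wt_1385_1387 (j : ℕ) : List ℕ := bif Nat.blt j 1386 then [nat_lit 63, nat_lit 5, nat_lit 3, nat_lit 2, nat_lit 5, nat_lit 3] else [nat_lit 63, nat_lit 1, nat_lit 5, nat_lit 4, nat_lit 3, nat_lit 2, nat_lit 4, nat_lit 2, nat_lit 4, nat_lit 2, nat_lit 1, nat_lit 5, nat_lit 4, nat_lit 3, nat_lit 2, nat_lit 4, nat_lit 2, nat_lit 4, nat_lit 2, nat_lit 1, nat_lit 5, nat_lit 4, nat_lit 3, nat_lit 2, nat_lit 4, nat_lit 2, nat_lit 4, nat_lit 2, nat_lit 1, nat_lit 5, nat_lit 4, nat_lit 3, nat_lit 2, nat_lit 4, nat_lit 2, nat_lit 4, nat_lit 2, nat_lit 1, nat_lit 5, nat_lit 4, nat_lit 3, nat_lit 2, nat_lit 4, nat_lit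 2, nat_lit 4, nat_lit 2, nat_lit 1, nat_lit 5, nat_lit 4, nat_lit 3, nat_lit 2, nat_lit 4, nat_lit 2, nat_lit 4, nat_lit 2]
def Wt_1384_1387 (j : ℕ) : List ℕ := bif Nat.blt j 1385 then [nat_lit 3, nat_lit 4, nat_lit 0, nat_lit 3, nat_lit 0, nat_lit 4, nat_lit 3, nat_lit 0, nat_lit 4, nat_lit 3, nat_lit 4, nat_lit 3, nat_lit 2, nat_lit 4, nat_lit 3, nat_lit 4, nat_lit 0] else (Wt_1385_1387 j)
def Wt_1381_1387 (j : ℕ) : List ℕ := bif Nat.blt j 1384 then (Wt_1381_1384 j) else (Wt_1384_1387 j)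
def Wt_1375_1387 (j : ℕ) : List ℕ := bif Nat.blt j 1381 then (Wt_1375_1381 j) else (Wt_1381_1387 j)
def Wt_1363_1387 (j : ℕ) : List ℕ := bif Nat.blt j 1375 then (Wt_1363_1375 j) else (Wt_1375_1387 j)
def Wt_1388_1390 (j : ℕ) : List ℕ := bif Nat.blt j 1389 then [nat_lit 3, nat_lit 0, nat_lit 3, nat_lit 1, nat_lit 2, nat_lit 1, nat_lit 4, nat_lit 3, nat_lit 4, nat_lit 2, nat_lit 4, nat_lit 2, nat_lit 4, nat_lit 3, nat_lit 4, nat_lit 2, nat_lit 4] else [nat_lit 2, nat_lit 0, nat_lit 4, nat_lit 0, nat_lit 2, nat_lit 4, nat_lit 0, nat_lit 2, nat_lit 4, nat_lit 3, nat_lit 2, nat_lit 3, nat_lit 0, nat_lit 4, nat_lit 2, nat_lit 0, nat_lit 4]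
def Wt_1387_1390 (j : ℕ) : List ℕ := bif Nat.blt j 1388 then [nat_lit 4, nat_lit 2, nat_lit 0, nat_lit 4, nat_lit 1, nat_lit 4, nat_lit 2, nat_lit 0, nat_lit 4, nat_lit 1, nat_lit 4, nat_lit 0, nat_lit 2, nat_lit 4, nat_lit 1] else (Wt_1388_1390 j)
def Wt_1391_1393 (j : ℕ) : List ℕ := bif Nat.blt j 1392 then [nat_lit 0, nat_lit 4, nat_lit 3, nat_lit 4, nat_lit 5, nat_lit 0, nat_lit 4, nat_lit 3, nat_lit 4, nat_lit 5, nat_lit 0, nat_lit 4, nat_lit 3, nat_lit 4, nat_lit 5, nat_lit 0, nat_lit 4, nat_lit 3, nat_lit 4, nat_lit 5, nat_lit 0, nat_lit 4, nat_lit 3, nat_lit 4, nat_lit 5, nat_lit 0, nat_lit 4, nat_lit 3, nat_lit 4, nat_lit 5] else [nat_lit 63, nat_lit 3, nat_lit 0, nat_lit 1, nat_lit 0, nat_lit 4, nat_lit 1, nat_lit 5, nat_lit 4, nat_lit 3, nat_lit 0, nat_lit 1, nat_lit 0, nat_lit 4, nat_lit 1, nat_lit 5, nat_lit 4, nat_lit 3, nat_lit 0, nat_lit 1, nat_lit 0, nat_lit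 4, nat_lit 1, nat_lit 5, nat_lit 4, nat_lit 3, nat_lit 0, nat_lit 1, nat_lit 0, nat_lit 4, nat_lit 1, nat_lit 5, nat_lit 4, nat_lit 3, nat_lit 0, nat_lit 1, nat_lit 0, nat_lit 4, nat_lit 1, nat_lit 5, nat_lit 4, nat_lit 3, nat_lit 0, nat_lit 1, nat_lit 0, nat_lit 4, nat_lit 1, nat_lit 5, nat_lit 4]
def Wt_1390_1393 (j : ℕ) : List ℕ := bif Nat.blt j 1391 then [nat_lit 63, nat_lit 0, nat_lit 4, nat_lit 2, nat_lit 0, nat_lit 4, nat_lit 2, nat_lit 0, nat_lit 4, nat_lit 0, nat_lit 2, nat_lit 4, nat_lit 0, nat_lit 2, nat_lit 4, nat_lit 3, nat_lit 2, nat_lit 3] else (Wt_1391_1393 j)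
def Wt_1387_1393 (j : ℕ) : List ℕ := bif Nat.blt j 1390 then (Wt_1387_1390 j) else (Wt_1390_1393 j)
def Wt_1394_1396 (j : ℕ) : List ℕ := bif Nat.blt j 1395 then [nat_lit 5, nat_lit 1, nat_lit 4, nat_lit 3, nat_lit 0, nat_lit 1, nat_lit 0, nat_lit 4, nat_lit 5, nat_lit 1, nat_lit 4, nat_lit 3, nat_lit 0, nat_lit 1, nat_lit 0, nat_lit 4, nat_lit 5, nat_lit 1, nat_lit 4, nat_lit 3, nat_lit 0, nat_lit 1, nat_lit 0, nat_lit 4, nat_lit 5, nat_lit 1, nat_lit 4, nat_lit 3, nat_lit 0, nat_lit 1, nat_lit 0, nat_lit 4, nat_lit 5, nat_lit 1, nat_lit 4, nat_lit 3, nat_lit 0, nat_lit 1, nat_lit 0, nat_lit 4, nat_lit 5, nat_lit 1, nat_lit 4, nat_lit 3, nat_lit 0, nat_lit 1, nat_lit 0, nat_lit 4] else [nat_lit 0, nat_lit 3, nat_lit 5, nat_lit 4, nat_lit 0, nat_lit 4, nat_lit 3, nat_lit 0, nat_lit 3, nat_lit 5, nat_lit 4, nat_lit 0, nat_lit 4, nat_lit 3, nat_lit 0, nat_lit 3, nat_lit 5,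 nat_lit 4, nat_lit 0, nat_lit 4, nat_lit 3, nat_lit 0, nat_lit 3, nat_lit 5, nat_lit 4, nat_lit 0, nat_lit 4, nat_lit 3, nat_lit 0, nat_lit 3, nat_lit 5, nat_lit 4, nat_lit 0, nat_lit 4, nat_lit 3]
def Wt_1393_1396 (j : ℕ) : List ℕ := bif Nat.blt j 1394 then [nat_lit 63, nat_lit 1, nat_lit 4, nat_lit 1, nat_lit 0, nat_lit 4, nat_lit 0, nat_lit 2, nat_lit 4, nat_lit 5, nat_lit 1, nat_lit 4, nat_lit 1, nat_lit 0, nat_lit 4, nat_lit 0, nat_lit 2, nat_lit 4, nat_lit 5, nat_lit 1, nat_lit 4, nat_lit 1, nat_lit 0, nat_lit 4, nat_lit 0, nat_lit 2, nat_lit 4, nat_lit 5, nat_lit 1, nat_lit 4, nat_lit 1, nat_lit 0, nat_lit 4, nat_lit 0, nat_lit 2, nat_lit 4, nat_lit 5, nat_lit 1, nat_lit 4, nat_lit 1, nat_lit 0, nat_lit 4, nat_lit 0, nat_lit 2, nat_lit 4, nat_lit 5] else (Wt_1394_1396 j)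
def Wt_1397_1399 (j : ℕ) : List ℕ := bif Nat.blt j 1398 then [nat_lit 63, nat_lit 0, nat_lit 4, nat_lit 5, nat_lit 3, nat_lit 0, nat_lit 3, nat_lit 4, nat_lit 0, nat_lit 4, nat_lit 5, nat_lit 3, nat_lit 0, nat_lit 3, nat_lit 4, nat_lit 0, nat_lit 4, nat_lit 5, nat_lit 3, nat_lit 0, nat_lit 3, nat_lit 4, nat_lit 0, nat_lit 4, nat_lit 5, nat_lit 3, nat_lit 0, nat_lit 3, nat_lit 4, nat_lit 0, nat_lit 4, nat_lit 5, nat_lit 3, nat_lit 0, nat_lit 3, nat_lit 4] else [nat_lit 0, nat_lit 1, nat_lit 2, nat_lit 0, nat_lit 2, nat_lit 1, nat_lit 0, nat_lit 1, nat_lit 2, nat_lit 0, nat_lit 2, nat_lit 1, nat_lit 0, nat_lit 1, nat_lit 2, nat_lit 0, nat_lit 2, nat_lit 1]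
def Wt_1396_1399 (j : ℕ) : List ℕ := bif Nat.blt j 1397 then [nat_lit 63, nat_lit 1, nat_lit 0, nat_lit 4, nat_lit 2, nat_lit 0, nat_lit 4, nat_lit 1, nat_lit 5, nat_lit 4, nat_lit 1, nat_lit 0, nat_lit 4, nat_lit 2, nat_lit 0, nat_lit 4, nat_lit 1, nat_lit 5, nat_lit 4, nat_lit 1, nat_lit 0, nat_lit 4, nat_lit 2, nat_lit 0, nat_lit 4, nat_lit 1, nat_lit 5, nat_lit 4, nat_lit 1, nat_lit 0, nat_lit 4, nat_lit 2, nat_lit 0, nat_lit 4, nat_lit 1, nat_lit 5, nat_lit 4, nat_lit 1, nat_lit 0, nat_lit 4, nat_lit 2, nat_lit 0, nat_lit 4, nat_lit 1, nat_lit 5, nat_lit 4] else (Wt_1397_1399 j)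
def Wt_1393_1399 (j : ℕ) : List ℕ := bif Nat.blt j 1396 then (Wt_1393_1396 j) else (Wt_1396_1399 j)
def Wt_1387_1399 (j : ℕ) : List ℕ := bif Nat.blt j 1393 then (Wt_1387_1393 j) else (Wt_1393_1399 j)
def Wt_1400_1402 (j : ℕ) : List ℕ := bif Nat.blt j 1401 then [nat_lit 63, nat_lit 2, nat_lit 4, nat_lit 0, nat_lit 3, nat_lit 2, nat_lit 3, nat_lit 4, nat_lit 2, nat_lit 0, nat_lit 4, nat_lit 2, nat_lit 0, nat_lit 4, nat_lit 0, nat_lit 2, nat_lit 4, nat_lit 0] else [nat_lit 63, nat_lit 3, nat_lit 4, nat_lit 2, nat_lit 0, nat_lit 4, nat_lit 2, nat_lit 0, nat_lit 4, nat_lit 0, nat_lit 2, nat_lit 4, nat_lit 0, nat_lit 2, nat_lit 4, nat_lit 0, nat_lit 3, nat_lit 2]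
def Wt_1399_1402 (j : ℕ) : List ℕ := bif Nat.blt j 1400 then [nat_lit 63, nat_lit 0, nat_lit 5, nat_lit 4, nat_lit 0, nat_lit 4, nat_lit 3, nat_lit 4, nat_lit 1, nat_lit 0, nat_lit 5, nat_lit 4, nat_lit 0, nat_lit 4, nat_lit 3, nat_lit 4, nat_lit 1, nat_lit 0, nat_lit 5, nat_lit 4, nat_lit 0, nat_lit 4, nat_lit 3, nat_lit 4, nat_lit 1, nat_lit 0, nat_lit 5, nat_lit 4, nat_lit 0, nat_lit 4, nat_lit 3, nat_lit 4, nat_lit 1, nat_lit 0, nat_lit 5, nat_lit 4, nat_lit 0, nat_lit 4, nat_lit 3, nat_lit 4, nat_lit 1] else (Wt_1400_1402 j)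
def Wt_1403_1405 (j : ℕ) : List ℕ := bif Nat.blt j 1404 then [nat_lit 63, nat_lit 3, nat_lit 0, nat_lit 4, nat_lit 3, nat_lit 0, nat_lit 4, nat_lit 3, nat_lit 4, nat_lit 3, nat_lit 2, nat_lit 4, nat_lit 3, nat_lit 4, nat_lit 0, nat_lit 3, nat_lit 4, nat_lit 0] else [nat_lit 1, nat_lit 4, nat_lit 1, nat_lit 5, nat_lit 4, nat_lit 2, nat_lit 0, nat_lit 4, nat_lit 0, nat_lit 1, nat_lit 4, nat_lit 1, nat_lit 5, nat_lit 4, nat_lit 2, nat_lit 0, nat_lit 4, nat_lit 0, nat_lit 1, nat_lit 4, nat_lit 1, nat_lit 5, nat_lit 4, nat_lit 2, nat_lit 0, nat_lit 4, nat_lit 0, nat_lit 1, nat_lit 4, nat_lit 1, nat_lit 5, nat_lit 4, nat_lit 2, nat_lit 0, nat_lit 4, nat_lit 0, nat_lit 1, nat_lit 4, nat_lit 1, nat_lit 5, nat_lit 4, nat_lit 2, nat_lit 0, nat_lit 4, nat_lit 0]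
def Wt_1402_1405 (j : ℕ) : List ℕ := bif Nat.blt j 1403 then [nat_lit 63, nat_lit 0, nat_lit 3, nat_lit 0, nat_lit 3, nat_lit 0, nat_lit 3, nat_lit 0, nat_lit 3, nat_lit 0, nat_lit 3, nat_lit 0, nat_lit 3, nat_lit 0, nat_lit 3, nat_lit 0, nat_lit 3, nat_lit 0, nat_lit 3, nat_lit 0, nat_lit 3, nat_lit 0, nat_lit 3, nat_lit 0, nat_lit 3] else (Wt_1403_1405 j)
def Wt_1399_1405 (j : ℕ) : List ℕ := bif Nat.blt j 1402 then (Wt_1399_1402 j) else (Wt_1402_1405 j)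
def Wt_1406_1408 (j : ℕ) : List ℕ := bif Nat.blt j 1407 then [nat_lit 4, nat_lit 1, nat_lit 4, nat_lit 5, nat_lit 2, nat_lit 4, nat_lit 1, nat_lit 4, nat_lit 5, nat_lit 2, nat_lit 4, nat_lit 1, nat_lit 4, nat_lit 5, nat_lit 2] else [nat_lit 2, nat_lit 4, nat_lit 1, nat_lit 4, nat_lit 2, nat_lit 0, nat_lit 4, nat_lit 1, nat_lit 4, nat_lit 0, nat_lit 2, nat_lit 4, nat_lit 1, nat_lit 4, nat_lit 0]
def Wt_1405_1408 (j : ℕ) : List ℕ := bif Nat.blt j 1406 then [nat_lit 63, nat_lit 2, nat_lit 4, nat_lit 0, nat_lit 1, nat_lit 4, nat_lit 5, nat_lit 1, nat_lit 4, nat_lit 0, nat_lit 2, nat_lit 4, nat_lit 0, nat_lit 1, nat_lit 4, nat_lit 5, nat_lit 1, nat_lit 4, nat_lit 0, nat_lit 2, nat_lit 4, nat_lit 0, nat_lit 1, nat_lit 4, nat_lit 5, nat_lit 1, nat_lit 4, nat_lit 0, nat_lit 2, nat_lit 4, nat_lit 0, nat_lit 1, nat_lit 4, nat_lit 5, nat_lit 1, nat_lit 4, nat_lit 0, nat_lit 2, nat_lit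 4, nat_lit 0, nat_lit 1, nat_lit 4, nat_lit 5, nat_lit 1, nat_lit 4, nat_lit 0] else (Wt_1406_1408 j)
def Wt_1409_1411 (j : ℕ) : List ℕ := bif Nat.blt j 1410 then [nat_lit 63, nat_lit 0, nat_lit 4, nat_lit 1, nat_lit 4, nat_lit 1, nat_lit 3, nat_lit 0, nat_lit 2, nat_lit 3, nat_lit 4, nat_lit 1, nat_lit 4, nat_lit 1, nat_lit 2, nat_lit 4, nat_lit 1, nat_lit 4] else [nat_lit 63, nat_lit 4, nat_lit 0, nat_lit 1, nat_lit 4, nat_lit 3, nat_lit 2, nat_lit 4, nat_lit 1, nat_lit 0, nat_lit 4, nat_lit 1, nat_lit 2, nat_lit 1, nat_lit 4, nat_lit 1, nat_lit 2, nat_lit 1]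
def Wt_1408_1411 (j : ℕ) : List ℕ := bif Nat.blt j 1409 then [nat_lit 5, nat_lit 4, nat_lit 3, nat_lit 4, nat_lit 3, nat_lit 4, nat_lit 2, nat_lit 5, nat_lit 4, nat_lit 3, nat_lit 4, nat_lit 3, nat_lit 4, nat_lit 2, nat_lit 5, nat_lit 4, nat_lit 3, nat_lit 4, nat_lit 3, nat_lit 4, nat_lit 2, nat_lit 5, nat_lit 4, nat_lit 3, nat_lit 4, nat_lit 3, nat_lit 4, nat_lit 2, nat_lit 5, nat_lit 4, nat_lit 3, nat_lit 4, nat_lit 3, nat_lit 4, nat_lit 2] else (Wt_1409_1411 j)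
def Wt_1405_1411 (j : ℕ) : List ℕ := bif Nat.blt j 1408 then (Wt_1405_1408 j) else (Wt_1408_1411 j)
def Wt_1399_1411 (j : ℕ) : List ℕ := bif Nat.blt j 1405 then (Wt_1399_1405 j) else (Wt_1405_1411 j)
def Wt_1387_1411 (j : ℕ) : List ℕ := bif Nat.blt j 1399 then (Wt_1387_1399 j) else (Wt_1399_1411 j)
def Wt_1363_1411 (j : ℕ) : List ℕ := bif Nat.blt j 1387 then (Wt_1363_1387 j) else (Wt_1387_1411 j)
def Wt_1412_1414 (j : ℕ) : List ℕ := bif Nat.blt j 1413 then [nat_lit 63, nat_lit 4, nat_lit 1, nat_lit 4, nat_lit 1, nat_lit 3, nat_lit 0, nat_lit 2, nat_lit 3, nat_lit 4, nat_lit 1, nat_lit 4, nat_lit 1, nat_lit 2, nat_lit 4, nat_lit 1, nat_lit 4, nat_lit 0] else [nat_lit 63, nat_lit 2, nat_lit 0, nat_lit 4, nat_lit 1, nat_lit 5, nat_lit 4, nat_lit 1, nat_lit 0, nat_lit 4, nat_lit 2, nat_lit 0, nat_lit 4, nat_lit 1, nat_lit 5, nat_lit 4, nat_lit 1, nat_lit 0, nat_lit 4, nat_lit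 2, nat_lit 0, nat_lit 4, nat_lit 1, nat_lit 5, nat_lit 4, nat_lit 1, nat_lit 0, nat_lit 4, nat_lit 2, nat_lit 0, nat_lit 4, nat_lit 1, nat_lit 5, nat_lit 4, nat_lit 1, nat_lit 0, nat_lit 4, nat_lit 2, nat_lit 0, nat_lit 4, nat_lit 1, nat_lit 5, nat_lit 4, nat_lit 1, nat_lit 0, nat_lit 4]
def Wt_1411_1414 (j : ℕ) : List ℕ := bif Nat.blt j 1412 then [nat_lit 3, nat_lit 4, nat_lit 5, nat_lit 0, nat_lit 4, nat_lit 3, nat_lit 4, nat_lit 5, nat_lit 0, nat_lit 4, nat_lit 3, nat_lit 4, nat_lit 5, nat_lit 0, nat_lit 4, nat_lit 3, nat_lit 4, nat_lit 5, nat_lit 0, nat_lit 4, nat_lit 3, nat_lit 4, nat_lit 5, nat_lit 0, nat_lit 4, nat_lit 3, nat_lit 4, nat_lit 5, nat_lit 0, nat_lit 4] else (Wt_1412_1414 j)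
def Wt_1415_1417 (j : ℕ) : List ℕ := bif Nat.blt j 1416 then [nat_lit 63, nat_lit 1, nat_lit 5, nat_lit 4, nat_lit 3, nat_lit 0, nat_lit 1, nat_lit 0, nat_lit 4, nat_lit 1, nat_lit 5, nat_lit 4, nat_lit 3, nat_lit 0, nat_lit 1, nat_lit 0, nat_lit 4, nat_lit 1, nat_lit 5, nat_lit 4, nat_lit 3, nat_lit 0, nat_lit 1, nat_lit 0, nat_lit 4, nat_lit 1, nat_lit 5, nat_lit 4, nat_lit 3, nat_lit 0, nat_lit 1, nat_lit 0, nat_lit 4, nat_lit 1, nat_lit 5, nat_lit 4, nat_lit 3, nat_lit 0, nat_lit 1, nat_lit 0, nat_lit 4, nat_lit 1, nat_lit 5, nat_lit 4, nat_lit 3, nat_lit 0, nat_lit 1, nat_lit 0, nat_lit 4] else [nat_lit 2, nat_lit 1, nat_lit 5, nat_lit 4, nat_lit 3, nat_lit 2, nat_lit 4, nat_lit 2, nat_lit 4, nat_lit 2, nat_lit 1, nat_lit 5, nat_lit 4, nat_lit 3, nat_lit 2, nat_lit 4, nat_lit 2, nat_lit 4, nat_lit 2, nat_lit 1, nat_lit 5, nat_lit 4, nat_lit 3, nat_lit 2, nat_lit 4,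 nat_lit 2, nat_lit 4, nat_lit 2, nat_lit 1, nat_lit 5, nat_lit 4, nat_lit 3, nat_lit 2, nat_lit 4, nat_lit 2, nat_lit 4, nat_lit 2, nat_lit 1, nat_lit 5, nat_lit 4, nat_lit 3, nat_lit 2, nat_lit 4, nat_lit 2, nat_lit 4, nat_lit 2, nat_lit 1, nat_lit 5, nat_lit 4, nat_lit 3, nat_lit 2, nat_lit 4, nat_lit 2, nat_lit 4]
def Wt_1414_1417 (j : ℕ) : List ℕ := bif Nat.blt j 1415 then [nat_lit 0, nat_lit 1, nat_lit 4, nat_lit 5, nat_lit 1, nat_lit 4, nat_lit 0, nat_lit 2, nat_lit 4, nat_lit 0, nat_lit 1, nat_lit 4, nat_lit 5, nat_lit 1, nat_lit 4, nat_lit 0, nat_lit 2, nat_lit 4, nat_lit 0, nat_lit 1, nat_lit 4, nat_lit 5, nat_lit 1, nat_lit 4, nat_lit 0, nat_lit 2, nat_lit 4, nat_lit 0, nat_lit 1, nat_lit 4, nat_lit 5, nat_lit 1, nat_lit 4, nat_lit 0, nat_lit 2, nat_lit 4, nat_lit 0, nat_lit 1, nat_lit 4, nat_lit 5, nat_lit 1, nat_lit 4, nat_lit 0, nat_lit 2, nat_lit 4] else (Wt_1415_1417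 j)
def Wt_1411_1417 (j : ℕ) : List ℕ := bif Nat.blt j 1414 then (Wt_1411_1414 j) else (Wt_1414_1417 j)
def Wt_1418_1420 (j : ℕ) : List ℕ := bif Nat.blt j 1419 then [nat_lit 4, nat_lit 1, nat_lit 2, nat_lit 1, nat_lit 4, nat_lit 5, nat_lit 1, nat_lit 4, nat_lit 1, nat_lit 2, nat_lit 1, nat_lit 4, nat_lit 5, nat_lit 1, nat_lit 4, nat_lit 1, nat_lit 2, nat_lit 1, nat_lit 4, nat_lit 5, nat_lit 1] else [nat_lit 4, nat_lit 2, nat_lit 4, nat_lit 2, nat_lit 4, nat_lit 3, nat_lit 4, nat_lit 2, nat_lit 4, nat_lit 3, nat_lit 0, nat_lit 3, nat_lit 1, nat_lit 2, nat_lit 1, nat_lit 4, nat_lit 3]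
def Wt_1417_1420 (j : ℕ) : List ℕ := bif Nat.blt j 1418 then [nat_lit 63, nat_lit 4, nat_lit 2, nat_lit 4, nat_lit 2, nat_lit 3, nat_lit 4, nat_lit 5, nat_lit 1, nat_lit 2, nat_lit 4, nat_lit 2, nat_lit 4, nat_lit 2, nat_lit 3, nat_lit 4, nat_lit 5, nat_lit 1, nat_lit 2, nat_lit 4, nat_lit 2, nat_lit 4, nat_lit 2, nat_lit 3, nat_lit 4, nat_lit 5, nat_lit 1, nat_lit 2, nat_lit 4, nat_lit 2, nat_lit 4, nat_lit 2, nat_lit 3, nat_lit 4, nat_lit 5, nat_lit 1, nat_lit 2, nat_lit 4, nat_lit 2, nat_lit 4, nat_lit 2, nat_lit 3, nat_lit 4, nat_lit 5, nat_lit 1, nat_lit 2, nat_lit 4, nat_lit 2, nat_lit 4, nat_lit 2, nat_lit 3, nat_lit 4, nat_lit 5, nat_lit 1, nat_lit 2] else (Wt_1418_1420 j)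
def Wt_1421_1423 (j : ℕ) : List ℕ := bif Nat.blt j 1422 then [nat_lit 1, nat_lit 4, nat_lit 2, nat_lit 4, nat_lit 3, nat_lit 4, nat_lit 2, nat_lit 1, nat_lit 4, nat_lit 1, nat_lit 2, nat_lit 4, nat_lit 2, nat_lit 4, nat_lit 2, nat_lit 1, nat_lit 4] else [nat_lit 63, nat_lit 4, nat_lit 0, nat_lit 2, nat_lit 4, nat_lit 0, nat_lit 1, nat_lit 4, nat_lit 5, nat_lit 1, nat_lit 4, nat_lit 0, nat_lit 2, nat_lit 4, nat_lit 0, nat_lit 1, nat_lit 4, nat_lit 5, nat_lit 1, nat_lit 4, nat_lit 0, nat_lit 2, nat_lit 4, nat_lit 0, nat_lit 1, nat_lit 4, nat_lit 5, nat_lit 1, nat_lit 4, nat_lit 0, nat_lit 2, nat_lit 4, nat_lit 0, nat_lit 1, nat_lit 4, nat_lit 5, nat_lit 1, nat_lit 4, nat_lit 0, nat_lit 2, nat_lit 4, nat_lit 0, nat_lit 1, nat_lit 4, nat_lit 5, nat_lit 1]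
def Wt_1420_1423 (j : ℕ) : List ℕ := bif Nat.blt j 1421 then [nat_lit 63, nat_lit 1, nat_lit 4, nat_lit 2, nat_lit 3, nat_lit 4, nat_lit 5, nat_lit 1, nat_lit 4, nat_lit 2, nat_lit 3, nat_lit 4, nat_lit 5, nat_lit 1, nat_lit 4, nat_lit 2, nat_lit 3, nat_lit 4, nat_lit 5, nat_lit 1, nat_lit 4, nat_lit 2, nat_lit 3, nat_lit 4, nat_lit 5] else (Wt_1421_1423 j)
def Wt_1417_1423 (j : ℕ) : List ℕ := bif Nat.blt j 1420 then (Wt_1417_1420 j) else (Wt_1420_1423 j)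
def Wt_1411_1423 (j : ℕ) : List ℕ := bif Nat.blt j 1417 then (Wt_1411_1417 j) else (Wt_1417_1423 j)
def Wt_1424_1426 (j : ℕ) : List ℕ := bif Nat.blt j 1425 then [nat_lit 4, nat_lit 3, nat_lit 2, nat_lit 4, nat_lit 2, nat_lit 4, nat_lit 2, nat_lit 1, nat_lit 5, nat_lit 4, nat_lit 3, nat_lit 2, nat_lit 4, nat_lit 2, nat_lit 4, nat_lit 2, nat_lit 1, nat_lit 5, nat_lit 4, nat_lit 3, nat_lit 2, nat_lit 4, nat_lit 2, nat_lit 4, nat_lit 2, nat_lit 1, nat_lit 5, nat_lit 4, nat_lit 3, nat_lit 2, nat_lit 4, nat_lit 2, nat_lit 4, nat_lit 2, nat_lit 1, nat_lit 5, nat_lit 4, nat_lit 3, nat_lit 2, nat_lit 4, nat_lit 2, nat_lit 4, nat_lit 2, nat_lit 1, nat_lit 5, nat_lit 4, nat_lit 3, nat_lit 2, nat_lit 4, nat_lit 2, nat_lit 4, nat_lit 2, nat_lit 1, nat_lit 5] else [nat_lit 63, nat_lit 3, nat_lit 1, nat_lit 3, nat_lit 1, nat_lit 3, nat_lit 1, nat_lit 3, nat_lit 4, nat_lit 2, nat_lit 1,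 nat_lit 4, nat_lit 3, nat_lit 4, nat_lit 1, nat_lit 2, nat_lit 4]
def Wt_1423_1426 (j : ℕ) : List ℕ := bif Nat.blt j 1424 then [nat_lit 4, nat_lit 0, nat_lit 1, nat_lit 0, nat_lit 3, nat_lit 4, nat_lit 5, nat_lit 1, nat_lit 4, nat_lit 0, nat_lit 1, nat_lit 0, nat_lit 3, nat_lit 4, nat_lit 5, nat_lit 1, nat_lit 4, nat_lit 0, nat_lit 1, nat_lit 0, nat_lit 3, nat_lit 4, nat_lit 5, nat_lit 1, nat_lit 4, nat_lit 0, nat_lit 1, nat_lit 0, nat_lit 3, nat_lit 4, nat_lit 5, nat_lit 1, nat_lit 4, nat_lit 0, nat_lit 1, nat_lit 0, nat_lit 3, nat_lit 4, nat_lit 5, nat_lit 1, nat_lit 4, nat_lit 0, nat_lit 1, nat_lit 0, nat_lit 3, nat_lit 4, nat_lit 5, nat_lit 1] else (Wt_1424_1426 j)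
def Wt_1427_1429 (j : ℕ) : List ℕ := bif Nat.blt j 1428 then [nat_lit 63, nat_lit 0, nat_lit 3, nat_lit 4, nat_lit 5, nat_lit 1, nat_lit 4, nat_lit 0, nat_lit 1, nat_lit 0, nat_lit 3, nat_lit 4, nat_lit 5, nat_lit 1, nat_lit 4, nat_lit 0, nat_lit 1, nat_lit 0, nat_lit 3, nat_lit 4, nat_lit 5, nat_lit 1, nat_lit 4, nat_lit 0, nat_lit 1, nat_lit 0, nat_lit 3, nat_lit 4, nat_lit 5, nat_lit 1, nat_lit 4, nat_lit 0, nat_lit 1, nat_lit 0, nat_lit 3, nat_lit 4, nat_lit 5, nat_lit 1, nat_lit 4, nat_lit 0, nat_lit 1, nat_lit 0, nat_lit 3, nat_lit 4, nat_lit 5, nat_lit 1, nat_lit 4, nat_lit 0, nat_lit 1] else [nat_lit 0, nat_lit 1, nat_lit 4, nat_lit 3, nat_lit 4, nat_lit 0, nat_lit 4, nat_lit 5, nat_lit 0, nat_lit 1, nat_lit 4, nat_lit 3, nat_lit 4, nat_lit 0, nat_lit 4, nat_lit 5, nat_lit 0, nat_lit 1, nat_lit 4, nat_lit 3, nat_lit 4, nat_lit 0, nat_lit 4, nat_lit 5, nat_lit 0,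 nat_lit 1, nat_lit 4, nat_lit 3, nat_lit 4, nat_lit 0, nat_lit 4, nat_lit 5, nat_lit 0, nat_lit 1, nat_lit 4, nat_lit 3, nat_lit 4, nat_lit 0, nat_lit 4, nat_lit 5]
def Wt_1426_1429 (j : ℕ) : List ℕ := bif Nat.blt j 1427 then [nat_lit 4, nat_lit 2, nat_lit 0, nat_lit 4, nat_lit 0, nat_lit 4, nat_lit 3, nat_lit 1, nat_lit 4, nat_lit 2, nat_lit 1, nat_lit 2, nat_lit 4, nat_lit 1, nat_lit 3, nat_lit 4, nat_lit 0] else (Wt_1427_1429 j)
def Wt_1423_1429 (j : ℕ) : List ℕ := bif Nat.blt j 1426 then (Wt_1423_1426 j) else (Wt_1426_1429 j)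
def Wt_1430_1432 (j : ℕ) : List ℕ := bif Nat.blt j 1431 then [nat_lit 1, nat_lit 4, nat_lit 2, nat_lit 1, nat_lit 2, nat_lit 4, nat_lit 1, nat_lit 3, nat_lit 4, nat_lit 0, nat_lit 4, nat_lit 0, nat_lit 2, nat_lit 4, nat_lit 0, nat_lit 4, nat_lit 3] else [nat_lit 5, nat_lit 4, nat_lit 2, nat_lit 0, nat_lit 4, nat_lit 0, nat_lit 1, nat_lit 4, nat_lit 1, nat_lit 5, nat_lit 4, nat_lit 2, nat_lit 0, nat_lit 4, nat_lit 0, nat_lit 1, nat_lit 4, nat_lit 1, nat_lit 5, nat_lit 4, nat_lit 2, nat_lit 0, nat_lit 4, nat_lit 0, nat_lit 1, nat_lit 4, nat_lit 1, nat_lit 5, nat_lit 4, nat_lit 2, nat_lit 0, nat_lit 4, nat_lit 0, nat_lit 1, nat_lit 4, nat_lit 1, nat_lit 5, nat_lit 4, nat_lit 2, nat_lit 0, nat_lit 4, nat_lit 0, nat_lit 1, nat_lit 4, nat_lit 1]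
def Wt_1429_1432 (j : ℕ) : List ℕ := bif Nat.blt j 1430 then [nat_lit 2, nat_lit 4, nat_lit 0, nat_lit 1, nat_lit 4, nat_lit 5, nat_lit 1, nat_lit 4, nat_lit 0, nat_lit 2, nat_lit 4, nat_lit 0, nat_lit 1, nat_lit 4, nat_lit 5, nat_lit 1, nat_lit 4, nat_lit 0, nat_lit 2, nat_lit 4, nat_lit 0, nat_lit 1, nat_lit 4, nat_lit 5, nat_lit 1, nat_lit 4, nat_lit 0, nat_lit 2, nat_lit 4, nat_lit 0, nat_lit 1, nat_lit 4, nat_lit 5, nat_lit 1, nat_lit 4, nat_lit 0, nat_lit 2, nat_lit 4, nat_lit 0, nat_lit 1, nat_lit 4, nat_lit 5, nat_lit 1, nat_lit 4, nat_lit 0] else (Wt_1430_1432 j)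
def Wt_1433_1435 (j : ℕ) : List ℕ := bif Nat.blt j 1434 then [nat_lit 2, nat_lit 5, nat_lit 4, nat_lit 3, nat_lit 4, nat_lit 3, nat_lit 4, nat_lit 2, nat_lit 5, nat_lit 4, nat_lit 3, nat_lit 4, nat_lit 3, nat_lit 4, nat_lit 2, nat_lit 5, nat_lit 4, nat_lit 3, nat_lit 4, nat_lit 3, nat_lit 4, nat_lit 2, nat_lit 5, nat_lit 4, nat_lit 3, nat_lit 4, nat_lit 3, nat_lit 4, nat_lit 2, nat_lit 5, nat_lit 4, nat_lit 3, nat_lit 4, nat_lit 3, nat_lit 4] else [nat_lit 2, nat_lit 4, nat_lit 3, nat_lit 4, nat_lit 0, nat_lit 3, nat_lit 4, nat_lit 0, nat_lit 3, nat_lit 0, nat_lit 4, nat_lit 3, nat_lit 0, nat_lit 4, nat_lit 3, nat_lit 4, nat_lit 3]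
def Wt_1432_1435 (j : ℕ) : List ℕ := bif Nat.blt j 1433 then [nat_lit 5, nat_lit 4, nat_lit 3, nat_lit 4, nat_lit 0, nat_lit 5, nat_lit 4, nat_lit 3, nat_lit 4, nat_lit 0, nat_lit 5, nat_lit 4, nat_lit 3, nat_lit 4, nat_lit 0, nat_lit 5, nat_lit 4, nat_lit 3, nat_lit 4, nat_lit 0, nat_lit 5, nat_lit 4, nat_lit 3, nat_lit 4, nat_lit 0, nat_lit 5, nat_lit 4, nat_lit 3, nat_lit 4, nat_lit 0] else (Wt_1433_1435 j)
def Wt_1429_1435 (j : ℕ) : List ℕ := bif Nat.blt j 1432 then (Wt_1429_1432 j) else (Wt_1432_1435 j)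
def Wt_1423_1435 (j : ℕ) : List ℕ := bif Nat.blt j 1429 then (Wt_1423_1429 j) else (Wt_1429_1435 j)
def Wt_1411_1435 (j : ℕ) : List ℕ := bif Nat.blt j 1423 then (Wt_1411_1423 j) else (Wt_1423_1435 j)
def Wt_1436_1438 (j : ℕ) : List ℕ := bif Nat.blt j 1437 then [nat_lit 63, nat_lit 0, nat_lit 3, nat_lit 2, nat_lit 0, nat_lit 1, nat_lit 2, nat_lit 0, nat_lit 3, nat_lit 2, nat_lit 0, nat_lit 1, nat_lit 2, nat_lit 0, nat_lit 3, nat_lit 2, nat_lit 0, nat_lit 1, nat_lit 2] else [nat_lit 63, nat_lit 4, nat_lit 3, nat_lit 4, nat_lit 2, nat_lit 4, nat_lit 2, nat_lit 4, nat_lit 3, nat_lit 4, nat_lit 1, nat_lit 2, nat_lit 1, nat_lit 3, nat_lit 0, nat_lit 3, nat_lit 4, nat_lit 2]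
def Wt_1435_1438 (j : ℕ) : List ℕ := bif Nat.blt j 1436 then [nat_lit 4, nat_lit 2, nat_lit 5, nat_lit 4, nat_lit 3, nat_lit 4, nat_lit 3, nat_lit 4, nat_lit 2, nat_lit 5, nat_lit 4, nat_lit 3, nat_lit 4, nat_lit 3, nat_lit 4, nat_lit 2, nat_lit 5, nat_lit 4, nat_lit 3, nat_lit 4, nat_lit 3, nat_lit 4, nat_lit 2, nat_lit 5, nat_lit 4, nat_lit 3, nat_lit 4, nat_lit 3, nat_lit 4, nat_lit 2, nat_lit 5, nat_lit 4, nat_lit 3, nat_lit 4, nat_lit 3] else (Wt_1436_1438 j)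
def Wt_1439_1441 (j : ℕ) : List ℕ := bif Nat.blt j 1440 then [nat_lit 1, nat_lit 4, nat_lit 3, nat_lit 2, nat_lit 0, nat_lit 3, nat_lit 1, nat_lit 4, nat_lit 1, nat_lit 4, nat_lit 0, nat_lit 4, nat_lit 1, nat_lit 4, nat_lit 2, nat_lit 1, nat_lit 4] else [nat_lit 1, nat_lit 3, nat_lit 1, nat_lit 0, nat_lit 1, nat_lit 2, nat_lit 1, nat_lit 3, nat_lit 1, nat_lit 0, nat_lit 1, nat_lit 2, nat_lit 1, nat_lit 3, nat_lit 1, nat_lit 0, nat_lit 1, nat_lit 2]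
def Wt_1438_1441 (j : ℕ) : List ℕ := bif Nat.blt j 1439 then [nat_lit 4, nat_lit 3, nat_lit 4, nat_lit 5, nat_lit 2, nat_lit 4, nat_lit 3, nat_lit 4, nat_lit 3, nat_lit 4, nat_lit 5, nat_lit 2, nat_lit 4, nat_lit 3, nat_lit 4, nat_lit 3, nat_lit 4, nat_lit 5, nat_lit 2, nat_lit 4, nat_lit 3, nat_lit 4, nat_lit 3, nat_lit 4, nat_lit 5, nat_lit 2, nat_lit 4, nat_lit 3, nat_lit 4, nat_lit 3, nat_lit 4, nat_lit 5, nat_lit 2, nat_lit 4, nat_lit 3] else (Wt_1439_1441 j)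
def Wt_1435_1441 (j : ℕ) : List ℕ := bif Nat.blt j 1438 then (Wt_1435_1438 j) else (Wt_1438_1441 j)
def Wt_1442_1444 (j : ℕ) : List ℕ := bif Nat.blt j 1443 then [nat_lit 4, nat_lit 2, nat_lit 1, nat_lit 5, nat_lit 2, nat_lit 4, nat_lit 2, nat_lit 1, nat_lit 5, nat_lit 2, nat_lit 4, nat_lit 2, nat_lit 1, nat_lit 5, nat_lit 2, nat_lit 4, nat_lit 2, nat_lit 1, nat_lit 5, nat_lit 2, nat_lit 4, nat_lit 2, nat_lit 1, nat_lit 5, nat_lit 2, nat_lit 4, nat_lit 2, nat_lit 1, nat_lit 5, nat_lit 2] else [nat_lit 4, nat_lit 1, nat_lit 5, nat_lit 4, nat_lit 3, nat_lit 0, nat_lit 1, nat_lit 0, nat_lit 4, nat_lit 1, nat_lit 5, nat_lit 4, nat_lit 3, nat_lit 0, nat_lit 1, nat_lit 0, nat_lit 4, nat_lit 1, nat_lit 5, nat_lit 4, nat_lit 3, nat_lit 0, nat_lit 1, nat_lit 0, nat_lit 4, nat_lit 1, nat_lit 5, nat_lit 4, nat_lit 3, nat_lit 0, nat_lit 1, nat_lit 0, nat_lit 4, nat_lit 1, nat_lit 5,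 nat_lit 4, nat_lit 3, nat_lit 0, nat_lit 1, nat_lit 0, nat_lit 4, nat_lit 1, nat_lit 5, nat_lit 4, nat_lit 3, nat_lit 0, nat_lit 1, nat_lit 0]
def Wt_1441_1444 (j : ℕ) : List ℕ := bif Nat.blt j 1442 then [nat_lit 63, nat_lit 2, nat_lit 3, nat_lit 4, nat_lit 2, nat_lit 0, nat_lit 4, nat_lit 2, nat_lit 0, nat_lit 4, nat_lit 0, nat_lit 2, nat_lit 4, nat_lit 0, nat_lit 2, nat_lit 4, nat_lit 0, nat_lit 3] else (Wt_1442_1444 j)
def Wt_1445_1447 (j : ℕ) : List ℕ := bif Nat.blt j 1446 then [nat_lit 1, nat_lit 0, nat_lit 4, nat_lit 0, nat_lit 2, nat_lit 4, nat_lit 5, nat_lit 1, nat_lit 4, nat_lit 1, nat_lit 0, nat_lit 4, nat_lit 0, nat_lit 2, nat_lit 4, nat_lit 5, nat_lit 1, nat_lit 4, nat_lit 1, nat_lit 0, nat_lit 4, nat_lit 0, nat_lit 2, nat_lit 4, nat_lit 5, nat_lit 1, nat_lit 4, nat_lit 1, nat_lit 0, nat_lit 4, nat_lit 0, nat_lit 2, nat_lit 4, nat_lit 5, nat_lit 1, nat_lit 4,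 nat_lit 1, nat_lit 0, nat_lit 4, nat_lit 0, nat_lit 2, nat_lit 4, nat_lit 5, nat_lit 1, nat_lit 4] else [nat_lit 63, nat_lit 5, nat_lit 1, nat_lit 4, nat_lit 3, nat_lit 0, nat_lit 1, nat_lit 0, nat_lit 4, nat_lit 5, nat_lit 1, nat_lit 4, nat_lit 3, nat_lit 0, nat_lit 1, nat_lit 0, nat_lit 4, nat_lit 5, nat_lit 1, nat_lit 4, nat_lit 3, nat_lit 0, nat_lit 1, nat_lit 0, nat_lit 4, nat_lit 5, nat_lit 1, nat_lit 4, nat_lit 3, nat_lit 0, nat_lit 1, nat_lit 0, nat_lit 4, nat_lit 5, nat_lit 1, nat_lit 4, nat_lit 3, nat_lit 0, nat_lit 1, nat_lit 0, nat_lit 4, nat_lit 5, nat_lit 1, nat_lit 4, nat_lit 3, nat_lit 0, nat_lit 1, nat_lit 0, nat_lit 4]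
def Wt_1444_1447 (j : ℕ) : List ℕ := bif Nat.blt j 1445 then [nat_lit 2, nat_lit 4, nat_lit 3, nat_lit 4, nat_lit 0, nat_lit 4, nat_lit 2, nat_lit 1, nat_lit 5, nat_lit 2, nat_lit 4, nat_lit 3, nat_lit 4, nat_lit 0, nat_lit 4, nat_lit 2, nat_lit 1, nat_lit 5, nat_lit 2, nat_lit 4, nat_lit 3, nat_lit 4, nat_lit 0, nat_lit 4, nat_lit 2, nat_lit 1, nat_lit 5] else (Wt_1445_1447 j)
def Wt_1441_1447 (j : ℕ) : List ℕ := bif Nat.blt j 1444 then (Wt_1441_1444 j) else (Wt_1444_1447 j)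
def Wt_1435_1447 (j : ℕ) : List ℕ := bif Nat.blt j 1441 then (Wt_1435_1441 j) else (Wt_1441_1447 j)
def Wt_1448_1450 (j : ℕ) : List ℕ := bif Nat.blt j 1449 then [nat_lit 63, nat_lit 0, nat_lit 2, nat_lit 4, nat_lit 0, nat_lit 1, nat_lit 4, nat_lit 5, nat_lit 1, nat_lit 4, nat_lit 0, nat_lit 2, nat_lit 4, nat_lit 0, nat_lit 1, nat_lit 4, nat_lit 5, nat_lit 1, nat_lit 4, nat_lit 0, nat_lit 2, nat_lit 4, nat_lit 0, nat_lit 1, nat_lit 4, nat_lit 5, nat_lit 1, nat_lit 4, nat_lit 0, nat_lit 2, nat_lit 4, nat_lit 0, nat_lit 1, nat_lit 4, nat_lit 5, nat_lit 1, nat_lit 4, nat_lit 0, nat_lit 2, nat_lit 4, nat_lit 0, nat_lit 1, nat_lit 4, nat_lit 5, nat_lit 1, nat_lit 4] else [nat_lit 63, nat_lit 0, nat_lit 2, nat_lit 4, nat_lit 5, nat_lit 1, nat_lit 4, nat_lit 1, nat_lit 0, nat_lit 4, nat_lit 0, nat_lit 2, nat_lit 4, nat_lit 5, nat_lit 1, nat_lit 4, nat_lit 1, nat_lit 0, nat_lit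 4, nat_lit 0, nat_lit 2, nat_lit 4, nat_lit 5, nat_lit 1, nat_lit 4, nat_lit 1, nat_lit 0, nat_lit 4, nat_lit 0, nat_lit 2, nat_lit 4, nat_lit 5, nat_lit 1, nat_lit 4, nat_lit 1, nat_lit 0, nat_lit 4, nat_lit 0, nat_lit 2, nat_lit 4, nat_lit 5, nat_lit 1, nat_lit 4, nat_lit 1, nat_lit 0, nat_lit 4]
def Wt_1447_1450 (j : ℕ) : List ℕ := bif Nat.blt j 1448 then [nat_lit 5, nat_lit 4, nat_lit 1, nat_lit 0, nat_lit 4, nat_lit 2, nat_lit 0, nat_lit 4, nat_lit 1, nat_lit 5, nat_lit 4, nat_lit 1, nat_lit 0, nat_lit 4, nat_lit 2, nat_lit 0, nat_lit 4, nat_lit 1, nat_lit 5, nat_lit 4, nat_lit 1, nat_lit 0, nat_lit 4, nat_lit 2, nat_lit 0, nat_lit 4, nat_lit 1, nat_lit 5, nat_lit 4, nat_lit 1, nat_lit 0, nat_lit 4, nat_lit 2, nat_lit 0, nat_lit 4, nat_lit 1, nat_lit 5, nat_lit 4, nat_lit 1, nat_lit 0, nat_lit 4, nat_lit 2, nat_lit 0, nat_lit 4, nat_lit 1] else (Wt_1448_1450 j)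
def Wt_1451_1453 (j : ℕ) : List ℕ := bif Nat.blt j 1452 then [nat_lit 2, nat_lit 1, nat_lit 2, nat_lit 4, nat_lit 1, nat_lit 3, nat_lit 4, nat_lit 0, nat_lit 4, nat_lit 0, nat_lit 2, nat_lit 4, nat_lit 0, nat_lit 4, nat_lit 3, nat_lit 1, nat_lit 4] else [nat_lit 63, nat_lit 2, nat_lit 4, nat_lit 3, nat_lit 2, nat_lit 4, nat_lit 3, nat_lit 0, nat_lit 3, nat_lit 1, nat_lit 4, nat_lit 2, nat_lit 3, nat_lit 4, nat_lit 2, nat_lit 4, nat_lit 1, nat_lit 4]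
def Wt_1450_1453 (j : ℕ) : List ℕ := bif Nat.blt j 1451 then [nat_lit 63, nat_lit 5, nat_lit 1, nat_lit 2, nat_lit 4, nat_lit 2, nat_lit 4, nat_lit 2, nat_lit 3, nat_lit 4, nat_lit 5, nat_lit 1, nat_lit 2, nat_lit 4, nat_lit 2, nat_lit 4, nat_lit 2, nat_lit 3, nat_lit 4, nat_lit 5, nat_lit 1, nat_lit 2, nat_lit 4, nat_lit 2, nat_lit 4, nat_lit 2, nat_lit 3, nat_lit 4, nat_lit 5, nat_lit 1, nat_lit 2, nat_lit 4, nat_lit 2, nat_lit 4, nat_lit 2, nat_lit 3, nat_lit 4, nat_lit 5, nat_lit 1, nat_lit 2, nat_lit 4, nat_lit 2, nat_lit 4, nat_lit 2, nat_lit 3, nat_lit 4, nat_lit 5, nat_lit 1, nat_lit 2, nat_lit 4, nat_lit 2, nat_lit 4, nat_lit 2, nat_lit 3, nat_lit 4] else (Wt_1451_1453 j)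
def Wt_1447_1453 (j : ℕ) : List ℕ := bif Nat.blt j 1450 then (Wt_1447_1450 j) else (Wt_1450_1453 j)
def Wt_1454_1456 (j : ℕ) : List ℕ := bif Nat.blt j 1455 then [nat_lit 0, nat_lit 4, nat_lit 1, nat_lit 4, nat_lit 0, nat_lit 2, nat_lit 4, nat_lit 1, nat_lit 4, nat_lit 2, nat_lit 0, nat_lit 4, nat_lit 1, nat_lit 4, nat_lit 2] else [nat_lit 63, nat_lit 4, nat_lit 3, nat_lit 2, nat_lit 4, nat_lit 3, nat_lit 4, nat_lit 0, nat_lit 3, nat_lit 4, nat_lit 0, nat_lit 3, nat_lit 0, nat_lit 4, nat_lit 3, nat_lit 0, nat_lit 4, nat_lit 3]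
def Wt_1453_1456 (j : ℕ) : List ℕ := bif Nat.blt j 1454 then [nat_lit 63, nat_lit 0, nat_lit 1, nat_lit 4, nat_lit 5, nat_lit 1, nat_lit 4, nat_lit 0, nat_lit 2, nat_lit 4, nat_lit 0, nat_lit 1, nat_lit 4, nat_lit 5, nat_lit 1, nat_lit 4, nat_lit 0, nat_lit 2, nat_lit 4, nat_lit 0, nat_lit 1, nat_lit 4, nat_lit 5, nat_lit 1, nat_lit 4, nat_lit 0, nat_lit 2, nat_lit 4, nat_lit 0, nat_lit 1, nat_lit 4, nat_lit 5, nat_lit 1, nat_lit 4, nat_lit 0, nat_lit 2, nat_lit 4, nat_lit 0, nat_lit 1, nat_lit 4, nat_lit 5, nat_lit 1, nat_lit 4, nat_lit 0, nat_lit 2, nat_lit 4] else (Wt_1454_1456 j)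
def Wt_1456_1458 (j : ℕ) : List ℕ := bif Nat.blt j 1457 then [nat_lit 4, nat_lit 2, nat_lit 4, nat_lit 2, nat_lit 3, nat_lit 4, nat_lit 5, nat_lit 1, nat_lit 2, nat_lit 4, nat_lit 2, nat_lit 4, nat_lit 2, nat_lit 3, nat_lit 4, nat_lit 5, nat_lit 1, nat_lit 2, nat_lit 4, nat_lit 2, nat_lit 4, nat_lit 2, nat_lit 3, nat_lit 4, nat_lit 5, nat_lit 1, nat_lit 2, nat_lit 4, nat_lit 2, nat_lit 4, nat_lit 2, nat_lit 3, nat_lit 4, nat_lit 5, nat_lit 1, nat_lit 2, nat_lit 4, nat_lit 2, nat_lit 4, nat_lit 2, nat_lit 3, nat_lit 4, nat_lit 5, nat_lit 1, nat_lit 2, nat_lit 4, nat_lit 2, nat_lit 4, nat_lit 2, nat_lit 3, nat_lit 4, nat_lit 5, nat_lit 1, nat_lit 2] else [nat_lit 2, nat_lit 1, nat_lit 5, nat_lit 2, nat_lit 4, nat_lit 3, nat_lit 4, nat_lit 0, nat_lit 4, nat_lit 2, nat_lit 1, nat_lit 5, nat_lit 2, nat_lit 4, nat_lit 3, nat_lit 4, nat_lit 0, nat_lit 4, nat_lit 2, nat_lit 1,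 nat_lit 5, nat_lit 2, nat_lit 4, nat_lit 3, nat_lit 4, nat_lit 0, nat_lit 4]
def Wt_1458_1460 (j : ℕ) : List ℕ := bif Nat.blt j 1459 then [nat_lit 1, nat_lit 4, nat_lit 1, nat_lit 0, nat_lit 4, nat_lit 0, nat_lit 2, nat_lit 4, nat_lit 5, nat_lit 1, nat_lit 4, nat_lit 1, nat_lit 0, nat_lit 4, nat_lit 0, nat_lit 2, nat_lit 4, nat_lit 5, nat_lit 1, nat_lit 4, nat_lit 1, nat_lit 0, nat_lit 4, nat_lit 0, nat_lit 2, nat_lit 4, nat_lit 5, nat_lit 1, nat_lit 4, nat_lit 1, nat_lit 0, nat_lit 4, nat_lit 0, nat_lit 2, nat_lit 4, nat_lit 5, nat_lit 1, nat_lit 4, nat_lit 1, nat_lit 0, nat_lit 4, nat_lit 0, nat_lit 2, nat_lit 4, nat_lit 5] else [nat_lit 2, nat_lit 3, nat_lit 4, nat_lit 5, nat_lit 1, nat_lit 4, nat_lit 2, nat_lit 3, nat_lit 4, nat_lit 5, nat_lit 1, nat_lit 4, nat_lit 2, nat_lit 3, nat_lit 4, nat_lit 5, nat_lit 1, nat_lit 4, nat_lit 2, nat_lit 3, nat_lit 4, nat_lit 5,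 nat_lit 1, nat_lit 4]
def Wt_1456_1460 (j : ℕ) : List ℕ := bif Nat.blt j 1458 then (Wt_1456_1458 j) else (Wt_1458_1460 j)
def Wt_1453_1460 (j : ℕ) : List ℕ := bif Nat.blt j 1456 then (Wt_1453_1456 j) else (Wt_1456_1460 j)
def Wt_1447_1460 (j : ℕ) : List ℕ := bif Nat.blt j 1453 then (Wt_1447_1453 j) else (Wt_1453_1460 j)
def Wt_1435_1460 (j : ℕ) : List ℕ := bif Nat.blt j 1447 then (Wt_1435_1447 j) else (Wt_1447_1460 j)
def Wt_1411_1460 (j : ℕ) : List ℕ := bif Nat.blt j 1435 then (Wt_1411_1435 j) else (Wt_1435_1460 j)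
def Wt_1363_1460 (j : ℕ) : List ℕ := bif Nat.blt j 1411 then (Wt_1363_1411 j) else (Wt_1411_1460 j)
def Wt_1461_1463 (j : ℕ) : List ℕ := bif Nat.blt j 1462 then [nat_lit 4, nat_lit 0, nat_lit 2, nat_lit 4, nat_lit 0, nat_lit 1, nat_lit 4, nat_lit 5, nat_lit 1, nat_lit 4, nat_lit 0, nat_lit 2, nat_lit 4, nat_lit 0, nat_lit 1, nat_lit 4, nat_lit 5, nat_lit 1, nat_lit 4, nat_lit 0, nat_lit 2, nat_lit 4, nat_lit 0, nat_lit 1, nat_lit 4, nat_lit 5, nat_lit 1, nat_lit 4, nat_lit 0, nat_lit 2, nat_lit 4, nat_lit 0, nat_lit 1, nat_lit 4, nat_lit 5, nat_lit 1, nat_lit 4, nat_lit 0, nat_lit 2, nat_lit 4, nat_lit 0, nat_lit 1, nat_lit 4, nat_lit 5, nat_lit 1] else [nat_lit 2, nat_lit 0, nat_lit 4, nat_lit 0, nat_lit 1, nat_lit 4, nat_lit 1, nat_lit 5, nat_lit 4, nat_lit 2, nat_lit 0, nat_lit 4, nat_lit 0, nat_lit 1, nat_lit 4, nat_lit 1, nat_lit 5, nat_lit 4, nat_lit 2, nat_lit 0,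 nat_lit 4, nat_lit 0, nat_lit 1, nat_lit 4, nat_lit 1, nat_lit 5, nat_lit 4, nat_lit 2, nat_lit 0, nat_lit 4, nat_lit 0, nat_lit 1, nat_lit 4, nat_lit 1, nat_lit 5, nat_lit 4, nat_lit 2, nat_lit 0, nat_lit 4, nat_lit 0, nat_lit 1, nat_lit 4, nat_lit 1, nat_lit 5, nat_lit 4]
def Wt_1460_1463 (j : ℕ) : List ℕ := bif Nat.blt j 1461 then [nat_lit 0, nat_lit 3, nat_lit 4, nat_lit 0, nat_lit 3, nat_lit 0, nat_lit 4, nat_lit 3, nat_lit 0, nat_lit 4, nat_lit 3, nat_lit 4, nat_lit 3, nat_lit 2, nat_lit 4, nat_lit 3, nat_lit 4] else (Wt_1461_1463 j)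
def Wt_1464_1466 (j : ℕ) : List ℕ := bif Nat.blt j 1465 then [nat_lit 63, nat_lit 5, nat_lit 4, nat_lit 3, nat_lit 2, nat_lit 4, nat_lit 2, nat_lit 4, nat_lit 2, nat_lit 1, nat_lit 5, nat_lit 4, nat_lit 3, nat_lit 2, nat_lit 4, nat_lit 2, nat_lit 4, nat_lit 2, nat_lit 1, nat_lit 5, nat_lit 4, nat_lit 3, nat_lit 2, nat_lit 4, nat_lit 2, nat_lit 4, nat_lit 2, nat_lit 1, nat_lit 5, nat_lit 4, nat_lit 3, nat_lit 2, nat_lit 4, nat_lit 2, nat_lit 4, nat_lit 2, nat_lit 1, nat_lit 5, nat_lit 4, nat_lit 3, nat_lit 2, nat_lit 4, nat_lit 2, nat_lit 4, nat_lit 2, nat_lit 1, nat_lit 5, nat_lit 4, nat_lit 3, nat_lit 2, nat_lit 4, nat_lit 2, nat_lit 4, nat_lit 2, nat_lit 1] else [nat_lit 5, nat_lit 1, nat_lit 4, nat_lit 1, nat_lit 0, nat_lit 1, nat_lit 0, nat_lit 5, nat_lit 1, nat_lit 4, nat_lit 1, nat_lit 0, nat_lit 1, nat_lit 0, nat_lit 5, nat_lit 1, nat_lit 4, nat_lit 1, nat_lit 0,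 nat_lit 1, nat_lit 0, nat_lit 5, nat_lit 1, nat_lit 4, nat_lit 1, nat_lit 0, nat_lit 1, nat_lit 0]
def Wt_1463_1466 (j : ℕ) : List ℕ := bif Nat.blt j 1464 then [nat_lit 63, nat_lit 3, nat_lit 2, nat_lit 4, nat_lit 2, nat_lit 4, nat_lit 2, nat_lit 1, nat_lit 5, nat_lit 4, nat_lit 3, nat_lit 2, nat_lit 4, nat_lit 2, nat_lit 4, nat_lit 2, nat_lit 1, nat_lit 5, nat_lit 4, nat_lit 3, nat_lit 2, nat_lit 4, nat_lit 2, nat_lit 4, nat_lit 2, nat_lit 1, nat_lit 5, nat_lit 4, nat_lit 3, nat_lit 2, nat_lit 4, nat_lit 2, nat_lit 4, nat_lit 2, nat_lit 1, nat_lit 5, nat_lit 4, nat_lit 3, nat_lit 2, nat_lit 4, nat_lit 2, nat_lit 4, nat_lit 2, nat_lit 1, nat_lit 5, nat_lit 4, nat_lit 3, nat_lit 2, nat_lit 4, nat_lit 2, nat_lit 4, nat_lit 2, nat_lit 1, nat_lit 5, nat_lit 4] else (Wt_1464_1466 j)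
def Wt_1460_1466 (j : ℕ) : List ℕ := bif Nat.blt j 1463 then (Wt_1460_1463 j) else (Wt_1463_1466 j)
def Wt_1467_1469 (j : ℕ) : List ℕ := bif Nat.blt j 1468 then [nat_lit 3, nat_lit 0, nat_lit 1, nat_lit 0, nat_lit 4, nat_lit 1, nat_lit 5, nat_lit 4, nat_lit 3, nat_lit 0, nat_lit 1, nat_lit 0, nat_lit 4, nat_lit 1, nat_lit 5, nat_lit 4, nat_lit 3, nat_lit 0, nat_lit 1, nat_lit 0, nat_lit 4, nat_lit 1, nat_lit 5, nat_lit 4, nat_lit 3, nat_lit 0, nat_lit 1, nat_lit 0, nat_lit 4, nat_lit 1, nat_lit 5, nat_lit 4, nat_lit 3, nat_lit 0, nat_lit 1, nat_lit 0, nat_lit 4, nat_lit 1, nat_lit 5, nat_lit 4, nat_lit 3, nat_lit 0, nat_lit 1, nat_lit 0, nat_lit 4, nat_lit 1, nat_lit 5, nat_lit 4] else [nat_lit 0, nat_lit 3, nat_lit 4, nat_lit 5, nat_lit 1, nat_lit 4, nat_lit 0, nat_lit 1, nat_lit 0, nat_lit 3, nat_lit 4, nat_lit 5, nat_lit 1, nat_lit 4, nat_lit 0, nat_lit 1, nat_lit 0,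 nat_lit 3, nat_lit 4, nat_lit 5, nat_lit 1, nat_lit 4, nat_lit 0, nat_lit 1, nat_lit 0, nat_lit 3, nat_lit 4, nat_lit 5, nat_lit 1, nat_lit 4, nat_lit 0, nat_lit 1, nat_lit 0, nat_lit 3, nat_lit 4, nat_lit 5, nat_lit 1, nat_lit 4, nat_lit 0, nat_lit 1, nat_lit 0, nat_lit 3, nat_lit 4, nat_lit 5, nat_lit 1, nat_lit 4, nat_lit 0, nat_lit 1]
def Wt_1466_1469 (j : ℕ) : List ℕ := bif Nat.blt j 1467 then [nat_lit 63, nat_lit 4, nat_lit 0, nat_lit 4, nat_lit 3, nat_lit 4, nat_lit 1, nat_lit 0, nat_lit 5, nat_lit 4, nat_lit 0, nat_lit 4, nat_lit 3, nat_lit 4, nat_lit 1, nat_lit 0, nat_lit 5, nat_lit 4, nat_lit 0, nat_lit 4, nat_lit 3, nat_lit 4, nat_lit 1, nat_lit 0, nat_lit 5, nat_lit 4, nat_lit 0, nat_lit 4, nat_lit 3, nat_lit 4, nat_lit 1, nat_lit 0, nat_lit 5, nat_lit 4, nat_lit 0, nat_lit 4, nat_lit 3, nat_lit 4, nat_lit 1, nat_lit 0, nat_lit 5] else (Wt_1467_1469 j)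
def Wt_1470_1472 (j : ℕ) : List ℕ := bif Nat.blt j 1471 then [nat_lit 63, nat_lit 4, nat_lit 1, nat_lit 5, nat_lit 4, nat_lit 3, nat_lit 0, nat_lit 1, nat_lit 0, nat_lit 4, nat_lit 1, nat_lit 5, nat_lit 4, nat_lit 3, nat_lit 0, nat_lit 1, nat_lit 0, nat_lit 4, nat_lit 1, nat_lit 5, nat_lit 4, nat_lit 3, nat_lit 0, nat_lit 1, nat_lit 0, nat_lit 4, nat_lit 1, nat_lit 5, nat_lit 4, nat_lit 3, nat_lit 0, nat_lit 1, nat_lit 0, nat_lit 4, nat_lit 1, nat_lit 5, nat_lit 4, nat_lit 3, nat_lit 0, nat_lit 1, nat_lit 0, nat_lit 4, nat_lit 1, nat_lit 5, nat_lit 4, nat_lit 3, nat_lit 0, nat_lit 1, nat_lit 0] else [nat_lit 63, nat_lit 0, nat_lit 4, nat_lit 5, nat_lit 1, nat_lit 4, nat_lit 3, nat_lit 0, nat_lit 1, nat_lit 0, nat_lit 4, nat_lit 5, nat_lit 1, nat_lit 4, nat_lit 3, nat_lit 0, nat_lit 1, nat_lit 0, nat_lit 4, nat_lit 5, nat_lit 1, nat_lit 4, nat_lit 3, nat_lit 0, nat_lit 1,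 nat_lit 0, nat_lit 4, nat_lit 5, nat_lit 1, nat_lit 4, nat_lit 3, nat_lit 0, nat_lit 1, nat_lit 0, nat_lit 4, nat_lit 5, nat_lit 1, nat_lit 4, nat_lit 3, nat_lit 0, nat_lit 1, nat_lit 0, nat_lit 4, nat_lit 5, nat_lit 1, nat_lit 4, nat_lit 3, nat_lit 0, nat_lit 1]
def Wt_1469_1472 (j : ℕ) : List ℕ := bif Nat.blt j 1470 then [nat_lit 5, nat_lit 2, nat_lit 4, nat_lit 3, nat_lit 4, nat_lit 0, nat_lit 4, nat_lit 2, nat_lit 1, nat_lit 5, nat_lit 2, nat_lit 4, nat_lit 3, nat_lit 4, nat_lit 0, nat_lit 4, nat_lit 2, nat_lit 1, nat_lit 5, nat_lit 2, nat_lit 4, nat_lit 3, nat_lit 4, nat_lit 0, nat_lit 4, nat_lit 2, nat_lit 1] else (Wt_1470_1472 j)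
def Wt_1466_1472 (j : ℕ) : List ℕ := bif Nat.blt j 1469 then (Wt_1466_1469 j) else (Wt_1469_1472 j)
def Wt_1460_1472 (j : ℕ) : List ℕ := bif Nat.blt j 1466 then (Wt_1460_1466 j) else (Wt_1466_1472 j)
def Wt_1473_1475 (j : ℕ) : List ℕ := bif Nat.blt j 1474 then [nat_lit 3, nat_lit 0, nat_lit 1, nat_lit 0, nat_lit 4, nat_lit 5, nat_lit 1, nat_lit 4, nat_lit 3, nat_lit 0, nat_lit 1, nat_lit 0, nat_lit 4, nat_lit 5, nat_lit 1, nat_lit 4, nat_lit 3, nat_lit 0, nat_lit 1, nat_lit 0, nat_lit 4, nat_lit 5, nat_lit 1, nat_lit 4, nat_lit 3, nat_lit 0, nat_lit 1, nat_lit 0, nat_lit 4, nat_lit 5, nat_lit 1, nat_lit 4, nat_lit 3, nat_lit 0, nat_lit 1, nat_lit 0, nat_lit 4, nat_lit 5, nat_lit 1, nat_lit 4, nat_lit 3, nat_lit 0, nat_lit 1, nat_lit 0, nat_lit 4, nat_lit 5, nat_lit 1, nat_lit 4] else [nat_lit 1, nat_lit 4, nat_lit 5, nat_lit 1, nat_lit 4, nat_lit 1, nat_lit 2, nat_lit 1,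 nat_lit 4, nat_lit 5, nat_lit 1, nat_lit 4, nat_lit 1, nat_lit 2, nat_lit 1, nat_lit 4, nat_lit 5, nat_lit 1, nat_lit 4, nat_lit 1, nat_lit 2]
def Wt_1472_1475 (j : ℕ) : List ℕ := bif Nat.blt j 1473 then [nat_lit 63, nat_lit 0, nat_lit 4, nat_lit 1, nat_lit 5, nat_lit 4, nat_lit 3, nat_lit 0, nat_lit 1, nat_lit 0, nat_lit 4, nat_lit 1, nat_lit 5, nat_lit 4, nat_lit 3, nat_lit 0, nat_lit 1, nat_lit 0, nat_lit 4, nat_lit 1, nat_lit 5, nat_lit 4, nat_lit 3, nat_lit 0, nat_lit 1, nat_lit 0, nat_lit 4, nat_lit 1, nat_lit 5, nat_lit 4, nat_lit 3, nat_lit 0, nat_lit 1, nat_lit 0, nat_lit 4, nat_lit 1, nat_lit 5, nat_lit 4, nat_lit 3, nat_lit 0, nat_lit 1, nat_lit 0, nat_lit 4, nat_lit 1, nat_lit 5, nat_lit 4, nat_lit 3, nat_lit 0, nat_lit 1] else (Wt_1473_1475 j)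
def Wt_1476_1478 (j : ℕ) : List ℕ := bif Nat.blt j 1477 then [nat_lit 4, nat_lit 1, nat_lit 0, nat_lit 4, nat_lit 2, nat_lit 0, nat_lit 4, nat_lit 1, nat_lit 5, nat_lit 4, nat_lit 1, nat_lit 0, nat_lit 4, nat_lit 2, nat_lit 0, nat_lit 4, nat_lit 1, nat_lit 5, nat_lit 4, nat_lit 1, nat_lit 0, nat_lit 4, nat_lit 2, nat_lit 0, nat_lit 4, nat_lit 1, nat_lit 5, nat_lit 4, nat_lit 1, nat_lit 0, nat_lit 4, nat_lit 2, nat_lit 0, nat_lit 4, nat_lit 1, nat_lit 5, nat_lit 4, nat_lit 1, nat_lit 0, nat_lit 4, nat_lit 2, nat_lit 0, nat_lit 4, nat_lit 1, nat_lit 5] else [nat_lit 0, nat_lit 4, nat_lit 0, nat_lit 1, nat_lit 4, nat_lit 1, nat_lit 5, nat_lit 4, nat_lit 2, nat_lit 0, nat_lit 4, nat_lit 0, nat_lit 1, nat_lit 4, nat_lit 1, nat_lit 5, nat_lit 4, nat_lit 2, nat_lit 0, nat_lit 4, nat_lit 0, nat_lit 1, nat_lit 4, nat_lit 1, nat_lit 5, nat_lit 4, nat_lit 2, nat_lit 0, nat_lit 4,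 nat_lit 0, nat_lit 1, nat_lit 4, nat_lit 1, nat_lit 5, nat_lit 4, nat_lit 2, nat_lit 0, nat_lit 4, nat_lit 0, nat_lit 1, nat_lit 4, nat_lit 1, nat_lit 5, nat_lit 4, nat_lit 2]
def Wt_1475_1478 (j : ℕ) : List ℕ := bif Nat.blt j 1476 then [nat_lit 63, nat_lit 1, nat_lit 4, nat_lit 1, nat_lit 0, nat_lit 1, nat_lit 0, nat_lit 5, nat_lit 1, nat_lit 4, nat_lit 1, nat_lit 0, nat_lit 1, nat_lit 0, nat_lit 5, nat_lit 1, nat_lit 4, nat_lit 1, nat_lit 0, nat_lit 1, nat_lit 0, nat_lit 5, nat_lit 1, nat_lit 4, nat_lit 1, nat_lit 0, nat_lit 1, nat_lit 0, nat_lit 5] else (Wt_1476_1478 j)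
def Wt_1472_1478 (j : ℕ) : List ℕ := bif Nat.blt j 1475 then (Wt_1472_1475 j) else (Wt_1475_1478 j)
def Wt_1479_1481 (j : ℕ) : List ℕ := bif Nat.blt j 1480 then [nat_lit 1, nat_lit 5, nat_lit 4, nat_lit 3, nat_lit 2, nat_lit 4, nat_lit 2, nat_lit 4, nat_lit 2, nat_lit 1, nat_lit 5, nat_lit 4, nat_lit 3, nat_lit 2, nat_lit 4, nat_lit 2, nat_lit 4, nat_lit 2, nat_lit 1, nat_lit 5, nat_lit 4, nat_lit 3, nat_lit 2, nat_lit 4, nat_lit 2, nat_lit 4, nat_lit 2, nat_lit 1, nat_lit 5, nat_lit 4, nat_lit 3, nat_lit 2, nat_lit 4, nat_lit 2, nat_lit 4, nat_lit 2, nat_lit 1, nat_lit 5, nat_lit 4, nat_lit 3, nat_lit 2, nat_lit 4, nat_lit 2, nat_lit 4, nat_lit 2, nat_lit 1, nat_lit 5, nat_lit 4, nat_lit 3, nat_lit 2, nat_lit 4, nat_lit 2, nat_lit 4, nat_lit 2] else [nat_lit 0, nat_lit 4, nat_lit 1, nat_lit 5, nat_lit 4, nat_lit 3, nat_lit 0, nat_lit 1, nat_lit 0, nat_lit 4, nat_lit 1,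 nat_lit 5, nat_lit 4, nat_lit 3, nat_lit 0, nat_lit 1, nat_lit 0, nat_lit 4, nat_lit 1, nat_lit 5, nat_lit 4, nat_lit 3, nat_lit 0, nat_lit 1, nat_lit 0, nat_lit 4, nat_lit 1, nat_lit 5, nat_lit 4, nat_lit 3, nat_lit 0, nat_lit 1, nat_lit 0, nat_lit 4, nat_lit 1, nat_lit 5, nat_lit 4, nat_lit 3, nat_lit 0, nat_lit 1, nat_lit 0, nat_lit 4, nat_lit 1, nat_lit 5, nat_lit 4, nat_lit 3, nat_lit 0, nat_lit 1]
def Wt_1478_1481 (j : ℕ) : List ℕ := bif Nat.blt j 1479 then [nat_lit 1, nat_lit 4, nat_lit 2, nat_lit 1, nat_lit 2, nat_lit 4, nat_lit 1, nat_lit 3, nat_lit 4, nat_lit 0, nat_lit 4, nat_lit 2, nat_lit 0, nat_lit 4, nat_lit 0, nat_lit 4, nat_lit 3] else (Wt_1479_1481 j)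
def Wt_1482_1484 (j : ℕ) : List ℕ := bif Nat.blt j 1483 then [nat_lit 5, nat_lit 1, nat_lit 4, nat_lit 1, nat_lit 0, nat_lit 4, nat_lit 0, nat_lit 2, nat_lit 4, nat_lit 5, nat_lit 1, nat_lit 4, nat_lit 1, nat_lit 0, nat_lit 4, nat_lit 0, nat_lit 2, nat_lit 4, nat_lit 5, nat_lit 1, nat_lit 4, nat_lit 1, nat_lit 0, nat_lit 4, nat_lit 0, nat_lit 2, nat_lit 4, nat_lit 5, nat_lit 1, nat_lit 4, nat_lit 1, nat_lit 0, nat_lit 4, nat_lit 0, nat_lit 2, nat_lit 4, nat_lit 5, nat_lit 1, nat_lit 4, nat_lit 1, nat_lit 0, nat_lit 4, nat_lit 0, nat_lit 2, nat_lit 4] else [nat_lit 63, nat_lit 3, nat_lit 4, nat_lit 1, nat_lit 5, nat_lit 4, nat_lit 0, nat_lit 1, nat_lit 0, nat_lit 3, nat_lit 4, nat_lit 1, nat_lit 5, nat_lit 4, nat_lit 0, nat_lit 1, nat_lit 0, nat_lit 3, nat_lit 4, nat_lit 1, nat_lit 5, nat_lit 4, nat_lit 0, nat_lit 1, nat_lit 0, nat_lit 3, nat_lit 4, nat_lit 1, nat_lit 5,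 nat_lit 4, nat_lit 0, nat_lit 1, nat_lit 0, nat_lit 3, nat_lit 4, nat_lit 1, nat_lit 5, nat_lit 4, nat_lit 0, nat_lit 1, nat_lit 0, nat_lit 3, nat_lit 4, nat_lit 1, nat_lit 5, nat_lit 4, nat_lit 0, nat_lit 1, nat_lit 0]
def Wt_1481_1484 (j : ℕ) : List ℕ := bif Nat.blt j 1482 then [nat_lit 1, nat_lit 0, nat_lit 4, nat_lit 5, nat_lit 1, nat_lit 4, nat_lit 3, nat_lit 0, nat_lit 1, nat_lit 0, nat_lit 4, nat_lit 5, nat_lit 1, nat_lit 4, nat_lit 3, nat_lit 0, nat_lit 1, nat_lit 0, nat_lit 4, nat_lit 5, nat_lit 1, nat_lit 4, nat_lit 3, nat_lit 0, nat_lit 1, nat_lit 0, nat_lit 4, nat_lit 5, nat_lit 1, nat_lit 4, nat_lit 3, nat_lit 0, nat_lit 1, nat_lit 0, nat_lit 4, nat_lit 5, nat_lit 1, nat_lit 4, nat_lit 3, nat_lit 0, nat_lit 1, nat_lit 0, nat_lit 4, nat_lit 5, nat_lit 1, nat_lit 4, nat_lit 3, nat_lit 0] else (Wt_1482_1484 j)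
def Wt_1478_1484 (j : ℕ) : List ℕ := bif Nat.blt j 1481 then (Wt_1478_1481 j) else (Wt_1481_1484 j)
def Wt_1472_1484 (j : ℕ) : List ℕ := bif Nat.blt j 1478 then (Wt_1472_1478 j) else (Wt_1478_1484 j)
def Wt_1460_1484 (j : ℕ) : List ℕ := bif Nat.blt j 1472 then (Wt_1460_1472 j) else (Wt_1472_1484 j)
def Wt_1485_1487 (j : ℕ) : List ℕ := bif Nat.blt j 1486 then [nat_lit 0, nat_lit 4, nat_lit 3, nat_lit 1, nat_lit 4, nat_lit 2, nat_lit 1, nat_lit 2, nat_lit 4, nat_lit 1, nat_lit 3, nat_lit 4, nat_lit 0, nat_lit 4, nat_lit 0, nat_lit 2, nat_lit 4] else [nat_lit 4, nat_lit 0, nat_lit 4, nat_lit 3, nat_lit 4, nat_lit 2, nat_lit 5, nat_lit 1, nat_lit 2, nat_lit 4, nat_lit 0, nat_lit 4, nat_lit 3, nat_lit 4, nat_lit 2, nat_lit 5, nat_lit 1, nat_lit 2, nat_lit 4, nat_lit 0, nat_lit 4, nat_lit 3, nat_lit 4, nat_lit 2, nat_lit 5, nat_lit 1, nat_lit 2]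
def Wt_1484_1487 (j : ℕ) : List ℕ := bif Nat.blt j 1485 then [nat_lit 1, nat_lit 3, nat_lit 0, nat_lit 3, nat_lit 0, nat_lit 3, nat_lit 0, nat_lit 1, nat_lit 3, nat_lit 0, nat_lit 3, nat_lit 0, nat_lit 3, nat_lit 0, nat_lit 1, nat_lit 3, nat_lit 0, nat_lit 3, nat_lit 0, nat_lit 3, nat_lit 0] else (Wt_1485_1487 j)
def Wt_1488_1490 (j : ℕ) : List ℕ := bif Nat.blt j 1489 then [nat_lit 3, nat_lit 0, nat_lit 3, nat_lit 0, nat_lit 3, nat_lit 0, nat_lit 1, nat_lit 3, nat_lit 0, nat_lit 3, nat_lit 0, nat_lit 3, nat_lit 0, nat_lit 1, nat_lit 3, nat_lit 0, nat_lit 3, nat_lit 0, nat_lit 3, nat_lit 0, nat_lit 1] else [nat_lit 2, nat_lit 4, nat_lit 1, nat_lit 4, nat_lit 0, nat_lit 2, nat_lit 4, nat_lit 1, nat_lit 4, nat_lit 2, nat_lit 0, nat_lit 4, nat_lit 1, nat_lit 4, nat_lit 0]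
def Wt_1487_1490 (j : ℕ) : List ℕ := bif Nat.blt j 1488 then [nat_lit 63, nat_lit 3, nat_lit 4, nat_lit 0, nat_lit 4, nat_lit 5, nat_lit 3, nat_lit 0, nat_lit 3, nat_lit 4, nat_lit 0, nat_lit 4, nat_lit 5, nat_lit 3, nat_lit 0, nat_lit 3, nat_lit 4, nat_lit 0, nat_lit 4, nat_lit 5, nat_lit 3, nat_lit 0, nat_lit 3, nat_lit 4, nat_lit 0, nat_lit 4, nat_lit 5, nat_lit 3, nat_lit 0, nat_lit 3, nat_lit 4, nat_lit 0, nat_lit 4, nat_lit 5, nat_lit 3, nat_lit 0] else (Wt_1488_1490 j)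
def Wt_1484_1490 (j : ℕ) : List ℕ := bif Nat.blt j 1487 then (Wt_1484_1487 j) else (Wt_1487_1490 j)
def Wt_1491_1493 (j : ℕ) : List ℕ := bif Nat.blt j 1492 then [nat_lit 2, nat_lit 0, nat_lit 4, nat_lit 2, nat_lit 0, nat_lit 4, nat_lit 0, nat_lit 2, nat_lit 4, nat_lit 0, nat_lit 2, nat_lit 4, nat_lit 0, nat_lit 3, nat_lit 2, nat_lit 3, nat_lit 4] else [nat_lit 5, nat_lit 4, nat_lit 3, nat_lit 2, nat_lit 4, nat_lit 2, nat_lit 4, nat_lit 2, nat_lit 1, nat_lit 5, nat_lit 4, nat_lit 3, nat_lit 2, nat_lit 4, nat_lit 2, nat_lit 4, nat_lit 2, nat_lit 1, nat_lit 5, nat_lit 4, nat_lit 3, nat_lit 2, nat_lit 4, nat_lit 2, nat_lit 4, nat_lit 2, nat_lit 1, nat_lit 5, nat_lit 4, nat_lit 3, nat_lit 2, nat_lit 4, nat_lit 2, nat_lit 4, nat_lit 2, nat_lit 1, nat_lit 5, nat_lit 4, nat_lit 3, nat_lit 2, nat_lit 4, nat_lit 2, nat_lit 4, nat_lit 2, nat_lit 1, nat_lit 5, nat_lit 4, nat_lit 3,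 nat_lit 2, nat_lit 4, nat_lit 2, nat_lit 4, nat_lit 2, nat_lit 1]
def Wt_1490_1493 (j : ℕ) : List ℕ := bif Nat.blt j 1491 then [nat_lit 63, nat_lit 4, nat_lit 1, nat_lit 0, nat_lit 4, nat_lit 0, nat_lit 2, nat_lit 4, nat_lit 5, nat_lit 1, nat_lit 4, nat_lit 1, nat_lit 0, nat_lit 4, nat_lit 0, nat_lit 2, nat_lit 4, nat_lit 5, nat_lit 1, nat_lit 4, nat_lit 1, nat_lit 0, nat_lit 4, nat_lit 0, nat_lit 2, nat_lit 4, nat_lit 5, nat_lit 1, nat_lit 4, nat_lit 1, nat_lit 0, nat_lit 4, nat_lit 0, nat_lit 2, nat_lit 4, nat_lit 5, nat_lit 1, nat_lit 4, nat_lit 1, nat_lit 0, nat_lit 4, nat_lit 0, nat_lit 2, nat_lit 4, nat_lit 5, nat_lit 1] else (Wt_1491_1493 j)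
def Wt_1494_1496 (j : ℕ) : List ℕ := bif Nat.blt j 1495 then [nat_lit 63, nat_lit 0, nat_lit 4, nat_lit 1, nat_lit 4, nat_lit 0, nat_lit 2, nat_lit 4, nat_lit 1, nat_lit 4, nat_lit 0, nat_lit 2, nat_lit 4, nat_lit 1, nat_lit 4, nat_lit 2] else [nat_lit 63, nat_lit 4, nat_lit 1, nat_lit 4, nat_lit 2, nat_lit 0, nat_lit 4, nat_lit 1, nat_lit 4, nat_lit 0, nat_lit 2, nat_lit 4, nat_lit 1, nat_lit 4, nat_lit 0, nat_lit 2]
def Wt_1493_1496 (j : ℕ) : List ℕ := bif Nat.blt j 1494 then [nat_lit 0, nat_lit 4, nat_lit 2, nat_lit 0, nat_lit 4, nat_lit 1, nat_lit 5, nat_lit 4, nat_lit 1, nat_lit 0, nat_lit 4, nat_lit 2, nat_lit 0, nat_lit 4, nat_lit 1, nat_lit 5, nat_lit 4, nat_lit 1, nat_lit 0, nat_lit 4, nat_lit 2, nat_lit 0, nat_lit 4, nat_lit 1, nat_lit 5, nat_lit 4, nat_lit 1, nat_lit 0, nat_lit 4, nat_lit 2, nat_lit 0, nat_lit 4, nat_lit 1, nat_lit 5, nat_lit 4, nat_lit 1, nat_lit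 0, nat_lit 4, nat_lit 2, nat_lit 0, nat_lit 4, nat_lit 1, nat_lit 5, nat_lit 4, nat_lit 1] else (Wt_1494_1496 j)
def Wt_1490_1496 (j : ℕ) : List ℕ := bif Nat.blt j 1493 then (Wt_1490_1493 j) else (Wt_1493_1496 j)
def Wt_1484_1496 (j : ℕ) : List ℕ := bif Nat.blt j 1490 then (Wt_1484_1490 j) else (Wt_1490_1496 j)
def Wt_1497_1499 (j : ℕ) : List ℕ := bif Nat.blt j 1498 then [nat_lit 3, nat_lit 1, nat_lit 3, nat_lit 1, nat_lit 3, nat_lit 1, nat_lit 3, nat_lit 1, nat_lit 3, nat_lit 1, nat_lit 3, nat_lit 1, nat_lit 3, nat_lit 1, nat_lit 3, nat_lit 1, nat_lit 3, nat_lit 1, nat_lit 3, nat_lit 1, nat_lit 3, nat_lit 1, nat_lit 3, nat_lit 1, nat_lit 3, nat_lit 1] else [nat_lit 0, nat_lit 4, nat_lit 0, nat_lit 2, nat_lit 4, nat_lit 5, nat_lit 1, nat_lit 4, nat_lit 1, nat_lit 0, nat_lit 4, nat_lit 0, nat_lit 2, nat_lit 4, nat_lit 5, nat_lit 1, nat_lit 4, nat_lit 1, nat_lit 0, nat_lit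 4, nat_lit 0, nat_lit 2, nat_lit 4, nat_lit 5, nat_lit 1, nat_lit 4, nat_lit 1, nat_lit 0, nat_lit 4, nat_lit 0, nat_lit 2, nat_lit 4, nat_lit 5, nat_lit 1, nat_lit 4, nat_lit 1, nat_lit 0, nat_lit 4, nat_lit 0, nat_lit 2, nat_lit 4, nat_lit 5, nat_lit 1, nat_lit 4, nat_lit 1]
def Wt_1496_1499 (j : ℕ) : List ℕ := bif Nat.blt j 1497 then [nat_lit 3, nat_lit 1, nat_lit 4, nat_lit 2, nat_lit 1, nat_lit 2, nat_lit 4, nat_lit 1, nat_lit 3, nat_lit 4, nat_lit 0, nat_lit 4, nat_lit 0, nat_lit 2, nat_lit 4, nat_lit 0, nat_lit 4] else (Wt_1497_1499 j)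
def Wt_1500_1502 (j : ℕ) : List ℕ := bif Nat.blt j 1501 then [nat_lit 5, nat_lit 4, nat_lit 0, nat_lit 1, nat_lit 0, nat_lit 3, nat_lit 4, nat_lit 1, nat_lit 5, nat_lit 4, nat_lit 0, nat_lit 1, nat_lit 0, nat_lit 3, nat_lit 4, nat_lit 1, nat_lit 5, nat_lit 4, nat_lit 0, nat_lit 1, nat_lit 0, nat_lit 3, nat_lit 4, nat_lit 1, nat_lit 5, nat_lit 4, nat_lit 0, nat_lit 1, nat_lit 0, nat_lit 3, nat_lit 4, nat_lit 1, nat_lit 5, nat_lit 4, nat_lit 0, nat_lit 1, nat_lit 0, nat_lit 3, nat_lit 4, nat_lit 1, nat_lit 5, nat_lit 4, nat_lit 0, nat_lit 1, nat_lit 0, nat_lit 3, nat_lit 4, nat_lit 1] else [nat_lit 63, nat_lit 0, nat_lit 1, nat_lit 0, nat_lit 4, nat_lit 1, nat_lit 5, nat_lit 4, nat_lit 3, nat_lit 0, nat_lit 1, nat_lit 0, nat_lit 4, nat_lit 1, nat_lit 5, nat_lit 4, nat_lit 3, nat_lit 0, nat_lit 1, nat_lit 0, nat_lit 4, nat_lit 1, nat_lit 5, nat_lit 4, nat_lit 3, nat_lit 0,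 nat_lit 1, nat_lit 0, nat_lit 4, nat_lit 1, nat_lit 5, nat_lit 4, nat_lit 3, nat_lit 0, nat_lit 1, nat_lit 0, nat_lit 4, nat_lit 1, nat_lit 5, nat_lit 4, nat_lit 3, nat_lit 0, nat_lit 1, nat_lit 0, nat_lit 4, nat_lit 1, nat_lit 5, nat_lit 4, nat_lit 3]
def Wt_1499_1502 (j : ℕ) : List ℕ := bif Nat.blt j 1500 then [nat_lit 0, nat_lit 4, nat_lit 3, nat_lit 4, nat_lit 1, nat_lit 0, nat_lit 5, nat_lit 4, nat_lit 0, nat_lit 4, nat_lit 3, nat_lit 4, nat_lit 1, nat_lit 0, nat_lit 5, nat_lit 4, nat_lit 0, nat_lit 4, nat_lit 3, nat_lit 4, nat_lit 1, nat_lit 0, nat_lit 5, nat_lit 4, nat_lit 0, nat_lit 4, nat_lit 3, nat_lit 4, nat_lit 1, nat_lit 0, nat_lit 5, nat_lit 4, nat_lit 0, nat_lit 4, nat_lit 3, nat_lit 4, nat_lit 1, nat_lit 0, nat_lit 5, nat_lit 4] else (Wt_1500_1502 j)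
def Wt_1496_1502 (j : ℕ) : List ℕ := bif Nat.blt j 1499 then (Wt_1496_1499 j) else (Wt_1499_1502 j)
def Wt_1503_1505 (j : ℕ) : List ℕ := bif Nat.blt j 1504 then [nat_lit 4, nat_lit 2, nat_lit 4, nat_lit 3, nat_lit 4, nat_lit 2, nat_lit 4, nat_lit 2, nat_lit 4, nat_lit 3, nat_lit 4, nat_lit 1, nat_lit 2, nat_lit 1, nat_lit 3, nat_lit 0, nat_lit 3] else [nat_lit 1, nat_lit 5, nat_lit 4, nat_lit 1, nat_lit 0, nat_lit 4, nat_lit 2, nat_lit 0, nat_lit 4, nat_lit 1, nat_lit 5, nat_lit 4, nat_lit 1, nat_lit 0, nat_lit 4, nat_lit 2, nat_lit 0, nat_lit 4, nat_lit 1, nat_lit 5, nat_lit 4, nat_lit 1, nat_lit 0, nat_lit 4, nat_lit 2, nat_lit 0, nat_lit 4, nat_lit 1, nat_lit 5, nat_lit 4, nat_lit 1, nat_lit 0, nat_lit 4, nat_lit 2, nat_lit 0, nat_lit 4, nat_lit 1, nat_lit 5, nat_lit 4, nat_lit 1, nat_lit 0, nat_lit 4, nat_lit 2, nat_lit 0, nat_lit 4]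
def Wt_1502_1505 (j : ℕ) : List ℕ := bif Nat.blt j 1503 then [nat_lit 4, nat_lit 2, nat_lit 0, nat_lit 4, nat_lit 2, nat_lit 0, nat_lit 4, nat_lit 0, nat_lit 2, nat_lit 4, nat_lit 0, nat_lit 2, nat_lit 4, nat_lit 0, nat_lit 3, nat_lit 2, nat_lit 3] else (Wt_1503_1505 j)
def Wt_1505_1507 (j : ℕ) : List ℕ := bif Nat.blt j 1506 then [nat_lit 4, nat_lit 3, nat_lit 0, nat_lit 1, nat_lit 0, nat_lit 4, nat_lit 1, nat_lit 5, nat_lit 4, nat_lit 3, nat_lit 0, nat_lit 1, nat_lit 0, nat_lit 4, nat_lit 1, nat_lit 5, nat_lit 4, nat_lit 3, nat_lit 0, nat_lit 1, nat_lit 0, nat_lit 4, nat_lit 1, nat_lit 5, nat_lit 4, nat_lit 3, nat_lit 0, nat_lit 1, nat_lit 0, nat_lit 4, nat_lit 1, nat_lit 5, nat_lit 4, nat_lit 3, nat_lit 0, nat_lit 1, nat_lit 0, nat_lit 4, nat_lit 1, nat_lit 5, nat_lit 4, nat_lit 3, nat_lit 0, nat_lit 1, nat_lit 0, nat_lit 4, nat_lit 1, nat_lit 5] else [nat_lit 1, nat_lit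 4, nat_lit 1, nat_lit 4, nat_lit 2, nat_lit 4, nat_lit 3, nat_lit 4, nat_lit 2, nat_lit 1, nat_lit 4, nat_lit 1, nat_lit 2, nat_lit 4, nat_lit 2, nat_lit 4, nat_lit 2]
def Wt_1507_1509 (j : ℕ) : List ℕ := bif Nat.blt j 1508 then [nat_lit 4, nat_lit 5, nat_lit 1, nat_lit 4, nat_lit 0, nat_lit 2, nat_lit 4, nat_lit 0, nat_lit 1, nat_lit 4, nat_lit 5, nat_lit 1, nat_lit 4, nat_lit 0, nat_lit 2, nat_lit 4, nat_lit 0, nat_lit 1, nat_lit 4, nat_lit 5, nat_lit 1, nat_lit 4, nat_lit 0, nat_lit 2, nat_lit 4, nat_lit 0, nat_lit 1, nat_lit 4, nat_lit 5, nat_lit 1, nat_lit 4, nat_lit 0, nat_lit 2, nat_lit 4, nat_lit 0, nat_lit 1, nat_lit 4, nat_lit 5, nat_lit 1, nat_lit 4, nat_lit 0, nat_lit 2, nat_lit 4, nat_lit 0, nat_lit 1] else [nat_lit 63, nat_lit 1, nat_lit 4, nat_lit 0, nat_lit 2, nat_lit 4, nat_lit 1, nat_lit 4, nat_lit 2, nat_lit 0, nat_lit 4, nat_lit 1, nat_lit 4, nat_lit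 0, nat_lit 2, nat_lit 4]
def Wt_1505_1509 (j : ℕ) : List ℕ := bif Nat.blt j 1507 then (Wt_1505_1507 j) else (Wt_1507_1509 j)
def Wt_1502_1509 (j : ℕ) : List ℕ := bif Nat.blt j 1505 then (Wt_1502_1505 j) else (Wt_1505_1509 j)
def Wt_1496_1509 (j : ℕ) : List ℕ := bif Nat.blt j 1502 then (Wt_1496_1502 j) else (Wt_1502_1509 j)
def Wt_1484_1509 (j : ℕ) : List ℕ := bif Nat.blt j 1496 then (Wt_1484_1496 j) else (Wt_1496_1509 j)
def Wt_1460_1509 (j : ℕ) : List ℕ := bif Nat.blt j 1484 then (Wt_1460_1484 j) else (Wt_1484_1509 j)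
def Wt_1510_1512 (j : ℕ) : List ℕ := bif Nat.blt j 1511 then [nat_lit 2, nat_lit 4, nat_lit 1, nat_lit 4, nat_lit 2, nat_lit 1, nat_lit 4, nat_lit 1, nat_lit 4, nat_lit 1, nat_lit 2, nat_lit 4, nat_lit 1, nat_lit 4, nat_lit 2, nat_lit 0] else [nat_lit 5, nat_lit 1, nat_lit 4, nat_lit 0, nat_lit 2, nat_lit 4, nat_lit 0, nat_lit 1, nat_lit 4, nat_lit 5, nat_lit 1, nat_lit 4, nat_lit 0, nat_lit 2, nat_lit 4, nat_lit 0, nat_lit 1, nat_lit 4, nat_lit 5, nat_lit 1, nat_lit 4, nat_lit 0, nat_lit 2, nat_lit 4, nat_lit 0, nat_lit 1, nat_lit 4, nat_lit 5, nat_lit 1, nat_lit 4, nat_lit 0, nat_lit 2, nat_lit 4, nat_lit 0, nat_lit 1, nat_lit 4, nat_lit 5, nat_lit 1, nat_lit 4, nat_lit 0, nat_lit 2, nat_lit 4, nat_lit 0, nat_lit 1, nat_lit 4]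
def Wt_1509_1512 (j : ℕ) : List ℕ := bif Nat.blt j 1510 then [nat_lit 0, nat_lit 2, nat_lit 4, nat_lit 0, nat_lit 1, nat_lit 4, nat_lit 5, nat_lit 1, nat_lit 4, nat_lit 0, nat_lit 2, nat_lit 4, nat_lit 0, nat_lit 1, nat_lit 4, nat_lit 5, nat_lit 1, nat_lit 4, nat_lit 0, nat_lit 2, nat_lit 4, nat_lit 0, nat_lit 1, nat_lit 4, nat_lit 5, nat_lit 1, nat_lit 4, nat_lit 0, nat_lit 2, nat_lit 4, nat_lit 0, nat_lit 1, nat_lit 4, nat_lit 5, nat_lit 1, nat_lit 4, nat_lit 0, nat_lit 2, nat_lit 4, nat_lit 0, nat_lit 1, nat_lit 4, nat_lit 5, nat_lit 1, nat_lit 4] else (Wt_1510_1512 j)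
def Wt_1513_1515 (j : ℕ) : List ℕ := bif Nat.blt j 1514 then [nat_lit 1, nat_lit 0, nat_lit 3, nat_lit 0, nat_lit 3, nat_lit 0, nat_lit 3, nat_lit 1, nat_lit 0, nat_lit 3, nat_lit 0, nat_lit 3, nat_lit 0, nat_lit 3, nat_lit 1, nat_lit 0, nat_lit 3, nat_lit 0, nat_lit 3, nat_lit 0, nat_lit 3] else [nat_lit 4, nat_lit 1, nat_lit 4, nat_lit 0, nat_lit 4, nat_lit 1, nat_lit 4, nat_lit 1, nat_lit 3, nat_lit 0, nat_lit 2, nat_lit 3, nat_lit 4, nat_lit 1, nat_lit 4, nat_lit 1, nat_lit 2]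
def Wt_1512_1515 (j : ℕ) : List ℕ := bif Nat.blt j 1513 then [nat_lit 4, nat_lit 1, nat_lit 4, nat_lit 5, nat_lit 0, nat_lit 4, nat_lit 1, nat_lit 4, nat_lit 5, nat_lit 0, nat_lit 4, nat_lit 1, nat_lit 4, nat_lit 5, nat_lit 0, nat_lit 4, nat_lit 1, nat_lit 4, nat_lit 5, nat_lit 0] else (Wt_1513_1515 j)
def Wt_1509_1515 (j : ℕ) : List ℕ := bif Nat.blt j 1512 then (Wt_1509_1512 j) else (Wt_1512_1515 j)
def Wt_1516_1518 (j : ℕ) : List ℕ := bif Nat.blt j 1517 then [nat_lit 1, nat_lit 4, nat_lit 1, nat_lit 2, nat_lit 1, nat_lit 4, nat_lit 0, nat_lit 1, nat_lit 4, nat_lit 2, nat_lit 3, nat_lit 4, nat_lit 1, nat_lit 0, nat_lit 4, nat_lit 1, nat_lit 2] else [nat_lit 4, nat_lit 2, nat_lit 4, nat_lit 3, nat_lit 2, nat_lit 4, nat_lit 3, nat_lit 0, nat_lit 3, nat_lit 1, nat_lit 4, nat_lit 2, nat_lit 3, nat_lit 4, nat_lit 2, nat_lit 4, nat_lit 1]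
def Wt_1515_1518 (j : ℕ) : List ℕ := bif Nat.blt j 1516 then [nat_lit 4, nat_lit 0, nat_lit 2, nat_lit 4, nat_lit 5, nat_lit 1, nat_lit 4, nat_lit 1, nat_lit 0, nat_lit 4, nat_lit 0, nat_lit 2, nat_lit 4, nat_lit 5, nat_lit 1, nat_lit 4, nat_lit 1, nat_lit 0, nat_lit 4, nat_lit 0, nat_lit 2, nat_lit 4, nat_lit 5, nat_lit 1, nat_lit 4, nat_lit 1, nat_lit 0, nat_lit 4, nat_lit 0, nat_lit 2, nat_lit 4, nat_lit 5, nat_lit 1, nat_lit 4, nat_lit 1, nat_lit 0, nat_lit 4, nat_lit 0, nat_lit 2, nat_lit 4, nat_lit 5, nat_lit 1, nat_lit 4, nat_lit 1, nat_lit 0] else (Wt_1516_1518 j)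
def Wt_1519_1521 (j : ℕ) : List ℕ := bif Nat.blt j 1520 then [nat_lit 5, nat_lit 1, nat_lit 2, nat_lit 4, nat_lit 2, nat_lit 4, nat_lit 2, nat_lit 3, nat_lit 4, nat_lit 5, nat_lit 1, nat_lit 2, nat_lit 4, nat_lit 2, nat_lit 4, nat_lit 2, nat_lit 3, nat_lit 4, nat_lit 5, nat_lit 1, nat_lit 2, nat_lit 4, nat_lit 2, nat_lit 4, nat_lit 2, nat_lit 3, nat_lit 4, nat_lit 5, nat_lit 1, nat_lit 2, nat_lit 4, nat_lit 2, nat_lit 4, nat_lit 2, nat_lit 3, nat_lit 4, nat_lit 5, nat_lit 1, nat_lit 2, nat_lit 4, nat_lit 2, nat_lit 4, nat_lit 2, nat_lit 3, nat_lit 4, nat_lit 5, nat_lit 1, nat_lit 2, nat_lit 4, nat_lit 2, nat_lit 4, nat_lit 2, nat_lit 3, nat_lit 4] else [nat_lit 2, nat_lit 5, nat_lit 1, nat_lit 2, nat_lit 4, nat_lit 2, nat_lit 5, nat_lit 1, nat_lit 2, nat_lit 4, nat_lit 2, nat_lit 5, nat_lit 1, nat_lit 2, nat_lit 4, nat_lit 2, nat_lit 5, nat_lit 1, nat_lit 2, nat_lit 4,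 nat_lit 2, nat_lit 5, nat_lit 1, nat_lit 2, nat_lit 4, nat_lit 2, nat_lit 5, nat_lit 1, nat_lit 2, nat_lit 4]
def Wt_1518_1521 (j : ℕ) : List ℕ := bif Nat.blt j 1519 then [nat_lit 63, nat_lit 2, nat_lit 4, nat_lit 3, nat_lit 4, nat_lit 2, nat_lit 4, nat_lit 3, nat_lit 0, nat_lit 3, nat_lit 1, nat_lit 2, nat_lit 1, nat_lit 4, nat_lit 3, nat_lit 4, nat_lit 2, nat_lit 4] else (Wt_1519_1521 j)
def Wt_1515_1521 (j : ℕ) : List ℕ := bif Nat.blt j 1518 then (Wt_1515_1518 j) else (Wt_1518_1521 j)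
def Wt_1509_1521 (j : ℕ) : List ℕ := bif Nat.blt j 1515 then (Wt_1509_1515 j) else (Wt_1515_1521 j)
def Wt_1522_1524 (j : ℕ) : List ℕ := bif Nat.blt j 1523 then [nat_lit 1, nat_lit 5, nat_lit 4, nat_lit 3, nat_lit 0, nat_lit 1, nat_lit 0, nat_lit 4, nat_lit 1, nat_lit 5, nat_lit 4, nat_lit 3, nat_lit 0, nat_lit 1, nat_lit 0, nat_lit 4, nat_lit 1, nat_lit 5, nat_lit 4, nat_lit 3, nat_lit 0, nat_lit 1, nat_lit 0, nat_lit 4, nat_lit 1, nat_lit 5, nat_lit 4, nat_lit 3, nat_lit 0, nat_lit 1, nat_lit 0, nat_lit 4, nat_lit 1, nat_lit 5, nat_lit 4, nat_lit 3, nat_lit 0, nat_lit 1, nat_lit 0, nat_lit 4, nat_lit 1, nat_lit 5, nat_lit 4, nat_lit 3, nat_lit 0, nat_lit 1, nat_lit 0, nat_lit 4] else [nat_lit 3, nat_lit 0, nat_lit 3, nat_lit 5, nat_lit 4, nat_lit 0, nat_lit 4, nat_lit 3, nat_lit 0, nat_lit 3, nat_lit 5, nat_lit 4, nat_lit 0, nat_lit 4, nat_lit 3, nat_lit 0, nat_lit 3,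 nat_lit 5, nat_lit 4, nat_lit 0, nat_lit 4, nat_lit 3, nat_lit 0, nat_lit 3, nat_lit 5, nat_lit 4, nat_lit 0, nat_lit 4, nat_lit 3, nat_lit 0, nat_lit 3, nat_lit 5, nat_lit 4, nat_lit 0, nat_lit 4]
def Wt_1521_1524 (j : ℕ) : List ℕ := bif Nat.blt j 1522 then [nat_lit 1, nat_lit 0, nat_lit 5, nat_lit 4, nat_lit 0, nat_lit 4, nat_lit 3, nat_lit 4, nat_lit 1, nat_lit 0, nat_lit 5, nat_lit 4, nat_lit 0, nat_lit 4, nat_lit 3, nat_lit 4, nat_lit 1, nat_lit 0, nat_lit 5, nat_lit 4, nat_lit 0, nat_lit 4, nat_lit 3, nat_lit 4, nat_lit 1, nat_lit 0, nat_lit 5, nat_lit 4, nat_lit 0, nat_lit 4, nat_lit 3, nat_lit 4, nat_lit 1, nat_lit 0, nat_lit 5, nat_lit 4, nat_lit 0, nat_lit 4, nat_lit 3, nat_lit 4] else (Wt_1522_1524 j)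
def Wt_1525_1527 (j : ℕ) : List ℕ := bif Nat.blt j 1526 then [nat_lit 4, nat_lit 0, nat_lit 3, nat_lit 4, nat_lit 0, nat_lit 3, nat_lit 0, nat_lit 4, nat_lit 3, nat_lit 0, nat_lit 4, nat_lit 3, nat_lit 4, nat_lit 2, nat_lit 3, nat_lit 4, nat_lit 3] else [nat_lit 1, nat_lit 4, nat_lit 0, nat_lit 2, nat_lit 4, nat_lit 0, nat_lit 1, nat_lit 4, nat_lit 5, nat_lit 1, nat_lit 4, nat_lit 0, nat_lit 2, nat_lit 4, nat_lit 0, nat_lit 1, nat_lit 4, nat_lit 5, nat_lit 1, nat_lit 4, nat_lit 0, nat_lit 2, nat_lit 4, nat_lit 0, nat_lit 1, nat_lit 4, nat_lit 5, nat_lit 1, nat_lit 4, nat_lit 0, nat_lit 2, nat_lit 4, nat_lit 0, nat_lit 1, nat_lit 4, nat_lit 5, nat_lit 1, nat_lit 4, nat_lit 0, nat_lit 2, nat_lit 4, nat_lit 0, nat_lit 1, nat_lit 4, nat_lit 5]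
def Wt_1524_1527 (j : ℕ) : List ℕ := bif Nat.blt j 1525 then [nat_lit 63, nat_lit 2, nat_lit 4, nat_lit 2, nat_lit 1, nat_lit 5, nat_lit 4, nat_lit 3, nat_lit 2, nat_lit 4, nat_lit 2, nat_lit 4, nat_lit 2, nat_lit 1, nat_lit 5, nat_lit 4, nat_lit 3, nat_lit 2, nat_lit 4, nat_lit 2, nat_lit 4, nat_lit 2, nat_lit 1, nat_lit 5, nat_lit 4, nat_lit 3, nat_lit 2, nat_lit 4, nat_lit 2, nat_lit 4, nat_lit 2, nat_lit 1, nat_lit 5, nat_lit 4, nat_lit 3, nat_lit 2, nat_lit 4, nat_lit 2, nat_lit 4, nat_lit 2, nat_lit 1, nat_lit 5, nat_lit 4, nat_lit 3, nat_lit 2, nat_lit 4, nat_lit 2, nat_lit 4, nat_lit 2, nat_lit 1, nat_lit 5, nat_lit 4, nat_lit 3, nat_lit 2, nat_lit 4] else (Wt_1525_1527 j)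
def Wt_1521_1527 (j : ℕ) : List ℕ := bif Nat.blt j 1524 then (Wt_1521_1524 j) else (Wt_1524_1527 j)
def Wt_1528_1530 (j : ℕ) : List ℕ := bif Nat.blt j 1529 then [nat_lit 63, nat_lit 4, nat_lit 2, nat_lit 0, nat_lit 4, nat_lit 0, nat_lit 1, nat_lit 4, nat_lit 1, nat_lit 5, nat_lit 4, nat_lit 2, nat_lit 0, nat_lit 4, nat_lit 0, nat_lit 1, nat_lit 4, nat_lit 1, nat_lit 5, nat_lit 4, nat_lit 2, nat_lit 0, nat_lit 4, nat_lit 0, nat_lit 1, nat_lit 4, nat_lit 1, nat_lit 5, nat_lit 4, nat_lit 2, nat_lit 0, nat_lit 4, nat_lit 0, nat_lit 1, nat_lit 4, nat_lit 1, nat_lit 5, nat_lit 4, nat_lit 2, nat_lit 0, nat_lit 4, nat_lit 0, nat_lit 1, nat_lit 4, nat_lit 1, nat_lit 5] else [nat_lit 1, nat_lit 0, nat_lit 3, nat_lit 4, nat_lit 1, nat_lit 5, nat_lit 4, nat_lit 0, nat_lit 1, nat_lit 0, nat_lit 3, nat_lit 4, nat_lit 1, nat_lit 5, nat_lit 4, nat_lit 0, nat_lit 1, nat_lit 0, nat_lit 3,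 nat_lit 4, nat_lit 1, nat_lit 5, nat_lit 4, nat_lit 0, nat_lit 1, nat_lit 0, nat_lit 3, nat_lit 4, nat_lit 1, nat_lit 5, nat_lit 4, nat_lit 0, nat_lit 1, nat_lit 0, nat_lit 3, nat_lit 4, nat_lit 1, nat_lit 5, nat_lit 4, nat_lit 0, nat_lit 1, nat_lit 0, nat_lit 3, nat_lit 4, nat_lit 1, nat_lit 5, nat_lit 4, nat_lit 0]
def Wt_1527_1530 (j : ℕ) : List ℕ := bif Nat.blt j 1528 then [nat_lit 63, nat_lit 5, nat_lit 4, nat_lit 0, nat_lit 1, nat_lit 0, nat_lit 3, nat_lit 4, nat_lit 1, nat_lit 5, nat_lit 4, nat_lit 0, nat_lit 1, nat_lit 0, nat_lit 3, nat_lit 4, nat_lit 1, nat_lit 5, nat_lit 4, nat_lit 0, nat_lit 1, nat_lit 0, nat_lit 3, nat_lit 4, nat_lit 1, nat_lit 5, nat_lit 4, nat_lit 0, nat_lit 1, nat_lit 0, nat_lit 3, nat_lit 4, nat_lit 1, nat_lit 5, nat_lit 4, nat_lit 0, nat_lit 1, nat_lit 0, nat_lit 3, nat_lit 4, nat_lit 1, nat_lit 5, nat_lit 4, nat_lit 0, nat_lit 1, nat_lit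 0, nat_lit 3, nat_lit 4, nat_lit 1] else (Wt_1528_1530 j)
def Wt_1531_1533 (j : ℕ) : List ℕ := bif Nat.blt j 1532 then [nat_lit 5, nat_lit 0, nat_lit 1, nat_lit 4, nat_lit 3, nat_lit 4, nat_lit 0, nat_lit 4, nat_lit 5, nat_lit 0, nat_lit 1, nat_lit 4, nat_lit 3, nat_lit 4, nat_lit 0, nat_lit 4, nat_lit 5, nat_lit 0, nat_lit 1, nat_lit 4, nat_lit 3, nat_lit 4, nat_lit 0, nat_lit 4, nat_lit 5, nat_lit 0, nat_lit 1, nat_lit 4, nat_lit 3, nat_lit 4, nat_lit 0, nat_lit 4, nat_lit 5, nat_lit 0, nat_lit 1, nat_lit 4, nat_lit 3, nat_lit 4, nat_lit 0, nat_lit 4] else [nat_lit 63, nat_lit 5, nat_lit 4, nat_lit 0, nat_lit 4, nat_lit 3, nat_lit 4, nat_lit 1, nat_lit 0, nat_lit 5, nat_lit 4, nat_lit 0, nat_lit 4, nat_lit 3, nat_lit 4, nat_lit 1, nat_lit 0, nat_lit 5, nat_lit 4, nat_lit 0, nat_lit 4, nat_lit 3, nat_lit 4, nat_lit 1, nat_lit 0, nat_lit 5, nat_lit 4, nat_lit 0, nat_lit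 4, nat_lit 3, nat_lit 4, nat_lit 1, nat_lit 0, nat_lit 5, nat_lit 4, nat_lit 0, nat_lit 4, nat_lit 3, nat_lit 4, nat_lit 1, nat_lit 0]
def Wt_1530_1533 (j : ℕ) : List ℕ := bif Nat.blt j 1531 then [nat_lit 2, nat_lit 4, nat_lit 3, nat_lit 0, nat_lit 3, nat_lit 1, nat_lit 2, nat_lit 1, nat_lit 4, nat_lit 3, nat_lit 4, nat_lit 2, nat_lit 4, nat_lit 2, nat_lit 4, nat_lit 3, nat_lit 4] else (Wt_1531_1533 j)
def Wt_1527_1533 (j : ℕ) : List ℕ := bif Nat.blt j 1530 then (Wt_1527_1530 j) else (Wt_1530_1533 j)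
def Wt_1521_1533 (j : ℕ) : List ℕ := bif Nat.blt j 1527 then (Wt_1521_1527 j) else (Wt_1527_1533 j)
def Wt_1509_1533 (j : ℕ) : List ℕ := bif Nat.blt j 1521 then (Wt_1509_1521 j) else (Wt_1521_1533 j)
def Wt_1534_1536 (j : ℕ) : List ℕ := bif Nat.blt j 1535 then [nat_lit 5, nat_lit 4, nat_lit 3, nat_lit 0, nat_lit 1, nat_lit 0, nat_lit 4, nat_lit 1, nat_lit 5, nat_lit 4, nat_lit 3, nat_lit 0, nat_lit 1, nat_lit 0, nat_lit 4, nat_lit 1, nat_lit 5, nat_lit 4, nat_lit 3, nat_lit 0, nat_lit 1, nat_lit 0, nat_lit 4, nat_lit 1, nat_lit 5, nat_lit 4, nat_lit 3, nat_lit 0, nat_lit 1, nat_lit 0, nat_lit 4, nat_lit 1, nat_lit 5, nat_lit 4, nat_lit 3, nat_lit 0, nat_lit 1, nat_lit 0, nat_lit 4, nat_lit 1, nat_lit 5, nat_lit 4, nat_lit 3, nat_lit 0, nat_lit 1, nat_lit 0, nat_lit 4, nat_lit 1] else [nat_lit 5, nat_lit 1, nat_lit 4, nat_lit 0, nat_lit 1, nat_lit 0, nat_lit 3, nat_lit 4,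 nat_lit 5, nat_lit 1, nat_lit 4, nat_lit 0, nat_lit 1, nat_lit 0, nat_lit 3, nat_lit 4, nat_lit 5, nat_lit 1, nat_lit 4, nat_lit 0, nat_lit 1, nat_lit 0, nat_lit 3, nat_lit 4, nat_lit 5, nat_lit 1, nat_lit 4, nat_lit 0, nat_lit 1, nat_lit 0, nat_lit 3, nat_lit 4, nat_lit 5, nat_lit 1, nat_lit 4, nat_lit 0, nat_lit 1, nat_lit 0, nat_lit 3, nat_lit 4, nat_lit 5, nat_lit 1, nat_lit 4, nat_lit 0, nat_lit 1, nat_lit 0, nat_lit 3, nat_lit 4]
def Wt_1533_1536 (j : ℕ) : List ℕ := bif Nat.blt j 1534 then [nat_lit 63, nat_lit 4, nat_lit 0, nat_lit 1, nat_lit 4, nat_lit 1, nat_lit 5, nat_lit 4, nat_lit 2, nat_lit 0, nat_lit 4, nat_lit 0, nat_lit 1, nat_lit 4, nat_lit 1, nat_lit 5, nat_lit 4, nat_lit 2, nat_lit 0, nat_lit 4, nat_lit 0, nat_lit 1, nat_lit 4, nat_lit 1, nat_lit 5, nat_lit 4, nat_lit 2, nat_lit 0, nat_lit 4, nat_lit 0, nat_lit 1, nat_lit 4, nat_lit 1, nat_lit 5, nat_lit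 4, nat_lit 2, nat_lit 0, nat_lit 4, nat_lit 0, nat_lit 1, nat_lit 4, nat_lit 1, nat_lit 5, nat_lit 4, nat_lit 2, nat_lit 0] else (Wt_1534_1536 j)
def Wt_1537_1539 (j : ℕ) : List ℕ := bif Nat.blt j 1538 then [nat_lit 63, nat_lit 1, nat_lit 0, nat_lit 5, nat_lit 4, nat_lit 0, nat_lit 4, nat_lit 3, nat_lit 4, nat_lit 1, nat_lit 0, nat_lit 5, nat_lit 4, nat_lit 0, nat_lit 4, nat_lit 3, nat_lit 4, nat_lit 1, nat_lit 0, nat_lit 5, nat_lit 4, nat_lit 0, nat_lit 4, nat_lit 3, nat_lit 4, nat_lit 1, nat_lit 0, nat_lit 5, nat_lit 4, nat_lit 0, nat_lit 4, nat_lit 3, nat_lit 4, nat_lit 1, nat_lit 0, nat_lit 5, nat_lit 4, nat_lit 0, nat_lit 4, nat_lit 3, nat_lit 4] else [nat_lit 63, nat_lit 0, nat_lit 3, nat_lit 4, nat_lit 1, nat_lit 5, nat_lit 4, nat_lit 0, nat_lit 1, nat_lit 0, nat_lit 3, nat_lit 4, nat_lit 1, nat_lit 5, nat_lit 4, nat_lit 0, nat_lit 1, nat_lit 0, nat_lit 3, nat_lit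 4, nat_lit 1, nat_lit 5, nat_lit 4, nat_lit 0, nat_lit 1, nat_lit 0, nat_lit 3, nat_lit 4, nat_lit 1, nat_lit 5, nat_lit 4, nat_lit 0, nat_lit 1, nat_lit 0, nat_lit 3, nat_lit 4, nat_lit 1, nat_lit 5, nat_lit 4, nat_lit 0, nat_lit 1, nat_lit 0, nat_lit 3, nat_lit 4, nat_lit 1, nat_lit 5, nat_lit 4, nat_lit 0, nat_lit 1]
def Wt_1536_1539 (j : ℕ) : List ℕ := bif Nat.blt j 1537 then [nat_lit 4, nat_lit 3, nat_lit 4, nat_lit 3, nat_lit 4, nat_lit 5, nat_lit 2, nat_lit 4, nat_lit 3, nat_lit 4, nat_lit 3, nat_lit 4, nat_lit 5, nat_lit 2, nat_lit 4, nat_lit 3, nat_lit 4, nat_lit 3, nat_lit 4, nat_lit 5, nat_lit 2, nat_lit 4, nat_lit 3, nat_lit 4, nat_lit 3, nat_lit 4, nat_lit 5, nat_lit 2, nat_lit 4, nat_lit 3, nat_lit 4, nat_lit 3, nat_lit 4, nat_lit 5, nat_lit 2] else (Wt_1537_1539 j)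
def Wt_1533_1539 (j : ℕ) : List ℕ := bif Nat.blt j 1536 then (Wt_1533_1536 j) else (Wt_1536_1539 j)
def Wt_1540_1542 (j : ℕ) : List ℕ := bif Nat.blt j 1541 then [nat_lit 4, nat_lit 1, nat_lit 5, nat_lit 0, nat_lit 1, nat_lit 0, nat_lit 1, nat_lit 4, nat_lit 1, nat_lit 5, nat_lit 0, nat_lit 1, nat_lit 0, nat_lit 1, nat_lit 4, nat_lit 1, nat_lit 5, nat_lit 0, nat_lit 1, nat_lit 0, nat_lit 1, nat_lit 4, nat_lit 1, nat_lit 5, nat_lit 0, nat_lit 1, nat_lit 0, nat_lit 1] else [nat_lit 63, nat_lit 4, nat_lit 1, nat_lit 5, nat_lit 4, nat_lit 0, nat_lit 1, nat_lit 0, nat_lit 3, nat_lit 4, nat_lit 1, nat_lit 5, nat_lit 4, nat_lit 0, nat_lit 1, nat_lit 0, nat_lit 3, nat_lit 4, nat_lit 1, nat_lit 5, nat_lit 4, nat_lit 0, nat_lit 1, nat_lit 0, nat_lit 3, nat_lit 4, nat_lit 1, nat_lit 5, nat_lit 4, nat_lit 0, nat_lit 1, nat_lit 0, nat_lit 3, nat_lit 4, nat_lit 1, nat_lit 5, nat_lit 4,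 nat_lit 0, nat_lit 1, nat_lit 0, nat_lit 3, nat_lit 4, nat_lit 1, nat_lit 5, nat_lit 4, nat_lit 0, nat_lit 1, nat_lit 0, nat_lit 3]
def Wt_1539_1542 (j : ℕ) : List ℕ := bif Nat.blt j 1540 then [nat_lit 63, nat_lit 3, nat_lit 0, nat_lit 3, nat_lit 0, nat_lit 1, nat_lit 3, nat_lit 2, nat_lit 3, nat_lit 0, nat_lit 3, nat_lit 0, nat_lit 1, nat_lit 3, nat_lit 2, nat_lit 3, nat_lit 0, nat_lit 3, nat_lit 0, nat_lit 1, nat_lit 3, nat_lit 2] else (Wt_1540_1542 j)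
def Wt_1543_1545 (j : ℕ) : List ℕ := bif Nat.blt j 1544 then [nat_lit 1, nat_lit 5, nat_lit 4, nat_lit 2, nat_lit 0, nat_lit 4, nat_lit 0, nat_lit 1, nat_lit 4, nat_lit 1, nat_lit 5, nat_lit 4, nat_lit 2, nat_lit 0, nat_lit 4, nat_lit 0, nat_lit 1, nat_lit 4, nat_lit 1, nat_lit 5, nat_lit 4, nat_lit 2, nat_lit 0, nat_lit 4, nat_lit 0, nat_lit 1, nat_lit 4, nat_lit 1, nat_lit 5, nat_lit 4, nat_lit 2, nat_lit 0, nat_lit 4, nat_lit 0, nat_lit 1, nat_lit 4, nat_lit 1, nat_lit 5, nat_lit 4, nat_lit 2, nat_lit 0, nat_lit 4, nat_lit 0, nat_lit 1, nat_lit 4] else [nat_lit 1, nat_lit 2, nat_lit 1, nat_lit 3, nat_lit 1, nat_lit 0, nat_lit 1, nat_lit 2, nat_lit 1, nat_lit 3, nat_lit 1, nat_lit 0, nat_lit 1, nat_lit 2, nat_lit 1, nat_lit 3, nat_lit 1, nat_lit 0]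
def Wt_1542_1545 (j : ℕ) : List ℕ := bif Nat.blt j 1543 then [nat_lit 63, nat_lit 5, nat_lit 4, nat_lit 3, nat_lit 0, nat_lit 1, nat_lit 0, nat_lit 4, nat_lit 1, nat_lit 5, nat_lit 4, nat_lit 3, nat_lit 0, nat_lit 1, nat_lit 0, nat_lit 4, nat_lit 1, nat_lit 5, nat_lit 4, nat_lit 3, nat_lit 0, nat_lit 1, nat_lit 0, nat_lit 4, nat_lit 1, nat_lit 5, nat_lit 4, nat_lit 3, nat_lit 0, nat_lit 1, nat_lit 0, nat_lit 4, nat_lit 1, nat_lit 5, nat_lit 4, nat_lit 3, nat_lit 0, nat_lit 1, nat_lit 0, nat_lit 4, nat_lit 1, nat_lit 5, nat_lit 4, nat_lit 3, nat_lit 0, nat_lit 1, nat_lit 0, nat_lit 4, nat_lit 1] else (Wt_1543_1545 j)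
def Wt_1539_1545 (j : ℕ) : List ℕ := bif Nat.blt j 1542 then (Wt_1539_1542 j) else (Wt_1542_1545 j)
def Wt_1533_1545 (j : ℕ) : List ℕ := bif Nat.blt j 1539 then (Wt_1533_1539 j) else (Wt_1539_1545 j)
def Wt_1546_1548 (j : ℕ) : List ℕ := bif Nat.blt j 1547 then [nat_lit 1, nat_lit 2, nat_lit 4, nat_lit 2, nat_lit 4, nat_lit 2, nat_lit 3, nat_lit 4, nat_lit 5, nat_lit 1, nat_lit 2, nat_lit 4, nat_lit 2, nat_lit 4, nat_lit 2, nat_lit 3, nat_lit 4, nat_lit 5, nat_lit 1, nat_lit 2, nat_lit 4, nat_lit 2, nat_lit 4, nat_lit 2, nat_lit 3, nat_lit 4, nat_lit 5, nat_lit 1, nat_lit 2, nat_lit 4, nat_lit 2, nat_lit 4, nat_lit 2, nat_lit 3, nat_lit 4, nat_lit 5, nat_lit 1, nat_lit 2, nat_lit 4, nat_lit 2, nat_lit 4, nat_lit 2, nat_lit 3, nat_lit 4, nat_lit 5, nat_lit 1, nat_lit 2, nat_lit 4, nat_lit 2, nat_lit 4, nat_lit 2, nat_lit 3, nat_lit 4, nat_lit 5] else [nat_lit 4, nat_lit 2,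 nat_lit 1, nat_lit 5, nat_lit 4, nat_lit 3, nat_lit 2, nat_lit 4, nat_lit 2, nat_lit 4, nat_lit 2, nat_lit 1, nat_lit 5, nat_lit 4, nat_lit 3, nat_lit 2, nat_lit 4, nat_lit 2, nat_lit 4, nat_lit 2, nat_lit 1, nat_lit 5, nat_lit 4, nat_lit 3, nat_lit 2, nat_lit 4, nat_lit 2, nat_lit 4, nat_lit 2, nat_lit 1, nat_lit 5, nat_lit 4, nat_lit 3, nat_lit 2, nat_lit 4, nat_lit 2, nat_lit 4, nat_lit 2, nat_lit 1, nat_lit 5, nat_lit 4, nat_lit 3, nat_lit 2, nat_lit 4, nat_lit 2, nat_lit 4, nat_lit 2, nat_lit 1, nat_lit 5, nat_lit 4, nat_lit 3, nat_lit 2, nat_lit 4, nat_lit 2]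
def Wt_1545_1548 (j : ℕ) : List ℕ := bif Nat.blt j 1546 then [nat_lit 3, nat_lit 4, nat_lit 3, nat_lit 5, nat_lit 0, nat_lit 3, nat_lit 4, nat_lit 3, nat_lit 5, nat_lit 0, nat_lit 3, nat_lit 4, nat_lit 3, nat_lit 5, nat_lit 0, nat_lit 3, nat_lit 4, nat_lit 3, nat_lit 5, nat_lit 0, nat_lit 3, nat_lit 4, nat_lit 3, nat_lit 5, nat_lit 0] else (Wt_1546_1548 j)
def Wt_1549_1551 (j : ℕ) : List ℕ := bif Nat.blt j 1550 then [nat_lit 63, nat_lit 0, nat_lit 3, nat_lit 4, nat_lit 0, nat_lit 4, nat_lit 5, nat_lit 3, nat_lit 0, nat_lit 3, nat_lit 4, nat_lit 0, nat_lit 4, nat_lit 5, nat_lit 3, nat_lit 0, nat_lit 3, nat_lit 4, nat_lit 0, nat_lit 4, nat_lit 5, nat_lit 3, nat_lit 0, nat_lit 3, nat_lit 4, nat_lit 0, nat_lit 4, nat_lit 5, nat_lit 3, nat_lit 0, nat_lit 3, nat_lit 4, nat_lit 0, nat_lit 4, nat_lit 5, nat_lit 3] else [nat_lit 2, nat_lit 3, nat_lit 4, nat_lit 5, nat_lit 1, nat_lit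 2, nat_lit 4, nat_lit 2, nat_lit 4, nat_lit 2, nat_lit 3, nat_lit 4, nat_lit 5, nat_lit 1, nat_lit 2, nat_lit 4, nat_lit 2, nat_lit 4, nat_lit 2, nat_lit 3, nat_lit 4, nat_lit 5, nat_lit 1, nat_lit 2, nat_lit 4, nat_lit 2, nat_lit 4, nat_lit 2, nat_lit 3, nat_lit 4, nat_lit 5, nat_lit 1, nat_lit 2, nat_lit 4, nat_lit 2, nat_lit 4, nat_lit 2, nat_lit 3, nat_lit 4, nat_lit 5, nat_lit 1, nat_lit 2, nat_lit 4, nat_lit 2, nat_lit 4, nat_lit 2, nat_lit 3, nat_lit 4, nat_lit 5, nat_lit 1, nat_lit 2, nat_lit 4, nat_lit 2, nat_lit 4]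
def Wt_1548_1551 (j : ℕ) : List ℕ := bif Nat.blt j 1549 then [nat_lit 4, nat_lit 3, nat_lit 4, nat_lit 5, nat_lit 0, nat_lit 4, nat_lit 3, nat_lit 4, nat_lit 5, nat_lit 0, nat_lit 4, nat_lit 3, nat_lit 4, nat_lit 5, nat_lit 0, nat_lit 4, nat_lit 3, nat_lit 4, nat_lit 5, nat_lit 0, nat_lit 4, nat_lit 3, nat_lit 4, nat_lit 5, nat_lit 0, nat_lit 4, nat_lit 3, nat_lit 4, nat_lit 5, nat_lit 0] else (Wt_1549_1551 j)
def Wt_1545_1551 (j : ℕ) : List ℕ := bif Nat.blt j 1548 then (Wt_1545_1548 j) else (Wt_1548_1551 j)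
def Wt_1552_1554 (j : ℕ) : List ℕ := bif Nat.blt j 1553 then [nat_lit 63, nat_lit 0, nat_lit 4, nat_lit 3, nat_lit 4, nat_lit 1, nat_lit 0, nat_lit 5, nat_lit 4, nat_lit 0, nat_lit 4, nat_lit 3, nat_lit 4, nat_lit 1, nat_lit 0, nat_lit 5, nat_lit 4, nat_lit 0, nat_lit 4, nat_lit 3, nat_lit 4, nat_lit 1, nat_lit 0, nat_lit 5, nat_lit 4, nat_lit 0, nat_lit 4, nat_lit 3, nat_lit 4, nat_lit 1, nat_lit 0, nat_lit 5, nat_lit 4, nat_lit 0, nat_lit 4, nat_lit 3, nat_lit 4, nat_lit 1, nat_lit 0, nat_lit 5, nat_lit 4] else [nat_lit 2, nat_lit 4, nat_lit 2, nat_lit 3, nat_lit 4, nat_lit 5, nat_lit 1, nat_lit 2, nat_lit 4, nat_lit 2, nat_lit 4, nat_lit 2, nat_lit 3, nat_lit 4, nat_lit 5, nat_lit 1, nat_lit 2, nat_lit 4, nat_lit 2, nat_lit 4, nat_lit 2, nat_lit 3, nat_lit 4, nat_lit 5, nat_lit 1, nat_lit 2, nat_lit 4, nat_lit 2, nat_lit 4, nat_lit 2, nat_lit 3, nat_lit 4, nat_lit 5,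 nat_lit 1, nat_lit 2, nat_lit 4, nat_lit 2, nat_lit 4, nat_lit 2, nat_lit 3, nat_lit 4, nat_lit 5, nat_lit 1, nat_lit 2, nat_lit 4, nat_lit 2, nat_lit 4, nat_lit 2, nat_lit 3, nat_lit 4, nat_lit 5, nat_lit 1, nat_lit 2, nat_lit 4]
def Wt_1551_1554 (j : ℕ) : List ℕ := bif Nat.blt j 1552 then [nat_lit 1, nat_lit 4, nat_lit 0, nat_lit 1, nat_lit 0, nat_lit 3, nat_lit 4, nat_lit 5, nat_lit 1, nat_lit 4, nat_lit 0, nat_lit 1, nat_lit 0, nat_lit 3, nat_lit 4, nat_lit 5, nat_lit 1, nat_lit 4, nat_lit 0, nat_lit 1, nat_lit 0, nat_lit 3, nat_lit 4, nat_lit 5, nat_lit 1, nat_lit 4, nat_lit 0, nat_lit 1, nat_lit 0, nat_lit 3, nat_lit 4, nat_lit 5, nat_lit 1, nat_lit 4, nat_lit 0, nat_lit 1, nat_lit 0, nat_lit 3, nat_lit 4, nat_lit 5, nat_lit 1, nat_lit 4, nat_lit 0, nat_lit 1, nat_lit 0, nat_lit 3, nat_lit 4, nat_lit 5] else (Wt_1552_1554 j)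
def Wt_1554_1556 (j : ℕ) : List ℕ := bif Nat.blt j 1555 then [nat_lit 3, nat_lit 2, nat_lit 3, nat_lit 0, nat_lit 3, nat_lit 0, nat_lit 1, nat_lit 3, nat_lit 2, nat_lit 3, nat_lit 0, nat_lit 3, nat_lit 0, nat_lit 1, nat_lit 3, nat_lit 2, nat_lit 3, nat_lit 0, nat_lit 3, nat_lit 0, nat_lit 1] else [nat_lit 2, nat_lit 1, nat_lit 0, nat_lit 1, nat_lit 2, nat_lit 1, nat_lit 3, nat_lit 2, nat_lit 1, nat_lit 0, nat_lit 1, nat_lit 2, nat_lit 1, nat_lit 3, nat_lit 2, nat_lit 1, nat_lit 0, nat_lit 1, nat_lit 2, nat_lit 1, nat_lit 3]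
def Wt_1556_1558 (j : ℕ) : List ℕ := bif Nat.blt j 1557 then [nat_lit 3, nat_lit 0, nat_lit 3, nat_lit 0, nat_lit 1, nat_lit 3, nat_lit 2, nat_lit 3, nat_lit 0, nat_lit 3, nat_lit 0, nat_lit 1, nat_lit 3, nat_lit 2, nat_lit 3, nat_lit 0, nat_lit 3, nat_lit 0, nat_lit 1, nat_lit 3, nat_lit 2] else [nat_lit 0, nat_lit 3, nat_lit 0, nat_lit 1, nat_lit 3, nat_lit 0, nat_lit 3, nat_lit 0, nat_lit 3, nat_lit 0, nat_lit 1, nat_lit 3, nat_lit 0, nat_lit 3, nat_lit 0, nat_lit 3, nat_lit 0, nat_lit 1, nat_lit 3, nat_lit 0, nat_lit 3]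
def Wt_1554_1558 (j : ℕ) : List ℕ := bif Nat.blt j 1556 then (Wt_1554_1556 j) else (Wt_1556_1558 j)
def Wt_1551_1558 (j : ℕ) : List ℕ := bif Nat.blt j 1554 then (Wt_1551_1554 j) else (Wt_1554_1558 j)
def Wt_1545_1558 (j : ℕ) : List ℕ := bif Nat.blt j 1551 then (Wt_1545_1551 j) else (Wt_1551_1558 j)
def Wt_1533_1558 (j : ℕ) : List ℕ := bif Nat.blt j 1545 then (Wt_1533_1545 j) else (Wt_1545_1558 j)
def Wt_1509_1558 (j : ℕ) : List ℕ := bif Nat.blt j 1533 then (Wt_1509_1533 j) else (Wt_1533_1558 j)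
def Wt_1460_1558 (j : ℕ) : List ℕ := bif Nat.blt j 1509 then (Wt_1460_1509 j) else (Wt_1509_1558 j)
def Wt_1363_1558 (j : ℕ) : List ℕ := bif Nat.blt j 1460 then (Wt_1363_1460 j) else (Wt_1460_1558 j)
def Wt_1168_1558 (j : ℕ) : List ℕ := bif Nat.blt j 1363 then (Wt_1168_1363 j) else (Wt_1363_1558 j)
def Wt_779_1558 (j : ℕ) : List ℕ := bif Nat.blt j 1168 then (Wt_779_1168 j) else (Wt_1168_1558 j)
def Wt_0_1558 (j : ℕ) : List ℕ := bif Nat.blt j 779 then (Wt_0_779 j) else (Wt_779_1558 j)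
def Wt (j : ℕ) : List ℕ := (Wt_0_1558 j)
def W (j : ℕ) : List ℕ := bif Nat.blt j 1558 then Wt j else []
theorem W_ge (j : ℕ) (h : 1558 ≤ j) : W j = [] := by
  unfold W
  rw [blt_false_of_le h]
  rfl
def Hl : List ℕ := [nat_lit 0, nat_lit 1, nat_lit 2, nat_lit 3, nat_lit 4]
def isH (y : ℕ) : Bool := List.elem y Hl
def Rb : List (List ℕ) := [[nat_lit 0, nat_lit 0],
  [nat_lit 1, nat_lit 1],
  [nat_lit 1, nat_lit 0, nat_lit 1, nat_lit 0, nat_lit 1, nat_lit 0, nat_lit 1, nat_lit 0, nat_lit 1, nat_lit 0, nat_lit 1, nat_lit 0],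
  [nat_lit 2, nat_lit 2],
  [nat_lit 1, nat_lit 0, nat_lit 1, nat_lit 2, nat_lit 0, nat_lit 2, nat_lit 1, nat_lit 0, nat_lit 1, nat_lit 2, nat_lit 0, nat_lit 2, nat_lit 1, nat_lit 0, nat_lit 1, nat_lit 2, nat_lit 0, nat_lit 2],
  [nat_lit 1, nat_lit 2, nat_lit 0, nat_lit 1, nat_lit 2, nat_lit 0, nat_lit 1, nat_lit 2, nat_lit 0, nat_lit 1, nat_lit 2, nat_lit 0, nat_lit 1, nat_lit 2, nat_lit 0],
  [nat_lit 2, nat_lit 0, nat_lit 1, nat_lit 2, nat_lit 1, nat_lit 0, nat_lit 2, nat_lit 0, nat_lit 1, nat_lit 2, nat_lit 1, nat_lit 0],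
  [nat_lit 1, nat_lit 2, nat_lit 1, nat_lit 0, nat_lit 1, nat_lit 2, nat_lit 1, nat_lit 0, nat_lit 1, nat_lit 2, nat_lit 1, nat_lit 0],
  [nat_lit 3, nat_lit 3],
  [nat_lit 0, nat_lit 3, nat_lit 0, nat_lit 3, nat_lit 0, nat_lit 3, nat_lit 1, nat_lit 0, nat_lit 3, nat_lit 0, nat_lit 3, nat_lit 0, nat_lit 3, nat_lit 1, nat_lit 0, nat_lit 3, nat_lit 0, nat_lit 3, nat_lit 0, nat_lit 3, nat_lit 1],
  [nat_lit 2, nat_lit 1, nat_lit 3, nat_lit 2, nat_lit 1, nat_lit 0, nat_lit 1, nat_lit 2, nat_lit 1, nat_lit 3, nat_lit 2, nat_lit 1, nat_lit 0, nat_lit 1, nat_lit 2, nat_lit 1, nat_lit 3, nat_lit 2, nat_lit 1, nat_lit 0, nat_lit 1],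
  [nat_lit 3, nat_lit 1, nat_lit 0, nat_lit 3, nat_lit 0, nat_lit 3, nat_lit 2, nat_lit 3, nat_lit 1, nat_lit 0, nat_lit 3, nat_lit 0, nat_lit 3, nat_lit 2, nat_lit 3, nat_lit 1, nat_lit 0, nat_lit 3, nat_lit 0, nat_lit 3, nat_lit 2],
  [nat_lit 2, nat_lit 3, nat_lit 0, nat_lit 3, nat_lit 1, nat_lit 2, nat_lit 3, nat_lit 0, nat_lit 3, nat_lit 1, nat_lit 2, nat_lit 3, nat_lit 0, nat_lit 3, nat_lit 1, nat_lit 2, nat_lit 3, nat_lit 0, nat_lit 3, nat_lit 1],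
  [nat_lit 1, nat_lit 0, nat_lit 2, nat_lit 3, nat_lit 0, nat_lit 2, nat_lit 1, nat_lit 0, nat_lit 2, nat_lit 3, nat_lit 0, nat_lit 2, nat_lit 1, nat_lit 0, nat_lit 2, nat_lit 3, nat_lit 0, nat_lit 2],
  [nat_lit 0, nat_lit 1, nat_lit 2, nat_lit 1, nat_lit 3, nat_lit 1, nat_lit 0, nat_lit 1, nat_lit 2, nat_lit 1, nat_lit 3, nat_lit 1, nat_lit 0, nat_lit 1, nat_lit 2, nat_lit 1, nat_lit 3, nat_lit 1],
  [nat_lit 4, nat_lit 4],
  [nat_lit 4, nat_lit 1, nat_lit 4, nat_lit 0, nat_lit 2, nat_lit 4, nat_lit 1, nat_lit 4, nat_lit 2, nat_lit 0, nat_lit 4, nat_lit 1, nat_lit 4, nat_lit 2, nat_lit 0],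
  [nat_lit 4, nat_lit 1, nat_lit 4, nat_lit 1, nat_lit 4, nat_lit 1, nat_lit 4, nat_lit 3, nat_lit 4, nat_lit 3, nat_lit 4, nat_lit 3, nat_lit 4, nat_lit 3, nat_lit 1],
  [nat_lit 0, nat_lit 3, nat_lit 1, nat_lit 4, nat_lit 1, nat_lit 3, nat_lit 0, nat_lit 1, nat_lit 0, nat_lit 3, nat_lit 1, nat_lit 4, nat_lit 1, nat_lit 3, nat_lit 0, nat_lit 1],
  [nat_lit 0, nat_lit 2, nat_lit 4, nat_lit 1, nat_lit 4, nat_lit 2, nat_lit 1, nat_lit 4, nat_lit 1, nat_lit 4, nat_lit 1, nat_lit 2, nat_lit 4, nat_lit 1, nat_lit 4, nat_lit 2],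
  [nat_lit 1, nat_lit 4, nat_lit 3, nat_lit 4, nat_lit 1, nat_lit 2, nat_lit 4, nat_lit 3, nat_lit 1, nat_lit 3, nat_lit 1, nat_lit 3, nat_lit 1, nat_lit 3, nat_lit 4, nat_lit 2],
  [nat_lit 2, nat_lit 1, nat_lit 0, nat_lit 1, nat_lit 3, nat_lit 4, nat_lit 0, nat_lit 1, nat_lit 4, nat_lit 1, nat_lit 3, nat_lit 4, nat_lit 1, nat_lit 0, nat_lit 4, nat_lit 1, nat_lit 0],
  [nat_lit 4, nat_lit 1, nat_lit 2, nat_lit 1, nat_lit 4, nat_lit 1, nat_lit 2, nat_lit 1, nat_lit 4, nat_lit 0, nat_lit 1, nat_lit 4, nat_lit 3, nat_lit 2, nat_lit 4, nat_lit 1, nat_lit 0],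
  [nat_lit 3, nat_lit 1, nat_lit 4, nat_lit 1, nat_lit 4, nat_lit 0, nat_lit 4, nat_lit 1, nat_lit 4, nat_lit 2, nat_lit 1, nat_lit 4, nat_lit 1, nat_lit 4, nat_lit 3, nat_lit 2, nat_lit 0],
  [nat_lit 4, nat_lit 0, nat_lit 2, nat_lit 4, nat_lit 0, nat_lit 2, nat_lit 4, nat_lit 3, nat_lit 2, nat_lit 3, nat_lit 0, nat_lit 4, nat_lit 2, nat_lit 0, nat_lit 4, nat_lit 2, nat_lit 0],
  [nat_lit 4, nat_lit 0, nat_lit 4, nat_lit 3, nat_lit 1, nat_lit 4, nat_lit 2, nat_lit 1, nat_lit 2, nat_lit 4, nat_lit 1, nat_lit 3, nat_lit 4, nat_lit 0, nat_lit 4, nat_lit 2, nat_lit 0],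
  [nat_lit 4, nat_lit 3, nat_lit 0, nat_lit 4, nat_lit 3, nat_lit 4, nat_lit 2, nat_lit 3, nat_lit 4, nat_lit 3, nat_lit 4, nat_lit 0, nat_lit 3, nat_lit 4, nat_lit 0, nat_lit 3, nat_lit 0],
  [nat_lit 3, nat_lit 4, nat_lit 2, nat_lit 3, nat_lit 4, nat_lit 2, nat_lit 4, nat_lit 1, nat_lit 4, nat_lit 2, nat_lit 4, nat_lit 3, nat_lit 2, nat_lit 4, nat_lit 1, nat_lit 3, nat_lit 0],
  [nat_lit 3, nat_lit 0, nat_lit 3, nat_lit 4, nat_lit 3, nat_lit 4, nat_lit 2, nat_lit 4, nat_lit 2, nat_lit 4, nat_lit 3, nat_lit 4, nat_lit 2, nat_lit 4, nat_lit 1, nat_lit 2, nat_lit 1],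
  [nat_lit 3, nat_lit 0, nat_lit 3, nat_lit 4, nat_lit 2, nat_lit 4, nat_lit 3, nat_lit 4, nat_lit 2, nat_lit 4, nat_lit 2, nat_lit 4, nat_lit 3, nat_lit 4, nat_lit 1, nat_lit 2, nat_lit 1],
  [nat_lit 4, nat_lit 0, nat_lit 1, nat_lit 0, nat_lit 4, nat_lit 1, nat_lit 4, nat_lit 3, nat_lit 2, nat_lit 4, nat_lit 3, nat_lit 4, nat_lit 0, nat_lit 1, nat_lit 3, nat_lit 2, nat_lit 1],
  [nat_lit 4, nat_lit 1, nat_lit 2, nat_lit 4, nat_lit 3, nat_lit 4, nat_lit 2, nat_lit 4, nat_lit 1, nat_lit 4, nat_lit 1, nat_lit 2, nat_lit 4, nat_lit 2, nat_lit 4, nat_lit 2, nat_lit 1],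
  [nat_lit 5, nat_lit 5],
  [nat_lit 2, nat_lit 0, nat_lit 2, nat_lit 0],
  [nat_lit 3, nat_lit 0, nat_lit 3, nat_lit 0, nat_lit 3, nat_lit 0, nat_lit 3, nat_lit 0, nat_lit 3, nat_lit 0, nat_lit 3, nat_lit 0, nat_lit 3, nat_lit 0, nat_lit 3, nat_lit 0, nat_lit 3, nat_lit 0, nat_lit 3, nat_lit 0, nat_lit 3, nat_lit 0, nat_lit 3, nat_lit 0],
  [nat_lit 4, nat_lit 0, nat_lit 4, nat_lit 0, nat_lit 4, nat_lit 0, nat_lit 4, nat_lit 0, nat_lit 4, nat_lit 0, nat_lit 4, nat_lit 0, nat_lit 4, nat_lit 0, nat_lit 4, nat_lit 0, nat_lit 4, nat_lit 0, nat_lit 4, nat_lit 0, nat_lit 4, nat_lit 0, nat_lit 4, nat_lit 0],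
  [nat_lit 5, nat_lit 0, nat_lit 5, nat_lit 0],
  [nat_lit 2, nat_lit 1, nat_lit 2, nat_lit 1, nat_lit 2, nat_lit 1, nat_lit 2, nat_lit 1],
  [nat_lit 3, nat_lit 1, nat_lit 3, nat_lit 1, nat_lit 3, nat_lit 1, nat_lit 3, nat_lit 1, nat_lit 3, nat_lit 1, nat_lit 3, nat_lit 1, nat_lit 3, nat_lit 1, nat_lit 3, nat_lit 1, nat_lit 3, nat_lit 1, nat_lit 3, nat_lit 1, nat_lit 3, nat_lit 1, nat_lit 3, nat_lit 1, nat_lit 3, nat_lit 1],
  [nat_lit 4, nat_lit 1, nat_lit 4, nat_lit 1, nat_lit 4, nat_lit 1, nat_lit 4, nat_lit 1, nat_lit 4, nat_lit 1, nat_lit 4, nat_lit 1, nat_lit 4, nat_lit 1, nat_lit 4, nat_lit 1],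
  [nat_lit 5, nat_lit 1, nat_lit 5, nat_lit 1],
  [nat_lit 3, nat_lit 2, nat_lit 3, nat_lit 2],
  [nat_lit 4, nat_lit 2, nat_lit 4, nat_lit 2, nat_lit 4, nat_lit 2, nat_lit 4, nat_lit 2, nat_lit 4, nat_lit 2, nat_lit 4, nat_lit 2],
  [nat_lit 5, nat_lit 2, nat_lit 5, nat_lit 2],
  [nat_lit 4, nat_lit 3, nat_lit 4, nat_lit 3, nat_lit 4, nat_lit 3, nat_lit 4, nat_lit 3, nat_lit 4, nat_lit 3, nat_lit 4, nat_lit 3, nat_lit 4, nat_lit 3, nat_lit 4, nat_lit 3],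
  [nat_lit 5, nat_lit 3, nat_lit 5, nat_lit 3, nat_lit 5, nat_lit 3, nat_lit 5, nat_lit 3],
  [nat_lit 5, nat_lit 4, nat_lit 5, nat_lit 4, nat_lit 5, nat_lit 4, nat_lit 5, nat_lit 4, nat_lit 5, nat_lit 4, nat_lit 5, nat_lit 4, nat_lit 5, nat_lit 4, nat_lit 5, nat_lit 4, nat_lit 5, nat_lit 4, nat_lit 5, nat_lit 4, nat_lit 5, nat_lit 4, nat_lit 5, nat_lit 4],
  [nat_lit 2, nat_lit 3, nat_lit 5, nat_lit 3, nat_lit 5],
  [nat_lit 4, nat_lit 1, nat_lit 4, nat_lit 2, nat_lit 5, nat_lit 4, nat_lit 1, nat_lit 4, nat_lit 2, nat_lit 5, nat_lit 4, nat_lit 1, nat_lit 4, nat_lit 2, nat_lit 5],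
  [nat_lit 4, nat_lit 1, nat_lit 4, nat_lit 0, nat_lit 5, nat_lit 4, nat_lit 1, nat_lit 4, nat_lit 0, nat_lit 5, nat_lit 4, nat_lit 1, nat_lit 4, nat_lit 0, nat_lit 5, nat_lit 4, nat_lit 1, nat_lit 4, nat_lit 0, nat_lit 5],
  [nat_lit 4, nat_lit 1, nat_lit 2, nat_lit 1, nat_lit 4, nat_lit 1, nat_lit 5, nat_lit 4, nat_lit 1, nat_lit 2, nat_lit 1, nat_lit 4, nat_lit 1, nat_lit 5, nat_lit 4, nat_lit 1, nat_lit 2, nat_lit 1, nat_lit 4, nat_lit 1, nat_lit 5],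
  [nat_lit 4, nat_lit 2, nat_lit 4, nat_lit 5, nat_lit 4, nat_lit 2, nat_lit 4, nat_lit 5, nat_lit 4, nat_lit 2, nat_lit 4, nat_lit 5, nat_lit 4, nat_lit 2, nat_lit 4, nat_lit 5, nat_lit 4, nat_lit 2, nat_lit 4, nat_lit 5, nat_lit 4, nat_lit 2, nat_lit 4, nat_lit 5],
  [nat_lit 4, nat_lit 3, nat_lit 2, nat_lit 4, nat_lit 1, nat_lit 5, nat_lit 4, nat_lit 3, nat_lit 2, nat_lit 4, nat_lit 1, nat_lit 5, nat_lit 4, nat_lit 3, nat_lit 2, nat_lit 4, nat_lit 1, nat_lit 5, nat_lit 4, nat_lit 3, nat_lit 2, nat_lit 4, nat_lit 1, nat_lit 5],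
  [nat_lit 3, nat_lit 4, nat_lit 3, nat_lit 0, nat_lit 5, nat_lit 3, nat_lit 4, nat_lit 3, nat_lit 0, nat_lit 5, nat_lit 3, nat_lit 4, nat_lit 3, nat_lit 0, nat_lit 5, nat_lit 3, nat_lit 4, nat_lit 3, nat_lit 0, nat_lit 5, nat_lit 3, nat_lit 4, nat_lit 3, nat_lit 0, nat_lit 5],
  [nat_lit 2, nat_lit 4, nat_lit 3, nat_lit 4, nat_lit 0, nat_lit 4, nat_lit 2, nat_lit 1, nat_lit 5, nat_lit 2, nat_lit 4, nat_lit 3, nat_lit 4, nat_lit 0, nat_lit 4, nat_lit 2, nat_lit 1, nat_lit 5, nat_lit 2, nat_lit 4, nat_lit 3, nat_lit 4, nat_lit 0, nat_lit 4, nat_lit 2, nat_lit 1, nat_lit 5],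
  [nat_lit 1, nat_lit 4, nat_lit 1, nat_lit 0, nat_lit 1, nat_lit 0, nat_lit 5, nat_lit 1, nat_lit 4, nat_lit 1, nat_lit 0, nat_lit 1, nat_lit 0, nat_lit 5, nat_lit 1, nat_lit 4, nat_lit 1, nat_lit 0, nat_lit 1, nat_lit 0, nat_lit 5, nat_lit 1, nat_lit 4, nat_lit 1, nat_lit 0, nat_lit 1, nat_lit 0, nat_lit 5],
  [nat_lit 4, nat_lit 3, nat_lit 4, nat_lit 0, nat_lit 5, nat_lit 4, nat_lit 3, nat_lit 4, nat_lit 0, nat_lit 5, nat_lit 4, nat_lit 3, nat_lit 4, nat_lit 0, nat_lit 5, nat_lit 4, nat_lit 3, nat_lit 4, nat_lit 0, nat_lit 5, nat_lit 4, nat_lit 3, nat_lit 4, nat_lit 0, nat_lit 5, nat_lit 4, nat_lit 3, nat_lit 4, nat_lit 0, nat_lit 5],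
  [nat_lit 2, nat_lit 4, nat_lit 2, nat_lit 1, nat_lit 5, nat_lit 2, nat_lit 4, nat_lit 2, nat_lit 1, nat_lit 5, nat_lit 2, nat_lit 4, nat_lit 2, nat_lit 1, nat_lit 5, nat_lit 2, nat_lit 4, nat_lit 2, nat_lit 1, nat_lit 5, nat_lit 2, nat_lit 4, nat_lit 2, nat_lit 1, nat_lit 5, nat_lit 2, nat_lit 4, nat_lit 2, nat_lit 1, nat_lit 5],
  [nat_lit 4, nat_lit 3, nat_lit 4, nat_lit 3, nat_lit 4, nat_lit 2, nat_lit 5, nat_lit 4, nat_lit 3, nat_lit 4, nat_lit 3, nat_lit 4, nat_lit 2, nat_lit 5, nat_lit 4, nat_lit 3, nat_lit 4, nat_lit 3, nat_lit 4, nat_lit 2, nat_lit 5, nat_lit 4, nat_lit 3, nat_lit 4, nat_lit 3, nat_lit 4, nat_lit 2, nat_lit 5, nat_lit 4, nat_lit 3, nat_lit 4, nat_lit 3, nat_lit 4, nat_lit 2, nat_lit 5],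
  [nat_lit 4, nat_lit 0, nat_lit 4, nat_lit 3, nat_lit 0, nat_lit 3, nat_lit 5, nat_lit 4, nat_lit 0, nat_lit 4, nat_lit 3, nat_lit 0, nat_lit 3, nat_lit 5, nat_lit 4, nat_lit 0, nat_lit 4, nat_lit 3, nat_lit 0, nat_lit 3, nat_lit 5, nat_lit 4, nat_lit 0, nat_lit 4, nat_lit 3, nat_lit 0, nat_lit 3, nat_lit 5, nat_lit 4, nat_lit 0, nat_lit 4, nat_lit 3, nat_lit 0, nat_lit 3, nat_lit 5],
  [nat_lit 4, nat_lit 0, nat_lit 4, nat_lit 3, nat_lit 4, nat_lit 1, nat_lit 0, nat_lit 5, nat_lit 4, nat_lit 0, nat_lit 4, nat_lit 3, nat_lit 4, nat_lit 1, nat_lit 0, nat_lit 5, nat_lit 4, nat_lit 0, nat_lit 4, nat_lit 3, nat_lit 4, nat_lit 1, nat_lit 0, nat_lit 5, nat_lit 4, nat_lit 0, nat_lit 4, nat_lit 3, nat_lit 4, nat_lit 1, nat_lit 0, nat_lit 5, nat_lit 4, nat_lit 0, nat_lit 4, nat_lit 3, nat_lit 4, nat_lit 1, nat_lit 0, nat_lit 5],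
  [nat_lit 4, nat_lit 1, nat_lit 0, nat_lit 4, nat_lit 2, nat_lit 0, nat_lit 4, nat_lit 1, nat_lit 5, nat_lit 4, nat_lit 1, nat_lit 0, nat_lit 4, nat_lit 2, nat_lit 0, nat_lit 4, nat_lit 1, nat_lit 5, nat_lit 4, nat_lit 1, nat_lit 0, nat_lit 4, nat_lit 2, nat_lit 0, nat_lit 4, nat_lit 1, nat_lit 5, nat_lit 4, nat_lit 1, nat_lit 0, nat_lit 4, nat_lit 2, nat_lit 0, nat_lit 4, nat_lit 1, nat_lit 5, nat_lit 4, nat_lit 1, nat_lit 0, nat_lit 4, nat_lit 2, nat_lit 0, nat_lit 4, nat_lit 1, nat_lit 5],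
  [nat_lit 4, nat_lit 2, nat_lit 0, nat_lit 4, nat_lit 0, nat_lit 1, nat_lit 4, nat_lit 1, nat_lit 5, nat_lit 4, nat_lit 2, nat_lit 0, nat_lit 4, nat_lit 0, nat_lit 1, nat_lit 4, nat_lit 1, nat_lit 5, nat_lit 4, nat_lit 2, nat_lit 0, nat_lit 4, nat_lit 0, nat_lit 1, nat_lit 4, nat_lit 1, nat_lit 5, nat_lit 4, nat_lit 2, nat_lit 0, nat_lit 4, nat_lit 0, nat_lit 1, nat_lit 4, nat_lit 1, nat_lit 5, nat_lit 4, nat_lit 2, nat_lit 0, nat_lit 4, nat_lit 0, nat_lit 1, nat_lit 4, nat_lit 1, nat_lit 5],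
  [nat_lit 4, nat_lit 3, nat_lit 0, nat_lit 1, nat_lit 0, nat_lit 4, nat_lit 1, nat_lit 5, nat_lit 4, nat_lit 3, nat_lit 0, nat_lit 1, nat_lit 0, nat_lit 4, nat_lit 1, nat_lit 5, nat_lit 4, nat_lit 3, nat_lit 0, nat_lit 1, nat_lit 0, nat_lit 4, nat_lit 1, nat_lit 5, nat_lit 4, nat_lit 3, nat_lit 0, nat_lit 1, nat_lit 0, nat_lit 4, nat_lit 1, nat_lit 5, nat_lit 4, nat_lit 3, nat_lit 0, nat_lit 1, nat_lit 0, nat_lit 4, nat_lit 1, nat_lit 5, nat_lit 4, nat_lit 3, nat_lit 0, nat_lit 1, nat_lit 0, nat_lit 4, nat_lit 1, nat_lit 5],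
  [nat_lit 4, nat_lit 0, nat_lit 1, nat_lit 0, nat_lit 3, nat_lit 4, nat_lit 1, nat_lit 5, nat_lit 4, nat_lit 0, nat_lit 1, nat_lit 0, nat_lit 3, nat_lit 4, nat_lit 1, nat_lit 5, nat_lit 4, nat_lit 0, nat_lit 1, nat_lit 0, nat_lit 3, nat_lit 4, nat_lit 1, nat_lit 5, nat_lit 4, nat_lit 0, nat_lit 1, nat_lit 0, nat_lit 3, nat_lit 4, nat_lit 1, nat_lit 5, nat_lit 4, nat_lit 0, nat_lit 1, nat_lit 0, nat_lit 3, nat_lit 4, nat_lit 1, nat_lit 5, nat_lit 4, nat_lit 0, nat_lit 1, nat_lit 0, nat_lit 3, nat_lit 4, nat_lit 1, nat_lit 5],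
  [nat_lit 4, nat_lit 3, nat_lit 2, nat_lit 4, nat_lit 2, nat_lit 4, nat_lit 2, nat_lit 1, nat_lit 5, nat_lit 4, nat_lit 3, nat_lit 2, nat_lit 4, nat_lit 2, nat_lit 4, nat_lit 2, nat_lit 1, nat_lit 5, nat_lit 4, nat_lit 3, nat_lit 2, nat_lit 4, nat_lit 2, nat_lit 4, nat_lit 2, nat_lit 1, nat_lit 5, nat_lit 4, nat_lit 3, nat_lit 2, nat_lit 4, nat_lit 2, nat_lit 4, nat_lit 2, nat_lit 1, nat_lit 5, nat_lit 4, nat_lit 3, nat_lit 2, nat_lit 4, nat_lit 2, nat_lit 4, nat_lit 2, nat_lit 1, nat_lit 5, nat_lit 4, nat_lit 3, nat_lit 2, nat_lit 4, nat_lit 2, nat_lit 4, nat_lit 2, nat_lit 1, nat_lit 5],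
  []]
def spT_1_3 (j : ℕ) : ℕ := bif Nat.blt j 2 then nat_lit 0xa017000000520000801b0000c0320000001b0000203b0000603c000060160000803d000020170000401b00008017000140220000202f0000403e0000003a00020039000020390001803f0002003e000080230000001e000040280000c02600008022000200340000203d0000a0220001a02b0001c0280002002a000100340000401a000000380001403f0000603e000000370001c036000140360000402c000020370001a0360000a00c0000a01a0000801a0000a0360001a03200012022000040220001a022000040330000200400016028000020260000e03d0000005a0002002b0000a02c000060170000200e0000406e0000406d0001003200010022 else nat_lit 0x801700002042000060130000c0160000e0240000c0120000a012000020080000406000012020000080200000a02e0000003f00008019000060180000001a0001c03800010038000020380000403a000040390000403700000036000080300000400b0000000a0000001e0000a0390000e038000200360000a0690000000e0000a0170000203a0000c03e0001e03e0000c026000000220000600e0000000b000080240001e03c0000002e0000e026000140200001c0260000003b0001203900016039000100230000405e0000006a000080160000200b0000400a000000160000e02a0000000c0000204a00004023000140230000402f000040340000201a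
def spT_0_3 (j : ℕ) : ℕ := bif Nat.blt j 1 then nat_lit 0x80340000a020000120300002002c0000400e0000a008000000040000c02200000058000120230000003b000020390001203a00000039000100360000800c00000000000000000000602f00016026000000180000202e000000400002002e000120260000a026000040200000c02e000000640000601b000120310001e0300000e03c00002056000160380000200c00000002000000100000000600000002000000400000001000000006000000390001203800000054000020520000400c0000004a0001602a000020500000204800002042000060280000605e00000060000000240000205a00000052000000420000805e000000560000005000000048 else (spT_1_3 j)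
def spT_4_6 (j : ℕ) : ℕ := bif Nat.blt j 5 then nat_lit 0x2003a00008023000020440000201600002015000060160000202e000140200001403d0001603b000160260000c02000012036000000260001602c0000c02d0000203b0001c034000100390001c03f0000e03e0001603e0000e0390000203e0001603d000080280000602300000013000040280000c0240000a026000120280000202f0000600c000000500000403c0002002f0000205e0000403b0000c039000060200000802f000060240001003e0001402b0000a0280001202b0000405f0000a015000060130000201b0000c03c0000803e0000802c0000a03c000080080001603c0001e02e0001802a0000801d0000e02b0001202a0001402a0000805f else nat_lit 0x40320001803d00008012000000150000a0160000200e00008012000080130000000e0000601c000080150000003e0000a0140000a01d000000560000a0230000e0230000403700016036000060360000403d0001c03d00002061000080600000601d0001a03000004030000000340001c0340000e02e000180340000c02e0000203a0001403b0001a02f0000c02c000140350001003d0000e0360000201d0000001c00008018000060370001803600000037000020370000c037000020360001c02e0002003a00000032000200390001603f00014038000060370001e037000180260000203f0001802f0001603e0002003f0000e03f0001002600000038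
def spT_3_6 (j : ℕ) : ℕ := bif Nat.blt j 4 then nat_lit 0x200a000180390000200b0000c01500004014000020140000800c0000001e0000a01c0000c0140000a01d0000400e000040080000000c000000140002002e00018023000060220001c02300002034000180220001a03c0001602200002022000100220001203f0000002e000080370001203700002024000040390000400a0000a0120000c015000040150000a01c0000e032000020540000203f0001203600014028000020230001a0260002003b000060600000603d000180260000e0220000e0200000603b0001c02b0000c036000020520000002f0000802600006032000020380000002f0000a02e0000003a000140380001203a000120380000001a else (spT_4_6 j)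
def spT_0_6 (j : ℕ) : ℕ := bif Nat.blt j 3 then (spT_0_3 j) else (spT_3_6 j)
def spT_7_9 (j : ℕ) : ℕ := bif Nat.blt j 8 then nat_lit 0xc0380000205f0000002800002012000040160000a015000060150000803c0001203200002023000080360000402e000140390000403b0000004e0000601a000040120000c03d0001002b0001c030000020150000c02b0001a03d0001803e0000a0240000402e000000150002003d0000a0380000203c000140260001c03e0000a03e0001c03c0000002a000060330001403e0000a03b0000003d0000005800002054000080390001203b0000402f0001a02c0000002b0000602a000080320000a0340001602b0000002c0001c02a0001203c0001803c0000603d0001802c0000402a00006026000200320001c0220000c0130000801c0000600c0000401c else nat_lit 0x1a0340001e03d0001e02b000160230001203b0002003c0001602f0000a0360001e036000180200000003c0000a03d0000c0280001a0230000802a0002003c00014022000100260000a02d0000e0280001002e000120370000403d0001603c00014032000160200001c0360001c02c0002003b0001003b0001202c00004024000040380000008400008022000020340000e03e0000e0370001403c00006034000180280000a03e00020038000180280001e028000060340002003d0001c0370000c03a00012022000160200000403c0001c026000140370000603a000160320000602b00012034000020330001e02b0000c02a0000a01b0000a01a00020038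
def spT_6_9 (j : ℕ) : ℕ := bif Nat.blt j 7 then nat_lit 0x140000204a0000801d0000c0170000c0160000401d0000200c000000360000602c0000203d0000e03900000034000060360000803f0001a03f0000a02b0001a03e000080370001002c0001e02a000000480001e0340000602600006039000120230001602300004022000160220001a0230000a0220000c0230001002b0001e02a0000a01b00000008000040140000005f0000201800004013000000120000601c000060140000801b0000a01400002014000100280001203d0000401b0000801a0001c0320001a02a0001003c0000802b000020280000a02a0000a024000060140001a0280000202b0000e0200001e026000040240001c03f00018032 else (spT_7_9 j)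
def spT_10_12 (j : ℕ) : ℕ := bif Nat.blt j 11 then nat_lit 0x1c0320001402c0002002c0001602c0000802b0001802a0001a02a000020280000c028000000280001e0260001a0220000e022000020130000601d0000601a00008016000000040001c037000100300000a06c0000a03f0001603f0000c03e0001403d00010033000000320001a0310001a02c0000e02b0001e0280000201c0000401a000040320000602e000000240000004e0000603c0001e03c0001c03a0001603800010036000120320001002e0000402c0001402c0000c02c0000802a0001202a0001602a00008028000040150000606400008014000020040000201a0000a00c0000000a0000203c0000c02a0000006f0000004c0000200a0000601b else nat_lit 0x4060000120280000c024000020120000806c0000403e00018032000080720000a06d0000006800002061000080600000606e00004064000040620000e079000140340000602c0000602b0002002a000140260001c0230000e06d0000606800000046000100200000606c000160360000202a0001402a0001602800004026000040230000a02a000060600000a03f0000c0340001402f0000802e0001e02c00006028000080260001c0220000c0200000202400006022000000230000c0120000401d00008008000080150000a0130000204c0000001d0000a0160000206f000040640001203d0001403c0001403b00016039000180360000c03600008032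
def spT_9_12 (j : ℕ) : ℕ := bif Nat.blt j 10 then nat_lit 0xa0080000008400000040000000020000000000000084000000060000001000000000000000400000001e000000400000000000000006000000100000000000000002000000020000001e000000060000001e00000006000000020000001000000010000100380001002f0000c03d0001a0200000e032000040300000603200018034000020220000602300018022000080360001403e000020480001202c0001203c000000220001c0390000400c000020180001e0360000e02600000042000080200001c02f0000803e0000802d00004036000060120000e02c0000005c0001c02c0000e0340000204e0000c021000200370000a0370001203e0000c023 else (spT_10_12 j)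
def spT_6_12 (j : ℕ) : ℕ := bif Nat.blt j 9 then (spT_6_9 j) else (spT_9_12 j)
def spT_0_12 (j : ℕ) : ℕ := bif Nat.blt j 6 then (spT_0_6 j) else (spT_6_12 j)
def spT_13_15 (j : ℕ) : ℕ := bif Nat.blt j 14 then nat_lit 0x406f0001006d0000202c000000760001a0300000e06d0000c0790000206800002062000080610001a03e0000a02f0000806e0000e06c0000206d0000602d000140320000c06f0000c0770001e03e0001e03a0001e032000140230001803800000031000060300000e07d0000a07a0000803f000180390000c0220000c06d0000206300012020000040760001c03c000160320001a028000080730000a076000080640001802000012026000060620000806a0001803d000020600001c02a0000807c0000a0280000805e0000a06d0000806c0000206a000020320001a03c000040680000a0640000a07a00000074000020660001e034000200320001a02b else nat_lit 0x4068000040720000c06e000060680000a0650000a0320001a03d0001a0360000a06900000062000080740000603f0001c02f000080380000603e0000605f0001c020000040630000a03c0000606d0000205c000000640001a026000180230000a02b000100320000e0830000a0340001003f000180380000c0830000005400018031000200310001e02f000000230000406f0000a06e0001003c0000607400002064000080620001e02c0000802c000000680001e0370000c07a0001003400014036000000610000606b0001a0340000007600002060000140280001202b0000007e0000206b000160340000206e00008068000080620001e03800004038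
def spT_12_15 (j : ℕ) : ℕ := bif Nat.blt j 13 then nat_lit 0x5e0000006a0000e03c000120350000e02a0001e03d0000006d0001002a0000606f00004020000040610000606200002064000060760000003d000080640001003d0000e024000040660000603f0001a0390000006c0000806f000040740000c06d000040340000c06c0001002a000020730000806e00004061000200340000406c000200310000a065000060650000806900008063000080610000606a00002068000020650000c06400002062000000600000a06e000000690001603d0001802b000060200000e0380000a0230001402b00000079000040700000606c0000806a000080680000a0680000a06400008024000020760000e07900006064 else (spT_13_15 j)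
def spT_16_18 (j : ℕ) : ℕ := bif Nat.blt j 17 then nat_lit 0x40740001e02d0000e0370000803c0000e034000100390000606d0001a0200000c03f000020740000c02d000020320001602e000060660001e03b000200330000400b0000205e0000005a0001603a0000e02f0000205f0000003500000040000060820000e07b0001003300016031000180300001007d00004073000040690000406b000200350000806d0002002f0001402e0000402a0001602e0000807e0000607e0000a07b0000e0780001e031000020300000002c0000001d000040650000e02c0000003e0001a0380001c0200000406900002070000080760000603a0001e039000000650000005e0000403f000000630000205c0000806b00006039 else nat_lit 0x2073000080720000e03600008078000020720000606e0000a0380000a02c000020630001e03f0000c0300000803a00006082000100830001006c0001803a000200360000c032000020780000206c00002046000180300000e02d000000730000005f0001007c0000207b0000203e000060380001a02e0000a0370001803f0000c033000000300000a0210001a03700002075000100230000a0200000c0740000403a000160300001603b00010037000000710000606f0000a06c0000e03b0001802e0002002d0000207700002058000000310000602e0000607800000033000000660001803e0001e0300000805f0000605e000000620000206d0001c02d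
def spT_15_18 (j : ℕ) : ℕ := bif Nat.blt j 16 then nat_lit 0x204e0000002600020030000040820000a068000020660000c03c000140350000c03f000060350000003f0000803d0000202d000080710001403f0000007d000000610001c03e0001a038000080650000c076000020580001a0390000004a0001003f0001003e0000a03d00002071000080700000e03d0000802d00010028000060720002003f000120340001403a0000e02e0001007a0001402d0000a0740001006d0001e03a0000c082000020690000c02b0000202c0000806f0000402b0000a0300000000b0001802c000020330001a03f0001e0380000c0830001007b0001602b0000406e000040360001e02e0002003e0000e0230000806500000072 else (spT_16_18 j)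
def spT_12_18 (j : ℕ) : ℕ := bif Nat.blt j 15 then (spT_12_15 j) else (spT_15_18 j)
def spT_19_21 (j : ℕ) : ℕ := bif Nat.blt j 20 then nat_lit 0x790000006b000040650001c02e0000001700004075000000750000602a0000807d0000a07c0000205000016030000040820000e02d00002008000160330001002d0000806b000060740000005c00014033000020200000a07c0000007800008063000140370001e02f000040180000c0370001c0350000403300014031000000820000206b0000003c0001a03b000140310001c03b0000c0390001c0380000c0210000e0350000402d0000206a0000e03a0001a02f0000001c00000013000060120001006c0000c06500006017000060080001c030000140300000c0300001802d0000402b000000710000405e00002056000080700001c0280000406a else nat_lit 0x802f0000e07a0000007a000020770000407000000066000020460000402100008074000080790000c075000060700001402e0001002f0001202e00006030000000300000201d000020160000004400006031000020210000607a0000603b0000807f0001a02d000000700001c03d00000075000040750001a035000040770001e03300004071000060750000407300006061000000460000202a0001007d000000650001c0390000006d000080300000207f0000e07d0000407c0000007b00002079000040780000602f0000c06c0000a07500010031000020830001c0310000e0300000607d00000044000140390001202e0000002b0000802e00008079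
def spT_18_21 (j : ℕ) : ℕ := bif Nat.blt j 19 then nat_lit 0x180370000e0310000c07b000020360001a0320002002b00020037000080820000207200000020000020200000a07900000077000020300000202b000040160000600e000000080000e03b0000c0130000006b0000605f000000720001803b000040310001c02b0001602100000021000000180000c07a0000807c000060720000406b000040630000c035000140340000406a000080730000c06e0000c0140001e03f0000602d0000002a00004066000020650000c06400004062000080340000a0310000004c0000e0310001602d0001003a000120390000c0380000c0310000e03a0000a0390000c017000040790000e02f000060240001a03a00002026 else (spT_19_21 j)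
def spT_21_23 (j : ℕ) : ℕ := bif Nat.blt j 22 then nat_lit 0xe021000060610000807b0000c07c000020350000204400012031000080310000c078000040080000a0770000207a0000a076000020810000207d0000207e0000407100014030000200300001e03b000100200000e0820000405f000200350000206f0000e0350002002d000040830000402d0000a0800000807f0000207c000060790000207100000083000100830000607e000060770000406c0001203e0001803c0001802b0000001b00002019000080780000403f00002074000000800000a07f0001007b0000606a0001202f0000e07c0000407a00002075000060700000e0300000e07c000060710000606300006078000000630000a0830000a030 else nat_lit 0xc0810000a07e0000006c0000c07f0000407e000000780000006e00010082000020820000407c0000607b0001e035000080690000407d0000e06c0000808300010035000000200000c07b0001603700012033000000830000c07d0000607b0000007a000000810000807d0000206c0000c07e00004072000100310000801c0001a02e0000a0750000a03a0000201b0000a074000160350000c074000000700000007c0000e0330000a07b000040790000a07f0001e0320000e028000020820000607f0000407b0001203f000020690000c03b00006065000060830000e0820000c07e0000e07b0000807a0001802f000080710001002c0001602f00000074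
def spT_23_25 (j : ℕ) : ℕ := bif Nat.blt j 24 then nat_lit 0x207f0000007e0000607c0000e078000020790001a03b000060800000007c0000e0800000407b0001603400008082000080760000e07e0000c07800000073000020830001003b000160370001802d0000c07d0001202f00000012000060630000207b000040260000807b000060210000007b0000e03f0000207e0001007a0000803a000160310000407e00000080000040780000a07d0000204c0000c0330000e021000160210000607a00000082000180310000407d0000402100004013000060770000806d0000803300002013000080800000207d0000c0810000a07e000100820000a0320000607c0000207a0000006e0000c065000080810000807e else nat_lit 0xa0130000401700008014000000170000a083000020780000407f0000e08300004077000060710000c082000040830000606b0000401c0001007c0000e07e0000a0800000c06f00002017000060800000a07800006075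
def spT_21_25 (j : ℕ) : ℕ := bif Nat.blt j 23 then (spT_21_23 j) else (spT_23_25 j)
def spT_18_25 (j : ℕ) : ℕ := bif Nat.blt j 21 then (spT_18_21 j) else (spT_21_25 j)
def spT_12_25 (j : ℕ) : ℕ := bif Nat.blt j 18 then (spT_12_18 j) else (spT_18_25 j)
def spT_0_25 (j : ℕ) : ℕ := bif Nat.blt j 12 then (spT_0_12 j) else (spT_12_25 j)
def spT (j : ℕ) : ℕ := (spT_0_25 j)
def sp (j : ℕ) : ℕ := Nat.land (Nat.shiftRight (spT (Nat.shiftRight j 6)) (Nat.mul (Nat.land j 63) 32)) 4294967295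
theorem Eo_lt (r : ℕ) : Eo r < 18014398509481984 := land54_lt _
def cT_0_2 (j : ℕ) : ℕ := bif Nat.blt j 1 then nat_lit 0x8b00008a00008900008800008700008600008500008400008300008200008000007f00007e00007d00007c00007b00007a00007900007800007700007500007400007300007200007100007000006e00006d00006c00006b00006a00006900006800006600006400006300006200006000005f00005e00005d00005c00005b00005a00005800005500005400005300005200005100005000004f00004e00004d00004c00004b00004a00004800004700004600004500004400004300004200004100004000003f00003e00003d00003c00003b00003a00003900003800003700003600003500003400003300003200003100003000002f00002e00002d00002c00002b00002a00002900002700002500002400002300002200002100002000001f00001e00001d00001c00001b00001a00001900001800001700001600001500001400001300001200001100001000000f00000e00000d00000c00000b00000a000009000008000007000006000005000004000003000002000001000000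 else nat_lit 0x13500013400013200013100013000012e00012d00012c00012b00012a00012900012800012700012600012500012400012300012200012100012000011f00011e00011d00011c00011b00011a00011900011800011700011600011500011400011300010e00010c00010b0001090001080001070001060001040001000000fd0000fa0000f80000f70000f60000f50000f40000f30000f10000f00000ef0000ee0000ed0000ec0000eb0000ea0000e90000e80000e70000e60000e40000e30000e20000e10000e00000df0000de0000dc0000db0000da0000d90000d70000d50000d30000d10000d00000cf0000ce0000cc0000c80000c70000c50000c40000c30000c20000c10000c00000bf0000be0000bd0000bc0000bb0000ba0000b90000b80000b70000b60000b50000b40000ae0000ac0000ab0000aa0000a90000a80000a70000a60000a50000a40000a30000a20000a10000a000009f00009e00009d00009c00009b00009a000099000098000096000095000094000093000092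
def cT_2_4 (j : ℕ) : ℕ := bif Nat.blt j 3 then nat_lit 0x2000001ff0001fe0001fd0001fb0001fa0001f90001f80001f70001f50001f40001f30001f20001f10001f00001ed0001e90001e70001e60001e40001e10001e00001de0001dd0001db0001da0001d80001d70001d60001d50001d40001d30001d20001d10001d00001cf0001ce0001cd0001cc0001cb0001c90001c70001c20001c10001c00001bf0001be0001bd0001bc0001bb0001ba0001b90001b80001b70001b60001b50001b40001b30001b20001b10001af0001a80001a70001a10001a000019f00019e00019d00019c00019b00019a00019900019800019700019600019300019200019100019000018f00018e00018d00018900018800018700018100018000017f00017e00017c00017b00017900016f00016e00016b00016a00016700016500016400016300016200016100016000015f00015e00015c00015b00015a00015900015800015700015600015500015200015100015000014f00014e00014400014300014100014000013e00013d00013b00013a000138000136 else nat_lit 0x2ce0002cd0002cc0002cb0002ca0002c90002c40002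c00002be0002bd0002bc0002bb0002ba0002b90002b70002b60002b40002b30002b10002b00002ae00029900029700029600029200029100029000028f00028e00028d00028c00028b00028a00028900028800028600028500028300028200028000027f00027e00027d00027b00027900027800027600027500027300027200027100027000026f00026c00026b00026a00026900026800026700026600026500026400026300026200026000025f00025e00025d00025c00025b00025a00025900025800025700025600025500025400025300025200025100025000024e00024d00024c00024b00024a00024900024800024600024500024400024000023f00023e00023d00023c00023b00023a00023900023700023600023500023400023300023200023100023000022f00022e00022d00021700021600021500021400021300021200021100020f00020d00020b00020a000209000207000206000205000204000203000202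
def cT_0_4 (j : ℕ) : ℕ := bif Nat.blt j 2 then (cT_0_2 j) else (cT_2_4 j)
def cT_4_6 (j : ℕ) : ℕ := bif Nat.blt j 5 then nat_lit 0x39500039300039000038d00038b00038a00038700038500038400038300038200038100038000037f00037e00037d00037b00037a00037900037800037700037600037400037300037000036f00036c00036b00036a00036900036800036700036600036400036300036200035e00035d00035c00035b00035a00035700035600035500035400035300035200035100035000034f00034e00034d00034c00034b00034900034800034700034600034500034400034300034200033f00033e00033d00033c00033b00033a00033900033800033100033000032a00032800032500032400032300032200032100031e00031d00031c00031600031500031400031300031100031000030d00030b00030a0003090003050002fd0002fc0002fb0002fa0002f90002f80002f70002f60002f50002f10002f00002ef0002ee0002ed0002ec0002eb0002ea0002e90002e80002e70002e60002e50002e40002e30002e20002e10002e00002df0002de0002dd0002da0002d90002d70002d60002d1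 else nat_lit 0x45e00045d00045b00045a00045800045700045600045500045400045300045200045100045000044e00044d00044c00044b00044900044800044700044600044500044400044300044200044100044000043f00043e00043d00043c00043b00043900043800043700043100043000042f00042e00042d00042c00042b00042900042800042700042600042500042400042300042200042000041e00041d00041c00041b00041a00041900041800041700041600041500041400041300041200041100041000040f00040d00040c00040b00040a0004090004080004060004050004040004030004020004010004000003fe0003fd0003fc0003ec0003eb0003ea0003e90003e80003e40003e30003e20003e10003e00003df0003de0003dd0003dc0003db0003da0003d70003d50003d30003d20003d00003cf0003cd0003c50003c40003c10003c00003bf0003be0003bd0003b30003b00003ad0003ac0003ab0003a40003a20003a000039f00039d00039c00039b000399000398000396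
def cT_6_8 (j : ℕ) : ℕ := bif Nat.blt j 7 then nat_lit 0x58900058600058500058200057f00057c00057b00057a00057900057800057600057500056e00054e00054d00054c00054b00054a00054900053e00053a00053900053800053700052d00052b00052900052700052600052500052100052000051d00051b00051a00051800051700051500051400051200051100051000050f0005080005070005050005040005030005020005010004fe0004fd0004fc0004fb0004fa0004f90004f80004f30004f20004f00004ef0004ee0004ed0004ec0004eb0004e90004e00004df0004de0004dd0004db0004da0004d90004d80004d70004d60004d50004d40004d30004d20004d10004d00004cf0004ce0004cd0004b60004b50004b40004b30004b20004b00004ae0004a800049e00049d00049c00049b00049a00049500049400049300049200049100049000048f00048e00048c00048900048700048400048200048100048000047d00047c00047b00047100047000046e00046d00046c00046700046600046400046300046100046000045f else nat_lit 0x6ac0006ab0006aa0006a90006a80006a70006a60006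a50006a20006a10006a000069f00069e00069d00069c00069800069000068200068100068000067f00067e00067d00067c00067b00067800067700067200066f00066e00066d00066c00066a00066900066800066700066600066400066300066100066000065f00065e00065d00065c00065a00065900065800065700065600065500065400065300065200065100065000064f00064e00064c00064900064800064600064500064400064300063c00063800063500061c00061a0006190006170006160006040006020006010006000005ff0005fd0005f90005f80005f70005f60005f50005f40005f30005f00005ef0005ee0005ed0005ec0005eb0005ea0005e80005e70005e60005e50005e40005e30005e20005e10005df0005da0005d20005c80005c70005c60005c50005c40005c20005be0005bd0005bc0005bb0005b80005b70005ad0005ac0005ab0005aa0005a70005a500059000058f00058e00058d00058c00058a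
def cT_4_8 (j : ℕ) : ℕ := bif Nat.blt j 6 then (cT_4_6 j) else (cT_6_8 j)
def cT_0_8 (j : ℕ) : ℕ := bif Nat.blt j 4 then (cT_0_4 j) else (cT_4_8 j)
def cT_8_10 (j : ℕ) : ℕ := bif Nat.blt j 9 then nat_lit 0x7a60007a50007a40007a30007a20007a000079f00079e00079b00079a00079900079800079700079600079500079400079100078f00078e00078d00078900078600078500077f00077700077200076f00076e00076c00076b00076a00076800076700076600076500076400076300076200076100076000075f00075e00075d00075800075700075600075500075300075100075000074f00074e00074d00074c00074b00074600074300074200074100073e00073d00073b00073a00073800073600073400072f00072e00072c00072a00072800072500072400072300072100072000071e00071d00071200071100070e0007050007030007010006ff0006fd0006fb0006f90006f80006f60006ed0006eb0006ea0006e90006e80006e70006e60006e40006e30006db0006da0006d90006d80006d70006d50006d40006d20006cc0006cb0006c90006c80006c60006c50006c40006c10006c00006bf0006be0006bd0006ba0006b90006b80006b70006b60006b50006b00006af0006ae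 else nat_lit 0x89100089000088f00088d00088c00088b00088a00088900088800088700088600088500088400088200088100088000087f00087e00087d00087c00087b00087a00087900087800087700087600087500087400087300087200087100087000086e00086d00086a00086800086400086000085f00085c00085b00085a00085900085800085700085600085500085400085300085200084f00084e00084d00084c00084b00084a00084900084800084300084000083f00083e00083d00083c00083b00083900083700082f00082d00082c00082a00082800082700082100082000081e00081d00081c00081b00081a00081900081800081700081500081400080f00080e00080d00080c00080b0008090008080008070008060008050008040008030008010008000007ff0007fd0007fc0007fb0007fa0007f90007f80007f70007f60007f50007f40007f30007f20007f00007ef0007ec0007eb0007ea0007e90007e80007e70007e60007e50007e40007e30007aa0007a90007a80007a7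
def cT_10_12 (j : ℕ) : ℕ := bif Nat.blt j 11 then nat_lit 0x9bd0009bc0009bb0009ba0009b90009b10009af0009ae0009ad0009aa0009a90009a700097200097100096b00096800095d00095c00095a00095900095800095600095300095200095100095000094f00094e00094d00094c00094b00094a00094900094800094600094500094400094300094200094100094000093f00093e00093d00093c00093b00093a00093800093700093600093500093400093300093200093100092900092800092100092000091f00091d00091c00091700091600091100090f00090e00090d00090c00090b00090a0009070009060009040008fc0008fa0008f30008f00008ef0008e80008e30008e20008df0008dd0008dc0008da0008d90008d70008d60008d00008cf0008cc0008cb0008ca0008c90008c80008c70008c60008c50008c30008c20008c10008bf0008be0008bd0008bc0008bb0008ba0008b90008b50008b20008b10008b00008af0008ae0008ad0008aa0008a70008a60008a200089d00089c00089b000899000895000894000893000892 else nat_lit 0xaae000aad000aac000aab000aaa000aa8000aa70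00aa5000a9b000a9a000a99000a98000a97000a96000a95000a94000a93000a92000a91000a90000a8f000a8e000a8d000a8c000a8b000a8a000a89000a88000a84000a83000a81000a7e000a7d000a7c000a7b000a7a000a79000a78000a77000a76000a75000a74000a72000a71000a6f000a6d000a6c000a6b000a6a000a69000a67000a66000a65000a64000a63000a62000a61000a60000a5d000a5b000a5a000a59000a58000a57000a55000a54000a53000a51000a50000a4f000a4e000a4d000a4c000a4b000a4a000a43000a41000a3f000a3e000a3d000a37000a35000a34000a33000a24000a23000a20000a17000a15000a14000a13000a12000a11000a10000a0e000a0d000a0c000a08000a07000a06000a05000a03000a02000a01000a000009ff0009f20009e60009e50009e40009e30009e20009df0009de0009dd0009dc0009d90009d50009d10009d00009cf0009ce0009cd0009cb0009c70009c60009c30009be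
def cT_8_12 (j : ℕ) : ℕ := bif Nat.blt j 10 then (cT_8_10 j) else (cT_10_12 j)
def cT_12_14 (j : ℕ) : ℕ := bif Nat.blt j 13 then nat_lit 0xbe2000be1000be0000bdf000bde000bdc000bdb000bd9000bd8000bd7000bd6000bd4000bd3000bd1000bd0000bcf000bce000bcd000bc8000bc5000bc4000bc3000bc2000bc1000bc0000bbe000bbd000bbc000bbb000bba000bb9000bb8000bb7000bb5000bb3000bb2000bb1000bb0000baf000bae000bad000bab000baa000ba3000ba2000ba1000b9f000b9e000b9d000b9c000b9b000b9a000b99000b96000b94000b93000b90000b8f000b8e000b8c000b8b000b8a000b88000b87000b86000b79000b78000b77000b76000b75000b73000b72000b61000b5f000b59000b58000b57000b50000b4f000b4e000b4c000b4a000b49000b48000b47000b46000b44000b43000b42000b41000b40000b3e000b3d000b34000b2f000b1d000b1c000b1b000b17000b16000b13000b0e000b0a000b09000b08000b04000b03000af1000aef000ae8000ad7000ac3000ac2000ac0000abf000abe000abc000aba000ab9000ab8000ab7000ab6000ab5000ab4000ab2000ab1000ab0000aaf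 else nat_lit 0xd5a000d58000d55000d53000d52000d50000d37000d34000d27000d1e000d1d000d1b000d05000d03000d01000cf1000cf0000cee000ce8000ce4000ce0000cdf000cda000cd7000cd6000cd5000cd3000cd2000ccc000ccb000cca000cc9000cc7000cc6000cc3000cc0000cb7000ca9000ca7000ca6000ca4000c9d000c9c000c9b000c99000c93000c92000c91000c90000c8d000c8c000c8b000c8a000c89000c88000c87000c86000c85000c7e000c7d000c7c000c7a000c76000c6e000c6c000c65000c63000c62000c61000c60000c5f000c5c000c5a000c57000c56000c52000c4f000c49000c48000c47000c41000c40000c3e000c3c000c3b000c3a000c39000c37000c35000c33000c32000c31000c2b000c28000c26000c21000c20000c18000c17000c16000c15000c14000c11000c10000c0e000c0c000c0a000c08000c06000bfd000bfc000bfa000bf9000bf8000bf7000bf3000bf2000bf1000bf0000bef000bee000bed000bec000beb000bea000be8000be6000be5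
def cT_14_16 (j : ℕ) : ℕ := bif Nat.blt j 15 then nat_lit 0xeb1000eb0000eaf000eae000ea4000ea2000e9e000e9b000e9a000e99000e96000e95000e91000e90000e8c000e8b000e86000e84000e83000e80000e7f000e7e000e7d000e7c000e7b000e7a000e79000e78000e77000e76000e75000e74000e73000e71000e70000e6f000e6e000e6d000e6c000e6b000e6a000e69000e68000e67000e66000e63000e5d000e5c000e5a000e59000e58000e57000e56000e55000e54000e53000e4c000e48000e47000e46000e45000e44000e42000e40000e3f000e3d000e3c000e39000e37000e36000e33000e2f000e2b000e29000e28000e27000e25000e24000dfb000df2000ded000dec000deb000de9000de7000ddc000ddb000dda000dd9000dd8000dd6000dd4000dd2000dcf000dcd000dcc000dca000dc9000dc7000dc6000dc5000dc3000dc2000dc0000dbf000dbd000db8000db6000db5000daa000da9000da8000da4000da0000d9a000d91000d90000d8d000d84000d82000d6d000d6a000d63000d62000d61000d60000d5f000d5c else nat_lit 0xfc6000fc3000fb9000fb8000fb7000fb6000fb50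00fb3000fa3000f9f000f9c000f9b000f9a000f94000f93000f91000f90000f8e000f8d000f8c000f86000f84000f83000f82000f7d000f7c000f7a000f79000f77000f76000f75000f73000f72000f71000f70000f6e000f6d000f6c000f6a000f69000f68000f67000f65000f64000f63000f62000f60000f5f000f5e000f5d000f5c000f5b000f59000f58000f57000f56000f55000f54000f53000f52000f51000f4b000f49000f46000f40000f3e000f3d000f3c000f36000f33000f2f000f2e000f2d000f29000f28000f27000f25000f21000f1f000f1e000f1d000f1c000f1b000f1a000f19000f15000f13000f11000f10000f0f000f0a000f08000f07000f06000eff000efe000efd000ef8000ef7000ef5000ef4000ee4000ee0000edf000ede000edd000edb000ed9000ed6000ed5000ed2000ed1000ecf000ecc000ecb000ec9000ec8000ec6000ec3000ec2000ec1000ebe000ebd000eba000eb8000eb6000eb4000eb2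
def cT_12_16 (j : ℕ) : ℕ := bif Nat.blt j 14 then (cT_12_14 j) else (cT_14_16 j)
def cT_8_16 (j : ℕ) : ℕ := bif Nat.blt j 12 then (cT_8_12 j) else (cT_12_16 j)
def cT_0_16 (j : ℕ) : ℕ := bif Nat.blt j 8 then (cT_0_8 j) else (cT_8_16 j)
def cT_16_18 (j : ℕ) : ℕ := bif Nat.blt j 17 then nat_lit 0x117f00117d00117c00117900117600116b00116600116300115d00115700114100114000113f00113e00113d00113b00113a00113900113800113700112f00112c00112a00112900112700112600112500112400112200112000111f00111d00111c00111b00111900111800111700111600111200111100110f00110e00110c0011090011080011070011040011020011000010ff0010fe0010fd0010fc0010f70010b20010b00010ae0010ac0010ab0010a90010a80010a70010a60010a50010a40010a30010a10010a000109e00109d00109c00109b00109a00109200109100106500106400106200106100106000105e00105d00105a00105900105700105600104900104800104700104400104200104100104000103e00103d00103b00103a00103700103600103500103300103200103100102d00102c00102b00102600102500102300101c00101b00101300100b001009001008001001000fff000ffe000ffd000ffa000ff9000ff8000fec000feb000fe9000fe7000fca000fc8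 else nat_lit 0x14020014000013fe0013fc0013fb0013fa0013f80013f40013f30013f20013f10013f00013ef0013ee0013ec0013e10013df0013de0013ce0013cb0013c90013c80013b20013b10013b00013ae0013ac0013aa0013a90013a80013a70013a40013a30013a200139700136400136200135e00135a00135900135600135500135400135200135100135000134f00134d00134c00134300133f00133e00132400132200131f00131e00131a00131800131500131400130a0013090012f90012f80012f50012a40012a30012a200129e00129c00129b00129a00129900129800129700129600129500129200129100129000128f00128e00128d00127500126900126500126300126200125f00125a00125900123b00123900123700122700122600122500122300122200121f00120d00120c0011fd0011f50011f20011e70011e20011e00011dd0011da0011c50011c30011c20011c00011ba0011b90011b60011a400119d00119b00119900119800119700119600119500119100118e00118c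
def cT_18_20 (j : ℕ) : ℕ := bif Nat.blt j 19 then nat_lit 0x15dd0015dc0015d90015d60015d40015d30015d20015cf0015ca0015c90015c30015bf0015be0015bc0015bb0015b90015b60015b50015b40015b20015b10015ae0015ad0015ac0015a80015a40015a100159f00159e00159c00159b00158f00158e00158d00158c00158900158500158400158200158100158000157f00157b00157a00156800156700155f0015050015040014ff0014fe0014fb0014f90014f10014ee0014ed0014ce0014ca0014c90014c80014c60014c50014c10014c00014bf0014b80014b60014b50014ab0014aa0014a90014a70014a50014a40014a000149d00149900149700149600149500148d00148a00148800148700148600148500148300148100147f00147c00147a00147900147800147600146f00146c00146a00146900146700146600146300146200146100146000145f00145e00145d00145c00145b00145800145700145500145400145300145200145000144f00144c00144b00144a00144900144800143a00143700142100141e001404001403 else nat_lit 0x179500179400179300179200179100179000178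f00178800178600178500175e00175d00175c00174f00174e00173c00173b00173a00173900172900172800171800171600171500171400171200171100171000170f0017080017060017040017030017020017010017000016ff0016fe0016fd0016fc0016fb0016fa0016f90016f80016f70016f60016f50016e50016e30016e10016df0016de0016dc0016db0016d60016d00016cf0016cc0016cb0016ca0016c90016c70016c60016c20016b30016b20016a60016a30016a20016a100169f00169d00169c00169b00169a00169800169700169100169000168f00168e00168d00165a00165900165800165700165600165500165300165200165100165000164c00164900164800164700164400164100164000163e00163400162300162100162000161f00161700161000160e00160a0016040015fe0015fd0015fc0015f90015f80015f70015f60015f30015ed0015ec0015eb0015ea0015e40015e30015e20015e00015df0015de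
def cT_16_20 (j : ℕ) : ℕ := bif Nat.blt j 18 then (cT_16_18 j) else (cT_18_20 j)
def cT_20_22 (j : ℕ) : ℕ := bif Nat.blt j 21 then nat_lit 0x190d00190a0019080019050019000018ff0018fe0018fd0018fc0018fb0018fa0018f90018f80018f70018f50018f30018f20018f00018ef0018ee0018ed0018ec0018eb0018ea0018e90018e80018e70018e30018e20018e00018df0018de0018dd0018cf0018cd0018cb0018c90018c80018c70018b80018b50018b40018b20018b10018af0018ae0018ad0018ac0018ab0018aa0018a90018a80018a50018a40018a20018a10018a000189f00189e00188b00188a00188800188700188500188400188200188100188000187f00187b00187700187200187100186f00186b00186a00186800186600186300186200185a00185300185200185100185000184f00184e00184d00184c00184100184000183d00183b00183700183400183100183000182e00182a0018270018260018070018050018030017ed0017ec0017e70017e40017d80017d60017d40017d00017c40017c10017bb0017ba0017b90017b80017b70017aa0017a90017a300179f00179e00179b00179a001799001796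 else nat_lit 0x1ad7001ad3001ad0001acd001acc001aca001ac8001ac7001ac6001ac5001ac1001ac0001abe001aba001ab9001ab8001ab3001aaf001aae001aaa001a9d001a9c001a9b001a9a001a97001a95001a92001a91001a8e001a8d001a8c001a8a001a88001a87001a86001a85001a84001a82001a81001a80001a7a001a70001a6c001a68001a65001a64001a63001a62001a60001a5b001a5a001a59001a57001a56001a55001a54001a52001a4f001a4e001a4b001a4a001a49001a47001a45001a44001a430019cf0019ce0019cd0019cc0019ca0019c90019c70019c60019c50019c10019c00019bf0019bc0019b90019ac0019ab0019aa0019a80019a500199a00199900199800199700199600199300199200199100198e00198d00198b00198800198500198100198000197e00197400197200197000196a00196700195e00195600195400195100195000194f00194300192f00192d00192c00192800192700192000191f00191e00191b001918001916001913001912001911001910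
def cT_22_24 (j : ℕ) : ℕ := bif Nat.blt j 23 then nat_lit 0x1c64001c63001c61001c60001c5b001c5a001c59001c58001c55001c53001c4f001c4c001c4b001c4a001c49001c47001c46001c45001c42001c40001c3f001c3e001c3d001c3c001c3a001c39001c36001c35001c34001c32001c31001c2f001c2e001c2d001c2c001c29001c23001c22001c08001c02001bf9001bf2001be4001be3001be2001bdc001bdb001bda001bd6001bc9001bc6001bc4001bc0001bbe001bba001bb9001bb5001bb4001bb3001bb2001bb0001bae001bad001bac001ba9001ba7001ba5001ba1001b9f001b9e001b9c001b9a001b99001b98001b95001b93001b92001b90001b86001b84001b7d001b7b001b77001b76001b75001b74001b73001b72001b6e001b6d001b6a001b69001b68001b65001b64001b5e001b47001b45001b43001b42001b41001b40001b3c001b3b001b3a001b39001b38001b37001b35001b1f001b12001b11001b0e001b0d001b06001b03001b02001b00001afa001af8001af3001af2001af0001aef001aee001aeb001add001adb else nat_lit 0x1e2f001e2d001e13001e0c001e0a001e03001e0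2001e00001dfd001dfc001dfb001dfa001df9001df6001df5001df4001df2001def001dda001dd5001dd2001dc2001da2001d91001d82001d7f001d77001d74001d73001d71001d6f001d69001d68001d64001d63001d62001d60001d4b001d4a001d47001d46001d45001d44001d43001d42001d40001d3e001d3d001d3c001d3b001d3a001d39001d38001d37001d35001d34001d33001d32001d31001d30001d2e001d2d001d2c001d2a001d27001d26001d25001d24001d23001d22001d20001d1b001d1a001d16001d12001d11001d0d001d0a001d09001cf3001cf0001cef001cea001ce9001ce8001ce6001ce4001ce3001ce0001cdf001cde001cdd001cd2001cd1001cc5001cc3001cc1001cbc001cb9001cb8001ca7001ca4001c9f001c97001c92001c91001c90001c8f001c8e001c8d001c8c001c8b001c89001c88001c86001c85001c84001c82001c80001c7e001c78001c77001c76001c73001c72001c6d001c6a001c68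
def cT_20_24 (j : ℕ) : ℕ := bif Nat.blt j 22 then (cT_20_22 j) else (cT_22_24 j)
def cT_16_24 (j : ℕ) : ℕ := bif Nat.blt j 20 then (cT_16_20 j) else (cT_20_24 j)
def cT_24_26 (j : ℕ) : ℕ := bif Nat.blt j 25 then nat_lit 0x1fdd001fdc001fd9001fd7001fc6001fc3001fbf001fbe001fbd001fbc001fba001fb9001fad001f46001f31001f30001f0d001f09001f08001f03001f02001f01001eff001efe001efc001ef9001ef5001eec001eeb001eea001ee9001ee8001ee7001ee6001ee5001ee4001ee3001edf001edd001edc001edb001ed9001ed8001ed7001ed6001ed5001ed3001ed2001ed1001ed0001ecf001ece001ecd001ecc001ecb001ec8001ec6001ec5001ec4001ec3001ec2001ebd001ebb001eb9001eb7001eb5001eb4001eb3001eb1001eb0001eaf001eae001ead001eac001eaa001ea9001ea8001ea7001ea6001ea5001ea1001e9f001e9d001e98001e96001e91001e90001e8f001e8e001e8d001e8c001e88001e86001e85001e84001e83001e82001e81001e80001e7d001e7c001e7b001e7a001e79001e78001e77001e76001e75001e74001e73001e72001e71001e70001e6f001e6e001e6d001e6b001e6a001e69001e59001e43001e3b001e39001e38001e33001e32001e31001e30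 else nat_lit 0x21cd0021cc0021c90021c60021c10021bf0021be0021bd0021bc0021bb0021ba0021b90021b80021b00021a90021a30021a20021a100219e00219a00219300219200219000218e00218d00218b00218a00218900218700218400218300218100218000217f00217e00217d00217c00217900217800217600217400217200217100216f00216d00216300216000215200213f00211100210f0021030020f00020ef0020ea0020e90020e60020e50020de0020dd0020dc0020db0020da0020d90020d80020d50020d40020d00020cd0020cb0020ca0020c70020c00020be0020b90020b70020b50020ad0020ac0020ab0020a90020a80020a60020a50020a20020a000208100206e00206d00206c00206900206800206700206600206400206200206100205f00205d00205600205500205400205300205200205100205000204e00204000203400202600202200202100201f00201d00201a00201500200c002004001ff8001fed001fec001feb001fe9001fe8001fe7001fe4001fe3001fe0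
def cT_26_28 (j : ℕ) : ℕ := bif Nat.blt j 27 then nat_lit 0x23a500239f00239400239200235700232e0022ff0022f50022f10022f00022ef0022ee0022ed0022ec0022e30022df0022da0022d90022d60022d50022d40022d30022d20022cf0022ce0022cb0022c60022ba0022b90022b40022b30022b20022ad0022a60022a20022a100228b00228a00228900228800228700228600228500228400228300228200228100228000227f00227e00227d00227c00227b00227a00227900227800227700227600227500227400227300227100226f00226e00226c00226b00226a00226900226800226700226600226500226300226100225d00225a00225900225800225400225300225200225100224c00224600224400224200224000223600223500223400223300223200223100223000222b00222800222200221c00221a00221600220c0022090022080022070022060022040022030022020022010022000021ff0021fe0021fd0021fc0021fb0021f80021f40021f20021f00021ec0021e90021e70021e40021e00021d40021d30021d20021ce else nat_lit 0x263a00263300262f00262e00262300262200262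000261e00261d00261a00261800261300261200261100261000260e0026080025ff0025fc0025fb0025fa0025f90025f80025ef0025e50025e20025d90025d80025d70025d60025c60025c20025c10025b90025b30025ae0025ac0025ab0025a80025a60025a50025a40025a20025a000259f00259900259300258d00258900258400257f00257700257100256e00256b00256a00255800255600255500254c00254300254200253b00253a00253500252c00252800252600252200251e00251a00250b00250a0025080025070024ff0024fb0024f40024de0024dd0024dc0024d80024d70024d60024d50024d40024d00024cf0024cc0024ca0024c80024c300249f00249300246700246600246500246400246300246200246100245d00245c00245600245500245200245100244d00244c00244700244100243f00243d00243700243200242b0024270024130024080023dc0023db0023da0023d60023c80023c70023ac0023a70023a6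
def cT_24_28 (j : ℕ) : ℕ := bif Nat.blt j 26 then (cT_24_26 j) else (cT_26_28 j)
def cT_28_30 (j : ℕ) : ℕ := bif Nat.blt j 29 then nat_lit 0x294a00294700292200291f00291d00291800290b0028fe0028fd0028f40028f30028f20028f10028f00028ef0028e20028db0028d70028d60028d50028d40028b90028b80028b60028b40028b30028b20028b000286200286100285e00285a00285700285600285200284600284300284000283b00282200281e00281d00281700281300280d0028070028060028020028010027fe0027ef0027ee0027ec0027eb0027e20027d70027d60027d40027bd0027bc0027a100278000277e00272100272000271e00271d00271b0027190027180027140027100027030027020027010026fd0026fb0026eb0026e80026e10026c60026c50026c40026c00026bd0026bc0026bb0026af0026a900269100269000268f00268e00268d00268100267700267400266d00266c00266a00266300266200265e00265d00265c00265b00265a00265900265800265700265600265500265300265200265100265000264c00264b00264a00264600264500264400264300264200264100264000263f00263e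 else nat_lit 0x2d4d002d48002d45002d40002d3c002d37002d32002d30002d2c002d28002d27002d23002d22002d1e002d1a002d19002d15002d11002d0d002d05002d04002d03002d02002d01002d00002cfe002cfd002cfb002cfa002cf9002cf6002cf5002cf1002cf0002cef002cee002cdf002cdd002cd9002cd2002ccd002ccc002cc8002cc4002cc2002cbf002cbe002cbd002cbc002cbb002ca9002ca8002ca1002ca0002c9f002c9e002c9d002c9c002c9a002c99002c98002c96002c94002c87002c81002c7f002c7b002c77002c71002c70002c6c002c6a002c68002c66002c60002c5f002c5a002c4a002c46002c44002c3d002be2002bb3002ba7002ba3002b90002b8f002b8e002b8d002b8c002b8b002b8a002b89002b87002b82002b80002b7f002b7b002b5f002b5e002b5a002b57002b53002b51002b45002b3d002b3b002b38002b33002b30002b19002af9002ad1002ab7002ab1002a94002a91002a88002a3f002a36002a1c0029d70029d60029ce002989002958002957002952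
def cT_30_32 (j : ℕ) : ℕ := bif Nat.blt j 31 then nat_lit 0x2fe3002fe2002fe1002fe0002fdd002fdc002fdb002fda002fd8002fd6002fd4002fd2002fce002fcd002fca002fc9002fc6002fc4002fc2002fc1002fc0002fbf002fac002f8c002f8b002f86002f82002f7d002f7a002f79002f73002f70002f6c002f5d002f5c002f5b002f5a002f59002f4e002f4c002f48002f38002f33002f31002f30002f2e002f2d002f2c002f2a002f28002f27002f25002f24002f23002f22002f20002f1f002f1e002f1d002f1c002f1a002f08002f00002ee8002ee7002ee5002ee3002ecf002eba002ead002eac002eaa002e88002e77002e75002e74002e73002e6f002e6c002e61002e60002e54002e50002e49002e48002e47002e45002e3f002e34002e33002e2a002e29002e28002e27002e26002e25002e15002e05002dfd002df5002def002deb002de2002de1002ddf002ddd002ddc002dd2002db5002dae002dad002dac002dab002daa002da9002d9c002d8c002d8a002d87002d7c002d7b002d79002d78002d76002d66002d64002d5c002d56 else nat_lit 0x333400332f0032cb0032ca0032c70032c20032b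e0032bd0032b20032a70032a200329f00329b00329a00327c00327900327800327500327300326e00326c00326b00326900326000325f00325200325100324d00324300324200324000323c00323800322b00322a0032160032140031fa0031f60031c70031c20031be0031a80031a50031a40031a300317300317200317000316200312c00312b00312600311e0030fe0030fd0030fc0030fa0030f90030f80030f60030f50030f40030f30030f00030ef0030ee0030b10030ab00309c00309a00308f00308500307400306400305a00305600304e00304d00304800304400304000303d00303900303700303500303300302e00302d00302b00302a00302900302800302700302600302200301d00301c00301b00301a00301700301500301200301100300f00300d00300c00300a003009003008003007003006003004003000002ffe002ffc002ffb002ff7002ff5002ff4002ff1002ff0002fee002fed002feb002fe8002fe5002fe4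
def cT_28_32 (j : ℕ) : ℕ := bif Nat.blt j 30 then (cT_28_30 j) else (cT_30_32 j)
def cT_24_32 (j : ℕ) : ℕ := bif Nat.blt j 28 then (cT_24_28 j) else (cT_28_32 j)
def cT_16_32 (j : ℕ) : ℕ := bif Nat.blt j 24 then (cT_16_24 j) else (cT_24_32 j)
def cT_0_32 (j : ℕ) : ℕ := bif Nat.blt j 16 then (cT_0_16 j) else (cT_16_32 j)
def cT_32_34 (j : ℕ) : ℕ := bif Nat.blt j 33 then nat_lit 0x381600381500381000380c0037de0037db0037be0037bd0037bc0037b60037b50037ae00376400375f00375b00371d0036b700369000368d00368000367600365200365000364e0036260036250035df0035cc0035cb0035c70035c50035c40035c30035be0035b40035ae00359300358d0035510035330035060035050035040035030035020035010035000034ff0034fd0034fc0034fb0034fa0034f80034f70034f60034f50034f40034f10034f00034ee0034ed0034ec0034ea0034e80034e70034e60034e50034e40034d50034c70034c60034c50034bd0034b80034b40034b30034b00034ab0034a80034a20034a000349a00349800349700349600349500349300349200348c00348800348400347f00347600347500346d00346900346700346200345800345700345600345500345300344900343f00343d00343400343300342f00341c00337b00337600337200337000336f00336b00336300335e00335c00334f00334a00334900334800334400334200333e00333c003338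 else nat_lit 0x3cb8003caf003c9c003c8f003c8e003c8d003c8b003c8a003c89003c88003c82003c79003c78003c72003c6c003c6a003c69003c68003c67003c65003c64003c50003c4a003c3c003c28003c23003c1e003c1d003c1c003c1b003c1a003c19003c16003c15003c10003c0b003c07003bfe003bf9003bf8003bf2003bee003bea003be6003be5003bde003bdd003bda003bd2003bce003bcc003bc8003bc3003bc0003b7a003b3e003b39003b2c003b26003b22003b1c003b1b003b1a003aff003afe003afd003af9003acd003acc003aa6003aa4003a6e003a68003a59003a54003a4e003a4c003a2c003a280039d70039d50039d30039be0039ab0039a90039a600399700399600399500398d00398800398600398400394600394400394300394100392d00392700391e00391c0039190039030038ff0038e30038e10038d70038d60038d50038d300385600385500385400385300385200384f00384200383b00383800383600383400383300383200382f00382b00382700382500381b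
def cT_34_36 (j : ℕ) : ℕ := bif Nat.blt j 35 then nat_lit 0x412400412300412200412100412000411f00411e00411b00411a0041190041180041050040f70040e20040d30040a200409d00409400408300407400404a00404900404800404700404400404300404100404000403f00403e00403800403400402f00402e004024004015004013003ff1003fe6003fdf003fde003fdd003fdc003fdb003fc8003fc3003fbf003fb7003fad003fac003fab003faa003fa9003fa8003f9c003f93003f8f003f8b003f86003f83003f79003f77003f73003f68003f60003f5f003f5e003f5d003f5c003f58003f4d003f41003f40003f37003f2e003f2b003f24003f20003f1d003f04003f03003f02003efe003efa003ef8003eea003ee8003edb003ed5003ed1003ec7003ea6003dcc003dca003dc9003dc8003dc7003dac003da6003d90003d81003d51003d4f003d4c003d49003d3f003d3e003d30003d2f003d1a003d16003d12003cfb003cf3003cf1003cee003ced003cec003ceb003cea003ce6003ce5003ce3003ce2003ce1003ccf003cc2003cbc else nat_lit 0x441f00441e00441d00441c00441b00441a00440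c0044030043f60043f50043f40043ef0043e60043e50043e20043e10043d90043d50043d30043d00043cb0043c00043bf0043bb00437100437000436e00436d00436b00436900434b00434900432400432000431c0043030042fd0042d90042d70042d60042d30042c90042c80042c70042c60042c40042c30042c20042c10042c00042bf0042be0042af0042ae0042ad0042ac0042ab0042aa0042a90042a20042a100429700428b00428a00428300427900427700427600425900425800425600424200424100422700422600422500421c0042110042050041f00041d10041d00041cc0041cb0041ca0041c80041c40041bf0041be0041bd0041bc0041ba0041af0041ad0041a80041a500419d00419c00419a00419900419800419700419400419300419200419100419000418f00418d00418c00418b00418a00413700413600413400413300413200413100413000412f00412e00412d00412c00412a004129004128004126004125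
def cT_32_36 (j : ℕ) : ℕ := bif Nat.blt j 34 then (cT_32_34 j) else (cT_34_36 j)
def cT_36_38 (j : ℕ) : ℕ := bif Nat.blt j 37 then nat_lit 0x46d90046d00046ce0046cc0046cb0046c60046c50046c40046c00046bb0046b700469a00469900469800469700469600468600468500465c00465a00465600464c00464b00464600464400464100464000463f00463e00463d00463c00463a00463900463800463700463600463500463400462900462200461e00461d00461c0046170045f60045ef0045e70045e30045dd0045dc0045db0045d80045d70045d30045cf0045ce0045cd0045cc0045b10045af0045a000459900459300458b00458600456d00456c00456b00456a00456900456800456500456300456000455e00455c00455a00455900455800455700455500455400453c0045370045350045340045330045250045240045230045220045180045150045140045130045120045060045020044fd0044cc0044cb0044c80044c100449b00449a00449900449800449700449500448d00446800446400444a00444000443f00443e00443a00443900443800443700443600443500443400443300443200443100442f00442e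 else nat_lit 0x49d40049cf0049ce0049cd0049cb0049ca0049c80049c70049bc0049b00049a60049a50049a30049a000499e0048fc0048fa0048f90048f80048f60048f30048f20048f10048f00048ef0048e30048e10048e00048dd0048d70048cd0048cb0048bc00489800489600489100487100486c00486700485c0048570048550048500048470048420048370048330048190048130048040047f70047f50047f40047f30047ed0047e30047e10047dc0047db0047c300478200478100478000477f00477100476f00476200475a00474f00474d00474900473d00473100473000472e00472c00472b00472900472800472700472600472500472400472300472100472000471f00471c00471b00471800471300471100471000470c00470b00470a0047090047080047050047030047010047000046ff0046fd0046fc0046fb0046f90046f60046f50046f30046f10046ef0046ee0046ed0046ec0046ea0046e90046e70046e60046e50046e40046e20046e10046de0046dd0046dc0046db0046da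
def cT_38_40 (j : ℕ) : ℕ := bif Nat.blt j 39 then nat_lit 0x4c77004c76004c74004c73004c71004c67004c66004c63004c62004c61004c60004c5c004c53004c46004c3c004c37004c34004c2a004c29004c18004bf4004bf2004bf1004bf0004bed004be6004be5004bdd004bd8004bd2004bd1004bce004bcd004bca004bc9004bc8004bc6004bc5004bc4004bc3004bc2004bc1004bbf004bbe004bbc004bb7004bb6004bb5004b8b004b7c004b7a004b6b004b6a004b69004b68004b64004b60004b5d004b4c004b4b004b4a004b49004b46004b41004b3c004b3a004b2e004b11004b10004b0e004b0d004b0c004af5004af1004af0004aec004ae8004adf004ad7004ad6004ad5004ad3004ad1004ac9004ac8004aac004a9f004a9e004a9d004a9c004a94004a8c004a76004a75004a74004a73004a72004a70004a6f004a6b004a64004a5d004a59004a54004a44004a43004a40004a3e004a3c004a3a004a39004a37004a36004a31004a2d004a2b004a2a004a29004a28004a20004a0d004a0c004a0a004a09004a06004a000049f70049df else nat_lit 0x4fbe004fb3004fac004fab004fa8004fa4004fa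3004fa1004f7b004f7a004f79004f78004f76004f68004f50004f4f004f4c004f4b004f4a004f49004f47004f26004ef8004ef7004ef6004ef3004ef1004eee004eed004eec004eeb004eea004ee9004ee8004ee7004ee6004ee5004ee4004ee2004ee1004ee0004edd004edc004eda004ed9004ed7004ed5004ed0004ecc004ec5004ec4004ec0004eb1004eae004ead004eac004eaa004ea3004e95004e89004e75004e6c004e6a004e69004e68004e67004e65004e5a004e55004e50004e4f004e4c004e48004e3c004e3b004e39004e38004e31004e25004e22004e20004e1e004e1c004e16004e14004e13004e12004e11004e10004e0f004e0d004e09004e02004e00004dfd004dfc004dfa004df9004df8004df2004df0004def004dec004deb004dea004de2004d80004d60004d5c004d58004d56004d4c004d49004d48004d45004d41004d06004cf8004ced004cc9004cbd004cbc004cba004cb9004cb6004c89004c85004c84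
def cT_36_40 (j : ℕ) : ℕ := bif Nat.blt j 38 then (cT_36_38 j) else (cT_38_40 j)
def cT_32_40 (j : ℕ) : ℕ := bif Nat.blt j 36 then (cT_32_36 j) else (cT_36_40 j)
def cT_40_42 (j : ℕ) : ℕ := bif Nat.blt j 41 then nat_lit 0x523b00523a0052390052380052370052360052040051f40051f30051e70051e50051e30051e20051e10051e00051dd0051dc0051db0051d90051d80051d50051d40051d20051d00051cf0051c60051c000519c00519b00519a00519900519800516800513c00513a0051390051380051220050fd0050fc0050f80050f70050f50050f40050f20050f10050f00050ee0050ed0050eb0050dc0050c60050a000509e00509d00509a00509700509600509500509300509200509000508e00508d00508a00508900508800508600508400508300508200507e00507c00507b00507a00507800507600507400507200507100507000506800506600506500506200506100506000505900505700505600505300505200505100505000504e00504a00504700504100503f00503c00503b00503800503700503600503400503300503200503100502f00502e00502d00502c00502b00502a00502700502600502500502400502300500b005005005004005002004fe5004fe4004fe3004fe1004fc7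 else nat_lit 0x535b00535a00535900535400535200535100534f00534c00534700534100534000533f00533d00533b00533a00533700533600533500533400533100533000532f00532e00532d00532c00532900532400532200531d00531200530e00530d00530c00530b00530a0053080053060053050053040053020052ff0052fe0052fd0052fc0052fb0052f50052f30052f10052ee0052ed0052ea0052e90052e60052e50052e30052e20052e10052e00052df0052de0052dd0052dc0052db0052da0052d80052d70052d50052d10052d00052cd0052cc0052cb0052c90052c80052c60052c50052c40052c30052c20052c10052c00052bf0052be0052bc0052bb0052ba0052b60052b40052b20052b00052af0052ae0052ad0052ac0052a80052a60052a40052a30052a100529e00529d00529c00529a00529900529800529500529400529300529200529100529000528f00528e00528d00528b00525200524800524700524600524500524400524300524200524100524000523f00523e00523d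
def cT_42_44 (j : ℕ) : ℕ := bif Nat.blt j 43 then nat_lit 0x568f00568d00568b00566500566300566200565000564f00564d0056290056260056230056180056130055f70055dd0055dc0055db0055da0055d90055d80055d50055ce0055ca0055c20055ae00559e00558800557b00557900557400557000556a00556800549b00546100545f00545e00544c00544900544700543b00542a00541900541800541700541500541200541100540f00540c00540b00540a0054090054080054070054060054050054040054020054010054000053ff0053fe0053fb0053fa0053f80053f20053f10053f00053ee0053e50053e20053e10053e00053df0053de0053dd0053da0053d90053d60053d50053d40053d20053d10053d00053cf0053ce0053cc0053cb0053ca0053c70053c50053b70053ab0053a600539d00539b00539800539700539600539500539400539300539200539100539000538e00538100538000537e00537d00537400537300537200537100536f00536b00536a00536700536400536300536200536100535f00535e00535d00535c else nat_lit 0x599100599000598f00598e00598a00598900598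800597f00597800597500597400596a00596600596400596300595a00594d00594600594200594100593f00593c00593a00593800593600593500593300593000592f00592b0059280059270059260059140059130059110059050059040058f40058ed0058ec0058eb0058ea0058e90058e20058e10058d20058d10058d00058cf0058ce0058cd0058cc0058c30058bc0058b30058b20058b10058ad0058a30058a20058a10058a000589f00589800588a0058890058870058830058790058690057fe0057fd0057fc0057fa0057f90057d30057d10057cf0057c70057c60057bb0057a10057a000579f00579d00579a00579800579500579300578f00578800578500578400578200577e00577500576900576800576100576000575f00575e00575d00574500573a00573600573100572d0057130056ce0056cb0056c70056b80056a20056a10056a000569f00569d00569c00569a005699005698005697005694005692005691005690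
def cT_40_44 (j : ℕ) : ℕ := bif Nat.blt j 42 then (cT_40_42 j) else (cT_42_44 j)
def cT_44_46 (j : ℕ) : ℕ := bif Nat.blt j 45 then nat_lit 0x5b03005b02005b00005aff005afd005afb005afa005af6005af5005af4005af3005af2005af1005aef005aee005aec005aeb005aea005ae8005ae7005ae3005ae1005ade005adc005adb005ada005ad8005ad7005ad6005ad4005ad3005ad2005ad1005acf005acc005ac8005ac7005ac5005ac2005abc005abb005aba005ab8005ab6005ab5005ab4005ab3005ab2005ab1005ab0005aaf005aae005aad005aac005aa8005aa7005aa5005aa4005aa3005aa2005aa0005a9f005a9e005a9d005a9b005a8d005a7d005a7c005a70005a6b005a6a005a69005a68005a67005a66005a5d005a54005a53005a4c005a4b005a4a005a49005a48005a3f005a3e005a3d005a3c005a3b005a3a005a39005a38005a37005a36005a34005a33005a32005a30005a2e005a2a005a28005a26005a1d005a190059fa0059f90059f80059f70059f60059f00059db0059d70059d50059d40059d30059d10059d00059cf0059cd0059cb0059ca0059c90059c70059c50059bd0059b80059b30059ab005992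 else nat_lit 0x613100612f00610d0061040060f20060ed0060e80060d40060d20060c50060bb0060b40060a50060a40060a30060a000608600607500604900604600604200602a00602600602000601f00601e005ffb005ff6005fe4005fc3005fc1005fb2005f84005f78005f72005f35005f34005f12005f11005f0d005e67005e66005e65005e64005e61005e60005e5f005e5e005e5c005e59005e57005e56005e55005e53005e52005e51005e50005e4f005e4e005e4c005e49005e39005e37005e2e005e1e005dfd005de9005de8005dcd005db4005da6005d66005d65005d64005d61005d0b005d0a005d09005d07005d05005d03005bfb005bf9005bf8005bf7005be1005bda005bb6005b9e005b9b005b9a005b99005b98005b96005b95005b94005b90005b82005b6b005b66005b65005b3e005b38005b36005b25005b23005b22005b21005b20005b1f005b1e005b1d005b1c005b1a005b19005b18005b16005b12005b11005b0f005b0e005b0c005b0b005b0a005b07005b06005b05005b04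
def cT_46_48 (j : ℕ) : ℕ := bif Nat.blt j 47 then nat_lit 0x66860066800066130066120066110066070065f80065df0065de0065d80065ba0065ae0065ab0065aa00659700659300657c00657200656600654300654200654100654000653f00653e00650f0065080064b600646e0063b80063b60063b50063b40063b30063ae0063ad0063ab0063aa0063a900639100638400636a00636700636600636400635c00634000632f00631000630f00630e00630d00630c0063020062fe0062f70062b40062b20062b10062b00062af0062ae0062ad0062ac0062ab0062aa0062a50062a40062a30062a20062a100628c00628b00628900627f00626200625400624a00624500624400622700622600621600621500621100620c0062080062070062060062050062020062000061fe0061fd0061f80061f70061f50061f40061f30061ef0061ee0061ed0061e90061e40061e00061d20061cb0061c20061aa0061a90061a800619000618f00618d00618c00618900618500618400618200617e00617c00617b00617a00615300614e00614c006148006132 else nat_lit 0x6daa006da7006da6006da5006da4006da1006da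0006d9e006d9c006d99006d98006d97006d96006d6f006d57006d39006d35006d32006d30006d2d006d2a006d28006cff006cfe006cfc006cfb006cf9006cf8006cf7006cf5006cef006cec006ce8006ce7006ce1006cdb006cba006cb9006caf006c9f006c9e006c9c006c8c006c8a006c83006c7a006c6b006c69006c67006c5e006c5c006c5b006c4b006c38006b6b006b6a006b69006b68006b67006b4d006b2c006b2a006b29006b28006b27006b26006b25006b23006b20006b1f006b1e006b1a006b16006b15006b13006b10006b0d006b0c006b01006ab5006ab4006ab2006aac006a9c006a9b006a8c006a74006a72006a71006a42006a400068e40068bd0068590068570068560068550068450067a10067a000679f00679e00679d00679c00679100678000677c00674e00674d00674c00673e0067320067050067040067030067000066fe0066fb0066fa0066f90066f80066f30066df0066dd0066d00066c40066b7006687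
def cT_44_48 (j : ℕ) : ℕ := bif Nat.blt j 46 then (cT_44_46 j) else (cT_46_48 j)
def cT_40_48 (j : ℕ) : ℕ := bif Nat.blt j 44 then (cT_40_44 j) else (cT_44_48 j)
def cT_32_48 (j : ℕ) : ℕ := bif Nat.blt j 40 then (cT_32_40 j) else (cT_40_48 j)
def cT_48_50 (j : ℕ) : ℕ := bif Nat.blt j 49 then nat_lit 0x71f80071a800719c00719200718c00718800718400718300718000717f00717e00717d00717b00717a00717900712c00712b00712a00712900712700712400712100712000711a0070c70070c600707100706b00706700705a00704400702200702100701f00701000700e00700a007008007007007001006fe4006fe3006fe2006fcd006fc5006fc4006fc3006fc2006fbf006fbe006fbc006fba006fb9006fb8006fb7006fb5006f9b006f6f006f6e006f6c006f42006f3f006f26006efa006ef9006ef7006ef6006ef2006ef1006eee006eed006eec006eea006ee8006ee7006ee5006edb006ecb006ec0006ebf006ebe006eaf006ead006eac006eab006ea8006ea7006ea6006ea5006ea4006ea2006ea1006e9e006e85006e73006e71006e6f006e59006e4f006e43006e3a006e24006e19006e18006e16006e01006dfd006df7006df3006dde006ddd006ddc006dd6006dd3006dcf006dce006dcd006dca006dc4006dc0006dbd006db9006db8006db7006db6006db3006dae006dac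 else nat_lit 0x752500752200752100751c00751b00751900751700751500751100750c00750b0075080075070075040075030075020075010074f30074f200749700746e00746c00744900744800740d0074040073fd0073de0073dc0073db0073d80073d60073c80073c10073b80073b70073a80073a100739e00739c00739a00738f00738800738000737f00737c00737600737100737000736f00736d00736c00736b00736900736800736600735f00735c00735b00735a00735700735600735100734d00734c00734a00734700733b00733a00733900733700733300733200733000732b00732900732800732400731e0073100073060073050073010072ff0072fb0072fa0072f90072f70072f30072f20072f10072f00072ef0072ed0072eb0072e90072e80072e50072e40072dc0072d80072d40072cd0072cc0072cb0072c90072b40072b100728a00726900726800726700726600726500726400726300725700724e00724400723b00723500721300720f00720a007209007208007206007201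
def cT_50_52 (j : ℕ) : ℕ := bif Nat.blt j 51 then nat_lit 0x7bc6007bc4007bc2007bc0007bbf007bbd007bbc007bbb007bab007ba6007ba5007ba2007ba1007b9b007b97007b78007b60007b5d007b4d007b4b007b4a007b49007b20007b1b007b12007b00007ae4007ae3007adf007ade007adc007ad8007ad7007ad5007ac6007ab0007aaa007aa9007aa8007aa6007a9a007a98007a8b007a89007a6a007a69007a61007a5e007a56007a55007a54007a3a007a3600792c00792600792300791f00791e00790e00790c0079030078fa0078f90078f80078f70078d80078d50078d40078d30078d10078cb0078bf0078b40078aa00783800783500782b00782700782600782500782300781a0077fb0077f30077f10077ed0077ea0077bf0077b70077b20077b10077af0077ad0077ac0077ab0077aa0077a90077a000779e00778e00777900777700777600777400775200774700774400774300774200773f00773e00772e0077150076ec0076ea0076c300766500766400765200757300757200757100756200752e00752d00752c00752b00752a else nat_lit 0x86c20086ac0086a000869a00869800869500868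a00863f00863800863600863100863000862d00862c00862700862500862400862300862200862000861c00861b0086050086040086030086020086010085ea0085e70085e50085db0085d50085b30085aa0085a000859f00859200857e00853a0085370084ea0084e70084d10084d00084cf0084ae00848400848200848000847d00847500843f0084060082e10082dc0082d80082d70082d60082d40082a000829f00828a00828800827000826c00826600821600821200820f00820c0082090081f50081f40081f20081df0081d60081c000819200819100819000818f00818e00818d00818100817a0080bb0080b60080b50080b000809700809500809400808500807d00807a00806b00806500805d00804900803f00803e007fea007fc1007ee2007dc2007d7b007d79007d00007cdd007cda007cd4007ccf007ca6007c8c007c8b007c8a007c89007c88007be2007bde007bda007bd6007bd5007bd4007bd3007bd2007bd1007bcd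
def cT_48_52 (j : ℕ) : ℕ := bif Nat.blt j 50 then (cT_48_50 j) else (cT_50_52 j)
def cT_52_54 (j : ℕ) : ℕ := bif Nat.blt j 53 then nat_lit 0x8e7a008e78008e76008e73008e6c008e6b008e62008e5f008e5d008e56008e55008e4f008e4d008e44008e43008e40008e3a008e38008e36008e35008e34008e28008dc2008dc1008dbf008d7f008d7e008d7d008d7b008d77008d0a008d04008d02008d00008cfc008cfa008ce8008ce6008ce3008cca008c9a008c69008c65008c3d008c39008c38008c37008c36008c35008c0c008bfd008bf9008bdd008bd5008bd2008bcd008bac008b95008b92008b7f008b7b008b5d008b5a008b59008b56008b54008b53008b52008b4d008b45008b43008b2f008b2e008b04008aeb008ae9008ae8008aa5008aa3008a8a008a6d008a6c008a5d008a56008a3b008a130088e30088e20088e10088dc0088d80088d40088a800882f0087fe0087fd0087fa0087f90087ad0087aa0087a700879d00879a00879900879800879500878f00878e00878c00877b00877a00877900877800877500877400877300875800871e0087050087020086ef0086e60086e30086df0086d80086c50086c40086c3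 else nat_lit 0x92a90092a80092a700929300929200929000928b00928700928600928500928300927f00927d00927c00925f00925e00925d00923400923300922700922300921e0092020092000091f50091f10091e900919600919200918d00915a0091590091390091330090f90090f30090f20090ee0090e50090dd0090d90090cf0090ce0090c50090c40090c00090bf0090b90090a60090a400909900909700909500909400907e00906f00905300905200904f00904b00902f00902500900e00900d00900b008fe9008fe1008fc9008fab008faa008f96008f94008f93008f86008f85008f83008f82008f80008f7e008f7c008f7a008f71008f6d008f69008f64008f60008f5f008f5e008f5d008f59008f54008f4c008f48008f46008f3c008f39008f33008f32008f2e008f2c008f2b008f2a008f29008f28008f24008f23008f21008f1f008f1d008f1c008f1b008f16008f13008f0c008f0a008f06008f05008f04008f03008e8f008e8e008e89008e88008e87008e85008e80008e7e008e7d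
def cT_54_56 (j : ℕ) : ℕ := bif Nat.blt j 55 then nat_lit 0x971d00971b00971400970f00970c0097010096fe0096f80096f70096f60096f00096ee0096e50096d70096d50096d30096cd0096c70096c60096c20096c00096bc0096b90096b70096ae0096ad0096aa0096a800969c00969b00969500967800967700967400967200966e00966800966300963000962a00962100961f0095e30095e00095df0095de0095c10095bb0095b90095b30095af0095a300959d00959b00959a00959700959300959200959100958e00958c00958b00958a00958800958700958600956c00955e0095230095040095030094ff0094f80094f50094e50094dc0094c00094bc0094b800949100946400946100945e00945d00945c00945b00945a00945400945000943c00943900942b00942700942500942200941f0094010093f50093f10093f00093ef0093ee0093de0093d60093d50093c60093c40093c10093b700936e00936d00936800933c00933b00933700933600933100931f00931e00931c0092fd0092db0092d90092c40092c10092b90092b80092b0 else nat_lit 0x9c0e009c0d009c07009be8009bb6009ba7009ba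6009ba4009ba2009b9f009b9e009b99009b84009b6f009b67009b64009b5f009b5e009b52009b44009b2e009b2d009b2c009b2b009b2a009b1b009b15009b0c009b0a009b03009afe009afb009af9009aee009ae9009ae6009ae1009acf009ace009ac7009ac6009ac3009ac0009abf009abe009abd009abc009ab4009ab3009ab1009aae009a79009a78009a77009a76009a75009a74009a72009a70009a6e009a59009a3f0099ab0099a000999d00999900999600999400999300999200998900997300997100996b00996900994d0099290099250099140098f40098d40098d30098bc0098ba0098b80098ae0098a900988800985700985300985100985000984f00984e00984b00984a00984400983500983400982b0098180098170097f20097f10097d30097c60097c50097c300979700979500978200977e00977c00977900977800977700977500976e00976d00976c00975300974d00974a00972f00972500972400972000971e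
def cT_52_56 (j : ℕ) : ℕ := bif Nat.blt j 54 then (cT_52_54 j) else (cT_54_56 j)
def cT_48_56 (j : ℕ) : ℕ := bif Nat.blt j 52 then (cT_48_52 j) else (cT_52_56 j)
def cT_56_58 (j : ℕ) : ℕ := bif Nat.blt j 57 then nat_lit 0xa11900a11200a10f00a0fd00a0fb00a0f800a0e100a0d900a0d600a0d500a0c600a0c300a0a600a0a500a09d00a09900a09800a08f00a08800a08400a07400a05d00a05400a05100a05000a04e00a04b00a04100a04000a01800a01700a01600a00e00a001009fff009ff9009ff3009ff2009ff0009fee009fec009fe7009fdb009fd0009fae009f2a009f23009f1f009f1d009f0f009ef9009e8f009e82009e7f009e74009e72009e71009e70009e4c009e1d009e1a009e0f009e06009dff009dfb009d78009d77009d75009d74009d72009d71009d6e009d6c009d6b009d65009d62009d61009d5b009d3d009d38009d32009d31009d30009d2d009d27009d25009d18009d14009d12009d0f009d0e009d07009d02009cff009cfd009cf5009cf3009cf1009cf0009cee009cec009cca009cc8009cbd009ca7009ca5009ca2009c9e009c9b009c9a009c99009c95009c8c009c7c009c7b009c76009c66009c65009c64009c54009c34009c31009c30009c2d009c2b009c15009c10009c0f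 else nat_lit 0xa54500a54400a53f00a53e00a53d00a4e900a4e600a4e200a4db00a4c900a4a900a49f00a49d00a48600a48500a48400a47d00a45f00a44900a41600a40500a3ea00a3e300a3de00a3da00a3d600a3d200a3cd00a3c300a3c100a3c000a3bf00a3ad00a3a800a3a600a3a100a39000a38c00a38400a36c00a36900a36700a34f00a34e00a34500a34400a34200a34100a33f00a33e00a33d00a33c00a33a00a33100a32e00a32600a32500a32200a32100a31f00a31e00a31b00a31a00a31900a31800a31500a31200a30e00a30b00a30a00a30000a2fe00a2fa00a2f800a2f700a2f500a2f200a2f100a2f000a2ef00a2ed00a2ec00a2cd00a2c500a2c200a2c100a2bf00a2bc00a2a300a2a200a29e00a29d00a29c00a29b00a29600a27400a27300a27200a27000a26500a26300a26200a25100a24d00a20900a1e300a1e100a1da00a1d600a1d400a1d200a1d000a1cf00a1cd00a1ca00a1c900a1c700a1c600a17400a16f00a16700a15900a15500a15200a14d00a13700a12b00a126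
def cT_58_60 (j : ℕ) : ℕ := bif Nat.blt j 59 then nat_lit 0xa92700a92100a91d00a8f200a8d000a8cf00a8ca00a8c700a8c300a8a200a8a100a89d00a88d00a87600a87400a87300a87000a85700a85400a84d00a84000a83f00a83d00a83c00a83a00a82100a81d00a81700a81600a81200a7fd00a7ee00a7eb00a7e600a7e300a7d600a7d400a7d200a7d000a7cf00a7cc00a7c400a7bb00a7b300a7b000a7a900a79c00a78e00a78d00a78c00a78400a78300a77e00a77b00a77500a76f00a76800a76700a76600a76400a75a00a75300a75100a74500a74100a73f00a73c00a73300a72e00a72a00a71900a71600a70d00a6f700a6f400a6f200a6ea00a6de00a6da00a6c400a6c200a6be00a6b000a6af00a6ae00a6ac00a6aa00a69d00a69c00a69b00a69a00a68e00a68a00a68800a68400a68000a67a00a67900a67400a67100a66c00a63c00a63900a63600a62800a62200a60d00a60c00a60100a60000a5ff00a5fb00a5fa00a5db00a5ca00a5b900a5b100a5ac00a5a400a59100a58900a58800a58600a57e00a54d00a54a00a54800a547 else nat_lit 0xb06100b05f00b04c00b03d00b03c00b03400b02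600b02500b02200b01900b00800b00300aff500afeb00afcf00afca00afc600afb100afb000af9100af9000af8c00af8900af8200af6600af6300af5e00af5d00af5c00af5900af5700af5300af5200af3600af3500af2000af1500af1000af0e00af0c00af0b00af0800af0600aef000aeef00aeee00ae7600ae7500ae7400ae7000ae3900ae2b00ae2a00adbc00adb700ad8b00ad8300ad8100acfe00acfd00acf900acd700acd400acd200acce00acc200acc000acbe00acbc00acbb00aca700aca600aca500ac9000ac7000ac5d00ac5a00ac5800ac3500ac2900ac0000abf300abf200abec00abea00abe900abe300abe200abe100abdb00ab9200ab6d00ab6c00aa6900aa5900aa4f00aa3b00aa2900aa1800aa1200aa0600a9fb00a9f700a9e900a9e400a9d500a9cc00a9c100a9c000a9bf00a9bb00a9b800a9b600a9af00a9ae00a98f00a98a00a98000a97c00a97b00a97400a96a00a96500a94600a93900a93700a92b00a928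
def cT_56_60 (j : ℕ) : ℕ := bif Nat.blt j 58 then (cT_56_58 j) else (cT_58_60 j)
def cT_60_62 (j : ℕ) : ℕ := bif Nat.blt j 61 then nat_lit 0xb89100b86900b85e00b83d00b80f00b80400b7b200b72500b71a00b6f700b6f400b6f100b6ee00b6e900b6e800b6e700b6e600b6e400b6cf00b6c500b60800b60600b5fd00b5ab00b4a900b4a500b4a100b44f00b43900b40c00b40600b3e100b3db00b3da00b3a900b3a400b39200b38d00b37f00b37800b37600b36a00b35e00b35b00b35a00b33e00b33a00b33500b32e00b32500b31500b30a00b30300b30100b2ff00b2f500b2ea00b2e900b2dc00b2cd00b2ca00b2c100b29900b28800b28500b27a00b27800b27200b26d00b26b00b26600b26500b26200b26000b24900b24000b23f00b23900b23200b23100b1f600b1f300b1ed00b1d900b1d800b1d200b1cf00b1c200b1be00b1bb00b1a700b1a500b1a100b19e00b19b00b19100b18c00b18800b17c00b17800b17600b16b00b15b00b13900b13100b12f00b12e00b10500b10400b0f900b0f800b0f300b0eb00b0ea00b0e500b0e100b0d800b0ab00b09000b08300b07e00b07d00b07c00b07b00b07900b07300b07200b070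 else nat_lit 0xca9100ca8a00c9f500c9e600c9c300c98700c92e00c85f00c85800c85300c84e00c83e00c83600c82100c80b00c80700c7f200c7df00c7d200c7c300c7a500c75c00c75500c6e800c6cf00c6cd00c69c00c67400c65500c65300c64900c5e800c5da00c5a400c5a200c59700c53b00c4de00c4dc00c4ce00c40000c3c900c3c700c3c600c3c300c3bf00c3b600c3b100c3ab00c39900c38a00c38300c37700c36d00c36200c31e00c31400c2fc00c2d400c08f00c08600c07c00c07b00c07a00c06800bfc200bf6c00bf6a00bf6400bf6200bf1800bee100be9b00be7800be6200be0b00bd9900bcff00bcf100bce500bcdb00bccc00bcac00bc9f00bc9d00bc9500bc6900bc4a00bc4500bbf700bbf300bbe100bbdf00bbd400bbc500bbc000bbbe00bbb800bb9f00bb8e00bb0400bafe00baf400bae900bae200bade00bad400bab300ba8b00ba7800ba7200ba4f00ba3c00ba1d00b9db00b9da00b9d700b9d300b98100b97200b97100b92a00b91f00b91e00b91d00b91b00b91400b8e9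
def cT_62_64 (j : ℕ) : ℕ := bif Nat.blt j 63 then nat_lit 0xe73500e73400e73300e73200e73100e73000e72f00e72e00e72d00e72c00e72b00e72a00e72900e72800e67f00e66100e65f00e64200e61a00e57c00e52200e44600e3a300e38400e36900e36800e35c00e35400e34200e33100e32b00e30e00e30b00e27300e26000e1a600e0d500e08000def500dee300dee200ded700de8e00de8700de3900de3500dd8f00dd4a00dd4400dd4100dc4200dc0500db1500dafc00da5000da4d00da3000d9f200d7f500d7f200d7f100d75500d73400d69b00d68500d64c00d63e00d5de00d59200d55b00d54200d52c00d51500d51400d3d400d3a900d36100d2dc00d2d000d2cf00d2cb00d2ca00d28a00d26300d26100d23e00d23100d23000d22f00d22e00d21f00d1e900d1a800d19a00d19700d14e00d00d00d00b00d00900cfb800cfa400cf8800ce7b00cdf800cdbb00cdb900cd8400cd7600cd4600cd3e00cd1900cccb00ccc700ccab00cca900cc6f00cbfc00cbf200cbf100cbd500cb0700cafd00caf000caa700caa500caa400caa300ca97 else nat_lit 0xe76d00e76c00e76b00e76a00e76900e76800e76700e76600e76500e76400e76300e76200e76100e76000e75f00e75e00e75d00e75c00e75b00e75a00e75900e75800e75700e75600e75500e75400e75300e75200e75100e75000e74f00e74e00e74d00e74c00e74b00e74a00e74900e74800e74700e74600e74500e74400e74300e74200e74100e74000e73f00e73e00e73d00e73c00e73b00e73a00e73900e73800e73700e736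
def cT_60_64 (j : ℕ) : ℕ := bif Nat.blt j 62 then (cT_60_62 j) else (cT_62_64 j)
def cT_56_64 (j : ℕ) : ℕ := bif Nat.blt j 60 then (cT_56_60 j) else (cT_60_64 j)
def cT_48_64 (j : ℕ) : ℕ := bif Nat.blt j 56 then (cT_48_56 j) else (cT_56_64 j)
def cT_32_64 (j : ℕ) : ℕ := bif Nat.blt j 48 then (cT_32_48 j) else (cT_48_64 j)
def cT_0_64 (j : ℕ) : ℕ := bif Nat.blt j 32 then (cT_0_32 j) else (cT_32_64 j)
def cT (j : ℕ) : ℕ := (cT_0_64 j)
noncomputable def cChunk (h : ℕ) : ℕ := Nat.rec (motive := fun _ => ℕ) (cT 0) (fun n _ => cT (Nat.succ n)) h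
noncomputable def cF (i : ℕ) : ℕ := Nat.land (Nat.shiftRight (cChunk (Nat.shiftRight i 7)) (Nat.mul (Nat.land i 127) 24)) 16777215
theorem cF_lt (i : ℕ) : cF i < 16777216 := land24_lt _
theorem cF_zero : cF 0 = 0 := by decide +kernel
def nDef : ℕ := 59245
def nEv : ℕ := 158283
def nW : ℕ := 1558
def N : ℕ := 8120
def ys : List ℕ := [nat_lit 0, nat_lit 1, nat_lit 2, nat_lit 3, nat_lit 4, nat_lit 5]
def Js : List ℕ := [nat_lit 0, nat_lit 1, nat_lit 2, nat_lit 3, nat_lit 4, nat_lit 5]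
def Jp : List ℕ := [nat_lit 0, nat_lit 1, nat_lit 2, nat_lit 3, nat_lit 4]
end Cfsg.Agent.Lib.ToddCox.RUC0
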